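import Cfsg.Agent.TitsThree.WittFrame
set_option linter.all false

/-!
# Weyl elements in the unitary-type groups of a Witt frame
-/

set_option autoImplicit false

namespace Cfsg.Agent.TitsThree.WittWeyl

open Cfsg.Agent.TitsThree.Siegel Cfsg.Agent.TitsThree.SiegelComm Cfsg.Agent.TitsThree.WittFrame

variable {F : Type*} [Field F] {V : Type*} [AddCommGroup V] [Module F V] {H : HForm F V}
  {ι : Type*} [DecidableEq ι] (Fr : Frame H ι)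

/-! ## Action of root elements on the frame -/

theorem X_apply {x y : ι × Bool} (h : x.1 ≠ y.1) (t : F) (v : V) :
    Fr.X x y t v = v + (H.h v (Fr.b x) * Fr.sc y t) • Fr.b y
      - (H.ε⁻¹ * H.σ (Fr.sc y t) * H.h v (Fr.b y)) • Fr.b x := by
  rw [Fr.X_eq h, HForm.sie_apply, H.smul_right]
  module

theorem σ_sc (y : ι × Bool) (t : F) : H.σ (Fr.sc y t) = -(H.ε * (Fr.η y)⁻¹ * t) := by
  simp only [Frame.sc, map_neg, map_mul, H.σε', H.σσ, Fr.σ_η]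

theorem X_apply_neg {x y : ι × Bool} (h : x.1 ≠ y.1) (t : F) :
    Fr.X x y t (Fr.b (neg y)) = Fr.b (neg y) + t • Fr.b x := by
  rw [X_apply Fr h, Fr.hb_of_ne (x := neg y) (y := x) h.symm, Fr.hb_neg_self, σ_sc]
  have h2 := Fr.η_ne y
  have h3 := H.ε_ne
  match_scalars <;> field_simp
  ring

theorem X_apply_neg' {x y : ι × Bool} (h : x.1 ≠ y.1) (t : F) :
    Fr.X x y t (Fr.b (neg x)) = Fr.b (neg x) - (H.ε⁻¹ * Fr.η x * Fr.η y * H.σ t) • Fr.b y := by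
  rw [X_apply Fr h, Fr.hb_of_ne (x := neg x) (y := y) h, Fr.hb_neg_self, Frame.sc]
  module

theorem X_apply_of_ne {x y z : ι × Bool} (h : x.1 ≠ y.1) (h1 : z ≠ neg x) (h2 : z ≠ neg y)
    (t : F) : Fr.X x y t (Fr.b z) = Fr.b z := by
  rw [X_apply Fr h, Fr.hb_ne, Fr.hb_ne]
  · simp
  · intro h'; apply h2; rw [h', neg_neg]
  · intro h'; apply h1; rw [h', neg_neg]

theorem X_apply_V0 {x y : ι × Bool} (h : x.1 ≠ y.1) {v : V} (hv : v ∈ Fr.V0)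
    (t : F) : Fr.X x y t v = v := by
  rw [X_apply Fr h, Fr.h0' x hv, Fr.h0' y hv]
  simp

theorem Z_apply (x : ι × Bool) (p : Fr.Adm) (v : V) :
    Fr.Z x p v = v + H.h v (Fr.b x) • p.w - (H.ε⁻¹ * H.h v p.w) • Fr.b x
      + (p.c * H.h v (Fr.b x)) • Fr.b x := rfl

theorem Z_apply_neg (x : ι × Bool) (p : Fr.Adm) :
    Fr.Z x p (Fr.b (neg x)) = Fr.b (neg x) + Fr.η x • p.w + (p.c * Fr.η x) • Fr.b x := by
  rw [Z_apply, Fr.hb_neg_self, Fr.h0 _ _ (Fr.ok_mem p.ok)]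
  simp

theorem Z_apply_of_ne {x z : ι × Bool} (h : z ≠ neg x) (p : Fr.Adm) :
    Fr.Z x p (Fr.b z) = Fr.b z := by
  rw [Z_apply, Fr.h0 _ _ (Fr.ok_mem p.ok), Fr.hb_ne]
  · simp
  · intro h'; apply h; rw [h', neg_neg]

theorem Z_apply_V0 (x : ι × Bool) (p : Fr.Adm) {v : V} (hv : v ∈ Fr.V0) :
    Fr.Z x p v = v - (H.ε⁻¹ * H.h v p.w) • Fr.b x := by
  rw [Z_apply, Fr.h0' x hv]
  simp

/-! ## Conjugation by monomial isometries -/

theorem conj_X {g : V ≃ₗ[F] V} (hg : H.IsIso g) {x y x' y' : ι × Bool} (h : x.1 ≠ y.1)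
    (h' : x'.1 ≠ y'.1) {l m : F} (hx : g (Fr.b x) = l • Fr.b x') (hy : g (Fr.b y) = m • Fr.b y')
    (t : F) : g * Fr.X x y t * g⁻¹ = Fr.X x' y' (l * H.σ m * (Fr.η y)⁻¹ * Fr.η y' * t) := by
  rw [Fr.X_eq h, Fr.X_eq h', H.conj_sie hg]
  have hs : H.h (l • Fr.b x') (Fr.sc y t • m • Fr.b y') = 0 := by
    rw [H.smul_left, H.smul_right, H.smul_right, Fr.hb_of_ne h']; simp
  rw [H.sie_congr _ _ (u' := l • Fr.b x') (w' := Fr.sc y t • m • Fr.b y') (c' := 0)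
    (by rw [H.smul_left, H.smul_right, Fr.hb_self]; simp) hs hx (by rw [map_smul, hy]) rfl]
  rw [H.sie_smul (Fr.b x') _ 0 l (Fr.hb_self x')
    (by rw [H.smul_right, H.smul_right, Fr.hb_of_ne h']; simp)]
  apply H.sie_congr _ _ _ _ rfl _ (by ring)
  rw [smul_smul, smul_smul]
  congr 1
  simp only [Frame.sc, map_mul, map_inv₀, H.σσ, Fr.σ_η, inv_inv]
  have h2 := Fr.η_ne y
  have h3 := Fr.η_ne y'
  have h4 := H.ε_ne
  field_simp

theorem conj_Z {g : V ≃ₗ[F] V} (hg : H.IsIso g) {x x' : ι × Bool} {l : F}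
    (hx : g (Fr.b x) = l • Fr.b x') (p q : Fr.Adm) (hw : g p.w = q.w) (hc : p.c = q.c) :
    g * Fr.Z x p * g⁻¹ = Fr.Z x' (Frame.Adm.smul (H.σ l) q) := by
  have hq := Fr.h0 x' _ (Fr.ok_mem q.ok)
  rw [Frame.Z, Frame.Z, H.conj_sie hg]
  rw [H.sie_congr _ _ (u' := l • Fr.b x') (w' := q.w) (c' := q.c)
    (by rw [H.smul_left, H.smul_right, Fr.hb_self]; simp)
    (by rw [H.smul_left, hq, mul_zero]) hx hw hc]
  rw [H.sie_smul (Fr.b x') _ _ l (Fr.hb_self x') hq]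
  apply H.sie_congr _ _ _ _ rfl
  · rfl
  · rw [Frame.Adm.smul_c, H.σσ]; ring

/-! ## Type I Weyl elements -/

/-- `nX x y t = X_{x,y}(t) X_{-y,-x}(-t⁻¹) X_{x,y}(t)` -/
def nX (x y : ι × Bool) (t : F) : V ≃ₗ[F] V :=
  Fr.X x y t * Fr.X (neg y) (neg x) (-t⁻¹) * Fr.X x y t

theorem isIso_nX (x y : ι × Bool) (t : F) : H.IsIso (nX Fr x y t) :=
  HForm.IsIso.mul H (HForm.IsIso.mul H (Fr.isIso_X _ _ _) (Fr.isIso_X _ _ _)) (Fr.isIso_X _ _ _)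

theorem mul_apply' (g g' : V ≃ₗ[F] V) (v : V) : (g * g') v = g (g' v) := rfl

theorem nX_apply_neg {x y : ι × Bool} (h : x.1 ≠ y.1) {t : F} (ht : t ≠ 0) :
    nX Fr x y t (Fr.b (neg y)) = t • Fr.b x := by
  have e1 : Fr.X (neg y) (neg x) (-t⁻¹) (Fr.b x) = Fr.b x + (-t⁻¹) • Fr.b (neg y) := by
    have := X_apply_neg Fr (x := neg y) (y := neg x) h.symm (-t⁻¹)
    rwa [neg_neg] at this
  have e2 : Fr.X (neg y) (neg x) (-t⁻¹) (Fr.b (neg y)) = Fr.b (neg y) := by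
    apply X_apply_of_ne Fr (x := neg y) (y := neg x) h.symm
    · rw [neg_neg]; intro h'; have := congrArg Prod.snd h'; simp [neg] at this
    · rw [neg_neg]; intro h'; exact h (by have := congrArg Prod.fst h'; exact this.symm)
  have e3 : Fr.X x y t (Fr.b x) = Fr.b x := by
    apply X_apply_of_ne Fr h
    · intro h'; have := congrArg Prod.snd h'; simp [neg] at this
    · intro h'; exact h (by have := congrArg Prod.fst h'; exact this)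
  rw [nX, mul_apply', mul_apply', X_apply_neg Fr h, map_add, map_smul, e1, e2, map_add, map_smul,
    map_add, map_smul, X_apply_neg Fr h, e3]
  match_scalars <;> field_simp <;> ring

theorem nX_apply_self {x y : ι × Bool} (h : x.1 ≠ y.1) {t : F} (ht : t ≠ 0) :
    nX Fr x y t (Fr.b x) = -(t⁻¹ • Fr.b (neg y)) := by
  have e1 : Fr.X (neg y) (neg x) (-t⁻¹) (Fr.b x) = Fr.b x + (-t⁻¹) • Fr.b (neg y) := by
    have := X_apply_neg Fr (x := neg y) (y := neg x) h.symm (-t⁻¹)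
    rwa [neg_neg] at this
  have e3 : Fr.X x y t (Fr.b x) = Fr.b x := by
    apply X_apply_of_ne Fr h
    · intro h'; have := congrArg Prod.snd h'; simp [neg] at this
    · intro h'; exact h (by have := congrArg Prod.fst h'; exact this)
  rw [nX, mul_apply', mul_apply', e3, e1, map_add, map_smul, X_apply_neg Fr h, e3]
  match_scalars <;> field_simp
  ring

theorem nX_swap {x y : ι × Bool} (h : x.1 ≠ y.1) (t : F) :
    nX Fr x y t = nX Fr y x (-(H.ε⁻¹ * Fr.η x * Fr.η y * H.σ t)) := by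
  rw [nX, nX, Fr.X_swap h, Fr.X_swap (x := neg y) (y := neg x) h.symm]
  congr 3
  have h1 := Fr.η_neg x
  have h2 := Fr.η_neg y
  have h3 := Fr.η_ne x
  have h4 := Fr.η_ne y
  have h5 := H.ε_ne
  have e1 : Fr.η (neg x) = H.ε * (Fr.η x)⁻¹ := by rw [← h1]; field_simp
  have e2 : Fr.η (neg y) = H.ε * (Fr.η y)⁻¹ := by rw [← h2]; field_simp
  rw [e1, e2]
  simp only [map_neg, map_inv₀]
  by_cases ht : H.σ t = 0
  · rw [ht]; simp
  · field_simp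

theorem nX_apply_neg' {x y : ι × Bool} (h : x.1 ≠ y.1) {t : F} (ht : t ≠ 0) :
    nX Fr x y t (Fr.b (neg x)) = -((H.ε⁻¹ * Fr.η x * Fr.η y * H.σ t) • Fr.b y) := by
  rw [nX_swap Fr h, nX_apply_neg Fr h.symm, neg_smul]
  have := Fr.η_ne x
  have := Fr.η_ne y
  have := H.ε_ne
  have : H.σ t ≠ 0 := by simpa using ht
  simp [*]

theorem nX_apply_self' {x y : ι × Bool} (h : x.1 ≠ y.1) {t : F} (ht : t ≠ 0) :
    nX Fr x y t (Fr.b y) = (H.ε⁻¹ * Fr.η x * Fr.η y * H.σ t)⁻¹ • Fr.b (neg x) := by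
  have h1 := Fr.η_ne x
  have h2 := Fr.η_ne y
  have h3 := H.ε_ne
  have h4 : H.σ t ≠ 0 := by simpa using ht
  rw [nX_swap Fr h, nX_apply_self Fr h.symm, ← neg_smul, ← inv_neg, _root_.neg_neg]
  simp [*]

theorem nX_apply_of_ne {x y z : ι × Bool} (h : x.1 ≠ y.1) (h1 : z.1 ≠ x.1) (h2 : z.1 ≠ y.1)
    (t : F) : nX Fr x y t (Fr.b z) = Fr.b z := by
  have e1 : ∀ s, Fr.X x y s (Fr.b z) = Fr.b z := fun s =>
    X_apply_of_ne Fr h (fun h' => h1 (by rw [h', neg_fst])) (fun h' => h2 (by rw [h', neg_fst])) s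
  have e2 : ∀ s, Fr.X (neg y) (neg x) s (Fr.b z) = Fr.b z := fun s =>
    X_apply_of_ne Fr (x := neg y) (y := neg x) h.symm
      (fun h' => h2 (by rw [h', neg_fst, neg_fst])) (fun h' => h1 (by rw [h', neg_fst, neg_fst])) s
  rw [nX, mul_apply', mul_apply', e1, e2, e1]

theorem nX_apply_V0 {x y : ι × Bool} (h : x.1 ≠ y.1) {v : V} (hv : v ∈ Fr.V0)
    (t : F) : nX Fr x y t v = v := by
  have e2 : Fr.X (neg y) (neg x) (-t⁻¹) v = v :=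
    X_apply_V0 Fr (x := neg y) (y := neg x) h.symm hv _
  rw [nX, mul_apply', mul_apply', X_apply_V0 Fr h hv, e2, X_apply_V0 Fr h hv]

/-! ## Type II Weyl elements -/

/-- `nZ x p = Z_x(p) Z_{-x}(-η_x σ(c)⁻¹ p) Z_x(ε c σ(c)⁻¹ p)` -/
def nZ (x : ι × Bool) (p : Fr.Adm) : V ≃ₗ[F] V :=
  Fr.Z x p * Fr.Z (neg x) (Frame.Adm.smul (-(Fr.η x * (H.σ p.c)⁻¹)) p) *
    Fr.Z x (Frame.Adm.smul (H.ε * p.c * (H.σ p.c)⁻¹) p)

theorem isIso_nZ (x : ι × Bool) (p : Fr.Adm) : H.IsIso (nZ Fr x p) :=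
  HForm.IsIso.mul H (HForm.IsIso.mul H (Fr.isIso_Z _ _) (Fr.isIso_Z _ _)) (Fr.isIso_Z _ _)

omit [DecidableEq ι] in
theorem ne_neg_self (x : ι × Bool) : x ≠ neg x := by
  intro h'; have := congrArg Prod.snd h'; simp [neg] at this

theorem nZ_mid (x : ι × Bool) (p : Fr.Adm) (hc : p.c ≠ 0) :
    Fr.Z (neg x) (Frame.Adm.smul (-(Fr.η x * (H.σ p.c)⁻¹)) p) (Fr.b x) =
      Fr.b x - (H.ε * (H.σ p.c)⁻¹) • p.w +
        (H.ε * (Fr.η x)⁻¹ * (H.σ p.c)⁻¹) • Fr.b (neg x) := by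
  have h1 := Fr.η_neg x
  have h3 := Fr.η_ne x
  have h5 := H.ε_ne
  have e1 : Fr.η (neg x) = H.ε * (Fr.η x)⁻¹ := by rw [← h1]; field_simp
  have hσ : H.σ p.c ≠ 0 := by simpa using hc
  have := Z_apply_neg Fr (neg x) (Frame.Adm.smul (-(Fr.η x * (H.σ p.c)⁻¹)) p)
  rw [WittFrame.neg_neg] at this
  rw [this, Frame.Adm.smul_w, Frame.Adm.smul_c, e1]
  simp only [map_neg, map_mul, map_inv₀, H.σσ, Fr.σ_η]
  match_scalars <;> field_simp

theorem nZ_mid' (x : ι × Bool) (p : Fr.Adm) {v : V} (hv : v ∈ Fr.V0) :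
    Fr.Z (neg x) (Frame.Adm.smul (-(Fr.η x * (H.σ p.c)⁻¹)) p) v =
      v + (H.ε⁻¹ * (Fr.η x)⁻¹ * p.c⁻¹ * H.h v p.w) • Fr.b (neg x) := by
  rw [Z_apply_V0 Fr _ _ hv, Frame.Adm.smul_w, H.smul_right]
  simp only [map_neg, map_mul, map_inv₀, H.σσ, Fr.σ_η]
  module

theorem nZ_apply_self (x : ι × Bool) (p : Fr.Adm) (hc : p.c ≠ 0) :
    nZ Fr x p (Fr.b x) = (H.ε * (Fr.η x)⁻¹ * (H.σ p.c)⁻¹) • Fr.b (neg x) := by
  have h3 := Fr.η_ne x
  have h5 := H.ε_ne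
  have hσ : H.σ p.c ≠ 0 := by simpa using hc
  have hh : H.h p.w p.w = -(H.ε * p.c + H.σ p.c) := by rw [p.herm, _root_.neg_neg]
  have hp := Fr.ok_mem p.ok
  rw [nZ, mul_apply', mul_apply', Z_apply_of_ne Fr (ne_neg_self x), nZ_mid Fr x p hc, map_add,
    map_sub, map_smul, map_smul, Z_apply_of_ne Fr (ne_neg_self x), Z_apply_V0 Fr x p hp,
    Z_apply_neg, hh]
  match_scalars <;> field_simp <;> ring

theorem nZ_apply_neg (x : ι × Bool) (p : Fr.Adm) (hc : p.c ≠ 0) :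
    nZ Fr x p (Fr.b (neg x)) = (Fr.η x * p.c) • Fr.b x := by
  have h3 := Fr.η_ne x
  have h5 := H.ε_ne
  have hσ : H.σ p.c ≠ 0 := by simpa using hc
  have hh : H.h p.w p.w = -(H.ε * p.c + H.σ p.c) := by rw [p.herm, _root_.neg_neg]
  have hp := Fr.ok_mem p.ok
  have hx : Fr.Z (neg x) (Frame.Adm.smul (-(Fr.η x * (H.σ p.c)⁻¹)) p) (Fr.b (neg x)) =
      Fr.b (neg x) := Z_apply_of_ne Fr (ne_neg_self (neg x)) _
  rw [nZ, mul_apply', mul_apply', Z_apply_neg, Frame.Adm.smul_w, Frame.Adm.smul_c]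
  simp only [map_add, map_sub, map_smul, hx, nZ_mid Fr x p hc, nZ_mid' Fr x p hp]
  rw [Z_apply_of_ne Fr (ne_neg_self x), Z_apply_V0 Fr x p hp, Z_apply_neg, hh]
  simp only [map_mul, map_inv₀, H.σσ, H.σε]
  match_scalars <;> field_simp <;> ring

theorem nZ_apply_of_ne {x z : ι × Bool} (h : z.1 ≠ x.1) (p : Fr.Adm) :
    nZ Fr x p (Fr.b z) = Fr.b z := by
  have e1 : ∀ q, Fr.Z x q (Fr.b z) = Fr.b z := fun q =>
    Z_apply_of_ne Fr (fun h' => h (by rw [h', neg_fst])) q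
  have e2 : ∀ q, Fr.Z (neg x) q (Fr.b z) = Fr.b z := fun q =>
    Z_apply_of_ne Fr (fun h' => h (by rw [h', neg_fst, neg_fst])) q
  rw [nZ, mul_apply', mul_apply', e1, e2, e1]

theorem nZ_apply_V0 (x : ι × Bool) (p : Fr.Adm) (hc : p.c ≠ 0) {v : V} (hv : v ∈ Fr.V0) :
    nZ Fr x p v = v + (H.ε⁻¹ * p.c⁻¹ * H.h v p.w) • p.w := by
  have h3 := Fr.η_ne x
  have h5 := H.ε_ne
  have hσ : H.σ p.c ≠ 0 := by simpa using hc
  have hh : H.h p.w p.w = -(H.ε * p.c + H.σ p.c) := by rw [p.herm, _root_.neg_neg]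
  have hp := Fr.ok_mem p.ok
  rw [nZ, mul_apply', mul_apply', Z_apply_V0 Fr x _ hv, map_sub, map_smul, nZ_mid Fr x p hc,
    nZ_mid' Fr x p hv, Frame.Adm.smul_w, H.smul_right]
  simp only [map_add, map_sub, map_smul]
  rw [Z_apply_of_ne Fr (ne_neg_self x), Z_apply_V0 Fr x p hp, Z_apply_V0 Fr x p hv, Z_apply_neg,
    hh]
  simp only [map_mul, map_inv₀, H.σσ, H.σε]
  match_scalars <;> field_simp <;> ring

/-! ## Reflections of admissible pairs -/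

/-- The image of an admissible pair `q` under `nZ x p`. -/
def refl (p : Fr.Adm) (hc : p.c ≠ 0) (q : Fr.Adm) : Fr.Adm where
  w := q.w + (H.ε⁻¹ * p.c⁻¹ * H.h q.w p.w) • p.w
  c := q.c
  ok := by
    have h5 := H.ε_ne
    have hσ : H.σ p.c ≠ 0 := by simpa using hc
    have key := Fr.ok_mul (Fr.ok_mul q.ok (Fr.ok_smul (H.ε⁻¹ * p.c⁻¹ * H.h q.w p.w) p.ok))
      (Fr.ok_tr (-((H.ε⁻¹ * p.c⁻¹ * H.h q.w p.w) * H.σ (H.ε⁻¹ * p.c⁻¹ * H.h q.w p.w) * p.c)))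
    rw [add_zero] at key
    convert key using 1
    rw [H.zero_left, H.smul_left, H.swap q.w p.w]
    simp only [map_neg, map_mul, map_inv₀, H.σσ, H.σε, inv_inv]
    field_simp
    ring

@[simp] theorem refl_w (p : Fr.Adm) (hc : p.c ≠ 0) (q : Fr.Adm) :
    (refl Fr p hc q).w = q.w + (H.ε⁻¹ * p.c⁻¹ * H.h q.w p.w) • p.w := rfl

@[simp] theorem refl_c (p : Fr.Adm) (hc : p.c ≠ 0) (q : Fr.Adm) : (refl Fr p hc q).c = q.c := rfl

theorem nZ_w (x : ι × Bool) (p : Fr.Adm) (hc : p.c ≠ 0) (q : Fr.Adm) :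
    nZ Fr x p q.w = (refl Fr p hc q).w := nZ_apply_V0 Fr x p hc (Fr.ok_mem q.ok)

theorem h_refl (p : Fr.Adm) (hc : p.c ≠ 0) (q q' : Fr.Adm) :
    H.h (refl Fr p hc q).w (refl Fr p hc q').w = H.h q.w q'.w := by
  rcases isEmpty_or_nonempty ι with hι | ⟨⟨i⟩⟩
  · have hh : H.h p.w p.w = -(H.ε * p.c + H.σ p.c) := by rw [p.herm, _root_.neg_neg]
    have h5 := H.ε_ne
    have hσ : H.σ p.c ≠ 0 := by simpa using hc
    rw [refl_w, refl_w]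
    simp only [H.add_left, H.add_right, H.smul_left, H.smul_right, hh, H.swap q'.w p.w, map_mul,
      map_inv₀, H.σε, inv_inv]
    field_simp
    ring
  · rw [← nZ_w Fr (i, true), ← nZ_w Fr (i, true)]
    exact isIso_nZ Fr (i, true) p q.w q'.w

theorem refl_mul (p : Fr.Adm) (hc : p.c ≠ 0) (q q' : Fr.Adm) :
    refl Fr p hc (q * q') = refl Fr p hc q * refl Fr p hc q' := by
  apply Frame.Adm.ext
  · rw [Frame.Adm.mul_w, refl_w, refl_w, refl_w, Frame.Adm.mul_w, H.add_left]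
    module
  · rw [Frame.Adm.mul_c, refl_c, refl_c, refl_c, Frame.Adm.mul_c, h_refl]

theorem refl_smul (p : Fr.Adm) (hc : p.c ≠ 0) (a : F) (q : Fr.Adm) :
    refl Fr p hc (Frame.Adm.smul a q) = Frame.Adm.smul a (refl Fr p hc q) := by
  apply Frame.Adm.ext
  · rw [Frame.Adm.smul_w, refl_w, refl_w, Frame.Adm.smul_w, H.smul_left]
    module
  · rw [Frame.Adm.smul_c, refl_c, refl_c, Frame.Adm.smul_c]

/-! ## Conjugation by the type I Weyl elements -/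

section
variable {x y : ι × Bool} (h : x.1 ≠ y.1) {t : F} (ht : t ≠ 0)
include h ht

theorem nX_conj_X (s : F) : nX Fr x y t * Fr.X x y s * (nX Fr x y t)⁻¹ =
    Fr.X (neg y) (neg x) (-(t⁻¹ ^ 2 * s)) := by
  have h1 : nX Fr x y t (Fr.b x) = (-t⁻¹) • Fr.b (neg y) := by
    rw [nX_apply_self Fr h ht, neg_smul]
  rw [conj_X Fr (isIso_nX Fr x y t) h (y' := neg x) (x' := neg y) h.symm h1
    (nX_apply_self' Fr h ht)]
  congr 1
  have hx := Fr.η_neg x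
  have h3 := Fr.η_ne x
  have h4 := Fr.η_ne y
  have h5 := H.ε_ne
  have e1 : Fr.η (neg x) = H.ε * (Fr.η x)⁻¹ := by rw [← hx]; field_simp
  rw [e1]
  simp only [map_mul, map_inv₀, H.σσ, H.σε, Fr.σ_η, inv_inv]
  field_simp

theorem nX_conj_X_neg (s : F) : nX Fr x y t * Fr.X (neg y) (neg x) s * (nX Fr x y t)⁻¹ =
    Fr.X x y (-(t ^ 2 * s)) := by
  have h1 : nX Fr x y t (Fr.b (neg x)) = (-(H.ε⁻¹ * Fr.η x * Fr.η y * H.σ t)) • Fr.b y := by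
    rw [nX_apply_neg' Fr h ht, neg_smul]
  rw [conj_X Fr (isIso_nX Fr x y t) (x := neg y) (y := neg x) h.symm h
    (nX_apply_neg Fr h ht) h1]
  congr 1
  have hx := Fr.η_neg x
  have h3 := Fr.η_ne x
  have h4 := Fr.η_ne y
  have h5 := H.ε_ne
  have e1 : Fr.η (neg x) = H.ε * (Fr.η x)⁻¹ := by rw [← hx]; field_simp
  rw [e1]
  simp only [map_neg, map_mul, map_inv₀, H.σσ, H.σε, Fr.σ_η, inv_inv]
  field_simp

theorem nX_conj_Y (s : F) : nX Fr x y t * Fr.X x (neg y) s * (nX Fr x y t)⁻¹ =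
    Fr.X x (neg y) (H.ε⁻¹ * Fr.η (neg y) ^ 2 * t * (H.σ t)⁻¹ * H.σ s) := by
  have h1 : nX Fr x y t (Fr.b x) = (-t⁻¹) • Fr.b (neg y) := by
    rw [nX_apply_self Fr h ht, neg_smul]
  rw [conj_X Fr (isIso_nX Fr x y t) (x := x) (y := neg y) h (x' := neg y) (y' := x) h.symm h1
    (nX_apply_neg Fr h ht), Fr.X_swap (x := neg y) (y := x) h.symm]
  congr 1
  have h3 := Fr.η_ne x
  have h4 := Fr.η_ne (neg y)
  have h5 := H.ε_ne
  have hσ : H.σ t ≠ 0 := by simpa using ht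
  simp only [map_neg, map_mul, map_inv₀, H.σσ, H.σε, Fr.σ_η, inv_inv]
  field_simp

theorem nX_conj_Z (p : Fr.Adm) : nX Fr x y t * Fr.Z x p * (nX Fr x y t)⁻¹ =
    Fr.Z (neg y) (Frame.Adm.smul (-(H.σ t)⁻¹) p) := by
  have h1 : nX Fr x y t (Fr.b x) = (-t⁻¹) • Fr.b (neg y) := by
    rw [nX_apply_self Fr h ht, neg_smul]
  rw [conj_Z Fr (isIso_nX Fr x y t) h1 p p (nX_apply_V0 Fr h (Fr.ok_mem p.ok) t) rfl]
  rw [map_neg, map_inv₀]

theorem nX_conj_Z_neg (p : Fr.Adm) : nX Fr x y t * Fr.Z (neg y) p * (nX Fr x y t)⁻¹ =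
    Fr.Z x (Frame.Adm.smul (H.σ t) p) :=
  conj_Z Fr (isIso_nX Fr x y t) (nX_apply_neg Fr h ht) p p
    (nX_apply_V0 Fr h (Fr.ok_mem p.ok) t) rfl

theorem nX_conj_Z' (p : Fr.Adm) : nX Fr x y t * Fr.Z y p * (nX Fr x y t)⁻¹ =
    Fr.Z (neg x) (Frame.Adm.smul (H.ε⁻¹ * Fr.η x * Fr.η y * t⁻¹) p) := by
  rw [conj_Z Fr (isIso_nX Fr x y t) (nX_apply_self' Fr h ht) p p
    (nX_apply_V0 Fr h (Fr.ok_mem p.ok) t) rfl]
  congr 2
  simp only [map_mul, map_inv₀, H.σσ, H.σε, Fr.σ_η, inv_inv]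
  have h3 := Fr.η_ne x
  have h4 := Fr.η_ne y
  have h5 := H.ε_ne
  field_simp

theorem nX_conj_Z_neg' (p : Fr.Adm) : nX Fr x y t * Fr.Z (neg x) p * (nX Fr x y t)⁻¹ =
    Fr.Z y (Frame.Adm.smul (-(H.ε * (Fr.η x)⁻¹ * (Fr.η y)⁻¹ * t)) p) := by
  have h1 : nX Fr x y t (Fr.b (neg x)) = (-(H.ε⁻¹ * Fr.η x * Fr.η y * H.σ t)) • Fr.b y := by
    rw [nX_apply_neg' Fr h ht, neg_smul]
  rw [conj_Z Fr (isIso_nX Fr x y t) h1 p p (nX_apply_V0 Fr h (Fr.ok_mem p.ok) t) rfl]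
  congr 2
  simp only [map_neg, map_mul, map_inv₀, H.σσ, H.σε, Fr.σ_η, inv_inv]

end

/-- elements with disjoint support -/
theorem nX_conj_X_of_ne {x y z u : ι × Bool} (h : x.1 ≠ y.1) (h1 : z.1 ≠ x.1) (h2 : z.1 ≠ y.1)
    (h3 : u.1 ≠ x.1) (h4 : u.1 ≠ y.1) (t s : F) :
    nX Fr x y t * Fr.X z u s * (nX Fr x y t)⁻¹ = Fr.X z u s := by
  by_cases hzu : z.1 ≠ u.1
  · have e1 : nX Fr x y t (Fr.b z) = (1 : F) • Fr.b z := by
      rw [nX_apply_of_ne Fr h h1 h2, one_smul]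
    have e2 : nX Fr x y t (Fr.b u) = (1 : F) • Fr.b u := by
      rw [nX_apply_of_ne Fr h h3 h4, one_smul]
    rw [conj_X Fr (isIso_nX Fr x y t) hzu hzu e1 e2]
    congr 1
    have := Fr.η_ne u
    rw [map_one]; field_simp
  · rw [Frame.X, dif_neg hzu]; simp

theorem nX_conj_Z_of_ne {x y z : ι × Bool} (h : x.1 ≠ y.1) (h1 : z.1 ≠ x.1) (h2 : z.1 ≠ y.1)
    (t : F) (p : Fr.Adm) :
    nX Fr x y t * Fr.Z z p * (nX Fr x y t)⁻¹ = Fr.Z z p := by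
  have e1 : nX Fr x y t (Fr.b z) = (1 : F) • Fr.b z := by
    rw [nX_apply_of_ne Fr h h1 h2, one_smul]
  rw [conj_Z Fr (isIso_nX Fr x y t) e1 p p (nX_apply_V0 Fr h (Fr.ok_mem p.ok) t) rfl, map_one,
    Frame.Adm.one_smul]

/-! ## Conjugation by the type II Weyl elements -/

section
variable (x : ι × Bool) (p : Fr.Adm) (hc : p.c ≠ 0)

theorem nZ_conj_Z (q : Fr.Adm) : nZ Fr x p * Fr.Z x q * (nZ Fr x p)⁻¹ =
    Fr.Z (neg x) (Frame.Adm.smul (H.ε⁻¹ * Fr.η x * p.c⁻¹) (refl Fr p hc q)) := by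
  rw [conj_Z Fr (isIso_nZ Fr x p) (nZ_apply_self Fr x p hc) q _ (nZ_w Fr x p hc q) rfl]
  congr 2
  simp only [map_mul, map_inv₀, H.σσ, H.σε, Fr.σ_η, inv_inv]

theorem nZ_conj_Z_neg (q : Fr.Adm) : nZ Fr x p * Fr.Z (neg x) q * (nZ Fr x p)⁻¹ =
    Fr.Z x (Frame.Adm.smul ((Fr.η x)⁻¹ * H.σ p.c) (refl Fr p hc q)) := by
  rw [conj_Z Fr (isIso_nZ Fr x p) (nZ_apply_neg Fr x p hc) q _ (nZ_w Fr x p hc q) rfl]
  congr 2
  simp only [map_mul, Fr.σ_η]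

theorem nZ_conj_Z_of_ne {y : ι × Bool} (h : y.1 ≠ x.1) (q : Fr.Adm) :
    nZ Fr x p * Fr.Z y q * (nZ Fr x p)⁻¹ = Fr.Z y (refl Fr p hc q) := by
  have e1 : nZ Fr x p (Fr.b y) = (1 : F) • Fr.b y := by
    rw [nZ_apply_of_ne Fr h, one_smul]
  rw [conj_Z Fr (isIso_nZ Fr x p) e1 q _ (nZ_w Fr x p hc q) rfl, map_one, Frame.Adm.one_smul]

include hc in
theorem nZ_conj_X {y : ι × Bool} (h : y.1 ≠ x.1) (s : F) :
    nZ Fr x p * Fr.X y x s * (nZ Fr x p)⁻¹ = Fr.X y (neg x) ((Fr.η x)⁻¹ * p.c⁻¹ * s) := by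
  have e1 : nZ Fr x p (Fr.b y) = (1 : F) • Fr.b y := by
    rw [nZ_apply_of_ne Fr h, one_smul]
  rw [conj_X Fr (isIso_nZ Fr x p) h (y' := neg x) h e1 (nZ_apply_self Fr x p hc)]
  congr 1
  have hx := Fr.η_neg x
  have h3 := Fr.η_ne x
  have h5 := H.ε_ne
  have e1 : Fr.η (neg x) = H.ε * (Fr.η x)⁻¹ := by rw [← hx]; field_simp
  simp only [e1, map_mul, map_inv₀, H.σσ, H.σε, Fr.σ_η, inv_inv]
  field_simp

include hc in
theorem nZ_conj_X_neg {y : ι × Bool} (h : y.1 ≠ x.1) (s : F) :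
    nZ Fr x p * Fr.X y (neg x) s * (nZ Fr x p)⁻¹ =
      Fr.X y x (H.ε⁻¹ * Fr.η x * H.σ p.c * s) := by
  have e1 : nZ Fr x p (Fr.b y) = (1 : F) • Fr.b y := by
    rw [nZ_apply_of_ne Fr h, one_smul]
  rw [conj_X Fr (isIso_nZ Fr x p) (y := neg x) h (y' := x) h e1 (nZ_apply_neg Fr x p hc)]
  congr 1
  have hx := Fr.η_neg x
  have h3 := Fr.η_ne x
  have h5 := H.ε_ne
  have e1 : Fr.η (neg x) = H.ε * (Fr.η x)⁻¹ := by rw [← hx]; field_simp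
  simp only [e1, map_mul, Fr.σ_η]
  field_simp

theorem nZ_conj_X_of_ne {y z : ι × Bool} (h : y.1 ≠ x.1) (h' : z.1 ≠ x.1) (s : F) :
    nZ Fr x p * Fr.X y z s * (nZ Fr x p)⁻¹ = Fr.X y z s := by
  by_cases hyz : y.1 ≠ z.1
  · have e1 : nZ Fr x p (Fr.b y) = (1 : F) • Fr.b y := by
      rw [nZ_apply_of_ne Fr h, one_smul]
    have e2 : nZ Fr x p (Fr.b z) = (1 : F) • Fr.b z := by
      rw [nZ_apply_of_ne Fr h', one_smul]
    rw [conj_X Fr (isIso_nZ Fr x p) hyz hyz e1 e2]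
    congr 1
    have := Fr.η_ne z
    rw [map_one]; field_simp
  · rw [Frame.X, dif_neg hyz]; simp

end

end Cfsg.Agent.TitsThree.WittWeyl
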