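import Cfsg.Agent.TitsThree.KSideU
import Cfsg.Agent.TitsThree.WBridge
import Cfsg.Agent.TitsThree.LineBorel
set_option linter.all false

/-!
Descent from `GL(V)` to `PSU N F q`: the group `IU = toLin(SU)`, the map `toPSU : IU →* PSU N F q`
(kernel = scalars, surjective), the root elements `X x y t`, `Z x p` of a Witt frame lie in `IU`, their images
(simple ones) generate `PSU N F q`, and the stabiliser of the line of `e 0` has proper image.
-/

set_option autoImplicit false

namespace Cfsg.Agent.TitsThree.KSideUDesc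

open Matrix
open Cfsg Cfsg.Agent.LieClassical.HermBasic Cfsg.Agent.LieClassical.HermSiegel
open Cfsg.Agent.LieClassical.SUBasic
open Cfsg.Agent.TitsThree.Siegel Cfsg.Agent.TitsThree.SiegelGen Cfsg.Agent.TitsThree.WittFrame
open Cfsg.Agent.TitsThree.WBridge Cfsg.Agent.TitsThree.KSideU Cfsg.Agent.TitsThree.LineBorel

variable {F : Type*} [Field F] [Fintype F] {q N : ℕ}

/-- `SU N F q` as a subgroup of `GL(V)`. -/
noncomputable abbrev IU (F : Type*) [Field F] (q N : ℕ) : Subgroup ((Fin N → F) ≃ₗ[F] (Fin N → F)) :=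
  (toLin F q N).range

/-- The isomorphism `IU ≃* SU`. -/
noncomputable def ofRange (F : Type*) [Field F] [Fintype F] (q N : ℕ) : IU F q N ≃* SU N F q :=
  (MonoidHom.ofInjective (toLin_injective (F := F) (q := q) (N := N))).symm

theorem toLin_ofRange (g : IU F q N) : toLin F q N (ofRange F q N g) = g.1 := by
  have := MonoidHom.apply_ofInjective_symm (toLin_injective (F := F) (q := q) (N := N)) g
  exact this

/-- The map onto `PSU`. -/
noncomputable def toPSU (F : Type*) [Field F] [Fintype F] (q N : ℕ) : IU F q N →* PSU N F q :=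
  (QuotientGroup.mk' (Subgroup.center (SU N F q))).comp (ofRange F q N).toMonoidHom

theorem toPSU_surjective : Function.Surjective (toPSU F q N) :=
  (QuotientGroup.mk'_surjective _).comp (ofRange F q N).surjective

/-- The kernel consists of scalars. -/
theorem scalar_of_toPSU_eq_one (hF : Fintype.card F = q ^ 2) (hN : 3 ≤ N) (g : IU F q N)
    (h : toPSU F q N g = 1) : ∃ a : F, ∀ v, g.1 v = a • v := by
  have h1 : ofRange F q N g ∈ Subgroup.center (SU N F q) := (QuotientGroup.eq_one_iff _).1 h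
  obtain ⟨c, hcn, hcq, hA⟩ := (mem_center_SU_iff hF hN _).1 h1
  refine ⟨c, fun v => ?_⟩
  rw [← toLin_ofRange g, KSideU.toLin_apply, hA, act_def]
  change Matrix.diagonal (fun _ => c) *ᵥ v = c • v
  funext i
  rw [Matrix.mulVec_diagonal]; rfl

theorem mem_lineStab_of_toPSU (hF : Fintype.card F = q ^ 2) (hN : 3 ≤ N) (v : Fin N → F)
    (g : IU F q N) (h : toPSU F q N g = 1) : g.1 ∈ lineStab (F := F) v := by
  obtain ⟨a, ha⟩ := scalar_of_toPSU_eq_one hF hN g h
  exact ⟨a, ha v⟩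

/-- Siegel elements are in `IU`. -/
theorem sie_mem (hF : Fintype.card F = q ^ 2) {u w : Fin N → F} {c : F}
    (huu : (HU hF N).h u u = 0) (huw : (HU hF N).h u w = 0) (hok : (PU hF N).ok w c) :
    (HU hF N).sie u w c huu huw ∈ IU F q N :=
  ⟨siegel hF u w c (isSiegel_of hF huu huw hok), toLin_siegel hF _ huu huw⟩

section

variable (hF : Fintype.card F = q ^ 2) {m : ℕ} (W : WFrame (PU hF N) m)

theorem X_mem (x y : Fin m × Bool) (t : F) : (toFrame W).X x y t ∈ IU F q N := by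
  by_cases h : x.1 = y.1
  · rw [Frame.X, dif_neg (not_not.2 h)]; exact Subgroup.one_mem _
  · rw [Frame.X_eq _ h]
    exact sie_mem hF _ _ ((PU hF N).sing_smul (b_sing W y) _)

theorem Z_mem (x : Fin m × Bool) (p : (toFrame W).Adm) : (toFrame W).Z x p ∈ IU F q N :=
  sie_mem hF _ _ p.ok.2

theorem exists_adm_ne : ∃ p : (toFrame W).Adm, p.c ≠ 0 := by
  obtain ⟨c, hc, hc0⟩ := exists_ok_ne (N := N) hF
  exact ⟨⟨0, c, W.V0.zero_mem, hc⟩, hc0⟩

/-- the image of `X x y t` in `PSU` -/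
noncomputable def Xb (x y : Fin m × Bool) (t : F) : PSU N F q := toPSU F q N ⟨_, X_mem hF W x y t⟩

/-- the image of `Z x p` in `PSU` -/
noncomputable def Zb (x : Fin m × Bool) (p : (toFrame W).Adm) : PSU N F q :=
  toPSU F q N ⟨_, Z_mem hF W x p⟩

/-- Generation of `PSU`. -/
theorem eq_top (hN : 3 ≤ N) (l : Fin m) (K : Subgroup (PSU N F q))
    (h1 : ∀ i j : Fin m, i.val + 1 = j.val → ∀ t,
      Xb hF W (i, true) (j, false) t ∈ K ∧ Xb hF W (j, true) (i, false) t ∈ K)
    (h2 : ∀ p, Zb hF W (l, true) p ∈ K ∧ Zb hF W (l, false) p ∈ K) : K = ⊤ := by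
  -- the preimage in `IU`, pushed to `GL(V)`
  set L : Subgroup ((Fin N → F) ≃ₗ[F] (Fin N → F)) := (K.comap (toPSU F q N)).map
    (IU F q N).subtype with hL
  have hmem : ∀ g : IU F q N, toPSU F q N g ∈ K → g.1 ∈ L := fun g hg => ⟨g, hg, rfl⟩
  have hC : W.Contains L := contains_C W l
    (fun i j hij t => ⟨hmem ⟨_, X_mem hF W _ _ t⟩ (h1 i j hij t).1,
      hmem ⟨_, X_mem hF W _ _ t⟩ (h1 i j hij t).2⟩)
    (fun p => ⟨hmem ⟨_, Z_mem hF W _ p⟩ (h2 p).1, hmem ⟨_, Z_mem hF W _ p⟩ (h2 p).2⟩)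
    (exists_adm_ne hF W)
  have htop : (L.comap (toLin F q N)) = ⊤ := by
    refine eq_top_of_sie hF hN _ fun u w c huu huw hok => ?_
    have h3 := hC.all W ((sing_iff hF).2 huu) huu huw hok
    obtain ⟨g, hg⟩ := sie_mem hF huu huw hok
    exact ⟨g, by rw [SetLike.mem_coe, Subgroup.mem_comap, hg]; exact h3, hg⟩
  rw [eq_top_iff]
  intro k _
  obtain ⟨g, rfl⟩ := toPSU_surjective k
  have h4 : ofRange F q N g ∈ L.comap (toLin F q N) := by rw [htop]; exact Subgroup.mem_top _
  rw [Subgroup.mem_comap, toLin_ofRange] at h4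
  obtain ⟨g', hg', he⟩ := h4
  have : g' = g := Subtype.ext he
  exact this ▸ hg'

/-- The proper Borel. -/
theorem bor_ne_top' (hN : 3 ≤ N) (i j : Fin m) (hij : i ≠ j) :
    bor (toPSU F q N) ((toFrame W).b (i, true)) ≠ ⊤ :=
  bor_ne_top (toPSU F q N) (fun g hg => mem_lineStab_of_toPSU hF hN _ g hg)
    ⟨_, X_mem hF W (j, false) (i, false) 1⟩
    (X_notMem_lineStab (toFrame W) i hij false 1 one_ne_zero)

end

/-- `PSU N F q` is simple. -/
theorem isSimple (hF : Fintype.card F = q ^ 2) (hN : 4 ≤ N) : IsSimpleGroup (PSU N F q) :=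
  Cfsg.Agent.S0283.result hF N (by omega) (by omega)

end Cfsg.Agent.TitsThree.KSideUDesc
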