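import Cfsg.Agent.TitsThree.Siegel
set_option linter.all false

/-!
# Generation by root elements for pseudo-quadratic spaces

`PQ H` : a family of admissible pairs `(w, c)` (the Siegel element `S(u,w,c)` with `u` singular and `w ⊥ u`
belongs to the group).  For a Witt frame `e i, f i, V0` spanning `V` with `V0` anisotropic, a subgroup
containing the simple root elements (type `C_n` or `D_n`) contains all `S(u,w,c)`.
-/

set_option autoImplicit false

namespace Cfsg.Agent.TitsThree.SiegelGen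

open Cfsg.Agent.TitsThree.Siegel

variable {F : Type*} [Field F] {V : Type*} [AddCommGroup V] [Module F V]

/-- Admissible pairs. -/
structure PQ (H : HForm F V) where
  ok : V → F → Prop
  ex : ∀ w, ∃ c, ok w c
  zero : ok 0 0
  rel : ∀ {w c}, ok w c → H.ε * c + H.σ c = -H.h w w
  add : ∀ {w c w' c'}, ok w c → ok w' c' → ok (w + w') (c + c' - H.ε⁻¹ * H.h w' w)
  smul : ∀ {w c} (a : F), ok w c → ok (a • w) (a * H.σ a * c)
  lam : ∀ {w c} (m : F), ok w c → ok w (c + m - H.ε⁻¹ * H.σ m)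

namespace PQ

variable {H : HForm F V} (P : PQ H)

theorem congr {w w' : V} {c c' : F} (h : P.ok w c) (hw : w = w') (hc : c = c') : P.ok w' c' := by
  subst hw hc; exact h

theorem hh {w : V} {c : F} (h : P.ok w c) : H.h w w = -(H.ε * c + H.σ c) := by
  rw [P.rel h, neg_neg]

theorem iso {u : V} (h : P.ok u 0) : H.h u u = 0 := by
  rw [P.hh h]; simp

theorem neg {w : V} {c : F} (h : P.ok w c) : P.ok (-w) c :=
  P.congr (P.smul (-1) h) (by simp) (by simp)

theorem inv {w : V} {c : F} (h : P.ok w c) : P.ok (-w) (-c - H.ε⁻¹ * H.h w w) := by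
  refine P.congr (P.lam (-c) (P.neg h)) rfl ?_
  rw [P.hh h, map_neg]
  have := H.ε_ne
  field_simp
  ring

/-- the difference of two admissible second components is in `Λ` -/
theorem sub {w : V} {c c' : F} (h : P.ok w c) (h' : P.ok w c') : P.ok 0 (c - c') := by
  refine P.congr (P.add h (P.inv h')) (add_neg_cancel w) ?_
  rw [H.neg_left]
  ring

theorem sing_smul {u : V} (h : P.ok u 0) (a : F) : P.ok (a • u) 0 :=
  P.congr (P.smul a h) rfl (by ring)

theorem sing_add {u v : V} (h : P.ok u 0) (h' : P.ok v 0) (huv : H.h v u = 0) :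
    P.ok (u + v) 0 :=
  P.congr (P.add h h') rfl (by rw [huv]; ring)

theorem isIso_sie {u w : V} {c : F} (hu : H.h u u = 0) (hw : H.h u w = 0) (hc : P.ok w c) :
    H.IsIso (H.sie u w c hu hw) := H.isIso_sie hu hw (P.rel hc)

/-- Siegel elements preserve admissibility. -/
theorem ok_sie {u w : V} {c : F} (hu : H.h u u = 0) (hw : H.h u w = 0) (hus : P.ok u 0)
    (hc : P.ok w c) {x : V} {d : F} (hx : P.ok x d) : P.ok (H.sie u w c hu hw x) d := by
  have hwu : H.h w u = 0 := H.orth_symm hw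
  have h1 := P.smul (H.h x u) hc
  have h2 := P.sing_smul hus (-(H.ε⁻¹ * H.h x w) + c * H.h x u)
  have h3 := P.add (P.add hx h1) h2
  have h4 := P.lam (H.h x u * H.σ (H.h x w)) h3
  refine P.congr h4 ?_ ?_
  · rw [H.sie_apply]; module
  · simp only [H.smul_left, H.add_right, H.smul_right]
    have e1 : H.h w x = H.ε * H.σ (H.h x w) := H.swap _ _
    have e2 : H.h u x = H.ε * H.σ (H.h x u) := H.swap _ _
    rw [e1, e2, hw, map_mul, H.σσ]
    have := H.ε_ne
    field_simp
    ring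

end PQ

variable {H : HForm F V} (P : PQ H)

/-- `K` contains all `S(x, s y, 0)` (for orthogonal singular `x`, `y`). -/
def Rt (H : HForm F V) (K : Subgroup (V ≃ₗ[F] V)) (x y : V) : Prop :=
  ∀ (s : F) (hx : H.h x x = 0) (hy : H.h x (s • y) = 0), H.sie x (s • y) 0 hx hy ∈ K

/-- `K` contains all `S(x, w, c)`, `w ∈ A`. -/
def Zt (K : Subgroup (V ≃ₗ[F] V)) (A : Set V) (x : V) : Prop :=
  ∀ (w : V) (c : F) (hx : H.h x x = 0) (hw : H.h x w = 0), w ∈ A → P.ok w c →
    H.sie x w c hx hw ∈ K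

variable {K : Subgroup (V ≃ₗ[F] V)}

theorem Rt.symm {x y : V} (hx : H.h x x = 0) (hy : H.h y y = 0) (hxy : H.h x y = 0)
    (h : Rt H K x y) : Rt H K y x := by
  intro s hy' hys
  have h1 : H.h x (-(H.ε • s • x)) = 0 := by
    rw [H.neg_right, H.smul_right, H.smul_right, hx]; simp
  -- S(y, s x, 0) = S(s x, -ε⁻¹ y, 0) = S(x, σ(s) (-ε⁻¹ y), 0)
  have hsx : H.h (s • x) (s • x) = 0 := by rw [H.smul_left, H.smul_right, hx]; simp
  rw [H.sie_symm y (s • x) hy' hys hsx]
  have h2 : H.h x (-(H.ε⁻¹ • y)) = 0 := by rw [H.neg_right, H.smul_right, hxy]; simp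
  rw [H.sie_smul x (-(H.ε⁻¹ • y)) 0 s hx h2]
  have h3 : H.h x ((-(H.σ s * H.ε⁻¹)) • y) = 0 := by rw [H.smul_right, hxy, mul_zero]
  rw [H.sie_congr _ _ hx h3 rfl (by module) (mul_zero _)]
  exact h _ hx h3

/-- Transitivity through a hyperbolic pair `(a, b)`. -/
theorem Rt.trans {p a b r : V} (hp : P.ok p 0) (ha : P.ok a 0) (hb : P.ok b 0) (hr : P.ok r 0)
    (hab : H.h a b ≠ 0) (hpa : H.h p a = 0) (hpb : H.h p b = 0) (hpr : H.h p r = 0)
    (hra : H.h r a = 0) (hrb : H.h r b = 0) (h1 : Rt H K p b) (h2 : Rt H K a r) :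
    Rt H K p r := by
  intro s hpp hpsr
  have haa := P.iso ha
  have hbb := P.iso hb
  have hrr := P.iso hr
  have hap : H.h a p = 0 := H.orth_symm hpa
  have hrp : H.h r p = 0 := H.orth_symm hpr
  have har : H.h a r = 0 := H.orth_symm hra
  -- g := S(p, s' b, 0) maps a to a + t p
  have key : ∀ t : F, H.sie p (H.σ t • r) 0 hpp (by rw [H.smul_right, hpr, mul_zero]) ∈ K := by
    intro t
    have hs' : ∃ s' : F, -(H.ε⁻¹ * H.h a (s' • b)) = t := by
      refine ⟨H.σ (-(H.ε * t) / H.h a b), ?_⟩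
      rw [H.smul_right, H.σσ]
      have := H.ε_ne
      field_simp
    obtain ⟨s', hs'⟩ := hs'
    have hps : H.h p (s' • b) = 0 := by rw [H.smul_right, hpb, mul_zero]
    have hsb : P.ok (s' • b) 0 := P.sing_smul hb s'
    have hg : H.sie p (s' • b) 0 hpp hps ∈ K := h1 s' hpp hps
    have hgi : H.IsIso (H.sie p (s' • b) 0 hpp hps) := P.isIso_sie hpp hps hsb
    have har1 : H.h a ((1 : F) • r) = 0 := by rw [H.smul_right, har, mul_zero]
    have hk := h2 1 haa har1
    have hconj := H.conj_sie hgi a ((1 : F) • r) 0 haa har1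
    have hga : H.sie p (s' • b) 0 hpp hps a = a + t • p := by
      rw [H.sie_apply, hap, ← hs']; simp; module
    have hgr : H.sie p (s' • b) 0 hpp hps ((1 : F) • r) = r := by
      rw [one_smul, H.sie_apply, hrp, H.smul_right, hrb]; simp
    have hatp : H.h (a + t • p) (a + t • p) = 0 := by
      simp only [H.add_left, H.add_right, H.smul_left, H.smul_right, haa, hap, hpa, hpp]; simp
    have hatr : H.h (a + t • p) r = 0 := by
      rw [H.add_left, H.smul_left, har, hpr]; simp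
    have hmem : H.sie (a + t • p) r 0 hatp hatr ∈ K := by
      have h3 : H.sie p (s' • b) 0 hpp hps * H.sie a ((1 : F) • r) 0 haa har1 *
          (H.sie p (s' • b) 0 hpp hps)⁻¹ ∈ K := K.mul_mem (K.mul_mem hg hk) (K.inv_mem hg)
      rw [hconj] at h3
      rwa [H.sie_congr _ _ hatp hatr hga hgr rfl] at h3
    -- S(a + t p, r, 0) = S(a, r, 0) S(p, σ(t) r, 0)
    have hprs : H.h p (H.σ t • r) = 0 := by rw [H.smul_right, hpr, mul_zero]
    have hprod : H.sie (a + t • p) r 0 hatp hatr =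
        H.sie a ((1 : F) • r) 0 haa har1 * H.sie p (H.σ t • r) 0 hpp hprs := by
      ext v
      change _ = H.sie a ((1 : F) • r) 0 haa har1 (H.sie p (H.σ t • r) 0 hpp hprs v)
      simp only [H.sie_apply, H.add_left, H.sub_left, H.add_right, H.smul_left, H.smul_right,
        hra, hrr, hpa, hpr, H.σσ, one_smul, map_one, mul_zero, zero_mul, zero_smul, add_zero,
        sub_zero, one_mul]
      module
    rw [hprod] at hmem
    exact (K.mul_mem_cancel_left hk).1 hmem
  have := key (H.σ s)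
  rwa [H.sie_congr _ _ hpp hpsr rfl (by rw [H.σσ]) rfl] at this

/-- An element of `K` moving `a` to `p` and fixing everything orthogonal to both pairs. -/
theorem exists_swap {p a b b' : V} (hp : P.ok p 0) (ha : P.ok a 0) (hb : P.ok b 0)
    (hb' : P.ok b' 0) (hab : H.h a b ≠ 0) (hpb' : H.h p b' ≠ 0) (hpa : H.h p a = 0)
    (hpb : H.h p b = 0) (hab' : H.h a b' = 0) (h1 : Rt H K p b) (h2 : Rt H K a b') :
    ∃ g ∈ K, H.IsIso g ∧ g a = p ∧ ∀ v, H.h v p = 0 → H.h v b = 0 → H.h v a = 0 →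
      H.h v b' = 0 → g v = v := by
  have haa := P.iso ha
  have hpp := P.iso hp
  have hap : H.h a p = 0 := H.orth_symm hpa
  obtain ⟨s, hs⟩ : ∃ s : F, -(H.ε⁻¹ * H.h a (s • b)) = 1 := by
    refine ⟨H.σ (-H.ε / H.h a b), ?_⟩
    rw [H.smul_right, H.σσ]
    have := H.ε_ne
    field_simp
  obtain ⟨s', hs'⟩ : ∃ s' : F, -(H.ε⁻¹ * H.h p (s' • b')) = -1 := by
    refine ⟨H.σ (H.ε / H.h p b'), ?_⟩
    rw [H.smul_right, H.σσ]
    have := H.ε_ne
    field_simp
  have hps : H.h p (s • b) = 0 := by rw [H.smul_right, hpb, mul_zero]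
  have has : H.h a (s' • b') = 0 := by rw [H.smul_right, hab', mul_zero]
  refine ⟨H.sie a (s' • b') 0 haa has * H.sie p (s • b) 0 hpp hps,
    K.mul_mem (h2 s' haa has) (h1 s hpp hps), ?_, ?_, ?_⟩
  · exact HForm.IsIso.mul H (P.isIso_sie haa has (P.sing_smul hb' s'))
      (P.isIso_sie hpp hps (P.sing_smul hb s))
  · change H.sie a (s' • b') 0 haa has (H.sie p (s • b) 0 hpp hps a) = p
    have e1 : H.sie p (s • b) 0 hpp hps a = a + p := by
      rw [H.sie_apply, hap, sub_eq_add_neg, ← neg_smul, hs]; simp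
    rw [e1, H.sie_apply, H.add_left, H.add_left, haa, hpa, has]
    rw [zero_add (H.h p (s' • b')), sub_eq_add_neg, ← neg_smul, hs']
    simp
  · intro v hvp hvb hva hvb'
    change H.sie a (s' • b') 0 haa has (H.sie p (s • b) 0 hpp hps v) = v
    have e1 : H.sie p (s • b) 0 hpp hps v = v := by
      rw [H.sie_apply, hvp, H.smul_right, hvb]; simp
    rw [e1, H.sie_apply, hva, H.smul_right, hvb']; simp

/-- moving `Zt` from `a` to `p` -/
theorem Zt.move {A : Set V} {p a b b' : V} (hp : P.ok p 0) (ha : P.ok a 0) (hb : P.ok b 0)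
    (hb' : P.ok b' 0) (hab : H.h a b ≠ 0) (hpb' : H.h p b' ≠ 0) (hpa : H.h p a = 0)
    (hpb : H.h p b = 0) (hab' : H.h a b' = 0) (h1 : Rt H K p b) (h2 : Rt H K a b')
    (hA : ∀ v ∈ A, H.h v p = 0 ∧ H.h v b = 0 ∧ H.h v a = 0 ∧ H.h v b' = 0)
    (hz : Zt P K A a) : Zt P K A p := by
  intro w c hpp hpw hwA hwc
  obtain ⟨g, hgK, hgi, hga, hgv⟩ :=
    exists_swap P hp ha hb hb' hab hpb' hpa hpb hab' h1 h2
  obtain ⟨hw1, hw2, hw3, hw4⟩ := hA w hwA
  have haa := P.iso ha
  have haw : H.h a w = 0 := H.orth_symm hw3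
  have h3 := K.mul_mem (K.mul_mem hgK (hz w c haa haw hwA hwc)) (K.inv_mem hgK)
  rw [H.conj_sie hgi] at h3
  rwa [H.sie_congr _ _ hpp hpw hga (hgv w hw1 hw2 hw3 hw4) rfl] at h3

/-- `Rt p a` from `Zt`. -/
theorem Rt.of_zt {A : Set V} {p a b : V} (hp : P.ok p 0) (ha : P.ok a 0) (hb : P.ok b 0)
    (hab : H.h a b ≠ 0) (hpa : H.h p a = 0) (hpb : H.h p b = 0) (h1 : Rt H K p b)
    (hza : Zt P K A a) (hzp : Zt P K A p)
    (hA : ∀ (x : F), ∀ v ∈ A, x • v ∈ A)
    {w : V} {c : F} (hwA : w ∈ A) (hwc : P.ok w c) (hc : c ≠ 0) (hwp : H.h w p = 0)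
    (hwb : H.h w b = 0) (hwa : H.h w a = 0) : Rt H K p a := by
  intro s hpp hpsa
  have haa := P.iso ha
  have hbb := P.iso hb
  have hap : H.h a p = 0 := H.orth_symm hpa
  have hpw : H.h p w = 0 := H.orth_symm hwp
  have haw : H.h a w = 0 := H.orth_symm hwa
  -- x = -ε⁻¹ σ(c t) = s
  obtain ⟨t, ht⟩ : ∃ t : F, -(H.ε⁻¹ * H.σ (c * t)) = s := by
    refine ⟨c⁻¹ * H.σ (-(H.ε * s)), ?_⟩
    rw [← mul_assoc, mul_inv_cancel₀ hc, one_mul, H.σσ]
    have := H.ε_ne
    field_simp
  -- g := S(p, s' b, 0) maps a to a + t p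
  obtain ⟨s', hs'⟩ : ∃ s' : F, -(H.ε⁻¹ * H.h a (s' • b)) = t := by
    refine ⟨H.σ (-(H.ε * t) / H.h a b), ?_⟩
    rw [H.smul_right, H.σσ]
    have := H.ε_ne
    field_simp
  have hps : H.h p (s' • b) = 0 := by rw [H.smul_right, hpb, mul_zero]
  have hg : H.sie p (s' • b) 0 hpp hps ∈ K := h1 s' hpp hps
  have hgi : H.IsIso (H.sie p (s' • b) 0 hpp hps) := P.isIso_sie hpp hps (P.sing_smul hb s')
  have hga : H.sie p (s' • b) 0 hpp hps a = a + t • p := by
    rw [H.sie_apply, hap, ← hs']; simp; module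
  have hgw : H.sie p (s' • b) 0 hpp hps w = w := by
    rw [H.sie_apply, hwp, H.smul_right, hwb]; simp
  have hatp : H.h (a + t • p) (a + t • p) = 0 := by
    simp only [H.add_left, H.add_right, H.smul_left, H.smul_right, haa, hap, hpa, hpp]; simp
  have hatw : H.h (a + t • p) w = 0 := by
    rw [H.add_left, H.smul_left, haw, hpw]; simp
  have hmem : H.sie (a + t • p) w c hatp hatw ∈ K := by
    have h3 := K.mul_mem (K.mul_mem hg (hza w c haa haw hwA hwc)) (K.inv_mem hg)
    rw [H.conj_sie hgi] at h3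
    rwa [H.sie_congr _ _ hatp hatw hga hgw rfl] at h3
  have hpw' : H.h p (H.σ t • w) = 0 := by rw [H.smul_right, hpw, mul_zero]
  have hzp' : H.sie p (H.σ t • w) (t * H.σ t * c) hpp hpw' ∈ K := by
    refine hzp _ _ hpp hpw' (hA _ w hwA) ?_
    have := P.smul (H.σ t) hwc
    rw [H.σσ] at this
    exact P.congr this rfl (by ring)
  have hprod : H.sie (a + t • p) w c hatp hatw =
      H.sie a w c haa haw * H.sie p (H.σ t • w) (t * H.σ t * c) hpp hpw' *
        H.sie p (s • a) 0 hpp hpsa := by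
    ext v
    change _ = H.sie a w c haa haw (H.sie p (H.σ t • w) (t * H.σ t * c) hpp hpw'
      (H.sie p (s • a) 0 hpp hpsa v))
    have hh := P.hh hwc
    have h1 : H.h w w = -(H.ε * c + H.σ c) := hh
    simp only [H.sie_apply, H.add_left, H.sub_left, H.add_right, H.smul_left, H.smul_right,
      hap, hwp, hwa, haw, haa, hpp, hpw, hpa, H.σσ, mul_zero, zero_mul, zero_smul, add_zero,
      sub_zero, h1, ← ht, map_neg, map_mul, H.σε']
    have := H.ε_ne
    have e1 : H.ε⁻¹ * H.ε = 1 := inv_mul_cancel₀ this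
    match_scalars <;> field_simp <;> ring
  rw [hprod] at hmem
  have h4 : H.sie a w c haa haw * H.sie p (H.σ t • w) (t * H.σ t * c) hpp hpw' ∈ K :=
    K.mul_mem (hza w c haa haw hwA hwc) hzp'
  exact (K.mul_mem_cancel_left h4).1 hmem

/-- additivity: `Zt` for a set gives `Zt` for the additive closure -/
theorem Zt.add {u : V} (hus : P.ok u 0) (h0 : Zt P K {0} u) {w w' : V}
    (hw : Zt P K {w} u) (hw' : Zt P K {w'} u) (huw : H.h u w = 0) (huw' : H.h u w' = 0) :
    Zt P K {w + w'} u := by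
  intro x c hu hx hxw hok
  rw [Set.mem_singleton_iff] at hxw
  subst hxw
  obtain ⟨d, hd⟩ := P.ex w
  obtain ⟨d', hd'⟩ := P.ex w'
  have h1 := hw w d hu huw rfl hd
  have h2 := hw' w' d' hu huw' rfl hd'
  have h3 := P.sub hok (P.add hd hd')
  have h4 := h0 0 _ hu (H.zero_right u) rfl h3
  have h5 := K.mul_mem (K.mul_mem h1 h2) h4
  rw [H.sie_mul, H.sie_mul,
    H.sie_congr _ _ hu hx rfl (add_zero _) (c' := c) (by rw [H.zero_left]; ring)] at h5
  exact h5

/-- `Zt` for singular multiples from `Rt` -/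
theorem Zt.of_rt {u y : V} (hus : P.ok u 0) (hys : P.ok y 0) (huy : H.h u y = 0)
    (h0 : Zt P K {0} u) (h : Rt H K u y) (a : F) : Zt P K {a • y} u := by
  intro x c hu hx hxw hok
  rw [Set.mem_singleton_iff] at hxw
  subst hxw
  have h1 := h a hu hx
  have h2 := P.sub hok (P.sing_smul hys a)
  have h4 := h0 0 _ hu (H.zero_right u) rfl h2
  have h5 := K.mul_mem h1 h4
  rw [H.sie_mul, H.sie_congr _ _ hu hx rfl (add_zero _) (c' := c) (by rw [H.zero_left]; ring)]
    at h5
  exact h5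

/-- `Zt` for multiples of `u` itself -/
theorem Zt.self {u : V} (hus : P.ok u 0) (h0 : Zt P K {0} u) (a : F) : Zt P K {a • u} u := by
  intro x c hu hx hxw hok
  rw [Set.mem_singleton_iff] at hxw
  subst hxw
  have h2 := P.lam a (P.sub hok (P.sing_smul hus a))
  have h4 := h0 0 _ hu (H.zero_right u) rfl h2
  have h5 : H.sie u (0 + a • u) c hu (by rw [zero_add]; exact hx) ∈ K := by
    rw [H.sie_add_smul u 0 c a hu (H.zero_right u)]
    rwa [H.sie_congr _ _ hu (H.zero_right u) rfl rfl (c' := c + a - H.ε⁻¹ * H.σ a)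
      (by ring)] at h4
  rwa [H.sie_congr _ _ hu hx rfl (zero_add _) rfl] at h5


/-- A Witt frame. -/
structure WFrame {H : HForm F V} (P : PQ H) (n : ℕ) where
  e : Fin n → V
  f : Fin n → V
  V0 : Submodule F V
  ee : ∀ i j, H.h (e i) (e j) = 0
  ff : ∀ i j, H.h (f i) (f j) = 0
  ef : ∀ i j, H.h (e i) (f j) = if i = j then 1 else 0
  fe : ∀ i j, H.h (f i) (e j) = if i = j then H.ε else 0
  e_sing : ∀ i, P.ok (e i) 0
  f_sing : ∀ i, P.ok (f i) 0
  V0e : ∀ w ∈ V0, ∀ i, H.h w (e i) = 0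
  V0f : ∀ w ∈ V0, ∀ i, H.h w (f i) = 0
  aniso : ∀ w ∈ V0, P.ok w 0 → w = 0
  span : ∀ v : V, ∃ (a b : Fin n → F) (w : V), w ∈ V0 ∧
    v = ∑ i, a i • e i + ∑ i, b i • f i + w

namespace WFrame

variable {P} {n : ℕ} (W : WFrame P n)

theorem eV0 (i : Fin n) {w : V} (hw : w ∈ W.V0) : H.h (W.e i) w = 0 := H.orth_symm (W.V0e w hw i)
theorem fV0 (i : Fin n) {w : V} (hw : w ∈ W.V0) : H.h (W.f i) w = 0 := H.orth_symm (W.V0f w hw i)

/-- swapping the roles of `e` and `f` (`e' = f`, `f' = ε e`). -/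
def symm : WFrame P n where
  e := W.f
  f := fun i => H.ε • W.e i
  V0 := W.V0
  ee := W.ff
  ff := fun i j => by rw [H.smul_left, H.smul_right, W.ee]; simp
  ef := fun i j => by
    rw [H.smul_right, W.fe]
    split_ifs
    · rw [mul_comm, H.ε_mul]
    · simp
  fe := fun i j => by
    rw [H.smul_left, W.ef]
    split_ifs <;> simp
  e_sing := W.f_sing
  f_sing := fun i => P.sing_smul (W.e_sing i) _
  V0e := W.V0f
  V0f := fun w hw i => by rw [H.smul_right, W.V0e w hw i, mul_zero]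
  aniso := W.aniso
  span := fun v => by
    obtain ⟨a, b, w, hw, hv⟩ := W.span v
    refine ⟨b, fun i => a i * H.ε⁻¹, w, hw, ?_⟩
    rw [hv]
    have : ∀ i, (a i * H.ε⁻¹) • H.ε • W.e i = a i • W.e i := by
      intro i
      rw [smul_smul, mul_assoc, inv_mul_cancel₀ H.ε_ne, mul_one]
    simp only [this]
    abel

/-- The root elements attached to the frame are in `K`. -/
structure Contains (K : Subgroup (V ≃ₗ[F] V)) : Prop where
  ef : ∀ i j, i ≠ j → Rt H K (W.e i) (W.f j)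
  ee : ∀ i j, i ≠ j → Rt H K (W.e i) (W.e j)
  ff : ∀ i j, i ≠ j → Rt H K (W.f i) (W.f j)
  ze : ∀ i, Zt P K W.V0 (W.e i)
  zf : ∀ i, Zt P K W.V0 (W.f i)

theorem Rt.congr_smul {K : Subgroup (V ≃ₗ[F] V)} {x y : V} (h : Rt H K x y) (a : F) :
    Rt H K x (a • y) := by
  intro s hx hy
  have := h (s * a) hx (by rw [mul_smul]; exact hy)
  rwa [H.sie_congr _ _ hx hy rfl (mul_smul s a y) rfl] at this

theorem Rt.smul_congr {K : Subgroup (V ≃ₗ[F] V)} {x y : V} (hx0 : H.h x x = 0)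
    (hxy : H.h x y = 0) (h : Rt H K x y) (a : F) : Rt H K (a • x) y := by
  intro s hx hy
  have h1 : H.h x (s • y) = 0 := by rw [H.smul_right, hxy, mul_zero]
  have h2 : H.h x ((H.σ a * s) • y) = 0 := by rw [H.smul_right, hxy, mul_zero]
  have := h (H.σ a * s) hx0 h2
  rw [H.sie_smul x (s • y) 0 a hx0 h1]
  rwa [H.sie_congr hx0 h2 hx0 (w' := H.σ a • s • y) (by rw [H.smul_right, h1, mul_zero]) rfl
    (smul_smul _ _ _).symm (c' := a * H.σ a * 0) (mul_zero _).symm] at this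

theorem Zt.smul_congr {K : Subgroup (V ≃ₗ[F] V)} {x : V} {A : Submodule F V}
    (hx0 : H.h x x = 0) (hxA : ∀ w ∈ A, H.h x w = 0) (h : Zt P K A x) (a : F) :
    Zt P K A (a • x) := by
  intro w c hx hw hwA hok
  have h1 : H.h x w = 0 := hxA w hwA
  rw [H.sie_smul x w c a hx0 h1]
  have := P.smul (H.σ a) hok
  rw [H.σσ] at this
  exact h _ _ _ _ (A.smul_mem _ hwA) (P.congr this rfl (by ring))

theorem Contains.symm {K : Subgroup (V ≃ₗ[F] V)} (h : W.Contains K) : W.symm.Contains K where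
  ef := fun i j hij => Rt.congr_smul ((h.ef j i hij.symm).symm (P.iso (W.e_sing j))
    (P.iso (W.f_sing i)) (by rw [W.ef, if_neg hij.symm])) H.ε
  ee := h.ff
  ff := fun i j hij => by
    have h1 := h.ee i j hij
    exact Rt.smul_congr (P.iso (W.e_sing i)) (by rw [H.smul_right, W.ee, mul_zero])
      (Rt.congr_smul h1 H.ε) H.ε
  ze := h.zf
  zf := fun i => Zt.smul_congr (P.iso (W.e_sing i)) (fun w hw => W.eV0 i hw) (h.ze i) H.ε

/-- Claim B: all `S(e i, w, c)` are in `K`. -/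
theorem Contains.zt_top {K : Subgroup (V ≃ₗ[F] V)} (h : W.Contains K) (i : Fin n) :
    Zt P K Set.univ (W.e i) := by
  classical
  intro v c hu hv _ hok
  have hi := W.e_sing i
  have h0 : Zt P K {0} (W.e i) := by
    intro w c hu hw hwA hok
    rw [Set.mem_singleton_iff] at hwA
    exact h.ze i w c hu hw (hwA ▸ W.V0.zero_mem) hok
  obtain ⟨a, b, w, hw, hvv⟩ := W.span v
  have hbi : b i = 0 := by
    have h1 : H.h v (W.e i) = 0 := H.orth_symm hv
    rw [hvv, H.add_left, W.V0e w hw i, add_zero, H.add_left] at h1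
    have hs : ∀ (g : Fin n → F) (x : Fin n → V) (y : V) (s : Finset (Fin n)),
        H.h (∑ j ∈ s, g j • x j) y = ∑ j ∈ s, g j * H.h (x j) y := by
      intro g x y s
      induction s using Finset.induction_on with
      | empty => simp [H.zero_left]
      | insert j s hj ih => rw [Finset.sum_insert hj, Finset.sum_insert hj, H.add_left,
          H.smul_left, ih]
    rw [hs, hs] at h1
    simp only [W.ee, W.fe, mul_zero, Finset.sum_const_zero, zero_add, mul_ite,
      Finset.sum_ite_eq', Finset.mem_univ, if_true] at h1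
    rcases mul_eq_zero.1 h1 with h2 | h2
    · exact h2
    · exact absurd h2 H.ε_ne
  -- the set of good vectors
  have key : ∀ (s : Finset (Fin n)), (∀ j ∈ s, j ≠ i) →
      Zt P K {∑ j ∈ s, a j • W.e j + ∑ j ∈ s, b j • W.f j} (W.e i) ∧
      H.h (W.e i) (∑ j ∈ s, a j • W.e j + ∑ j ∈ s, b j • W.f j) = 0 := by
    intro s
    induction s using Finset.induction_on with
    | empty =>
      intro _
      simp only [Finset.sum_empty, add_zero]
      exact ⟨h0, H.zero_right _⟩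
    | insert j s hj ih =>
      intro hs
      obtain ⟨ih1, ih2⟩ := ih fun k hk => hs k (Finset.mem_insert_of_mem hk)
      have hji : j ≠ i := hs j (Finset.mem_insert_self _ _)
      have e1 : H.h (W.e i) (a j • W.e j) = 0 := by rw [H.smul_right, W.ee, mul_zero]
      have e2 : H.h (W.e i) (b j • W.f j) = 0 := by
        rw [H.smul_right, W.ef, if_neg hji.symm, mul_zero]
      have z1 : Zt P K {a j • W.e j} (W.e i) := Zt.of_rt P hi (W.e_sing j) (W.ee i j) h0
        (h.ee i j hji.symm) (a j)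
      have z2 : Zt P K {b j • W.f j} (W.e i) := Zt.of_rt P hi (W.f_sing j)
        (by rw [W.ef, if_neg hji.symm]) h0 (h.ef i j hji.symm) (b j)
      have e3 : ∑ k ∈ insert j s, a k • W.e k + ∑ k ∈ insert j s, b k • W.f k =
          (a j • W.e j + b j • W.f j) + (∑ k ∈ s, a k • W.e k + ∑ k ∈ s, b k • W.f k) := by
        rw [Finset.sum_insert hj, Finset.sum_insert hj]; abel
      rw [e3]
      have e4 : H.h (W.e i) (a j • W.e j + b j • W.f j) = 0 := by rw [H.add_right, e1, e2, add_zero]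
      exact ⟨Zt.add P hi h0 (Zt.add P hi h0 z1 z2 e1 e2) ih1 e4 ih2,
        by rw [H.add_right, e4, ih2, add_zero]⟩
  obtain ⟨k1, k2⟩ := key (Finset.univ.erase i) fun j hj => Finset.ne_of_mem_erase hj
  have e5 : v = (a i • W.e i + (∑ j ∈ Finset.univ.erase i, a j • W.e j +
      ∑ j ∈ Finset.univ.erase i, b j • W.f j)) + w := by
    rw [hvv, ← Finset.add_sum_erase _ _ (Finset.mem_univ i),
      ← Finset.add_sum_erase (Finset.univ) (fun j => b j • W.f j) (Finset.mem_univ i), hbi]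
    simp only [zero_smul, zero_add]
    abel
  have z3 : Zt P K {a i • W.e i} (W.e i) := Zt.self P hi h0 (a i)
  have e6 : H.h (W.e i) (a i • W.e i) = 0 := by rw [H.smul_right, W.ee, mul_zero]
  have z4 : Zt P K {w} (W.e i) := by
    intro x d hu' hx hxw hok'
    exact h.ze i x d hu' hx (by rw [Set.mem_singleton_iff] at hxw; rw [hxw]; exact hw) hok'
  have z5 := Zt.add P hi h0 (Zt.add P hi h0 z3 k1 e6 k2) z4
    (by rw [H.add_right, e6, k2, add_zero]) (W.eV0 i hw)
  rw [← e5] at z5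
  exact z5 v c hu hv rfl hok

theorem Contains.zt_top' {K : Subgroup (V ≃ₗ[F] V)} (h : W.Contains K) (i : Fin n) :
    Zt P K Set.univ (W.f i) := Contains.zt_top W.symm (h.symm W) i

/-- A Siegel element `S(e i, w, c)` maps `β f i` to any singular `u` with `h u (e i) = β ε`. -/
theorem exists_map {p r u : V} (hp : P.ok p 0) (hr : P.ok r 0) (hu : P.ok u 0)
    (hpu : H.h u p ≠ 0) (hrp : H.h r p = H.h u p) (hpp : H.h p p = 0) :
    ∃ (w : V) (c : F) (hw : H.h p w = 0), P.ok w c ∧ H.sie p w c hpp hw r = u := by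
  set δ := H.h u p with hδ
  have hrr := P.iso hr
  have h1 : P.ok (u + -r) (0 + 0 - H.ε⁻¹ * H.h (-r) u) := P.add hu (P.neg hr)
  have h2 := P.smul δ⁻¹ h1
  have hp' : H.h (u + -r) p = 0 := by rw [H.add_left, H.neg_left, hrp, add_neg_cancel]
  refine ⟨δ⁻¹ • (u + -r), _, ?_, h2, ?_⟩
  · rw [H.smul_right, H.orth_symm hp', mul_zero]
  · rw [H.sie_apply, hrp, H.smul_right, H.add_right, H.neg_right, hrr, H.neg_left]
    have e1 : δ * δ⁻¹ = 1 := mul_inv_cancel₀ hpu
    have e2 : (δ⁻¹ * H.σ δ⁻¹ * (0 + 0 - H.ε⁻¹ * -H.h r u) * δ) =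
        H.ε⁻¹ * (H.σ δ⁻¹ * (H.h r u + -0)) := by
      have : δ⁻¹ * H.σ δ⁻¹ * (0 + 0 - H.ε⁻¹ * -H.h r u) * δ =
        (δ * δ⁻¹) * (H.σ δ⁻¹ * (H.ε⁻¹ * H.h r u)) := by ring
      rw [this, e1]; ring
    rw [e2, smul_smul, e1, one_smul]
    abel

theorem sum_sing (a : Fin n → F) (s : Finset (Fin n)) :
    P.ok (∑ j ∈ s, a j • W.e j) 0 ∧ ∀ k, H.h (∑ j ∈ s, a j • W.e j) (W.e k) = 0 := by
  classical
  induction s using Finset.induction_on with
  | empty => simp only [Finset.sum_empty]; exact ⟨P.zero, fun k => H.zero_left _⟩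
  | insert j s hj ih =>
    rw [Finset.sum_insert hj]
    refine ⟨P.sing_add (P.sing_smul (W.e_sing j) _) ih.1 ?_, fun k => ?_⟩
    · rw [H.smul_right, ih.2, mul_zero]
    · rw [H.add_left, H.smul_left, W.ee, mul_zero, zero_add, ih.2]

/-- Claim C and the main generation theorem. -/
theorem Contains.all {K : Subgroup (V ≃ₗ[F] V)} (h : W.Contains K) {u w : V} {c : F}
    (hu : P.ok u 0) (huu : H.h u u = 0) (huw : H.h u w = 0) (hok : P.ok w c) :
    H.sie u w c huu huw ∈ K := by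
  classical
  by_cases hu0 : u = 0
  · have : H.sie u w c huu huw = 1 := by
      ext v
      rw [H.sie_apply, hu0, H.zero_right]; simp
    rw [this]; exact K.one_mem
  -- reduction to a frame vector
  have red : ∀ (p r : V), Zt P K Set.univ p → Zt P K Set.univ r → P.ok p 0 → P.ok r 0 →
      H.h u p ≠ 0 → H.h r p ≠ 0 → H.sie u w c huu huw ∈ K := by
    intro p r hp hr hps hrs hup hrp
    have hpp := P.iso hps
    have hrr := P.iso hrs
    set β := H.h u p / H.h r p with hβ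
    have hβ0 : β ≠ 0 := div_ne_zero hup hrp
    obtain ⟨x, d, hx, hxd, hmap⟩ := exists_map (P := P) (p := p) (r := β • r) (u := u) hps
      (P.sing_smul hrs β) hu hup (by rw [H.smul_left, hβ, div_mul_cancel₀ _ hrp]) hpp
    have hgK : H.sie p x d hpp hx ∈ K := hp x d hpp hx (Set.mem_univ _) hxd
    have hgi : H.IsIso (H.sie p x d hpp hx) := P.isIso_sie hpp hx hxd
    -- g (β r) = u
    set g := H.sie p x d hpp hx with hg
    have hginv : g⁻¹ u = β • r := by
      rw [← hmap]; exact g.symm_apply_apply _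
    have hgi' : H.IsIso g⁻¹ := HForm.IsIso.inv H hgi
    have hokg : P.ok (g⁻¹ w) c := by
      rw [hg, H.sie_inv]
      exact P.ok_sie _ _ hps (P.inv hxd) hok
    have h1 : H.h (β • r) (g⁻¹ w) = 0 := by rw [← hginv, hgi', huw]
    have hrw : H.h r (g⁻¹ w) = 0 := by
      rw [H.smul_left] at h1
      exact (mul_eq_zero.1 h1).resolve_left hβ0
    have h2 : H.h (β • r) (β • r) = 0 := by rw [H.smul_left, H.smul_right, hrr]; simp
    have h3 : H.sie (β • r) (g⁻¹ w) c h2 h1 ∈ K := by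
      rw [H.sie_smul r (g⁻¹ w) c β hrr hrw]
      refine hr _ _ _ _ (Set.mem_univ _) ?_
      have := P.smul (H.σ β) hokg
      rw [H.σσ] at this
      exact P.congr this rfl (by ring)
    have h4 := K.mul_mem (K.mul_mem hgK h3) (K.inv_mem hgK)
    rw [H.conj_sie hgi] at h4
    have e7 : g (g⁻¹ w) = w := g.apply_symm_apply w
    rwa [H.sie_congr _ _ huu huw hmap e7 rfl] at h4
  by_cases hb : ∃ i, H.h u (W.e i) ≠ 0
  · obtain ⟨i, hi⟩ := hb
    exact red (W.e i) (W.f i) (h.zt_top W i) (h.zt_top' W i) (W.e_sing i) (W.f_sing i) hi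
      (by rw [W.fe, if_pos rfl]; exact H.ε_ne)
  push Not at hb
  by_cases ha : ∃ i, H.h u (W.f i) ≠ 0
  · obtain ⟨i, hi⟩ := ha
    exact red (W.f i) (W.e i) (h.zt_top' W i) (h.zt_top W i) (W.f_sing i) (W.e_sing i) hi
      (by rw [W.ef, if_pos rfl]; exact one_ne_zero)
  push Not at ha
  exfalso
  apply hu0
  obtain ⟨a, b, w0, hw0, hvv⟩ := W.span u
  have hs : ∀ (g : Fin n → F) (x : Fin n → V) (y : V) (s : Finset (Fin n)),
      H.h (∑ j ∈ s, g j • x j) y = ∑ j ∈ s, g j * H.h (x j) y := by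
    intro g x y s
    induction s using Finset.induction_on with
    | empty => simp [H.zero_left]
    | insert j s hj ih => rw [Finset.sum_insert hj, Finset.sum_insert hj, H.add_left,
        H.smul_left, ih]
  have hb0 : ∀ i, b i = 0 := by
    intro i
    have h1 := hb i
    rw [hvv, H.add_left, W.V0e w0 hw0 i, add_zero, H.add_left, hs, hs] at h1
    simp only [W.ee, W.fe, mul_zero, Finset.sum_const_zero, zero_add, mul_ite,
      Finset.sum_ite_eq', Finset.mem_univ, if_true] at h1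
    exact (mul_eq_zero.1 h1).resolve_right H.ε_ne
  have ha0 : ∀ i, a i = 0 := by
    intro i
    have h1 := ha i
    rw [hvv, H.add_left, W.V0f w0 hw0 i, add_zero, H.add_left, hs, hs] at h1
    simpa only [W.ff, W.ef, mul_zero, Finset.sum_const_zero, add_zero, mul_ite, mul_one,
      Finset.sum_ite_eq', Finset.mem_univ, if_true] using h1
  simp only [hb0, ha0, zero_smul, Finset.sum_const_zero, zero_add] at hvv
  rw [hvv] at hu ⊢
  exact W.aniso w0 hw0 hu

end WFrame


/-! ### From the simple root elements to all root elements -/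

theorem Rt.symm' {x y : V} (hx : P.ok x 0) (hy : P.ok y 0) (hxy : H.h x y = 0)
    (h : Rt H K x y) : Rt H K y x := Rt.symm (P.iso hx) (P.iso hy) hxy h

namespace WFrame

variable {P} {n : ℕ} (W : WFrame P n)

theorem ef_ne {i j : Fin n} (h : i ≠ j) : H.h (W.e i) (W.f j) = 0 := by rw [W.ef, if_neg h]
theorem fe_ne {i j : Fin n} (h : i ≠ j) : H.h (W.f i) (W.e j) = 0 := by rw [W.fe, if_neg h]
theorem ef_self (i : Fin n) : H.h (W.e i) (W.f i) ≠ 0 := by
  rw [W.ef, if_pos rfl]; exact one_ne_zero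
theorem fe_self (i : Fin n) : H.h (W.f i) (W.e i) ≠ 0 := by
  rw [W.fe, if_pos rfl]; exact H.ε_ne

/-- the short (`GL_n`) root elements from the simple ones -/
theorem rt_ef {K : Subgroup (V ≃ₗ[F] V)}
    (h1 : ∀ i j : Fin n, i.val + 1 = j.val → Rt H K (W.e i) (W.f j) ∧ Rt H K (W.e j) (W.f i)) :
    ∀ i j : Fin n, i ≠ j → Rt H K (W.e i) (W.f j) := by
  have key : ∀ k : ℕ, ∀ i j : Fin n, i.val + k + 1 = j.val →
      Rt H K (W.e i) (W.f j) ∧ Rt H K (W.e j) (W.f i) := by
    intro k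
    induction k with
    | zero => intro i j hij; exact h1 i j hij
    | succ k ih =>
      intro i j hij
      let m : Fin n := ⟨i.val + k + 1, by omega⟩
      have him : i ≠ m := fun h => by have := congrArg Fin.val h; simp only [m] at this; omega
      have hmj : m ≠ j := fun h => by have := congrArg Fin.val h; simp only [m] at this; omega
      have hij' : i ≠ j := fun h => by have := congrArg Fin.val h; omega
      obtain ⟨a1, a2⟩ := ih i m rfl
      obtain ⟨b1, b2⟩ := h1 m j (by simp only [m]; omega)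
      constructor
      · exact Rt.trans P (W.e_sing i) (W.e_sing m) (W.f_sing m) (W.f_sing j) (W.ef_self m)
          (W.ee i m) (W.ef_ne him) (W.ef_ne hij') (W.fe_ne hmj.symm) (W.ff j m) a1 b1
      · exact Rt.trans P (W.e_sing j) (W.e_sing m) (W.f_sing m) (W.f_sing i) (W.ef_self m)
          (W.ee j m) (W.ef_ne hmj.symm) (W.ef_ne hij'.symm) (W.fe_ne him) (W.ff i m) b2 a2
  intro i j hij
  rcases lt_or_gt_of_ne (fun h => hij (Fin.ext h) : i.val ≠ j.val) with h | h
  · exact (key (j.val - i.val - 1) i j (by omega)).1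
  · exact (key (i.val - j.val - 1) j i (by omega)).2

theorem rt_fe {K : Subgroup (V ≃ₗ[F] V)} (h : ∀ i j : Fin n, i ≠ j → Rt H K (W.e i) (W.f j)) :
    ∀ i j : Fin n, i ≠ j → Rt H K (W.f i) (W.e j) := fun i j hij =>
  Rt.symm' P (W.e_sing j) (W.f_sing i) (W.ef_ne hij.symm) (h j i hij.symm)

/-- Type `C_n`: the simple root elements generate. -/
theorem contains_of_simple_C {K : Subgroup (V ≃ₗ[F] V)} (l : Fin n)
    (h1 : ∀ i j : Fin n, i.val + 1 = j.val → Rt H K (W.e i) (W.f j) ∧ Rt H K (W.e j) (W.f i))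
    (h2 : Zt P K W.V0 (W.e l)) (h3 : Zt P K W.V0 (W.f l))
    (h4 : ∃ (w : V) (c : F), w ∈ W.V0 ∧ P.ok w c ∧ c ≠ 0) : W.Contains K := by
  have hef := W.rt_ef h1
  have hfe := W.rt_fe hef
  have hze : ∀ i, Zt P K W.V0 (W.e i) := by
    intro i
    by_cases hi : i = l
    · rw [hi]; exact h2
    refine Zt.move P (W.e_sing i) (W.e_sing l) (W.f_sing l) (W.f_sing i) (W.ef_self l)
      (W.ef_self i) (W.ee i l) (W.ef_ne hi) (W.ef_ne (Ne.symm hi)) (hef i l hi)
      (hef l i (Ne.symm hi)) ?_ h2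
    intro v hv
    exact ⟨W.V0e v hv i, W.V0f v hv l, W.V0e v hv l, W.V0f v hv i⟩
  have hzf : ∀ i, Zt P K W.V0 (W.f i) := by
    intro i
    by_cases hi : i = l
    · rw [hi]; exact h3
    refine Zt.move P (W.f_sing i) (W.f_sing l) (W.e_sing l) (W.e_sing i) (W.fe_self l)
      (W.fe_self i) (W.ff i l) (W.fe_ne hi) (W.fe_ne (Ne.symm hi)) (hfe i l hi)
      (hfe l i (Ne.symm hi)) ?_ h3
    intro v hv
    exact ⟨W.V0f v hv i, W.V0e v hv l, W.V0f v hv l, W.V0e v hv i⟩
  obtain ⟨w, c, hw, hwc, hc⟩ := h4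
  exact
    { ef := hef
      ee := fun i j hij => Rt.of_zt P (W.e_sing i) (W.e_sing j) (W.f_sing j) (W.ef_self j)
        (W.ee i j) (W.ef_ne hij) (hef i j hij) (hze j) (hze i)
        (fun x v hv => W.V0.smul_mem x hv) hw hwc hc (W.V0e w hw i) (W.V0f w hw j)
        (W.V0e w hw j)
      ff := fun i j hij => Rt.of_zt P (W.f_sing i) (W.f_sing j) (W.e_sing j) (W.fe_self j)
        (W.ff i j) (W.fe_ne hij) (hfe i j hij) (hzf j) (hzf i)
        (fun x v hv => W.V0.smul_mem x hv) hw hwc hc (W.V0f w hw i) (W.V0e w hw j)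
        (W.V0f w hw j)
      ze := hze
      zf := hzf }

theorem rt_ee_aux {K : Subgroup (V ≃ₗ[F] V)} (k l : Fin n) (hkl : k ≠ l)
    (hef : ∀ i j : Fin n, i ≠ j → Rt H K (W.e i) (W.f j))
    (h2 : Rt H K (W.e k) (W.e l)) : ∀ i j : Fin n, i ≠ j → Rt H K (W.e i) (W.e j) := by
  have hfe := W.rt_fe hef
  have hl : ∀ i, i ≠ l → Rt H K (W.e i) (W.e l) := by
    intro i hi
    by_cases hik : i = k
    · rw [hik]; exact h2
    exact Rt.trans P (W.e_sing i) (W.e_sing k) (W.f_sing k) (W.e_sing l) (W.ef_self k)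
      (W.ee i k) (W.ef_ne hik) (W.ee i l) (W.ee l k) (W.ef_ne hkl.symm) (hef i k hik) h2
  intro i j hij
  by_cases hj : j = l
  · subst hj; exact hl i hij
  by_cases hi : i = l
  · subst hi
    exact Rt.symm' P (W.e_sing j) (W.e_sing i) (W.ee j i) (hl j hj)
  exact Rt.trans P (W.e_sing i) (W.f_sing l) (W.e_sing l) (W.e_sing j) (W.fe_self l)
    (W.ef_ne hi) (W.ee i l) (W.ee i j) (W.ef_ne hj) (W.ee j l) (hl i hi)
    (hfe l j (Ne.symm hj))

theorem rt_ff_aux {K : Subgroup (V ≃ₗ[F] V)} (k l : Fin n) (hkl : k ≠ l)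
    (hef : ∀ i j : Fin n, i ≠ j → Rt H K (W.e i) (W.f j))
    (h2 : Rt H K (W.f k) (W.f l)) : ∀ i j : Fin n, i ≠ j → Rt H K (W.f i) (W.f j) := by
  have hfe := W.rt_fe hef
  have hl : ∀ i, i ≠ l → Rt H K (W.f i) (W.f l) := by
    intro i hi
    by_cases hik : i = k
    · rw [hik]; exact h2
    exact Rt.trans P (W.f_sing i) (W.f_sing k) (W.e_sing k) (W.f_sing l) (W.fe_self k)
      (W.ff i k) (W.fe_ne hik) (W.ff i l) (W.ff l k) (W.fe_ne hkl.symm) (hfe i k hik) h2
  intro i j hij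
  by_cases hj : j = l
  · subst hj; exact hl i hij
  by_cases hi : i = l
  · subst hi
    exact Rt.symm' P (W.f_sing j) (W.f_sing i) (W.ff j i) (hl j hj)
  exact Rt.trans P (W.f_sing i) (W.e_sing l) (W.f_sing l) (W.f_sing j) (W.ef_self l)
    (W.fe_ne hi) (W.ff i l) (W.ff i j) (W.fe_ne hj) (W.ff j l) (hl i hi)
    (hef l j (Ne.symm hj))

/-- Type `D_n`: the simple root elements generate. -/
theorem contains_of_simple_D {K : Subgroup (V ≃ₗ[F] V)} (k l : Fin n) (hkl : k ≠ l)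
    (h1 : ∀ i j : Fin n, i.val + 1 = j.val → Rt H K (W.e i) (W.f j) ∧ Rt H K (W.e j) (W.f i))
    (h2 : Rt H K (W.e k) (W.e l)) (h3 : Rt H K (W.f k) (W.f l))
    (h4 : ∀ (w : V) (c : F), w ∈ W.V0 → P.ok w c → w = 0 ∧ c = 0) : W.Contains K := by
  have hef := W.rt_ef h1
  have hz : ∀ x, Zt P K W.V0 x := by
    intro x w c hx hxw hw hwc
    obtain ⟨rfl, rfl⟩ := h4 w c hw hwc
    rw [H.sie_zero]
    exact K.one_mem
  exact
    { ef := hef
      ee := W.rt_ee_aux k l hkl hef h2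
      ff := W.rt_ff_aux k l hkl hef h3
      ze := fun i => hz _
      zf := fun i => hz _ }

end WFrame

end Cfsg.Agent.TitsThree.SiegelGen
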