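import Cfsg.Agent.ClassicalGeometry.SympBasic
import Cfsg.Agent.TitsThree.WittFrame
import Cfsg.Agent.S0765
import Cfsg.Agent.S0270
set_option linter.all false
/-!
Identification of `PSp_{2m}(F)` for the K side of S1143: the `HForm` of `sympForm`, the group of its
isometries in `V ≃ₗ[F] V`, its homomorphism onto `PSp m F`, the kernel, generation by Siegel elements.
-/

set_option autoImplicit false

namespace Cfsg.Agent.TitsThree.SpIdent

open Cfsg Cfsg.Agent.ClassicalGeometry.SympBasic Cfsg.Agent.TitsThree.Siegel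
open scoped Matrix

variable {m : ℕ} {F : Type*} [Field F]

/-- The symplectic form as an `HForm`. -/
def form (m : ℕ) (F : Type*) [Field F] : HForm F (Fin m ⊕ Fin m → F) where
  σ := RingEquiv.refl F
  σσ _ := rfl
  ε := -1
  ε_mul := by simp
  h := sympForm m F
  add_left := sympForm_add_left
  smul_left := sympForm_smul_left
  swap v w := by
    rw [sympForm_swap, RingEquiv.refl_apply, neg_one_mul]

@[simp] theorem form_h (v w : Fin m ⊕ Fin m → F) : (form m F).h v w = sympForm m F v w := rfl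
@[simp] theorem form_σ (x : F) : (form m F).σ x = x := rfl
@[simp] theorem form_ε : (form m F).ε = -1 := rfl

/-- The first half of the frame. -/
def e (m : ℕ) (F : Type*) [Field F] (i : Fin m) : Fin m ⊕ Fin m → F := Pi.single (Sum.inr i) 1

/-- The second half of the frame. -/
def f (m : ℕ) (F : Type*) [Field F] (i : Fin m) : Fin m ⊕ Fin m → F := Pi.single (Sum.inl i) 1

theorem ee (i j : Fin m) : sympForm m F (e m F i) (e m F j) = 0 := by
  rw [e, sympForm_single_inr_left, e, Pi.single_eq_of_ne (by simp)]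

theorem ff (i j : Fin m) : sympForm m F (f m F i) (f m F j) = 0 := by
  rw [f, sympForm_single_inl_left, f, Pi.single_eq_of_ne (by simp), neg_zero]

theorem ef (i j : Fin m) : sympForm m F (e m F i) (f m F j) = if i = j then 1 else 0 := by
  rw [e, sympForm_single_inr_left, f]
  by_cases h : i = j
  · subst h; simp
  · rw [if_neg h, Pi.single_eq_of_ne (by simpa using h)]

theorem fe (i j : Fin m) : sympForm m F (f m F i) (e m F j) = if i = j then -1 else 0 := by
  rw [sympForm_swap, ef]
  by_cases h : i = j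
  · subst h; simp
  · rw [if_neg h, if_neg (Ne.symm h), neg_zero]

theorem span_ef : Submodule.span F (Set.range (e m F) ∪ Set.range (f m F)) = ⊤ := by
  rw [eq_top_iff]
  intro v _
  have hv : v = ∑ j, v j • (Pi.single j 1 : Fin m ⊕ Fin m → F) := by
    rw [← Finset.sum_congr rfl (fun j _ => (Pi.single_smul' j (v j) (1 : F)))]
    simp [Finset.univ_sum_single]
  rw [hv]
  refine Submodule.sum_mem _ fun j _ => Submodule.smul_mem _ _ (Submodule.subset_span ?_)
  rcases j with i | i
  · exact Or.inr ⟨i, rfl⟩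
  · exact Or.inl ⟨i, rfl⟩

/-- The Witt frame of the symplectic space (`V0 = 0`, all `(0, c)` admissible). -/
def frame (m : ℕ) (F : Type*) [Field F] : WittFrame.Frame (form m F) (Fin m) where
  b x := if x.2 then e m F x.1 else f m F x.1
  hb := by
    rintro ⟨i, x⟩ ⟨j, y⟩
    cases x <;> cases y
    · simp [ff]
    · simp [fe]
    · simp [ef]
    · simp [ee]
  V0 := ⊥
  h0 x w hw := by
    rw [(Submodule.mem_bot F).1 hw]
    exact sympForm_zero_right _
  ok w _ := w = 0
  ok_mem h := (Submodule.mem_bot F).2 h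
  ok_herm {w c} h := by
    subst h
    simp
  ok_zero := rfl
  ok_mul h h' := by rw [h, h', add_zero]
  ok_inv h := by rw [h, _root_.neg_zero]
  ok_smul a w c h := by rw [h, smul_zero]
  ok_tr _ := rfl

@[simp] theorem frame_b_true (i : Fin m) : (frame m F).b (i, true) = e m F i := rfl
@[simp] theorem frame_b_false (i : Fin m) : (frame m F).b (i, false) = f m F i := rfl

theorem frame_ok (w : Fin m ⊕ Fin m → F) (c : F) : (frame m F).ok w c ↔ w = 0 := Iff.rfl

/-- The admissible pair `(0, c)`. -/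
def adm (c : F) : (frame m F).Adm := ⟨0, c, rfl⟩

theorem adm_add (c d : F) : (adm (c + d) : (frame m F).Adm) = adm c * adm d := by
  ext
  · simp [adm]
  · simp [adm]

theorem eq_adm (p : (frame m F).Adm) : p = adm p.c := by
  ext
  · rw [show p.w = 0 from p.ok]; rfl
  · rfl

theorem Z_adm (x : Fin m × Bool) (c : F) :
    (frame m F).Z x (adm c) = (form m F).sie ((frame m F).b x) 0 c (sympForm_self _)
      (sympForm_zero_right _) := rfl

/-- The matrix of a linear automorphism. -/
noncomputable def mat (g : (Fin m ⊕ Fin m → F) ≃ₗ[F] (Fin m ⊕ Fin m → F)) :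
    Matrix (Fin m ⊕ Fin m) (Fin m ⊕ Fin m) F :=
  LinearMap.toMatrix' (g : (Fin m ⊕ Fin m → F) →ₗ[F] (Fin m ⊕ Fin m → F))

theorem mat_mulVec (g : (Fin m ⊕ Fin m → F) ≃ₗ[F] (Fin m ⊕ Fin m → F)) (v : Fin m ⊕ Fin m → F) :
    mat g *ᵥ v = g v := by
  rw [← Matrix.toLin'_apply, mat, Matrix.toLin'_toMatrix']
  rfl

theorem mat_mul (g g' : (Fin m ⊕ Fin m → F) ≃ₗ[F] (Fin m ⊕ Fin m → F)) :
    mat (g * g') = mat g * mat g' := by
  rw [← Matrix.mulVec_injective.eq_iff]
  funext v
  rw [← Matrix.mulVec_mulVec, mat_mulVec, mat_mulVec, mat_mulVec]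
  rfl

theorem mat_one : mat (1 : (Fin m ⊕ Fin m → F) ≃ₗ[F] (Fin m ⊕ Fin m → F)) = 1 := by
  rw [← Matrix.mulVec_injective.eq_iff]
  funext v
  rw [mat_mulVec, Matrix.one_mulVec]
  rfl

/-- The isometry group of an `HForm`. -/
def isos {F V : Type*} [Field F] [AddCommGroup V] [Module F V] (H : HForm F V) :
    Subgroup (V ≃ₗ[F] V) where
  carrier := {g | H.IsIso g}
  mul_mem' hg hg' := HForm.IsIso.mul H hg hg'
  one_mem' _ _ := rfl
  inv_mem' hg := HForm.IsIso.inv H hg

theorem mem_isos {F V : Type*} [Field F] [AddCommGroup V] [Module F V] {H : HForm F V}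
    {g : V ≃ₗ[F] V} : g ∈ isos H ↔ H.IsIso g := Iff.rfl

/-- The isometries as elements of the symplectic group. -/
noncomputable def toSp : isos (form m F) →* Matrix.symplecticGroup (Fin m) F where
  toFun g := ⟨mat g.1, mem_symplecticGroup_iff.2 fun u v => by
    rw [mat_mulVec, mat_mulVec]; exact g.2 u v⟩
  map_one' := Subtype.ext mat_one
  map_mul' g g' := Subtype.ext (mat_mul g.1 g'.1)

@[simp] theorem coe_toSp (g : isos (form m F)) :
    ((toSp g : Matrix.symplecticGroup (Fin m) F) : Matrix _ _ F) = mat g.1 := rfl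

theorem toSp_mulVec (g : isos (form m F)) (v : Fin m ⊕ Fin m → F) :
    ((toSp g : Matrix.symplecticGroup (Fin m) F) : Matrix _ _ F) *ᵥ v = g.1 v :=
  mat_mulVec g.1 v

theorem toSp_injective : Function.Injective (toSp (m := m) (F := F)) := by
  intro g g' h
  apply Subtype.ext
  ext1 v
  rw [← mat_mulVec, ← mat_mulVec]
  exact congrArg (fun A : Matrix.symplecticGroup (Fin m) F =>
    (A : Matrix (Fin m ⊕ Fin m) (Fin m ⊕ Fin m) F) *ᵥ v) h

/-- A symplectic matrix as a linear automorphism. -/
def ofSp (A : Matrix.symplecticGroup (Fin m) F) :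
    (Fin m ⊕ Fin m → F) ≃ₗ[F] (Fin m ⊕ Fin m → F) where
  toFun v := (A : Matrix (Fin m ⊕ Fin m) (Fin m ⊕ Fin m) F) *ᵥ v
  map_add' := Matrix.mulVec_add (A : Matrix (Fin m ⊕ Fin m) (Fin m ⊕ Fin m) F)
  map_smul' c v := Matrix.mulVec_smul (A : Matrix (Fin m ⊕ Fin m) (Fin m ⊕ Fin m) F) c v
  invFun v := ((A⁻¹ : Matrix.symplecticGroup (Fin m) F) : Matrix _ _ F) *ᵥ v
  left_inv v := by
    change ((A⁻¹ : Matrix.symplecticGroup (Fin m) F) : Matrix _ _ F) *ᵥ
      ((A : Matrix (Fin m ⊕ Fin m) (Fin m ⊕ Fin m) F) *ᵥ v) = v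
    rw [← coe_mul_mulVec, inv_mul_cancel, Submonoid.coe_one, Matrix.one_mulVec]
  right_inv v := by
    change (A : Matrix (Fin m ⊕ Fin m) (Fin m ⊕ Fin m) F) *ᵥ
      (((A⁻¹ : Matrix.symplecticGroup (Fin m) F) : Matrix _ _ F) *ᵥ v) = v
    rw [← coe_mul_mulVec, mul_inv_cancel, Submonoid.coe_one, Matrix.one_mulVec]

theorem ofSp_apply (A : Matrix.symplecticGroup (Fin m) F) (v : Fin m ⊕ Fin m → F) :
    ofSp A v = (A : Matrix _ _ F) *ᵥ v := rfl

theorem ofSp_mem (A : Matrix.symplecticGroup (Fin m) F) : ofSp A ∈ isos (form m F) := by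
  intro v w
  exact sympForm_mulVec A.2 v w

theorem toSp_ofSp (A : Matrix.symplecticGroup (Fin m) F) : toSp ⟨ofSp A, ofSp_mem A⟩ = A := by
  apply Subtype.ext
  rw [← Matrix.mulVec_injective.eq_iff]
  funext v
  rw [toSp_mulVec]
  rfl

theorem toSp_surjective : Function.Surjective (toSp (m := m) (F := F)) := fun A =>
  ⟨⟨ofSp A, ofSp_mem A⟩, toSp_ofSp A⟩

/-- The isometry group maps onto `PSp`. -/
noncomputable def toPSp : isos (form m F) →* PSp m F :=
  (QuotientGroup.mk' (Subgroup.center (Matrix.symplecticGroup (Fin m) F))).comp toSp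

theorem toPSp_surjective : Function.Surjective (toPSp (m := m) (F := F)) :=
  (QuotientGroup.mk'_surjective _).comp toSp_surjective

/-- A Siegel element is an isometry. -/
theorem sie_mem {F V : Type*} [Field F] [AddCommGroup V] [Module F V] {H : HForm F V}
    {u w : V} {c : F} (hu : H.h u u = 0) (hw : H.h u w = 0)
    (hc : H.ε * c + H.σ c = -H.h w w) : H.sie u w c hu hw ∈ isos H :=
  H.isIso_sie hu hw hc

theorem sie_form_mem (u w : Fin m ⊕ Fin m → F) (c : F) (hw : sympForm m F u w = 0) :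
    (form m F).sie u w c (sympForm_self u) hw ∈ isos (form m F) := by
  refine sie_mem _ _ ?_
  simp

/-- The transvection `v ↦ v + c h(v,u) u` as a Siegel element. -/
theorem toSp_sie (u : Fin m ⊕ Fin m → F) (c : F) :
    toSp ⟨(form m F).sie u 0 c (sympForm_self u) (sympForm_zero_right u),
      sie_form_mem u 0 c (sympForm_zero_right u)⟩ = transv u c := by
  apply Subtype.ext
  rw [← Matrix.mulVec_injective.eq_iff]
  funext v
  rw [toSp_mulVec, coe_transv, sympTransvection_mulVec]
  change v + sympForm m F v u • (0 : Fin m ⊕ Fin m → F) - ((-1 : F)⁻¹ * sympForm m F v 0) • u +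
    (c * sympForm m F v u) • u = _
  rw [sympForm_zero_right, smul_zero, mul_zero, zero_smul, add_zero, sub_zero]

/-- The group `Sp` is generated by transvections, so `isos` too. -/
theorem isos_eq_of_sie (K : Subgroup (isos (form m F)))
    (h : ∀ u c, (⟨(form m F).sie u 0 c (sympForm_self u) (sympForm_zero_right u),
      sie_form_mem u 0 c (sympForm_zero_right u)⟩ : isos (form m F)) ∈ K) : K = ⊤ := by
  have h1 : K.map toSp = ⊤ := by
    rw [eq_top_iff, ← Cfsg.Agent.S0765.result (F := F) m, Subgroup.closure_le]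
    rintro A ⟨w, c, hA⟩
    refine ⟨_, h w c, ?_⟩
    rw [toSp_sie]
    exact Subtype.ext hA.symm
  rw [eq_top_iff]
  intro g _
  have h2 : toSp g ∈ K.map toSp := by rw [h1]; exact Subgroup.mem_top _
  obtain ⟨g', hg', h3⟩ := h2
  rw [← toSp_injective h3]
  exact hg'

/-- The subgroup of `PSp` containing the images of all the transvections is everything. -/
theorem eq_top_of_sie (K : Subgroup (PSp m F))
    (h : ∀ u c, toPSp (⟨(form m F).sie u 0 c (sympForm_self u) (sympForm_zero_right u),
      sie_form_mem u 0 c (sympForm_zero_right u)⟩ : isos (form m F)) ∈ K) : K = ⊤ := by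
  have h1 := isos_eq_of_sie (K.comap toPSp) h
  rw [eq_top_iff]
  intro g _
  obtain ⟨g', rfl⟩ := toPSp_surjective g
  have h2 : g' ∈ K.comap toPSp := by rw [h1]; exact Subgroup.mem_top _
  exact h2

/-- The kernel of `toPSp` consists of scalars. -/
theorem exists_smul_of_toPSp_eq_one {g : isos (form m F)} (h : toPSp g = 1) :
    ∃ a : F, a ^ 2 = 1 ∧ ∀ v, g.1 v = a • v := by
  have h1 : toSp g ∈ Subgroup.center (Matrix.symplecticGroup (Fin m) F) :=
    (QuotientGroup.eq_one_iff _).1 h
  -- commutes with all transvections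
  have h2 : ∀ u v : Fin m ⊕ Fin m → F, sympForm m F v u • g.1 u = sympForm m F (g.1 v) u • u := by
    intro u v
    have h3 := Subgroup.mem_center_iff.1 h1 (transv u 1)
    have h4 := congrArg (fun A : Matrix.symplecticGroup (Fin m) F =>
      (A : Matrix (Fin m ⊕ Fin m) (Fin m ⊕ Fin m) F) *ᵥ v) h3
    simp only [coe_mul_mulVec, toSp_mulVec, coe_transv, sympTransvection_mulVec, one_mul, map_add,
      map_smul] at h4
    exact (add_left_cancel h4).symm
  rcases Nat.eq_zero_or_pos m with hm | hm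
  · subst hm
    refine ⟨1, one_pow 2, fun v => ?_⟩
    funext j
    exact (isEmptyElim j)
  -- g u = a(u) u for all u
  have h5 : ∀ i : Fin m, ∀ u : Fin m ⊕ Fin m → F, ∃ a : F, g.1 u = a • u := by
    intro i u
    by_cases hu : u = 0
    · exact ⟨0, by rw [hu]; simp⟩
    obtain ⟨w, hw⟩ : ∃ w, sympForm m F w u ≠ 0 := by
      by_contra hcon
      push Not at hcon
      exact hu (eq_zero_of_forall_sympForm_left hcon)
    refine ⟨(sympForm m F w u)⁻¹ * sympForm m F (g.1 w) u, ?_⟩
    have h6 := congrArg (fun x => (sympForm m F w u)⁻¹ • x) (h2 u w)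
    simp only [smul_smul, inv_mul_cancel₀ hw, one_smul] at h6
    exact h6
  -- the scalar
  let i0 : Fin m := ⟨0, hm⟩
  obtain ⟨a, ha⟩ := h5 i0 (e m F i0)
  have h7 : ∀ u : Fin m ⊕ Fin m → F, sympForm m F (e m F i0) u ≠ 0 → g.1 u = a • u := by
    intro u hu
    have h8 := h2 u (e m F i0)
    rw [ha, sympForm_smul_left] at h8
    have h9 := congrArg (fun x => (sympForm m F (e m F i0) u)⁻¹ • x) h8
    simp only [smul_smul] at h9
    rw [inv_mul_cancel₀ hu, one_smul, mul_comm a, ← mul_assoc, inv_mul_cancel₀ hu, one_mul] at h9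
    exact h9
  have h10 : g.1 (f m F i0) = a • f m F i0 := by
    apply h7
    rw [ef, if_pos rfl]
    exact one_ne_zero
  have h11 : ∀ u : Fin m ⊕ Fin m → F, g.1 u = a • u := by
    intro u
    by_cases hu : sympForm m F (e m F i0) u = 0
    · have h12 := h7 (u + f m F i0) (by
        rw [sympForm_add_right, hu, zero_add, ef, if_pos rfl]; exact one_ne_zero)
      rw [map_add, h10, smul_add] at h12
      exact add_right_cancel h12
    · exact h7 u hu
  refine ⟨a, ?_, h11⟩
  have h13 := g.2 (e m F i0) (f m F i0)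
  rw [form_h, form_h, h11, h11, sympForm_smul_left, sympForm_smul_right, ef, if_pos rfl] at h13
  rw [pow_two]
  linear_combination h13

end Cfsg.Agent.TitsThree.SpIdent
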