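import Mathlib
import Cfsg.Agent.TitsThree.Hua
set_option linter.all false

/-!
# Gluing along an edge of type `A₂` (S1143, tree gluing, part T2)
-/

set_option autoImplicit false

namespace Cfsg.Agent.TitsThree.GlueA

open Cfsg.Agent.AGraded Cfsg.Agent.TitsThree Cfsg.Agent.TitsThree.Hua
open scoped commutatorElement

variable {F : Type*} [Field F] {F' : Type*} [Field F'] {G : Type*} [Group G]

/-! ### comparison of two parametrisations -/

theorem compare [Finite F'] {xp xm : F → G} {xp' xm' : F' → G} (h : SL2Par xp xm)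
    (h' : SL2Par xp' xm') (hp : Set.range xp' = Set.range xp) (hm : Set.range xm' = Set.range xm) :
    ∃ (σ : F' ≃+* F) (c : F), c ≠ 0 ∧ (∀ t, xp' t = xp (c * σ t)) ∧
      ∀ t, xm' t = xm (c⁻¹ * σ t) := by
  have hφ : ∀ t, ∃ s, xp s = xp' t := fun t => by
    have : xp' t ∈ Set.range xp := hp ▸ ⟨t, rfl⟩
    exact this
  have hψ : ∀ t, ∃ s, xm s = xm' t := fun t => by
    have : xm' t ∈ Set.range xm := hm ▸ ⟨t, rfl⟩
    exact this
  choose φ hφ using hφ
  choose ψ hψ using hψ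
  have φadd : ∀ s t, φ (s + t) = φ s + φ t := fun s t => h.injp (by
    rw [hφ, h.addp, hφ, hφ, h'.addp])
  have ψadd : ∀ s t, ψ (s + t) = ψ s + ψ t := fun s t => h.injm (by
    rw [hψ, h.addm, hψ, hψ, h'.addm])
  have φinj : Function.Injective φ := fun s t hst => h'.injp (by rw [← hφ, ← hφ, hst])
  have φsurj : Function.Surjective φ := fun s => by
    have : xp s ∈ Set.range xp' := hp ▸ ⟨s, rfl⟩
    obtain ⟨t, ht⟩ := this
    exact ⟨t, h.injp (by rw [hφ, ht])⟩
  have φ0 : φ 0 = 0 := by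
    have := φadd 0 0
    rw [add_zero] at this
    exact left_eq_add.1 this
  have ψ0 : ψ 0 = 0 := by
    have := ψadd 0 0
    rw [add_zero] at this
    exact left_eq_add.1 this
  have ψneg : ∀ t, ψ (-t) = - ψ t := fun t => by
    rw [eq_neg_iff_add_eq_zero, ← ψadd, neg_add_cancel, ψ0]
  have key : ∀ t, t ≠ 0 → ψ (t⁻¹) = (φ t)⁻¹ := by
    intro t ht
    have hφt : φ t ≠ 0 := fun e => ht (φinj (by rw [e, φ0]))
    have := h.unique_mid (t := φ t) (s := ψ (-t⁻¹)) hφt (by
      intro r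
      obtain ⟨r0, hr0⟩ : xp r ∈ Set.range xp' := hp ▸ ⟨r, rfl⟩
      have h1 := h'.conjp t ht r0
      unfold nn at h1
      refine ⟨ψ (-(t⁻¹ * t⁻¹ * r0)), ?_⟩
      rw [hφ, hψ, ← hr0, hψ, h1])
    rw [ψneg, neg_inj] at this
    exact this
  have hc : φ 1 ≠ 0 := fun e => one_ne_zero (φinj (by rw [e, φ0]))
  let σ : F' →+ F := { toFun := fun t => (φ 1)⁻¹ * φ t, map_zero' := by rw [φ0, mul_zero],
                       map_add' := fun s t => by rw [φadd, mul_add] }
  let τ : F' →+ F := { toFun := fun t => φ 1 * ψ t, map_zero' := by rw [ψ0, mul_zero],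
                       map_add' := fun s t => by rw [ψadd, mul_add] }
  have σapp : ∀ t, σ t = (φ 1)⁻¹ * φ t := fun t => rfl
  have τapp : ∀ t, τ t = φ 1 * ψ t := fun t => rfl
  have σinj : Function.Injective σ := fun s t hst => φinj (mul_left_cancel₀ (inv_ne_zero hc) hst)
  have σ1 : σ 1 = 1 := by rw [σapp, inv_mul_cancel₀ hc]
  obtain ⟨hτσ, hmul⟩ := hua_mul σ τ σinj σ1 (fun t ht => by
    rw [τapp, σapp, key t ht, mul_inv, inv_inv])
  have σsurj : Function.Surjective σ := fun s => by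
    obtain ⟨t, ht⟩ := φsurj (φ 1 * s)
    exact ⟨t, by rw [σapp, ht, inv_mul_cancel_left₀ hc]⟩
  let σr : F' →+* F := { σ with map_one' := σ1, map_mul' := hmul }
  have hbij : Function.Bijective σr := ⟨σinj, σsurj⟩
  refine ⟨RingEquiv.ofBijective σr hbij, φ 1, hc, ?_, ?_⟩
  · intro t
    have e : (RingEquiv.ofBijective σr hbij) t = (φ 1)⁻¹ * φ t := rfl
    rw [e, mul_inv_cancel_left₀ hc, hφ]
  · intro t
    have e : (RingEquiv.ofBijective σr hbij) t = (φ 1)⁻¹ * φ t := rfl
    rw [e, ← σapp, ← hτσ, τapp, inv_mul_cancel_left₀ hc, hψ]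

/-! ### Steinberg systems of type `A₂` -/

section Stein

variable {x : Fin 3 → Fin 3 → F → G} (h : SteinRel x)

include h

/-- `n_ij(t)` maps `x i k a` to `x j k (-t⁻¹ a)`. -/
theorem nn_conj_ik {i j k : Fin 3} (hij : i ≠ j) (hjk : j ≠ k) (hik : i ≠ k) {t : F} (ht : t ≠ 0)
    (a : F) : nn (x i j) (x j i) t * x i k a * (nn (x i j) (x j i) t)⁻¹ = x j k (-(t⁻¹ * a)) := by
  have c1 : x i j t * x i k a = x i k a * x i j t := h.comm i j i k hij hik hij.symm hik _ _
  have c2 := h.conj_left hij.symm hik hjk (-t⁻¹) a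
  have c3 := h.conj_left hij hjk hik t (-t⁻¹ * a)
  have e1 : t * (-t⁻¹ * a) = -a := by field_simp
  rw [e1] at c3
  have c4 : x i k a * x j k (-t⁻¹ * a) = x j k (-t⁻¹ * a) * x i k a :=
    h.comm i k j k hik hjk hjk.symm hik _ _
  have step : nn (x i j) (x j i) t * x i k a * (nn (x i j) (x j i) t)⁻¹ =
      x i j t * (x j i (-t⁻¹) * (x i j t * x i k a * (x i j t)⁻¹) * (x j i (-t⁻¹))⁻¹) *
        (x i j t)⁻¹ := by
    unfold nn; group
  rw [step, c1, mul_inv_cancel_right, c2]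
  have step2 : x i j t * (x j k (-t⁻¹ * a) * x i k a) * (x i j t)⁻¹ =
      (x i j t * x j k (-t⁻¹ * a) * (x i j t)⁻¹) * (x i j t * x i k a * (x i j t)⁻¹) := by group
  rw [step2, c3, c1, mul_inv_cancel_right, mul_assoc, ← c4, ← mul_assoc, h.neg hik,
    inv_mul_cancel, one_mul, neg_mul]

/-- `n_ij(t)` maps `x k j b` to `x k i (t⁻¹ b)`. -/
theorem nn_conj_kj {i j k : Fin 3} (hij : i ≠ j) (hjk : j ≠ k) (hik : i ≠ k) {t : F} (ht : t ≠ 0)
    (b : F) : nn (x i j) (x j i) t * x k j b * (nn (x i j) (x j i) t)⁻¹ = x k i (t⁻¹ * b) := by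
  have c1 : x i j t * x k j b = x k j b * x i j t := h.comm i j k j hij hjk.symm hjk hij _ _
  have c2 := h.conj_right hjk.symm hij.symm hik.symm b (-t⁻¹)
  have c3 := h.conj_right hik.symm hij hjk.symm (-(b * -t⁻¹)) t
  have e1 : -(-(b * -t⁻¹) * t) = -b := by field_simp
  rw [e1] at c3
  have c4 : x k j b * x k i (-(b * -t⁻¹)) = x k i (-(b * -t⁻¹)) * x k j b :=
    h.comm k j k i hjk.symm hik.symm hjk hik.symm _ _
  have step : nn (x i j) (x j i) t * x k j b * (nn (x i j) (x j i) t)⁻¹ =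
      x i j t * (x j i (-t⁻¹) * (x i j t * x k j b * (x i j t)⁻¹) * (x j i (-t⁻¹))⁻¹) *
        (x i j t)⁻¹ := by
    unfold nn; group
  rw [step, c1, mul_inv_cancel_right, c2]
  have step2 : x i j t * (x k j b * x k i (-(b * -t⁻¹))) * (x i j t)⁻¹ =
      (x i j t * x k j b * (x i j t)⁻¹) * (x i j t * x k i (-(b * -t⁻¹)) * (x i j t)⁻¹) := by group
  rw [step2, c3, c1, mul_inv_cancel_right, ← mul_assoc, c4, mul_assoc, h.neg hjk.symm,
    mul_inv_cancel, mul_one]
  congr 1
  ring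

/-- `n_ij(t)` maps `x j k a` to `x i k (t a)`. -/
theorem nn_conj_jk {i j k : Fin 3} (hij : i ≠ j) (hjk : j ≠ k) (hik : i ≠ k) {t : F} (ht : t ≠ 0)
    (a : F) : nn (x i j) (x j i) t * x j k a * (nn (x i j) (x j i) t)⁻¹ = x i k (t * a) := by
  have c1 := h.conj_left hij hjk hik t a
  have c2 := h.conj_left hij.symm hik hjk (-t⁻¹) (t * a)
  have e1 : -t⁻¹ * (t * a) = -a := by field_simp
  rw [e1] at c2
  have c3 : x j i (-t⁻¹) * x j k a = x j k a * x j i (-t⁻¹) :=
    h.comm j i j k hij.symm hjk hij hjk _ _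
  have c4 : x i k (t * a) * x j k a = x j k a * x i k (t * a) :=
    h.comm i k j k hik hjk hjk.symm hik _ _
  have c5 : x i j t * x i k (t * a) = x i k (t * a) * x i j t :=
    h.comm i j i k hij hik hij.symm hik _ _
  have step : nn (x i j) (x j i) t * x j k a * (nn (x i j) (x j i) t)⁻¹ =
      x i j t * (x j i (-t⁻¹) * (x i j t * x j k a * (x i j t)⁻¹) * (x j i (-t⁻¹))⁻¹) *
        (x i j t)⁻¹ := by
    unfold nn; group
  have step2 : x j i (-t⁻¹) * (x i k (t * a) * x j k a) * (x j i (-t⁻¹))⁻¹ =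
      (x j i (-t⁻¹) * x i k (t * a) * (x j i (-t⁻¹))⁻¹) *
        (x j i (-t⁻¹) * x j k a * (x j i (-t⁻¹))⁻¹) := by group
  have mid : x j k (-a) * x i k (t * a) * x j k a = x i k (t * a) := by
    rw [mul_assoc, c4, ← mul_assoc, h.neg hjk, inv_mul_cancel, one_mul]
  rw [step, c1, step2, c2, c3, mul_inv_cancel_right, mid, c5, mul_inv_cancel_right]

/-- `n_ij(t)` maps `x k i b` to `x k j (-t b)`. -/
theorem nn_conj_ki {i j k : Fin 3} (hij : i ≠ j) (hjk : j ≠ k) (hik : i ≠ k) {t : F} (ht : t ≠ 0)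
    (b : F) : nn (x i j) (x j i) t * x k i b * (nn (x i j) (x j i) t)⁻¹ = x k j (-(t * b)) := by
  have c1 := h.conj_right hik.symm hij hjk.symm b t
  have c2 := h.conj_right hjk.symm hij.symm hik.symm (-(b * t)) (-t⁻¹)
  have e1 : -(-(b * t) * -t⁻¹) = -b := by field_simp
  rw [e1] at c2
  have c3 : x j i (-t⁻¹) * x k i b = x k i b * x j i (-t⁻¹) :=
    h.comm j i k i hij.symm hik.symm hik hij.symm _ _
  have c4 : x k i b * x k j (-(b * t)) = x k j (-(b * t)) * x k i b :=
    h.comm k i k j hik.symm hjk.symm hik hjk.symm _ _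
  have c5 : x i j t * x k j (-(b * t)) = x k j (-(b * t)) * x i j t :=
    h.comm i j k j hij hjk.symm hjk hij _ _
  have step : nn (x i j) (x j i) t * x k i b * (nn (x i j) (x j i) t)⁻¹ =
      x i j t * (x j i (-t⁻¹) * (x i j t * x k i b * (x i j t)⁻¹) * (x j i (-t⁻¹))⁻¹) *
        (x i j t)⁻¹ := by
    unfold nn; group
  have step2 : x j i (-t⁻¹) * (x k i b * x k j (-(b * t))) * (x j i (-t⁻¹))⁻¹ =
      (x j i (-t⁻¹) * x k i b * (x j i (-t⁻¹))⁻¹) *
        (x j i (-t⁻¹) * x k j (-(b * t)) * (x j i (-t⁻¹))⁻¹) := by group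
  have mid : x k i b * (x k j (-(b * t)) * x k i (-b)) = x k j (-(b * t)) := by
    rw [← mul_assoc, c4, mul_assoc, h.neg hik.symm, mul_inv_cancel, mul_one]
  rw [step, c1, step2, c2, c3, mul_inv_cancel_right, mid, c5, mul_inv_cancel_right, mul_comm b t]

/-- The root groups of a Steinberg system of type `A₂` are parametrised as in `SL₂`. -/
theorem sl2Par (hinj : ∀ a b, a ≠ b → Function.Injective (x a b)) {i j : Fin 3} (hij : i ≠ j) :
    SL2Par (x i j) (x j i) := by
  obtain ⟨k, hki, hkj⟩ : ∃ k : Fin 3, k ≠ i ∧ k ≠ j := by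
    revert hij; revert i j; decide
  have comm_conj : ∀ g a b : G, g * ⁅a, b⁆ * g⁻¹ = ⁅g * a * g⁻¹, g * b * g⁻¹⁆ := by
    intro g a b; simp only [commutatorElement_def]; group
  refine ⟨h.add i j hij, h.add j i hij.symm, hinj i j hij, hinj j i hij.symm, ?_, ?_, ?_⟩
  · intro t ht s
    have e : x i j s = ⁅x i k s, x k j 1⁆ := by
      rw [h.br i k j hki.symm hkj hij, mul_one]
    rw [e, comm_conj, nn_conj_ik h hij hkj.symm hki.symm ht, nn_conj_kj h hij hkj.symm hki.symm ht,
      h.br j k i hkj.symm hki hij.symm]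
    congr 1
    ring
  · intro t ht s
    have e : x j i s = ⁅x j k s, x k i 1⁆ := by
      rw [h.br j k i hkj.symm hki hij.symm, mul_one]
    rw [e, comm_conj, nn_conj_jk h hij hkj.symm hki.symm ht, nn_conj_ki h hij hkj.symm hki.symm ht,
      h.br i k j hki.symm hkj hij]
    congr 1
    ring
  · intro s hs
    obtain ⟨r, hr⟩ := hs 1
    by_contra hs0
    -- `x i j r` commutes with `x i k a` and with the conjugate `x j k (s a) x i k a`
    have c2 := h.conj_left hij.symm hki.symm hkj.symm s 1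
    have c1 : x i j 1 * x i k 1 = x i k 1 * x i j 1 := h.comm i j i k hij hki.symm hij.symm hki.symm _ _
    have c3 : x i j r * x i k 1 = x i k 1 * x i j r := h.comm i j i k hij hki.symm hij.symm hki.symm _ _
    have c4 : x i j r * (x j k (s * 1) * x i k 1) = (x j k (s * 1) * x i k 1) * x i j r := by
      rw [← hr, ← c2]
      calc x j i s * x i j 1 * (x j i s)⁻¹ * (x j i s * x i k 1 * (x j i s)⁻¹)
          = x j i s * (x i j 1 * x i k 1) * (x j i s)⁻¹ := by group
        _ = x j i s * (x i k 1 * x i j 1) * (x j i s)⁻¹ := by rw [c1]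
        _ = _ := by group
    have c5 : x i j r * x j k (s * 1) = x j k (s * 1) * x i j r := by
      have : x i j r * x j k (s * 1) * x i k 1 = x j k (s * 1) * x i j r * x i k 1 := by
        rw [mul_assoc, c4, mul_assoc, mul_assoc, c3]
      exact mul_right_cancel this
    have c6 : ⁅x i j r, x j k (s * 1)⁆ = 1 := by
      rw [commutatorElement_def, c5]; group
    rw [h.br i j k hij hkj.symm hki.symm, ← h.zero hki.symm] at c6
    have c7 := hinj i k hki.symm c6
    rw [mul_one] at c7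
    have hr0 : r = 0 := by
      rcases mul_eq_zero.1 c7 with h1 | h1
      · exact h1
      · exact absurd h1 hs0
    rw [hr0, h.zero hij] at hr
    have h1 : x i j 1 = 1 := by
      have := congrArg (fun g => (x j i s)⁻¹ * g * x j i s) hr
      simpa [mul_assoc] using this
    rw [← h.zero hij] at h1
    exact one_ne_zero (hinj i j hij h1)

/-- Rescaling by a torus element and a field isomorphism. -/
theorem scale (σ : F' ≃+* F) (d : Fin 3 → F) (hd : ∀ a, d a ≠ 0) :
    SteinRel (fun a b (t : F') => x a b (d a * (d b)⁻¹ * σ t)) where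
  add i j hij s t := by
    rw [map_add, mul_add, h.add i j hij]
  comm i j k l hij hkl hjk hil s t := h.comm i j k l hij hkl hjk hil _ _
  br i j k hij hjk hik s t := by
    rw [h.br i j k hij hjk hik, map_mul]
    congr 1
    have := hd j
    field_simp

end Stein

/-- **Gluing.**  Given a parametrisation `xp, xm` over `F` of `x 0 1`, `x 1 0`, the whole Steinberg system can be
rewritten over `F` so that `y 0 1 = xp`, `y 1 0 = xm`. -/
theorem glue [Finite F'] {xp xm : F → G} (hpar : SL2Par xp xm) {x : Fin 3 → Fin 3 → F' → G}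
    (h : SteinRel x) (hinj : ∀ a b, a ≠ b → Function.Injective (x a b))
    (hp : Set.range (x 0 1) = Set.range xp) (hm : Set.range (x 1 0) = Set.range xm) :
    ∃ y : Fin 3 → Fin 3 → F → G, SteinRel y ∧ y 0 1 = xp ∧ y 1 0 = xm ∧
      (∀ a b, a ≠ b → Function.Injective (y a b)) ∧
      ∀ a b, a ≠ b → Set.range (y a b) = Set.range (x a b) := by
  obtain ⟨σ, c, hc, h1, h2⟩ := compare hpar (sl2Par h hinj (by decide : (0 : Fin 3) ≠ 1)) hp hm
  -- `x 0 1 t = xp (c σ t)`; `y 0 1 t = x 0 1 (d 0 / d 1 * σ⁻¹ t) = xp (c σ (d 0 / d 1) t)`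
  let d : Fin 3 → F' := fun a => if a = 0 then σ.symm c⁻¹ else 1
  have hd : ∀ a, d a ≠ 0 := by
    intro a
    by_cases ha : a = 0
    · simp only [d, ha, if_true]
      simpa using hc
    · simp [d, ha]
  refine ⟨_, scale h σ.symm d hd, ?_, ?_, ?_, ?_⟩
  · funext t
    rw [h1]
    simp [d, hc]
  · funext t
    rw [h2]
    simp [d, hc]
  · intro a b hab s t hst
    have := hinj a b hab hst
    have h3 : d a * (d b)⁻¹ ≠ 0 := mul_ne_zero (hd a) (inv_ne_zero (hd b))
    exact σ.symm.injective (mul_left_cancel₀ h3 this)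
  · intro a b hab
    have h3 : d a * (d b)⁻¹ ≠ 0 := mul_ne_zero (hd a) (inv_ne_zero (hd b))
    ext g
    constructor
    · rintro ⟨t, rfl⟩
      exact ⟨_, rfl⟩
    · rintro ⟨t, rfl⟩
      refine ⟨σ ((d a * (d b)⁻¹)⁻¹ * t), ?_⟩
      simp only [RingEquiv.symm_apply_apply]
      rw [mul_inv_cancel_left₀ h3]

end Cfsg.Agent.TitsThree.GlueA
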