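import Mathlib
set_option linter.all false

-- part: TitsThree/RankTwoRGD
section
/-!
# Root data of rank two: the Bruhat decomposition and overgroups of the Borel subgroup (S1143, layer 1)

Pure group theory.  `Side U H A A' V n`: one simple reflection `n` of a root datum with positive part
`U = V A`, `A'` the root group opposite to `A`.  `Core m Y`: two of them satisfying the braid relation
of length `m` modulo `H`.  Main results: `Core.bruhat` (the Bruhat decomposition of the group generated by all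
root groups and `H`) and `Core.eq_D`: a subgroup between `D = U H` and this group that does not
contain `nI` and `nJ` is `D`.  `R2 m Y`: the same for a family `X 1, …, X m` of positive root
groups.
-/

set_option autoImplicit false

namespace Cfsg.Agent.TitsThree.RankTwoRGD

open scoped Pointwise

universe u

variable {Y : Type u} [Group Y]

/-- The alternating word `a b a …` with `k` letters. -/
def alt (a b : Y) : ℕ → Y
  | 0 => 1
  | k + 1 => a * alt b a k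

@[simp] theorem alt_zero (a b : Y) : alt a b 0 = 1 := rfl

theorem alt_succ (a b : Y) (k : ℕ) : alt a b (k + 1) = a * alt b a k := rfl

/-- One simple reflection of a root datum. -/
structure Side (U H A A' V : Subgroup Y) (n : Y) : Prop where
  A_le : A ≤ U
  V_le : V ≤ U
  decomp : ∀ u ∈ U, ∃ v ∈ V, ∃ a ∈ A, u = v * a
  nV : ∀ v ∈ V, n * v * n⁻¹ ∈ V
  nA : ∀ a ∈ A, n * a * n⁻¹ ∈ A'
  nA' : ∀ a ∈ A', n * a * n⁻¹ ∈ A
  HA : ∀ h ∈ H, ∀ a ∈ A, h * a * h⁻¹ ∈ A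
  n_sq : n * n ∈ H
  nH : ∀ h ∈ H, n * h * n⁻¹ ∈ H
  rank_one : ∀ a ∈ A', a ≠ 1 → ∃ x ∈ A, ∃ h ∈ H, ∃ y ∈ A, a = x * n * h * y
  mem : n ∈ A ⊔ A'

namespace Side

variable {U H A A' V : Subgroup Y} {n : Y} (s : Side U H A A' V n)

include s

theorem nH' : ∀ h ∈ H, n⁻¹ * h * n ∈ H := by
  intro h hh
  have h1 : (n * n)⁻¹ * (n * h * n⁻¹) * (n * n) ∈ H :=
    H.mul_mem (H.mul_mem (H.inv_mem s.n_sq) (s.nH h hh)) s.n_sq
  have e : (n * n)⁻¹ * (n * h * n⁻¹) * (n * n) = n⁻¹ * h * n := by group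
  rwa [e] at h1

theorem HA_inv : ∀ h ∈ H, ∀ a ∈ A, h⁻¹ * a * h ∈ A := by
  intro h hh a ha
  have := s.HA h⁻¹ (H.inv_mem hh) a ha
  rwa [inv_inv] at this

/-- conjugation by `n⁻¹` maps `A` into `A'` -/
theorem nA_inv : ∀ a ∈ A, n⁻¹ * a * n ∈ A' := by
  intro a ha
  -- `a = n² b n⁻²`, with `b ∈ A`
  have hb := s.HA_inv _ s.n_sq a ha
  have h1 := s.nA _ hb
  have e : n * ((n * n)⁻¹ * a * (n * n)) * n⁻¹ = n⁻¹ * a * n := by group
  rwa [e] at h1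

theorem nA'_inv : ∀ a ∈ A', n⁻¹ * a * n ∈ A := by
  intro a ha
  have h1 := s.nA' a ha
  have h2 := s.HA_inv _ s.n_sq _ h1
  have e : (n * n)⁻¹ * (n * a * n⁻¹) * (n * n) = n⁻¹ * a * n := by group
  rwa [e] at h2

/-- `H` normalises `A'` -/
theorem HA' : ∀ h ∈ H, ∀ a ∈ A', h * a * h⁻¹ ∈ A' := by
  intro h hh a ha
  have h1 := s.nA' a ha
  have h2 := s.HA _ (s.nH h hh) _ h1
  have h3 := s.nA_inv _ h2
  have e : n⁻¹ * (n * h * n⁻¹ * (n * a * n⁻¹) * (n * h * n⁻¹)⁻¹) * n = h * a * h⁻¹ := by group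
  rwa [e] at h3

/-- If a subgroup contains `A` and `A'` it contains `n`. -/
theorem mem_of_le {S : Subgroup Y} (hA : A ≤ S) (hA' : A' ≤ S) : n ∈ S :=
  (sup_le hA hA') s.mem

/-- The basic multiplication rule. -/
theorem mul_rule {w : Y} (hwH : ∀ h ∈ H, w⁻¹ * h * w ∈ H)
    (hw : (∀ a ∈ A, w⁻¹ * a * w ∈ U) ∨ (∀ a ∈ A', w⁻¹ * a * w ∈ U))
    {u h : Y} (hu : u ∈ U) (hh : h ∈ H) :
    ∃ b ∈ U ⊔ H, ∃ w', (w' = w ∨ w' = n * w) ∧ ∃ b' ∈ U ⊔ H, n * (u * h) * w = b * w' * b' := by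
  obtain ⟨v, hv, a, ha, rfl⟩ := s.decomp u hu
  have hUD : U ≤ U ⊔ H := le_sup_left
  have hHD : H ≤ U ⊔ H := le_sup_right
  have hv' : n * v * n⁻¹ ∈ U ⊔ H := hUD (s.V_le (s.nV v hv))
  have hh' : w⁻¹ * h * w ∈ U ⊔ H := hHD (hwH h hh)
  rcases hw with hw | hw
  · refine ⟨n * v * n⁻¹, hv', n * w, Or.inr rfl, (w⁻¹ * a * w) * (w⁻¹ * h * w),
      mul_mem (hUD (hw a ha)) hh', ?_⟩
    group
  · have ha' : n * a * n⁻¹ ∈ A' := s.nA a ha
    by_cases h1 : n * a * n⁻¹ = 1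
    · have ha1 : a = 1 := by
        have h2 : n * a = n := by simpa [mul_inv_eq_one] using h1
        simpa using h2
      subst ha1
      refine ⟨n * v * n⁻¹, hv', n * w, Or.inr rfl, w⁻¹ * h * w, hh', ?_⟩
      group
    · obtain ⟨x, hx, k, hk, y, hy, e⟩ := s.rank_one _ ha' h1
      have hy' : w⁻¹ * (n⁻¹ * y * n) * w ∈ U := hw _ (s.nA_inv y hy)
      have hk' : n * k * n ∈ H := by
        have h3 : n * k * n⁻¹ * (n * n) ∈ H := H.mul_mem (s.nH k hk) s.n_sq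
        have e3 : n * k * n⁻¹ * (n * n) = n * k * n := by group
        rwa [e3] at h3
      refine ⟨n * v * n⁻¹ * (x * (n * k * n)), ?_, w, Or.inl rfl,
        (w⁻¹ * (n⁻¹ * y * n) * w) * (w⁻¹ * h * w), mul_mem (hUD hy') hh', ?_⟩
      · exact mul_mem hv' (mul_mem (hUD (s.A_le hx)) (hHD hk'))
      · have e4 : n * a = x * n * k * y * n := by rw [← e]; group
        calc n * (v * a * h) * w = (n * v * n⁻¹) * (n * a) * h * w := by group
          _ = (n * v * n⁻¹) * (x * n * k * y * n) * h * w := by rw [e4]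
          _ = n * v * n⁻¹ * (x * (n * k * n)) * w *
              (w⁻¹ * (n⁻¹ * y * n) * w * (w⁻¹ * h * w)) := by group

end Side

/-- Abstract root datum of rank two (positive part `U`, torus `H`, simple root groups `AI`, `AJ`, their
opposites `AI'`, `AJ'`). -/
structure Core (m : ℕ) (Y : Type u) [Group Y] where
  (U H AI AI' VI AJ AJ' VJ : Subgroup Y)
  (nI nJ : Y)
  sI : Side U H AI AI' VI nI
  sJ : Side U H AJ AJ' VJ nJ
  HU : ∀ h ∈ H, ∀ u ∈ U, h * u * h⁻¹ ∈ U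
  posI : ∀ k < m, ∀ a ∈ AI, (alt nJ nI k)⁻¹ * a * alt nJ nI k ∈ U
  posJ : ∀ k < m, ∀ a ∈ AJ, (alt nI nJ k)⁻¹ * a * alt nI nJ k ∈ U
  braid : ∃ h ∈ H, alt nI nJ m = alt nJ nI m * h

namespace Core

variable {m : ℕ} (c : Core m Y)

/-- Exchange the two simple roots. -/
def symm : Core m Y where
  U := c.U
  H := c.H
  AI := c.AJ
  AI' := c.AJ'
  VI := c.VJ
  AJ := c.AI
  AJ' := c.AI'
  VJ := c.VI
  nI := c.nJ
  nJ := c.nI
  sI := c.sJ
  sJ := c.sI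
  HU := c.HU
  posI := c.posJ
  posJ := c.posI
  braid := by
    obtain ⟨h, hh, e⟩ := c.braid
    exact ⟨h⁻¹, c.H.inv_mem hh, by rw [e]; group⟩

/-- The Borel subgroup. -/
def D : Subgroup Y := c.U ⊔ c.H

theorem U_le : c.U ≤ c.D := le_sup_left

theorem H_le : c.H ≤ c.D := le_sup_right

theorem mem_D {g : Y} : g ∈ c.D ↔ ∃ u ∈ c.U, ∃ h ∈ c.H, u * h = g := by
  have hn : c.H ≤ Subgroup.normalizer (c.U : Set Y) := by
    intro h hh
    rw [Subgroup.mem_normalizer_iff]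
    intro u
    refine ⟨fun hu => c.HU h hh u hu, fun hu => ?_⟩
    have h1 := c.HU h⁻¹ (c.H.inv_mem hh) _ hu
    have e : h⁻¹ * (h * u * h⁻¹) * h⁻¹⁻¹ = u := by group
    rwa [e] at h1
  have h2 : (↑(c.U ⊔ c.H) : Set Y) = (c.U : Set Y) * (c.H : Set Y) :=
    Subgroup.coe_mul_of_right_le_normalizer_left c.U c.H hn
  have h3 : g ∈ c.D ↔ g ∈ (c.U : Set Y) * (c.H : Set Y) := by
    rw [← h2]; rfl
  rw [h3, Set.mem_mul]
  rfl

/-- The representatives of the double cosets. -/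
def IsW (w : Y) : Prop :=
  ∃ k ≤ m, ∃ h ∈ c.H, w = alt c.nI c.nJ k * h ∨ w = alt c.nJ c.nI k * h

theorem isW_symm {w : Y} : c.symm.IsW w ↔ c.IsW w := by
  constructor
  · rintro ⟨k, hk, h, hh, e⟩
    exact ⟨k, hk, h, hh, e.symm⟩
  · rintro ⟨k, hk, h, hh, e⟩
    exact ⟨k, hk, h, hh, e.symm⟩

theorem isW_one : c.IsW 1 := ⟨0, Nat.zero_le _, 1, c.H.one_mem, Or.inl (by simp)⟩

/-- the alternating words normalise `H` -/
theorem alt_H (k : ℕ) : (∀ h ∈ c.H, (alt c.nI c.nJ k)⁻¹ * h * alt c.nI c.nJ k ∈ c.H) ∧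
    (∀ h ∈ c.H, (alt c.nJ c.nI k)⁻¹ * h * alt c.nJ c.nI k ∈ c.H) := by
  induction k with
  | zero => simp
  | succ k ih =>
    refine ⟨fun h hh => ?_, fun h hh => ?_⟩
    · have h1 := ih.2 _ (c.sI.nH' h hh)
      rw [alt_succ]
      have e : (alt c.nJ c.nI k)⁻¹ * (c.nI⁻¹ * h * c.nI) * alt c.nJ c.nI k =
        (c.nI * alt c.nJ c.nI k)⁻¹ * h * (c.nI * alt c.nJ c.nI k) := by group
      rwa [e] at h1
    · have h1 := ih.1 _ (c.sJ.nH' h hh)
      rw [alt_succ]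
      have e : (alt c.nI c.nJ k)⁻¹ * (c.nJ⁻¹ * h * c.nJ) * alt c.nI c.nJ k =
        (c.nJ * alt c.nI c.nJ k)⁻¹ * h * (c.nJ * alt c.nI c.nJ k) := by group
      rwa [e] at h1

theorem IsW.conj_H {w : Y} (hw : c.IsW w) : ∀ h ∈ c.H, w⁻¹ * h * w ∈ c.H := by
  obtain ⟨k, hk, g, hg, rfl | rfl⟩ := hw
  · intro h hh
    have h1 := (c.alt_H k).1 h hh
    have h2 := c.H.mul_mem (c.H.mul_mem (c.H.inv_mem hg) h1) hg
    have e : g⁻¹ * ((alt c.nI c.nJ k)⁻¹ * h * alt c.nI c.nJ k) * g =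
      (alt c.nI c.nJ k * g)⁻¹ * h * (alt c.nI c.nJ k * g) := by group
    rwa [e] at h2
  · intro h hh
    have h1 := (c.alt_H k).2 h hh
    have h2 := c.H.mul_mem (c.H.mul_mem (c.H.inv_mem hg) h1) hg
    have e : g⁻¹ * ((alt c.nJ c.nI k)⁻¹ * h * alt c.nJ c.nI k) * g =
      (alt c.nJ c.nI k * g)⁻¹ * h * (alt c.nJ c.nI k * g) := by group
    rwa [e] at h2

/-- `W` is closed under multiplication by `nI` on the left -/
theorem IsW.mulI (hm : 1 ≤ m) {w : Y} (hw : c.IsW w) : c.IsW (c.nI * w) := by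
  -- the rule for words beginning with `nI`
  have key : ∀ k ≤ m, ∀ h ∈ c.H, c.IsW (c.nI * (alt c.nI c.nJ k * h)) := by
    intro k hk h hh
    cases k with
    | zero =>
      refine ⟨1, hm, h, hh, Or.inl ?_⟩
      simp [alt]
    | succ k =>
      refine ⟨k, Nat.le_of_succ_le hk, (alt c.nJ c.nI k)⁻¹ * (c.nI * c.nI) * alt c.nJ c.nI k * h,
        c.H.mul_mem ((c.alt_H k).2 _ c.sI.n_sq) hh, Or.inr ?_⟩
      rw [alt_succ]
      group
  obtain ⟨k, hk, h, hh, rfl | rfl⟩ := hw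
  · exact key k hk h hh
  · rcases Nat.lt_or_ge k m with h1 | h1
    · refine ⟨k + 1, h1, h, hh, Or.inl ?_⟩
      rw [alt_succ, mul_assoc]
    · obtain rfl : k = m := le_antisymm hk h1
      obtain ⟨g, hg, e⟩ := c.braid
      have e2 : alt c.nJ c.nI k * h = alt c.nI c.nJ k * (g⁻¹ * h) := by rw [e]; group
      rw [e2]
      exact key k hk _ (c.H.mul_mem (c.H.inv_mem hg) hh)

theorem IsW.mulJ (hm : 1 ≤ m) {w : Y} (hw : c.IsW w) : c.IsW (c.nJ * w) :=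
  c.isW_symm.1 (IsW.mulI c.symm hm (c.isW_symm.2 hw))

/-- `w⁻¹ U_h w` -/
theorem conj_U {h w : Y} (hh : h ∈ c.H) (hw : w ∈ c.U) : h⁻¹ * w * h ∈ c.U := by
  have := c.HU h⁻¹ (c.H.inv_mem hh) w hw
  rwa [inv_inv] at this

/-- the sign of `w⁻¹ α_I` -/
theorem IsW.signI {w : Y} (hw : c.IsW w) :
    (∀ a ∈ c.AI, w⁻¹ * a * w ∈ c.U) ∨ (∀ a ∈ c.AI', w⁻¹ * a * w ∈ c.U) := by
  -- negative case
  have key : ∀ k, 1 ≤ k → k ≤ m → ∀ h ∈ c.H, ∀ a ∈ c.AI',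
      (alt c.nI c.nJ k * h)⁻¹ * a * (alt c.nI c.nJ k * h) ∈ c.U := by
    intro k h1 hk h hh a ha
    obtain ⟨k, rfl⟩ := Nat.exists_eq_add_of_le' h1
    have h2 := c.posI k (by omega) _ (c.sI.nA'_inv a ha)
    have h3 := c.conj_U hh h2
    rw [alt_succ]
    have e : h⁻¹ * ((alt c.nJ c.nI k)⁻¹ * (c.nI⁻¹ * a * c.nI) * alt c.nJ c.nI k) * h =
      (c.nI * alt c.nJ c.nI k * h)⁻¹ * a * (c.nI * alt c.nJ c.nI k * h) := by group
    rwa [e] at h3
  obtain ⟨k, hk, h, hh, e | e⟩ := hw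
  · subst e
    rcases Nat.eq_zero_or_pos k with rfl | h1
    · left
      intro a ha
      have := c.conj_U hh (c.sI.A_le ha)
      simpa using this
    · right
      exact key k h1 hk h hh
  · subst e
    rcases Nat.lt_or_ge k m with h1 | h1
    · left
      intro a ha
      have h3 := c.conj_U hh (c.posI k h1 a ha)
      have e : h⁻¹ * ((alt c.nJ c.nI k)⁻¹ * a * alt c.nJ c.nI k) * h =
        (alt c.nJ c.nI k * h)⁻¹ * a * (alt c.nJ c.nI k * h) := by group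
      rwa [e] at h3
    · obtain rfl : k = m := le_antisymm hk h1
      rcases Nat.eq_zero_or_pos k with rfl | h0
      · left
        intro a ha
        have := c.conj_U hh (c.sI.A_le ha)
        simpa using this
      · right
        obtain ⟨g, hg, e⟩ := c.braid
        have e2 : alt c.nJ c.nI k * h = alt c.nI c.nJ k * (g⁻¹ * h) := by rw [e]; group
        rw [e2]
        exact key k h0 hk _ (c.H.mul_mem (c.H.inv_mem hg) hh)

theorem IsW.signJ {w : Y} (hw : c.IsW w) :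
    (∀ a ∈ c.AJ, w⁻¹ * a * w ∈ c.U) ∨ (∀ a ∈ c.AJ', w⁻¹ * a * w ∈ c.U) :=
  IsW.signI c.symm (c.isW_symm.2 hw)

/-- The union of the double cosets. -/
def Cell (y : Y) : Prop := ∃ b ∈ c.D, ∃ w, c.IsW w ∧ ∃ b' ∈ c.D, y = b * w * b'

theorem cell_symm {y : Y} : c.symm.Cell y ↔ c.Cell y := by
  constructor
  · rintro ⟨b, hb, w, hw, b', hb', e⟩
    exact ⟨b, hb, w, c.isW_symm.1 hw, b', hb', e⟩
  · rintro ⟨b, hb, w, hw, b', hb', e⟩
    exact ⟨b, hb, w, c.isW_symm.2 hw, b', hb', e⟩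

theorem Cell.mulD {y b : Y} (hb : b ∈ c.D) (hy : c.Cell y) : c.Cell (b * y) := by
  obtain ⟨b1, hb1, w, hw, b2, hb2, rfl⟩ := hy
  exact ⟨b * b1, mul_mem hb hb1, w, hw, b2, hb2, by group⟩

theorem Cell.mulI (hm : 1 ≤ m) {y : Y} (hy : c.Cell y) : c.Cell (c.nI * y) := by
  obtain ⟨b1, hb1, w, hw, b2, hb2, rfl⟩ := hy
  obtain ⟨u, hu, h, hh, rfl⟩ := c.mem_D.1 hb1
  obtain ⟨b, hb, w', hw', b', hb', e⟩ :=
    c.sI.mul_rule (IsW.conj_H c hw) (IsW.signI c hw) hu hh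
  have hw'' : c.IsW w' := by
    rcases hw' with rfl | rfl
    · exact hw
    · exact IsW.mulI c hm hw
  refine ⟨b, hb, w', hw'', b' * b2, mul_mem hb' hb2, ?_⟩
  have e2 : c.nI * (u * h * w * b2) = (c.nI * (u * h) * w) * b2 := by group
  rw [e2, e]
  group

theorem Cell.mulJ (hm : 1 ≤ m) {y : Y} (hy : c.Cell y) : c.Cell (c.nJ * y) :=
  c.cell_symm.1 (Cell.mulI c.symm hm (c.cell_symm.2 hy))

/-- The group generated by everything. -/
def G : Subgroup Y := c.D ⊔ (c.AI' ⊔ c.AJ')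

theorem Cell.mulAI (hm : 1 ≤ m) {y a : Y} (ha : a ∈ c.AI') (hy : c.Cell y) : c.Cell (a * y) := by
  by_cases h1 : a = 1
  · subst h1; simpa using hy
  obtain ⟨x, hx, h, hh, z, hz, rfl⟩ := c.sI.rank_one a ha h1
  have h2 : c.Cell (z * y) := Cell.mulD c (c.U_le (c.sI.A_le hz)) hy
  have h3 : c.Cell (h * (z * y)) := Cell.mulD c (c.H_le hh) h2
  have h4 : c.Cell (x * (c.nI * (h * (z * y)))) :=
    Cell.mulD c (c.U_le (c.sI.A_le hx)) (Cell.mulI c hm h3)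
  have e : x * c.nI * h * z * y = x * (c.nI * (h * (z * y))) := by group
  rw [e]
  exact h4

theorem Cell.mulAJ (hm : 1 ≤ m) {y a : Y} (ha : a ∈ c.AJ') (hy : c.Cell y) : c.Cell (a * y) :=
  c.cell_symm.1 (Cell.mulAI c.symm hm ha (c.cell_symm.2 hy))

/-- **Bruhat decomposition** -/
theorem bruhat (hm : 1 ≤ m) {y : Y} (hy : y ∈ c.G) : c.Cell y := by
  have h1 : ∀ g ∈ c.G, ∀ y, c.Cell y → c.Cell (g * y) := by
    intro g hg
    have e : c.G = Subgroup.closure ((c.D : Set Y) ∪ ((c.AI' : Set Y) ∪ (c.AJ' : Set Y))) := by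
      rw [Subgroup.closure_union, Subgroup.closure_union, Subgroup.closure_eq, Subgroup.closure_eq,
        Subgroup.closure_eq]
      rfl
    rw [e] at hg
    induction hg using Subgroup.closure_induction'' with
    | one => intro y hy; simpa using hy
    | mem g hg =>
      intro y hy
      rcases hg with hg | hg | hg
      · exact Cell.mulD c hg hy
      · exact Cell.mulAI c hm hg hy
      · exact Cell.mulAJ c hm hg hy
    | inv_mem g hg =>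
      intro y hy
      rcases hg with hg | hg | hg
      · exact Cell.mulD c (inv_mem hg) hy
      · exact Cell.mulAI c hm (inv_mem hg) hy
      · exact Cell.mulAJ c hm (inv_mem hg) hy
    | mul a b _ _ ha hb =>
      intro y hy
      rw [mul_assoc]
      exact ha _ (hb _ hy)
  have h2 := h1 y hy 1 ⟨1, one_mem _, 1, c.isW_one, 1, one_mem _, by simp⟩
  simpa using h2

theorem AI_le : c.AI ≤ c.G := le_trans c.sI.A_le (le_trans c.U_le le_sup_left)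

theorem AJ_le : c.AJ ≤ c.G := le_trans c.sJ.A_le (le_trans c.U_le le_sup_left)

theorem AI'_le : c.AI' ≤ c.G := le_trans le_sup_left le_sup_right

theorem AJ'_le : c.AJ' ≤ c.G := le_trans le_sup_right le_sup_right

theorem D_le : c.D ≤ c.G := le_sup_left

theorem nI_mem : c.nI ∈ c.G := c.sI.mem_of_le c.AI_le c.AI'_le

theorem nJ_mem : c.nJ ∈ c.G := c.sJ.mem_of_le c.AJ_le c.AJ'_le

/-- an element of `W` in a proper overgroup of `D` -/
theorem IsW.mem_H {S : Subgroup Y} (hDS : c.D ≤ S) (hI : c.nI ∉ S) (hJ : c.nJ ∉ S) {w : Y}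
    (hw : c.IsW w) (hwS : w ∈ S) : w ∈ c.H := by
  obtain ⟨k, hk, h, hh, e⟩ := hw
  rcases Nat.eq_zero_or_pos k with rfl | h1
  · rcases e with rfl | rfl <;> simpa using hh
  exfalso
  obtain ⟨k, rfl⟩ := Nat.exists_eq_add_of_le' h1
  have hhS : h ∈ S := hDS (c.H_le hh)
  rcases e with e | e
  · apply hI
    apply c.sI.mem_of_le ((c.sI.A_le.trans c.U_le).trans hDS)
    intro a ha
    have h2 := hDS (c.U_le (c.posI k (by omega) _ (c.sI.nA'_inv a ha)))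
    rw [alt_succ] at e
    have h3 : w * (h⁻¹ * ((alt c.nJ c.nI k)⁻¹ * (c.nI⁻¹ * a * c.nI) * alt c.nJ c.nI k) * h) * w⁻¹ ∈ S :=
      S.mul_mem (S.mul_mem hwS (S.mul_mem (S.mul_mem (S.inv_mem hhS) h2) hhS)) (S.inv_mem hwS)
    have e2 : w * (h⁻¹ * ((alt c.nJ c.nI k)⁻¹ * (c.nI⁻¹ * a * c.nI) * alt c.nJ c.nI k) * h) * w⁻¹ = a := by
      rw [e]; group
    rwa [e2] at h3
  · apply hJ
    apply c.sJ.mem_of_le ((c.sJ.A_le.trans c.U_le).trans hDS)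
    intro a ha
    have h2 := hDS (c.U_le (c.posJ k (by omega) _ (c.sJ.nA'_inv a ha)))
    rw [alt_succ] at e
    have h3 : w * (h⁻¹ * ((alt c.nI c.nJ k)⁻¹ * (c.nJ⁻¹ * a * c.nJ) * alt c.nI c.nJ k) * h) * w⁻¹ ∈ S :=
      S.mul_mem (S.mul_mem hwS (S.mul_mem (S.mul_mem (S.inv_mem hhS) h2) hhS)) (S.inv_mem hwS)
    have e2 : w * (h⁻¹ * ((alt c.nI c.nJ k)⁻¹ * (c.nJ⁻¹ * a * c.nJ) * alt c.nI c.nJ k) * h) * w⁻¹ = a := by
      rw [e]; group
    rwa [e2] at h3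

/-- **Main theorem of layer 1**: a subgroup of `G` containing the Borel subgroup `D` and neither `nI` nor `nJ`
is `D`. -/
theorem eq_D (hm : 1 ≤ m) {S : Subgroup Y} (hSG : S ≤ c.G) (hDS : c.D ≤ S) (hI : c.nI ∉ S)
    (hJ : c.nJ ∉ S) : S = c.D := by
  refine le_antisymm (fun g hg => ?_) hDS
  obtain ⟨b, hb, w, hw, b', hb', e⟩ := c.bruhat hm (hSG hg)
  have hwS : w ∈ S := by
    have h1 : b⁻¹ * g * b'⁻¹ ∈ S :=
      S.mul_mem (S.mul_mem (S.inv_mem (hDS hb)) hg) (S.inv_mem (hDS hb'))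
    have e2 : b⁻¹ * g * b'⁻¹ = w := by rw [e]; group
    rwa [e2] at h1
  have hwH := IsW.mem_H c hDS hI hJ hw hwS
  rw [e]
  exact mul_mem (mul_mem hb (c.H_le hwH)) hb'

end Core

end Cfsg.Agent.TitsThree.RankTwoRGD
end

-- part: TitsThree/RankTwoIdx
section
/-!
# Root data of rank two in indexed form (S1143, layer 1)

`R2 m Y`: positive root groups `X 1, …, X m` (in the natural order, `X 1` and `X m` simple), the
opposites `XI'`, `XJ'` of the simple ones, reflections `nI`, `nJ`, torus `H`.  `R2.core : Core m Y` and the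
resulting theorem `R2.eq_D`.
-/

set_option autoImplicit false

namespace Cfsg.Agent.TitsThree.RankTwoIdx

open Cfsg.Agent.TitsThree.RankTwoRGD
open scoped commutatorElement

universe u

/-- Root datum of rank two with positive root groups `X 1, …, X m`. -/
structure R2 (m : ℕ) (Y : Type u) [Group Y] where
  X : ℕ → Subgroup Y
  (XI' XJ' H : Subgroup Y)
  (nI nJ : Y)
  one_le : 1 ≤ m
  comm : ∀ k l, 1 ≤ k → k < l → l ≤ m → ∀ x ∈ X k, ∀ y ∈ X l, ⁅x, y⁆ ∈ ⨆ r ∈ Set.Ioo k l, X r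
  HX : ∀ h ∈ H, ∀ k, 1 ≤ k → k ≤ m → ∀ x ∈ X k, h * x * h⁻¹ ∈ X k
  nI_X : ∀ k, 2 ≤ k → k ≤ m → ∀ x ∈ X k, nI * x * nI⁻¹ ∈ X (m + 2 - k)
  nJ_X : ∀ k, 1 ≤ k → k < m → ∀ x ∈ X k, nJ * x * nJ⁻¹ ∈ X (m - k)
  nI_pos : ∀ x ∈ X 1, nI * x * nI⁻¹ ∈ XI'
  nI_neg : ∀ x ∈ XI', nI * x * nI⁻¹ ∈ X 1
  nJ_pos : ∀ x ∈ X m, nJ * x * nJ⁻¹ ∈ XJ'
  nJ_neg : ∀ x ∈ XJ', nJ * x * nJ⁻¹ ∈ X m
  nI_sq : nI * nI ∈ H
  nJ_sq : nJ * nJ ∈ H
  nI_H : ∀ h ∈ H, nI * h * nI⁻¹ ∈ H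
  nJ_H : ∀ h ∈ H, nJ * h * nJ⁻¹ ∈ H
  rank_oneI : ∀ a ∈ XI', a ≠ 1 → ∃ x ∈ X 1, ∃ h ∈ H, ∃ y ∈ X 1, a = x * nI * h * y
  rank_oneJ : ∀ a ∈ XJ', a ≠ 1 → ∃ x ∈ X m, ∃ h ∈ H, ∃ y ∈ X m, a = x * nJ * h * y
  memI : nI ∈ X 1 ⊔ XI'
  memJ : nJ ∈ X m ⊔ XJ'
  braid : ∃ h ∈ H, alt nI nJ m = alt nJ nI m * h

namespace R2

variable {m : ℕ} {Y : Type u} [Group Y] (c : R2 m Y)

/-- The positive part. -/
def U : Subgroup Y := ⨆ k ∈ Set.Icc 1 m, c.X k

/-- The positive part without `X 1`. -/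
def VI : Subgroup Y := ⨆ k ∈ Set.Icc 2 m, c.X k

/-- The positive part without `X m`. -/
def VJ : Subgroup Y := ⨆ k ∈ Set.Ico 1 m, c.X k

theorem X_le {k : ℕ} (h1 : 1 ≤ k) (h2 : k ≤ m) : c.X k ≤ c.U :=
  le_iSup₂_of_le k ⟨h1, h2⟩ le_rfl

theorem X_le_VI {k : ℕ} (h1 : 2 ≤ k) (h2 : k ≤ m) : c.X k ≤ c.VI :=
  le_iSup₂_of_le k ⟨h1, h2⟩ le_rfl

theorem X_le_VJ {k : ℕ} (h1 : 1 ≤ k) (h2 : k < m) : c.X k ≤ c.VJ :=
  le_iSup₂_of_le k ⟨h1, h2⟩ le_rfl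

theorem VI_le : c.VI ≤ c.U := iSup₂_le fun _ hk => c.X_le (le_trans (by norm_num) hk.1) hk.2

theorem VJ_le : c.VJ ≤ c.U := iSup₂_le fun _ hk => c.X_le hk.1 hk.2.le

/-- A conjugation statement for a supremum follows from the one for the members. -/
theorem conj_iSup {S : Set ℕ} {P : Subgroup Y} {g : Y} {f : ℕ → Subgroup Y}
    (h : ∀ k ∈ S, ∀ x ∈ f k, g * x * g⁻¹ ∈ P) : ∀ x ∈ ⨆ k ∈ S, f k, g * x * g⁻¹ ∈ P := by
  have h1 : (⨆ k ∈ S, f k) ≤ P.comap (MulAut.conj g).toMonoidHom :=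
    iSup₂_le fun k hk x hx => h k hk x hx
  intro x hx
  exact h1 hx

theorem X1_VI : ∀ a ∈ c.X 1, ∀ v ∈ c.VI, a * v * a⁻¹ ∈ c.VI := by
  intro a ha
  apply conj_iSup
  intro k hk x hx
  have h1 := c.comm 1 k le_rfl (by have := hk.1; omega) hk.2 a ha x hx
  have h2 : ⁅a, x⁆ ∈ c.VI := by
    refine (iSup₂_le ?_ : (⨆ r ∈ Set.Ioo 1 k, c.X r) ≤ c.VI) h1
    intro r hr
    exact c.X_le_VI (by have := hr.1; omega) (hr.2.le.trans hk.2)
  have e : a * x * a⁻¹ = ⁅a, x⁆ * x := by rw [commutatorElement_def]; group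
  rw [e]
  exact mul_mem h2 (c.X_le_VI hk.1 hk.2 hx)

theorem Xm_VJ : ∀ a ∈ c.X m, ∀ v ∈ c.VJ, a * v * a⁻¹ ∈ c.VJ := by
  intro a ha
  apply conj_iSup
  intro k hk x hx
  have h1 := c.comm k m hk.1 hk.2 le_rfl x hx a ha
  have h2 : ⁅x, a⁆ ∈ c.VJ := by
    refine (iSup₂_le ?_ : (⨆ r ∈ Set.Ioo k m, c.X r) ≤ c.VJ) h1
    intro r hr
    exact c.X_le_VJ (by have := hr.1; have := hk.1; omega) hr.2
  have e : a * x * a⁻¹ = ⁅x, a⁆⁻¹ * x := by rw [commutatorElement_def]; group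
  rw [e]
  exact mul_mem (inv_mem h2) (c.X_le_VJ hk.1 hk.2 hx)

/-- `K = V A` when `A` normalises `V` -/
theorem decomp_aux {A V : Subgroup Y} (h : ∀ a ∈ A, ∀ v ∈ V, a * v * a⁻¹ ∈ V) {u : Y}
    (hu : u ∈ V ⊔ A) : ∃ v ∈ V, ∃ a ∈ A, u = v * a := by
  have hn : A ≤ Subgroup.normalizer (V : Set Y) := by
    intro a ha
    rw [Subgroup.mem_normalizer_iff]
    intro v
    refine ⟨fun hv => h a ha v hv, fun hv => ?_⟩
    have h1 := h a⁻¹ (A.inv_mem ha) _ hv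
    have e : a⁻¹ * (a * v * a⁻¹) * a⁻¹⁻¹ = v := by group
    rwa [e] at h1
  have h2 := Subgroup.coe_mul_of_right_le_normalizer_left V A hn
  have h3 : u ∈ (↑(V ⊔ A) : Set Y) := hu
  rw [h2, Set.mem_mul] at h3
  obtain ⟨v, hv, a, ha, e⟩ := h3
  exact ⟨v, hv, a, ha, e.symm⟩

theorem U_eq_I : c.U = c.VI ⊔ c.X 1 := by
  apply le_antisymm
  · refine iSup₂_le fun k hk => ?_
    rcases Nat.lt_or_ge 1 k with h | h
    · exact (c.X_le_VI h hk.2).trans le_sup_left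
    · obtain rfl : k = 1 := le_antisymm h hk.1
      exact le_sup_right
  · exact sup_le c.VI_le (c.X_le le_rfl c.one_le)

theorem U_eq_J : c.U = c.VJ ⊔ c.X m := by
  apply le_antisymm
  · refine iSup₂_le fun k hk => ?_
    rcases Nat.lt_or_ge k m with h | h
    · exact (c.X_le_VJ hk.1 h).trans le_sup_left
    · obtain rfl : k = m := le_antisymm hk.2 h
      exact le_sup_right
  · exact sup_le c.VJ_le (c.X_le c.one_le le_rfl)

theorem HX_inv {h : Y} (hh : h ∈ c.H) {k : ℕ} (h1 : 1 ≤ k) (h2 : k ≤ m) {x : Y} (hx : x ∈ c.X k) :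
    h⁻¹ * x * h ∈ c.X k := by
  have := c.HX h⁻¹ (c.H.inv_mem hh) k h1 h2 x hx
  rwa [inv_inv] at this

theorem nI_X_inv {k : ℕ} (h1 : 2 ≤ k) (h2 : k ≤ m) {x : Y} (hx : x ∈ c.X k) :
    c.nI⁻¹ * x * c.nI ∈ c.X (m + 2 - k) := by
  have h3 := c.nI_X k h1 h2 _ (c.HX_inv c.nI_sq (le_trans (by norm_num) h1) h2 hx)
  have e : c.nI * ((c.nI * c.nI)⁻¹ * x * (c.nI * c.nI)) * c.nI⁻¹ = c.nI⁻¹ * x * c.nI := by group
  rwa [e] at h3

theorem nJ_X_inv {k : ℕ} (h1 : 1 ≤ k) (h2 : k < m) {x : Y} (hx : x ∈ c.X k) :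
    c.nJ⁻¹ * x * c.nJ ∈ c.X (m - k) := by
  have h3 := c.nJ_X k h1 h2 _ (c.HX_inv c.nJ_sq h1 h2.le hx)
  have e : c.nJ * ((c.nJ * c.nJ)⁻¹ * x * (c.nJ * c.nJ)) * c.nJ⁻¹ = c.nJ⁻¹ * x * c.nJ := by group
  rwa [e] at h3

theorem pos_aux (k : ℕ) :
    (∀ r, 1 ≤ r → r + k ≤ m → ∀ a ∈ c.X r, (alt c.nJ c.nI k)⁻¹ * a * alt c.nJ c.nI k ∈ c.U) ∧
    (∀ r, r ≤ m → k + 1 ≤ r → ∀ a ∈ c.X r, (alt c.nI c.nJ k)⁻¹ * a * alt c.nI c.nJ k ∈ c.U) := by
  induction k with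
  | zero =>
    refine ⟨fun r h1 h2 a ha => ?_, fun r h1 h2 a ha => ?_⟩
    · simpa using c.X_le h1 h2 ha
    · simpa using c.X_le h2 h1 ha
  | succ k ih =>
    refine ⟨fun r h1 h2 a ha => ?_, fun r h1 h2 a ha => ?_⟩
    · have h3 := ih.2 (m - r) (by omega) (by omega) _ (c.nJ_X_inv h1 (by omega) ha)
      rw [alt_succ]
      have e : (alt c.nI c.nJ k)⁻¹ * (c.nJ⁻¹ * a * c.nJ) * alt c.nI c.nJ k =
        (c.nJ * alt c.nI c.nJ k)⁻¹ * a * (c.nJ * alt c.nI c.nJ k) := by group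
      rwa [e] at h3
    · have h3 := ih.1 (m + 2 - r) (by omega) (by omega) _ (c.nI_X_inv (by omega) h1 ha)
      rw [alt_succ]
      have e : (alt c.nJ c.nI k)⁻¹ * (c.nI⁻¹ * a * c.nI) * alt c.nJ c.nI k =
        (c.nI * alt c.nJ c.nI k)⁻¹ * a * (c.nI * alt c.nJ c.nI k) := by group
      rwa [e] at h3

/-- The abstract root datum. -/
def core : Core m Y where
  U := c.U
  H := c.H
  AI := c.X 1
  AI' := c.XI'
  VI := c.VI
  AJ := c.X m
  AJ' := c.XJ'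
  VJ := c.VJ
  nI := c.nI
  nJ := c.nJ
  sI :=
    { A_le := c.X_le le_rfl c.one_le
      V_le := c.VI_le
      decomp := fun u hu => by
        rw [c.U_eq_I] at hu
        exact decomp_aux c.X1_VI hu
      nV := conj_iSup fun k hk x hx =>
        c.X_le_VI (by have := hk.2; omega) (by have := hk.1; omega) (c.nI_X k hk.1 hk.2 x hx)
      nA := c.nI_pos
      nA' := c.nI_neg
      HA := fun h hh a ha => c.HX h hh 1 le_rfl c.one_le a ha
      n_sq := c.nI_sq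
      nH := c.nI_H
      rank_one := c.rank_oneI
      mem := c.memI }
  sJ :=
    { A_le := c.X_le c.one_le le_rfl
      V_le := c.VJ_le
      decomp := fun u hu => by
        rw [c.U_eq_J] at hu
        exact decomp_aux c.Xm_VJ hu
      nV := conj_iSup fun k hk x hx =>
        c.X_le_VJ (by have := hk.2; omega) (by have := hk.1; have := c.one_le; omega)
          (c.nJ_X k hk.1 hk.2 x hx)
      nA := c.nJ_pos
      nA' := c.nJ_neg
      HA := fun h hh a ha => c.HX h hh m c.one_le le_rfl a ha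
      n_sq := c.nJ_sq
      nH := c.nJ_H
      rank_one := c.rank_oneJ
      mem := c.memJ }
  HU := fun h hh => conj_iSup fun k hk x hx => c.X_le hk.1 hk.2 (c.HX h hh k hk.1 hk.2 x hx)
  posI := fun k hk a ha => (c.pos_aux k).1 1 le_rfl (by omega) a ha
  posJ := fun k hk a ha => (c.pos_aux k).2 m le_rfl hk a ha
  braid := c.braid

/-- **Layer 1** in indexed form. -/
theorem eq_D {S : Subgroup Y} (hSG : S ≤ c.U ⊔ c.H ⊔ (c.XI' ⊔ c.XJ')) (hDS : c.U ⊔ c.H ≤ S)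
    (hI : c.nI ∉ S) (hJ : c.nJ ∉ S) : S = c.U ⊔ c.H :=
  c.core.eq_D c.one_le hSG hDS hI hJ

/-- **Bruhat decomposition** in indexed form. -/
theorem bruhat {y : Y} (hy : y ∈ c.U ⊔ c.H ⊔ (c.XI' ⊔ c.XJ')) :
    ∃ b ∈ c.U ⊔ c.H, ∃ k ≤ m, ∃ b' ∈ c.U ⊔ c.H,
      y = b * alt c.nI c.nJ k * b' ∨ y = b * alt c.nJ c.nI k * b' := by
  obtain ⟨b, hb, w, ⟨k, hk, h, hh, e⟩, b', hb', rfl⟩ := c.core.bruhat c.one_le hy
  have hh' : h ∈ c.U ⊔ c.H := (le_sup_right : c.H ≤ c.U ⊔ c.H) hh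
  refine ⟨b, hb, k, hk, h * b', mul_mem hh' hb', ?_⟩
  rcases e with rfl | rfl
  · left; simp only [mul_assoc]; rfl
  · right; simp only [mul_assoc]; rfl

end R2

end Cfsg.Agent.TitsThree.RankTwoIdx
end
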