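import Cfsg.Agent.TitsThree.B2Derived
import Cfsg.Agent.TitsThree.CoreB2
set_option linter.all false

/-!
# `NIRel` for the relation package of type `B₂`, layer 1 without hypotheses
-/

set_option autoImplicit false

namespace Cfsg.Agent.TitsThree.B2NI

open Cfsg.Agent.TitsThree.B2Pkg Cfsg.Agent.TitsThree.CoreB2

universe u

variable {F : Type*} [Field F] {V : Type*} [AddCommGroup V] [Module F V] {D : PQDatum F V}
variable {Y : Type u} [Group Y] {m : B2Maps D Y}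

/-- The conjugation action of the elements `n_I(t)`. -/
theorem nirel (h : B2Rel m) {p₀ : D.T} (hp : p₀.c ≠ 0) : NIRel m where
  x _ ht a := ⟨_, h.nn_x hp ht a⟩
  x' _ ht a := ⟨_, h.nn_x' hp ht a⟩
  y _ ht b := ⟨_, h.nn_y ht b⟩
  z₁ _ ht p := h.nn_z₁ ht p
  z₂ _ ht p := h.nn_z₂ ht p
  z₁' _ ht p := h.nn_z₁' hp ht p
  z₂' _ ht p := h.nn_z₂' hp ht p

/-- **Layer 1 for the `B₂` package.** -/
theorem stab (h : B2Rel m) (S : Subgroup Y)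
    (hS : S ≤ Subgroup.closure {g | (∃ a, g = m.x a ∨ g = m.x' a) ∨ ∃ p, g = m.z₂ p ∨ g = m.z₂' p})
    (hx : ∀ a, m.x a ∈ S) (hz : ∀ p, m.z₂ p ∈ S) (hy : ∀ b, m.y b ∈ S)
    (hH1 : ∀ s t, s ≠ 0 → t ≠ 0 → nn m.x m.x' s * (nn m.x m.x' t)⁻¹ ∈ S)
    (hH2 : ∀ p q : D.T, p.c ≠ 0 → q.c ≠ 0 → m.nII p * (m.nII q)⁻¹ ∈ S)
    (hI : nn m.x m.x' 1 ∉ S) (hJ : ∀ p : D.T, p.c ≠ 0 → m.nII p ∉ S) (ex : ∃ p : D.T, p.c ≠ 0) :
    S ≤ Subgroup.closure (stabSet m) := by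
  obtain ⟨p₀, hp⟩ := ex
  exact b2_stab h (nirel h hp) S hS hx hz hy hH1 hH2 hI hJ ⟨p₀, hp⟩

end Cfsg.Agent.TitsThree.B2NI
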