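import Cfsg.Agent.Tits.Gate
import Cfsg.Agent.TitsThree.Pack
set_option linter.all false

-- part: TitsThree/GU
section
/-!
GU: the identification machine (S1143, PART 2).  A group `Γ` acts on a building `Δ` of spherical
type and on a set `Ω`; subgroups `Γi i` transitive on the panels of the base chamber `c`.  If
stabilisers of `c` in the rank two subgroups fix the base point `ω`, then the stabiliser of `c` in
the group generated by all of them fixes `ω`.
-/

set_option autoImplicit false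

namespace Cfsg.Agent.TitsThree.GU

open Cfsg.Agent.Tits.Core Cfsg.Agent.Tits.Core.Bldg Cfsg.Agent.Tits.Exchange

variable {I : Type*} {M : CoxeterMatrix I} {W : Type*} [Group W] {cs : CoxeterSystem M W}
variable {C Γ Ω : Type*} [Group Γ] [MulAction Γ C] [MulAction Γ Ω]

/-- The group generated by the stabilisers of `c` in the rank two subgroups. -/
def Bt (Γi : I → Subgroup Γ) (c : C) : Subgroup Γ :=
  Subgroup.closure {g | ∃ i j, g ∈ Γi i ⊔ Γi j ∧ g • c = c}

/-- The hypotheses of the identification theorem. -/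
structure Local (Δ : Bldg cs C) (c : C) (ω : Ω) (Γi : I → Subgroup Γ) : Prop where
  iso : ∀ (g : Γ) x y, Δ.δ (g • x) (g • y) = Δ.δ x y
  pan : ∀ i, ∀ g ∈ Γi i, g • c ∈ Δ.Pan i c
  trans : ∀ i, ∀ y ∈ Δ.Pan i c, ∃ g ∈ Γi i, g • c = y
  R : ∀ i j, ∀ g ∈ Γi i ⊔ Γi j, g • c = c → g • ω = ω
  gen : ∀ i j, ∀ g ∈ Γi i ⊔ Γi j, g • c = c → ∀ k, ∀ h ∈ Γi k, ∃ h' ∈ Γi k,
    h'⁻¹ * g * h ∈ Bt Γi c

section

variable {Δ : Bldg cs C} {c : C} {ω : Ω} {Γi : I → Subgroup Γ}

local prefix:100 "ℓ" => cs.length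

theorem Bt_fix {g : Γ} (hg : g ∈ Bt Γi c) : g • c = c := by
  have : Bt Γi c ≤ MulAction.stabilizer Γ c := by
    refine (Subgroup.closure_le _).2 ?_
    rintro g ⟨i, j, -, h⟩
    exact h
  exact this hg

/-- level of a chamber -/
noncomputable def lv (Δ : Bldg cs C) (c y : C) : ℕ := cs.length (Δ.δ c y)

theorem lv_eq_zero {y : C} (h : lv Δ c y = 0) : y = c := by
  have := cs.length_eq_zero_iff.1 h
  exact ((Δ.eq_one c y).1 this).symm

theorem lv_self : lv Δ c c = 0 := by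
  unfold lv; rw [δ_self]; exact cs.length_one

variable (H : Local Δ c ω Γi)
include H

theorem lv_smul (g : Γ) (y : C) : lv Δ c (g • y) = ℓ (Δ.δ (g⁻¹ • c) y) := by
  unfold lv
  have := H.iso g (g⁻¹ • c) y
  rw [smul_inv_smul] at this
  rw [this]

theorem lv_inv_smul (g : Γ) (y : C) : lv Δ c (g⁻¹ • y) = ℓ (Δ.δ (g • c) y) := by
  rw [lv_smul H, inv_inv]

theorem lv_of_fix {g : Γ} (hg : g • c = c) (y : C) : lv Δ c (g • y) = lv Δ c y := by
  rw [lv_smul H]
  have : g⁻¹ • c = c := by rw [inv_smul_eq_iff, hg]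
  rw [this]; rfl

/-- A simple reflection that shortens `δ y c` comes from an element of `Γi i`. -/
theorem exists_of_step {y : C} (i : I) : ∃ g ∈ Γi i, lv Δ c (g⁻¹ • y) =
    ℓ (Δ.δ y c * cs.simple i) := by
  obtain ⟨z, hz, hyz⟩ := Δ.exists_step y c i
  obtain ⟨g, hg, hgz⟩ := H.trans i z (Or.inr hz)
  refine ⟨g, hg, ?_⟩
  rw [lv_inv_smul H, hgz, length_δ_comm, hyz]

theorem exists_descent {y : C} {n : ℕ} (h : lv Δ c y = n + 1) :
    ∃ i, ∃ g ∈ Γi i, lv Δ c (g⁻¹ • y) = n := by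
  have h1 : ℓ (Δ.δ y c) = n + 1 := by rw [← h, length_δ_comm]; rfl
  have h2 : Δ.δ y c ≠ 1 := by
    intro h2; rw [h2, cs.length_one] at h1; omega
  obtain ⟨i, hi⟩ := cs.exists_rightDescent_of_ne_one h2
  obtain ⟨g, hg, hgy⟩ := exists_of_step H (y := y) i
  refine ⟨i, g, hg, ?_⟩
  rw [hgy]
  have := (cs.isRightDescent_iff).1 hi
  omega

theorem smul_mem_Res {i j : I} {g : Γ} (hg : g ∈ Γi i ⊔ Γi j) : g • c ∈ Δ.Res {i, j} c := by
  have key : ∀ g : Γ, g ∈ Γi i ⊔ Γi j → ∀ y ∈ Δ.Res {i, j} c, g • y ∈ Δ.Res {i, j} c := by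
    intro g hg
    rw [Subgroup.sup_eq_closure] at hg
    have h0 : ∀ g : Γ, (g ∈ Γi i ∨ g ∈ Γi j) → ∀ y ∈ Δ.Res {i, j} c, g • y ∈ Δ.Res {i, j} c := by
      intro g hg y hy
      have h1 : g • c ∈ Δ.Res {i, j} c := by
        rcases hg with hg | hg
        · exact Δ.Pan_subset_Res (by simp) c (H.pan i g hg)
        · exact Δ.Pan_subset_Res (by simp) c (H.pan j g hg)
      have h2 : g • y ∈ Δ.Res {i, j} (g • c) := by
        rw [mem_Res, H.iso]; exact hy
      exact Δ.mem_Res_trans h1 h2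
    induction hg using Subgroup.closure_induction with
    | mem x hx => exact h0 x hx
    | one => intro y hy; simpa using hy
    | mul x y _ _ hx hy => intro z hz; rw [mul_smul]; exact hx _ (hy _ hz)
    | inv x _ hx =>
      intro y hy
      have h3 : x • c ∈ Δ.Res {i, j} c := hx c (Δ.self_mem_Res _ c)
      have h4 : x⁻¹ • y ∈ Δ.Res {i, j} (x⁻¹ • c) := by
        rw [mem_Res, H.iso]; exact hy
      have h5 : x⁻¹ • c ∈ Δ.Res {i, j} c := by
        have : Δ.δ (x⁻¹ • c) c = Δ.δ c (x • c) := by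
          have := H.iso x (x⁻¹ • c) c
          rw [smul_inv_smul] at this
          exact this.symm
        refine Δ.mem_Res_symm ?_
        rw [mem_Res, this]; exact h3
      exact Δ.mem_Res_trans h5 h4
  exact key g hg c (Δ.self_mem_Res _ c)

/-- If no element of `Γi i`, `Γi j` lowers the level of `y`, then levels add up on the
`{i,j}`-orbit. -/
theorem lv_add {i j : I} {y : C}
    (h0 : ∀ g : Γ, (g ∈ Γi i ∨ g ∈ Γi j) → lv Δ c y ≤ lv Δ c (g⁻¹ • y))
    {h : Γ} (hh : h ∈ Γi i ⊔ Γi j) :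
    lv Δ c (h • y) = lv Δ c y + ℓ (Δ.δ c (h⁻¹ • c)) := by
  have h1 : Δ.IsProj {i, j} c y c := by
    refine Δ.isProj_of_isMinR (Δ.self_mem_Res _ c) ?_
    refine (isMinR_iff cs).2 ?_
    intro k hk
    obtain ⟨g, hg, hgy⟩ := exists_of_step H (y := y) k
    have h2 : lv Δ c y ≤ lv Δ c (g⁻¹ • y) := by
      apply h0
      rcases hk with rfl | hk
      · exact Or.inl hg
      · rw [Set.mem_singleton_iff] at hk; subst hk; exact Or.inr hg
    rw [hgy] at h2
    have h3 : lv Δ c y = ℓ (Δ.δ y c) := (Δ.length_δ_comm c y).symm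
    rw [h3] at h2
    exact lt_of_le_of_ne h2 (Ne.symm (cs.length_mul_simple_ne _ _))
  have h2 := h1.length_eq (smul_mem_Res H (inv_mem hh))
  rw [lv_smul H, length_δ_comm, h2, Δ.length_δ_comm c y]
  rfl

/-- the induction statement -/
def E (_H : Local Δ c ω Γi) (n : ℕ) : Prop := ∃ f : C → Ω, f c = ω ∧
  ∀ i j, ∀ h ∈ Γi i ⊔ Γi j, ∀ y, lv Δ c y ≤ n → lv Δ c (h • y) ≤ n → f (h • y) = h • f y

theorem E_zero : E H 0 := by
  refine ⟨fun _ => ω, rfl, ?_⟩
  intro i j h hh y hy hy'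
  have h1 : y = c := lv_eq_zero (Nat.le_zero.1 hy)
  subst h1
  have h2 : h • y = y := lv_eq_zero (Nat.le_zero.1 hy')
  exact (H.R i j h hh h2).symm

open Classical in
theorem E_succ {n : ℕ} (hE : E H n) : E H (n + 1) := by
  obtain ⟨f, hfc, hf⟩ := hE
  let P : C → Prop := fun y => ∃ g : Γ, (∃ i, g ∈ Γi i) ∧ lv Δ c (g⁻¹ • y) ≤ n
  let f' : C → Ω := fun y => if lv Δ c y ≤ n then f y else
    if h : P y then h.choose • f (h.choose⁻¹ • y) else ω
  have f'_le : ∀ y, lv Δ c y ≤ n → f' y = f y := fun y hy => if_pos hy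
  -- Claim A
  have claimA : ∀ y, lv Δ c y = n + 1 → ∀ i, ∀ g ∈ Γi i, lv Δ c (g⁻¹ • y) ≤ n →
      f' y = g • f (g⁻¹ • y) := by
    intro y hy i g hg hgy
    have hP : P y := ⟨g, ⟨i, hg⟩, hgy⟩
    have h1 : f' y = hP.choose • f (hP.choose⁻¹ • y) := by
      show (if lv Δ c y ≤ n then f y else
        if h : P y then h.choose • f (h.choose⁻¹ • y) else ω) = _
      rw [if_neg (by omega), dif_pos hP]
    obtain ⟨⟨j, hj⟩, hjy⟩ := hP.choose_spec
    set h := hP.choose with hh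
    rw [h1]
    have h2 := hf j i (h⁻¹ * g) (mul_mem (inv_mem (Subgroup.mem_sup_left hj))
      (Subgroup.mem_sup_right hg)) (g⁻¹ • y) hgy (by
        rw [mul_smul, smul_inv_smul]; exact hjy)
    rw [mul_smul, smul_inv_smul] at h2
    rw [h2, mul_smul, smul_inv_smul]
  -- Claim B0
  have claimB0 : ∀ i j, ∀ h ∈ Γi i ⊔ Γi j, ∀ y, lv Δ c y ≤ n → lv Δ c (h • y) = n + 1 →
      f' (h • y) = h • f y := by
    intro i j h hh y hy hhy
    have h1 : ∃ g : Γ, (g ∈ Γi i ∨ g ∈ Γi j) ∧ lv Δ c (g⁻¹ • (h • y)) < lv Δ c (h • y) := by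
      by_contra hcon
      push Not at hcon
      have := lv_add H hcon (inv_mem hh)
      rw [inv_smul_smul] at this
      omega
    obtain ⟨g, hg, hgy⟩ := h1
    have hg' : g ∈ Γi i ⊔ Γi j := by
      rcases hg with hg | hg
      · exact Subgroup.mem_sup_left hg
      · exact Subgroup.mem_sup_right hg
    have h2 : f' (h • y) = g • f (g⁻¹ • (h • y)) := by
      rcases hg with hg | hg
      · exact claimA _ hhy i g hg (by omega)
      · exact claimA _ hhy j g hg (by omega)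
    have h3 := hf i j (g⁻¹ * h) (mul_mem (inv_mem hg') hh) y hy (by
      rw [mul_smul]; omega)
    rw [mul_smul] at h3
    rw [h2, h3, mul_smul, smul_inv_smul]
  -- Bt
  have hBt : ∀ b ∈ Bt Γi c, ∀ y, lv Δ c y ≤ n → f (b • y) = b • f y := by
    intro b hb
    have hb' := hb
    unfold Bt at hb
    induction hb using Subgroup.closure_induction with
    | mem x hx =>
      obtain ⟨i, j, hx, hxc⟩ := hx
      intro y hy
      exact hf i j x hx y hy (by rw [lv_of_fix H hxc]; exact hy)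
    | one => intro y hy; simp
    | mul x y hx0 hy0 hx hy =>
      intro z hz
      have e1 : lv Δ c (y • z) ≤ n := by rw [lv_of_fix H (Bt_fix hy0)]; exact hz
      rw [mul_smul, hx hx0 _ e1, hy hy0 _ hz, mul_smul]
    | inv x hx0 hx =>
      intro y hy
      have e1 : lv Δ c (x⁻¹ • y) ≤ n := by
        rw [lv_of_fix H (Bt_fix (inv_mem hx0))]; exact hy
      have := hx hx0 (x⁻¹ • y) e1
      rw [smul_inv_smul] at this
      rw [this, inv_smul_smul]
  refine ⟨f', ?_, ?_⟩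
  · rw [f'_le c (by rw [lv_self]; omega)]; exact hfc
  intro i j h hh y hy hhy
  rcases Nat.lt_or_ge n (lv Δ c y) with h1 | h1
  · have e1 : lv Δ c y = n + 1 := by omega
    rcases Nat.lt_or_ge n (lv Δ c (h • y)) with h2 | h2
    · have e2 : lv Δ c (h • y) = n + 1 := by omega
      by_cases h3 : ∃ g : Γ, (g ∈ Γi i ∨ g ∈ Γi j) ∧ lv Δ c (g⁻¹ • y) < lv Δ c y
      · obtain ⟨g, hg, hgy⟩ := h3
        have hg' : g ∈ Γi i ⊔ Γi j := by
          rcases hg with hg | hg
          · exact Subgroup.mem_sup_left hg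
          · exact Subgroup.mem_sup_right hg
        have h4 : f' y = g • f (g⁻¹ • y) := by
          rcases hg with hg | hg
          · exact claimA _ e1 i g hg (by omega)
          · exact claimA _ e1 j g hg (by omega)
        have h5 := claimB0 i j (h * g) (mul_mem hh hg') (g⁻¹ • y) (by omega) (by
          rw [mul_smul, smul_inv_smul]; exact e2)
        rw [mul_smul, smul_inv_smul] at h5
        rw [h5, h4, mul_smul]
      · push Not at h3
        have h4 := lv_add H h3 hh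
        have h5 : ℓ (Δ.δ c (h⁻¹ • c)) = 0 := by omega
        have h6 : h⁻¹ • c = c := ((Δ.eq_one _ _).1 (cs.length_eq_zero_iff.1 h5)).symm
        have h7 : h • c = c := by rw [inv_smul_eq_iff] at h6; exact h6.symm
        obtain ⟨k, g, hg, hgy⟩ := exists_descent H e1
        obtain ⟨g', hg', hb⟩ := H.gen i j h hh h7 k g hg
        have h8 : g'⁻¹ • (h • y) = (g'⁻¹ * h * g) • (g⁻¹ • y) := by
          simp only [mul_smul, smul_inv_smul]
        have h9 : lv Δ c (g'⁻¹ • (h • y)) = n := by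
          rw [h8, lv_of_fix H (Bt_fix hb)]; exact hgy
        rw [claimA _ e2 k g' hg' h9.le, h8, hBt _ hb _ hgy.le, claimA _ e1 k g hg hgy.le]
        simp only [mul_smul, smul_inv_smul]
    · have h3 := claimB0 i j h⁻¹ (inv_mem hh) (h • y) h2 (by rw [inv_smul_smul]; exact e1)
      rw [inv_smul_smul] at h3
      rw [f'_le _ h2, h3, smul_inv_smul]
  · rcases Nat.lt_or_ge n (lv Δ c (h • y)) with h2 | h2
    · rw [f'_le _ h1]
      exact claimB0 i j h hh y h1 (by omega)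
    · rw [f'_le _ h1, f'_le _ h2]
      exact hf i j h hh y h1 h2

theorem E_all (n : ℕ) : E H n := by
  induction n with
  | zero => exact E_zero H
  | succ n ih => exact E_succ H ih

/-- **The identification theorem.** -/
theorem main [Finite W] {g : Γ} (hg : g ∈ ⨆ i, Γi i) (hgc : g • c = c) : g • ω = ω := by
  obtain ⟨N, hN⟩ := (Set.finite_range (fun w : W => ℓ w)).bddAbove
  have hN' : ∀ y, lv Δ c y ≤ N := fun y => hN ⟨_, rfl⟩
  obtain ⟨f, hfc, hf⟩ := E_all H N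
  have key : ∀ g ∈ ⨆ i, Γi i, ∀ y, f (g • y) = g • f y := by
    intro g hg
    rw [Subgroup.iSup_eq_closure] at hg
    induction hg using Subgroup.closure_induction with
    | mem x hx =>
      obtain ⟨i, hi⟩ := Set.mem_iUnion.1 hx
      intro y
      exact hf i i x (Subgroup.mem_sup_left hi) y (hN' _) (hN' _)
    | one => intro y; simp
    | mul x y _ _ hx hy => intro z; rw [mul_smul, hx, hy, mul_smul]
    | inv x _ hx =>
      intro y
      have := hx (x⁻¹ • y)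
      rw [smul_inv_smul] at this
      rw [this, inv_smul_smul]
  have := key g hg c
  rw [hgc, hfc] at this
  exact this.symm

end

/-- `gen` follows if the stabiliser of `c` in a rank two subgroup is generated by rank one ones. -/
theorem gen_of_gen0 {Δ : Bldg cs C} {c : C} {Γi : I → Subgroup Γ}
    (iso : ∀ (g : Γ) x y, Δ.δ (g • x) (g • y) = Δ.δ x y)
    (pan : ∀ i, ∀ g ∈ Γi i, g • c ∈ Δ.Pan i c)
    (trans : ∀ i, ∀ y ∈ Δ.Pan i c, ∃ g ∈ Γi i, g • c = y)
    (gen0 : ∀ i j, ∀ g ∈ Γi i ⊔ Γi j, g • c = c →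
      g ∈ Subgroup.closure {h : Γ | ∃ k, h ∈ Γi k ∧ h • c = c}) :
    ∀ i j, ∀ g ∈ Γi i ⊔ Γi j, g • c = c → ∀ k, ∀ h ∈ Γi k, ∃ h' ∈ Γi k,
    h'⁻¹ * g * h ∈ Bt Γi c := by
  have hfix : ∀ g : Γ, g • c = c → ∀ k, ∀ h ∈ Γi k, ∃ h' ∈ Γi k, (h'⁻¹ * g * h) • c = c := by
    intro g hg k h hh
    have h1 : g • (h • c) ∈ Δ.Pan k c := by
      rcases pan k h hh with h1 | h1
      · rw [h1, hg]; exact Or.inl rfl
      · right
        have := iso g c (h • c)
        rw [hg] at this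
        rw [this, h1]
    obtain ⟨h', hh', h2⟩ := trans k _ h1
    refine ⟨h', hh', ?_⟩
    rw [mul_smul, mul_smul, inv_smul_eq_iff, h2]
  have base : ∀ g : Γ, (∃ k, g ∈ Γi k ∧ g • c = c) → ∀ k, ∀ h ∈ Γi k, ∃ h' ∈ Γi k,
      h'⁻¹ * g * h ∈ Bt Γi c := by
    rintro g ⟨l, hgl, hgc⟩ k h hh
    obtain ⟨h', hh', h1⟩ := hfix g hgc k h hh
    refine ⟨h', hh', Subgroup.subset_closure ⟨l, k, ?_, h1⟩⟩
    exact mul_mem (mul_mem (inv_mem (Subgroup.mem_sup_right hh')) (Subgroup.mem_sup_left hgl))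
      (Subgroup.mem_sup_right hh)
  have hcl : ∀ g ∈ Subgroup.closure {h : Γ | ∃ k, h ∈ Γi k ∧ h • c = c}, g • c = c ∧
      ∀ k, ∀ h ∈ Γi k, ∃ h' ∈ Γi k, h'⁻¹ * g * h ∈ Bt Γi c := by
    intro g hg
    induction hg using Subgroup.closure_induction with
    | mem x hx => exact ⟨hx.choose_spec.2, base x hx⟩
    | one => exact ⟨one_smul _ _, fun k h hh => ⟨h, hh, by simp [one_mem]⟩⟩
    | mul x y _ _ hx hy =>
      refine ⟨by rw [mul_smul, hy.1, hx.1], fun k h hh => ?_⟩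
      obtain ⟨h1, hh1, e1⟩ := hy.2 k h hh
      obtain ⟨h2, hh2, e2⟩ := hx.2 k h1 hh1
      refine ⟨h2, hh2, ?_⟩
      have : h2⁻¹ * (x * y) * h = (h2⁻¹ * x * h1) * (h1⁻¹ * y * h) := by group
      rw [this]
      exact mul_mem e2 e1
    | inv x _ hx =>
      have hxc : x⁻¹ • c = c := by rw [inv_smul_eq_iff, hx.1]
      refine ⟨hxc, fun k h'' hh'' => ?_⟩
      obtain ⟨h, hh, e0⟩ := hfix x⁻¹ hxc k h'' hh''
      obtain ⟨h', hh', e1⟩ := hx.2 k h hh
      refine ⟨h, hh, ?_⟩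
      have e2 : (h''⁻¹ * h') • c = c := by
        have e3 := Bt_fix e1
        have e4 : h' • c = x • (h • c) := by
          rw [mul_smul, mul_smul, inv_smul_eq_iff] at e3
          exact e3.symm
        have e5 : x • (h • c) = h'' • c := by
          rw [mul_smul, mul_smul, inv_smul_eq_iff, inv_smul_eq_iff] at e0
          exact e0.symm
        rw [mul_smul, e4, e5, inv_smul_smul]
      have e6 : h''⁻¹ * h' ∈ Bt Γi c := Subgroup.subset_closure
        ⟨k, k, mul_mem (inv_mem (Subgroup.mem_sup_left hh'')) (Subgroup.mem_sup_left hh'), e2⟩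
      have : h⁻¹ * x⁻¹ * h'' = ((h''⁻¹ * h') * (h'⁻¹ * x * h))⁻¹ := by group
      rw [this]
      exact inv_mem (mul_mem e6 e1)
  exact fun i j g hg hgc => (hcl g (gen0 i j g hg hgc)).2

end Cfsg.Agent.TitsThree.GU
end

-- part: TitsThree/GUProd
section
/-!
GU for subgroups of `A × K`, and the conclusion `A ≃* K` for simple groups (S1143, PART 2).
-/

set_option autoImplicit false

namespace Cfsg.Agent.TitsThree.GUProd

open Cfsg.Agent.Tits.Core Cfsg.Agent.Tits.Core.Bldg Cfsg.Agent.Tits.Exchange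

variable {I : Type*} {M : CoxeterMatrix I} {W : Type*} [Group W] {cs : CoxeterSystem M W}
variable {C A K : Type*} [Group A] [Group K] [MulAction A C]

/-- The group generated by the stabilisers of `c` in the rank two subgroups. -/
def Bt (Γi : I → Subgroup (A × K)) (c : C) : Subgroup (A × K) :=
  Subgroup.closure {g | ∃ i j, g ∈ Γi i ⊔ Γi j ∧ g.1 • c = c}

/-- **GU** for subgroups of `A × K`, general form. -/
theorem gu' [Finite W] (Δ : Bldg cs C) (c : C)
    (iso : ∀ (a : A) x y, Δ.δ (a • x) (a • y) = Δ.δ x y) (Bor : Subgroup K)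
    (Γi : I → Subgroup (A × K))
    (pan : ∀ i, ∀ g ∈ Γi i, g.1 • c ∈ Δ.Pan i c)
    (trans : ∀ i, ∀ y ∈ Δ.Pan i c, ∃ g ∈ Γi i, g.1 • c = y)
    (R : ∀ i j, ∀ g ∈ Γi i ⊔ Γi j, g.1 • c = c → g.2 ∈ Bor)
    (gen : ∀ i j, ∀ g ∈ Γi i ⊔ Γi j, g.1 • c = c → ∀ k, ∀ h ∈ Γi k, ∃ h' ∈ Γi k,
      h'⁻¹ * g * h ∈ Bt Γi c) :
    ∀ g ∈ ⨆ i, Γi i, g.1 • c = c → g.2 ∈ Bor := by
  letI i1 : MulAction (A × K) C := MulAction.compHom C (MonoidHom.fst A K)
  letI i2 : MulAction (A × K) (K ⧸ Bor) := MulAction.compHom _ (MonoidHom.snd A K)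
  have e1 : ∀ (g : A × K) (x : C), g • x = g.1 • x := fun _ _ => rfl
  have e2 : ∀ (g : A × K), g • ((1 : K) : K ⧸ Bor) = ((1 : K) : K ⧸ Bor) ↔ g.2 ∈ Bor := by
    intro g
    have : g • ((1 : K) : K ⧸ Bor) = ((g.2 * 1 : K) : K ⧸ Bor) := rfl
    rw [this, mul_one, QuotientGroup.eq]
    simp
  have H : GU.Local (Γ := A × K) Δ c ((1 : K) : K ⧸ Bor) Γi :=
    { iso := fun g x y => iso g.1 x y
      pan := pan
      trans := trans
      R := fun i j g hg hgc => (e2 g).2 (R i j g hg hgc)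
      gen := gen }
  intro g hg hgc
  exact (e2 g).1 (GU.main H hg hgc)

/-- **GU** for subgroups of `A × K`, when the rank two stabilisers are generated by rank one
ones. -/
theorem gu [Finite W] (Δ : Bldg cs C) (c : C)
    (iso : ∀ (a : A) x y, Δ.δ (a • x) (a • y) = Δ.δ x y) (Bor : Subgroup K)
    (Γi : I → Subgroup (A × K))
    (pan : ∀ i, ∀ g ∈ Γi i, g.1 • c ∈ Δ.Pan i c)
    (trans : ∀ i, ∀ y ∈ Δ.Pan i c, ∃ g ∈ Γi i, g.1 • c = y)
    (R : ∀ i j, ∀ g ∈ Γi i ⊔ Γi j, g.1 • c = c →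
      g ∈ Subgroup.closure {h : A × K | ∃ k, h ∈ Γi k ∧ h.1 • c = c ∧ h.2 ∈ Bor}) :
    ∀ g ∈ ⨆ i, Γi i, g.1 • c = c → g.2 ∈ Bor := by
  refine gu' Δ c iso Bor Γi pan trans ?_ ?_
  · intro i j g hg hgc
    have h1 : Subgroup.closure {h : A × K | ∃ k, h ∈ Γi k ∧ h.1 • c = c ∧ h.2 ∈ Bor} ≤
        Bor.comap (MonoidHom.snd A K) := by
      refine (Subgroup.closure_le _).2 ?_
      rintro h ⟨k, -, -, h3⟩
      exact h3
    exact h1 (R i j g hg hgc)
  · letI i1 : MulAction (A × K) C := MulAction.compHom C (MonoidHom.fst A K)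
    refine GU.gen_of_gen0 (Γ := A × K) (Δ := Δ) (c := c) (Γi := Γi)
      (fun g x y => iso g.1 x y) pan trans ?_
    intro i j g hg hgc
    refine Subgroup.closure_mono ?_ (R i j g hg hgc)
    rintro h ⟨k, h1, h2, -⟩
    exact ⟨k, h1, h2⟩

/-- Goursat for two simple groups. -/
theorem nonempty_mulEquiv [IsSimpleGroup A] [IsSimpleGroup K] (D : Subgroup (A × K))
    (c : C) (Bor : Subgroup K) (hBor : Bor ≠ ⊤)
    (h1 : D.map (MonoidHom.fst A K) = ⊤) (h2 : D.map (MonoidHom.snd A K) = ⊤)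
    (hD : ∀ g ∈ D, g.1 • c = c → g.2 ∈ Bor) : Nonempty (A ≃* K) := by
  have f1 : ∀ a : A, ∃ k : K, (a, k) ∈ D := by
    intro a
    obtain ⟨⟨a', k⟩, h, rfl⟩ := (Subgroup.mem_map.1 (h1 ▸ Subgroup.mem_top a))
    exact ⟨k, h⟩
  have f2 : ∀ k : K, ∃ a : A, (a, k) ∈ D := by
    intro k
    obtain ⟨⟨a, k'⟩, h, rfl⟩ := (Subgroup.mem_map.1 (h2 ▸ Subgroup.mem_top k))
    exact ⟨a, h⟩
  -- the second kernel
  let N2 : Subgroup K := D.comap (MonoidHom.inr A K)
  have mem2 : ∀ k, k ∈ N2 ↔ ((1 : A), k) ∈ D := fun k => Iff.rfl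
  have hN2 : N2.Normal := by
    refine ⟨fun k hk g => ?_⟩
    obtain ⟨a, ha⟩ := f2 g
    have := mul_mem (mul_mem ha ((mem2 k).1 hk)) (inv_mem ha)
    rw [mem2]
    simpa using this
  have hN2' : N2 = ⊥ := by
    rcases hN2.eq_bot_or_eq_top with h | h
    · exact h
    · exfalso
      apply hBor
      rw [eq_top_iff]
      intro k _
      have hk : k ∈ N2 := h ▸ Subgroup.mem_top k
      exact hD _ ((mem2 k).1 hk) (one_smul _ _)
  let N1 : Subgroup A := D.comap (MonoidHom.inl A K)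
  have mem1 : ∀ a, a ∈ N1 ↔ (a, (1 : K)) ∈ D := fun a => Iff.rfl
  have hN1 : N1.Normal := by
    refine ⟨fun k hk g => ?_⟩
    obtain ⟨a, ha⟩ := f1 g
    have := mul_mem (mul_mem ha ((mem1 k).1 hk)) (inv_mem ha)
    rw [mem1]
    simpa using this
  have hN1' : N1 = ⊥ := by
    rcases hN1.eq_bot_or_eq_top with h | h
    · exact h
    · exfalso
      obtain ⟨k, hk⟩ := exists_ne (1 : K)
      obtain ⟨a, ha⟩ := f2 k
      have ha' : (a, (1 : K)) ∈ D := (mem1 a).1 (h ▸ Subgroup.mem_top a)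
      have := mul_mem (inv_mem ha') ha
      have h3 : k ∈ N2 := by rw [mem2]; simpa using this
      rw [hN2', Subgroup.mem_bot] at h3
      exact hk h3
  have b1 : Function.Bijective ((MonoidHom.fst A K).comp D.subtype) := by
    constructor
    · rw [injective_iff_map_eq_one]
      rintro ⟨⟨a, k⟩, h⟩ h4
      have h5 : a = 1 := h4
      subst h5
      have h6 : k ∈ N2 := (mem2 k).2 h
      rw [hN2', Subgroup.mem_bot] at h6
      subst h6
      rfl
    · intro a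
      obtain ⟨k, hk⟩ := f1 a
      exact ⟨⟨(a, k), hk⟩, rfl⟩
  have b2 : Function.Bijective ((MonoidHom.snd A K).comp D.subtype) := by
    constructor
    · rw [injective_iff_map_eq_one]
      rintro ⟨⟨a, k⟩, h⟩ h4
      have h5 : k = 1 := h4
      subst h5
      have h6 : a ∈ N1 := (mem1 a).2 h
      rw [hN1', Subgroup.mem_bot] at h6
      subst h6
      rfl
    · intro k
      obtain ⟨a, ha⟩ := f2 k
      exact ⟨⟨(a, k), ha⟩, rfl⟩
  exact ⟨(MulEquiv.ofBijective _ b1).symm.trans (MulEquiv.ofBijective _ b2)⟩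

end Cfsg.Agent.TitsThree.GUProd
end

-- part: TitsThree/AssembleBase
section
/-!
# Common part of the GU assembly (S1143)

`gu_extra`: `GUProd.gu'` when the stabilisers of `c` in the rank two subgroups are generated by the
stabilisers in the rank one subgroups and a set `E` of extra elements (`y b` for the double bond).
`comm_stab`: the case of commuting rank one subgroups.  Consequences of `NodeAct`.
-/

set_option autoImplicit false

namespace Cfsg.Agent.TitsThree.AssembleBase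

open Cfsg.Agent.Tits.Core Cfsg.Agent.Tits.Core.Bldg Cfsg.Agent.Tits.Exchange
open Cfsg.Agent.TitsThree.Pack

variable {I : Type*} {M : CoxeterMatrix I} {W : Type*} [Group W] {cs : CoxeterSystem M W}
variable {C A K : Type*} [Group A] [Group K] [MulAction A C]

section Extra

variable {Δ : Bldg cs C} {c : C} {Γi : I → Subgroup (A × K)}

theorem Bt_fix {g : A × K} (hg : g ∈ GUProd.Bt Γi c) : g.1 • c = c := by
  have : GUProd.Bt Γi c ≤ (MulAction.stabilizer A c).comap (MonoidHom.fst A K) := by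
    refine (Subgroup.closure_le _).2 ?_
    rintro g ⟨i, j, -, h⟩
    exact h
  exact this hg

/-- For `g` fixing `c` and `h ∈ Γ_k` there is `h' ∈ Γ_k` with `h' c = g h c`. -/
theorem exists_fix (iso : ∀ (a : A) x y, Δ.δ (a • x) (a • y) = Δ.δ x y)
    (pan : ∀ i, ∀ g ∈ Γi i, g.1 • c ∈ Δ.Pan i c)
    (trans : ∀ i, ∀ y ∈ Δ.Pan i c, ∃ g ∈ Γi i, g.1 • c = y)
    {g : A × K} (hg : g.1 • c = c) (k : I) {h : A × K} (hh : h ∈ Γi k) :
    ∃ h' ∈ Γi k, (h'⁻¹ * g * h).1 • c = c := by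
  have h1 : g.1 • (h.1 • c) ∈ Δ.Pan k c := by
    rcases pan k h hh with h1 | h1
    · rw [h1, hg]; exact Or.inl rfl
    · right
      have := iso g.1 c (h.1 • c)
      rw [hg] at this
      rw [this, h1]
  obtain ⟨h', hh', h2⟩ := trans k _ h1
  refine ⟨h', hh', ?_⟩
  show (h'.1⁻¹ * g.1 * h.1) • c = c
  rw [mul_smul, mul_smul, inv_smul_eq_iff, h2]

/-- The property `Gen` of an element `g`. -/
def GenP (Γi : I → Subgroup (A × K)) (c : C) (g : A × K) : Prop :=
  ∀ k, ∀ h ∈ Γi k, ∃ h' ∈ Γi k, h'⁻¹ * g * h ∈ GUProd.Bt Γi c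

/-- Elements of a rank two subgroup with respect to its own nodes. -/
theorem genP_self (iso : ∀ (a : A) x y, Δ.δ (a • x) (a • y) = Δ.δ x y)
    (pan : ∀ i, ∀ g ∈ Γi i, g.1 • c ∈ Δ.Pan i c)
    (trans : ∀ i, ∀ y ∈ Δ.Pan i c, ∃ g ∈ Γi i, g.1 • c = y)
    {i j : I} {g : A × K} (hg : g ∈ Γi i ⊔ Γi j) (hgc : g.1 • c = c) {k : I} (hk : k = i ∨ k = j)
    {h : A × K} (hh : h ∈ Γi k) : ∃ h' ∈ Γi k, h'⁻¹ * g * h ∈ GUProd.Bt Γi c := by
  obtain ⟨h', hh', h1⟩ := exists_fix iso pan trans hgc k hh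
  refine ⟨h', hh', Subgroup.subset_closure ⟨i, j, ?_, h1⟩⟩
  have hle : Γi k ≤ Γi i ⊔ Γi j := by
    rcases hk with rfl | rfl
    · exact le_sup_left
    · exact le_sup_right
  exact mul_mem (mul_mem (inv_mem (hle hh')) hg) (hle hh)

theorem genP_rankOne (iso : ∀ (a : A) x y, Δ.δ (a • x) (a • y) = Δ.δ x y)
    (pan : ∀ i, ∀ g ∈ Γi i, g.1 • c ∈ Δ.Pan i c)
    (trans : ∀ i, ∀ y ∈ Δ.Pan i c, ∃ g ∈ Γi i, g.1 • c = y)
    {l : I} {g : A × K} (hg : g ∈ Γi l) (hgc : g.1 • c = c) : GenP Γi c g := by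
  intro k h hh
  exact genP_self iso pan trans (i := l) (j := k) (Subgroup.mem_sup_left hg) hgc (Or.inr rfl) hh

theorem genP_closure (iso : ∀ (a : A) x y, Δ.δ (a • x) (a • y) = Δ.δ x y)
    (pan : ∀ i, ∀ g ∈ Γi i, g.1 • c ∈ Δ.Pan i c)
    (trans : ∀ i, ∀ y ∈ Δ.Pan i c, ∃ g ∈ Γi i, g.1 • c = y) {S : Set (A × K)}
    (hS : ∀ g ∈ S, g.1 • c = c ∧ GenP Γi c g) :
    ∀ g ∈ Subgroup.closure S, g.1 • c = c ∧ GenP Γi c g := by
  intro g hg
  induction hg using Subgroup.closure_induction with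
  | mem x hx => exact hS x hx
  | one => exact ⟨one_smul _ _, fun k h hh => ⟨h, hh, by simp [one_mem]⟩⟩
  | mul x y _ _ hx hy =>
    refine ⟨by rw [Prod.fst_mul, mul_smul, hy.1, hx.1], fun k h hh => ?_⟩
    obtain ⟨h1, hh1, e1⟩ := hy.2 k h hh
    obtain ⟨h2, hh2, e2⟩ := hx.2 k h1 hh1
    refine ⟨h2, hh2, ?_⟩
    have : h2⁻¹ * (x * y) * h = (h2⁻¹ * x * h1) * (h1⁻¹ * y * h) := by group
    rw [this]
    exact mul_mem e2 e1
  | inv x _ hx =>
    have hxc : x⁻¹.1 • c = c := by rw [Prod.fst_inv, inv_smul_eq_iff, hx.1]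
    refine ⟨hxc, fun k h'' hh'' => ?_⟩
    obtain ⟨h, hh, e0⟩ := exists_fix iso pan trans hxc k hh''
    obtain ⟨h', hh', e1⟩ := hx.2 k h hh
    refine ⟨h, hh, ?_⟩
    have e3 := Bt_fix e1
    have e6 : h''⁻¹ * h' ∈ GUProd.Bt Γi c := by
      refine Subgroup.subset_closure
        ⟨k, k, mul_mem (inv_mem (Subgroup.mem_sup_left hh'')) (Subgroup.mem_sup_left hh'), ?_⟩
      have e4 : h'.1 • c = x.1 • (h.1 • c) := by
        have e3' : (h'.1⁻¹ * x.1 * h.1) • c = c := e3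
        rw [mul_smul, mul_smul, inv_smul_eq_iff] at e3'
        exact e3'.symm
      have e5 : x.1 • (h.1 • c) = h''.1 • c := by
        have e0' : (h.1⁻¹ * x.1⁻¹ * h''.1) • c = c := e0
        rw [mul_smul, mul_smul, inv_smul_eq_iff, inv_smul_eq_iff] at e0'
        exact e0'.symm
      show (h''.1⁻¹ * h'.1) • c = c
      rw [mul_smul, e4, e5, inv_smul_smul]
    have : h⁻¹ * x⁻¹ * h'' = ((h''⁻¹ * h') * (h'⁻¹ * x * h))⁻¹ := by group
    rw [this]
    exact inv_mem (mul_mem e6 e1)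

/-- **GU with extra generators.** -/
theorem gu_extra [Finite W] (Δ : Bldg cs C) (c : C)
    (iso : ∀ (a : A) x y, Δ.δ (a • x) (a • y) = Δ.δ x y) (Bor : Subgroup K)
    (Γi : I → Subgroup (A × K))
    (pan : ∀ i, ∀ g ∈ Γi i, g.1 • c ∈ Δ.Pan i c)
    (trans : ∀ i, ∀ y ∈ Δ.Pan i c, ∃ g ∈ Γi i, g.1 • c = y)
    (E : Set (A × K)) (hE : ∀ g ∈ E, g.1 • c = c ∧ g.2 ∈ Bor ∧ GenP Γi c g)
    (R1 : ∀ i, ∀ g ∈ Γi i, g.1 • c = c → g.2 ∈ Bor)
    (R : ∀ i j, i ≠ j → ∀ g ∈ Γi i ⊔ Γi j, g.1 • c = c →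
      g ∈ Subgroup.closure ({h : A × K | ∃ k, h ∈ Γi k ∧ h.1 • c = c} ∪ E)) :
    ∀ g ∈ ⨆ i, Γi i, g.1 • c = c → g.2 ∈ Bor := by
  have R' : ∀ i j, ∀ g ∈ Γi i ⊔ Γi j, g.1 • c = c →
      g ∈ Subgroup.closure ({h : A × K | ∃ k, h ∈ Γi k ∧ h.1 • c = c} ∪ E) := by
    intro i j g hg hgc
    by_cases hij : i = j
    · subst hij
      rw [sup_idem] at hg
      exact Subgroup.subset_closure (Or.inl ⟨i, hg, hgc⟩)
    · exact R i j hij g hg hgc
  refine GUProd.gu' Δ c iso Bor Γi pan trans ?_ ?_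
  · intro i j g hg hgc
    have h1 : Subgroup.closure ({h : A × K | ∃ k, h ∈ Γi k ∧ h.1 • c = c} ∪ E) ≤
        Bor.comap (MonoidHom.snd A K) := by
      refine (Subgroup.closure_le _).2 ?_
      rintro h (⟨k, h1, h2⟩ | h3)
      · exact R1 k h h1 h2
      · exact (hE h h3).2.1
    exact h1 (R' i j g hg hgc)
  · intro i j g hg hgc
    refine (genP_closure iso pan trans ?_ g (R' i j g hg hgc)).2
    rintro h (⟨k, h1, h2⟩ | h3)
    · exact ⟨h2, genP_rankOne iso pan trans h1 h2⟩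
    · exact ⟨(hE h h3).1, (hE h h3).2.2⟩

/-- **Commuting rank one subgroups.** -/
theorem comm_stab {Γi : I → Subgroup (A × K)} (pan : ∀ i, ∀ g ∈ Γi i, g.1 • c ∈ Δ.Pan i c)
    {i j : I} (hij : cs.simple i ≠ cs.simple j)
    (hc : ∀ x ∈ Γi i, ∀ y ∈ Γi j, x * y = y * x) {g : A × K} (hg : g ∈ Γi i ⊔ Γi j)
    (hgc : g.1 • c = c) :
    g ∈ Subgroup.closure {h : A × K | ∃ k, h ∈ Γi k ∧ h.1 • c = c} := by
  have hxy : ∃ x ∈ Γi i, ∃ y ∈ Γi j, g = x * y := by
    have hn : Γi j ≤ Subgroup.normalizer (Γi i : Set (A × K)) := by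
      intro y hy
      rw [Subgroup.mem_normalizer_iff]
      intro x
      constructor
      · intro hx
        have e := hc x hx y hy
        rw [← e]
        simpa using hx
      · intro hx
        have e := hc _ hx y hy
        have e2 : y * x * y⁻¹ = x := by
          have e3 : y * (y * x * y⁻¹) = y * x := by rw [← e]; group
          exact mul_left_cancel e3
        rwa [e2] at hx
    have h2 := Subgroup.coe_mul_of_right_le_normalizer_left (Γi i) (Γi j) hn
    have h3 : g ∈ (↑(Γi i ⊔ Γi j) : Set (A × K)) := hg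
    rw [h2, Set.mem_mul] at h3
    obtain ⟨x, hx, y, hy, e⟩ := h3
    exact ⟨x, hx, y, hy, e.symm⟩
  obtain ⟨x, hx, y, hy, rfl⟩ := hxy
  have h1 : y.1 • c = x⁻¹.1 • c := by
    have : (x.1 * y.1) • c = c := hgc
    rw [mul_smul] at this
    rw [Prod.fst_inv, eq_inv_smul_iff]
    exact this
  have h2 := pan j y hy
  have h3 := pan i x⁻¹ (inv_mem hx)
  rw [← h1] at h3
  have h4 : y.1 • c = c := by
    rcases h2 with h2 | h2
    · exact h2
    · rcases h3 with h3 | h3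
      · exact h3
      · exact absurd (h3.symm.trans h2) hij
  have h5 : x.1 • c = c := by
    rw [h4, Prod.fst_inv, eq_inv_smul_iff] at h1
    exact h1
  exact mul_mem (Subgroup.subset_closure ⟨i, hx, h5⟩) (Subgroup.subset_closure ⟨j, hy, h4⟩)

end Extra

/-! ### Rank one -/

section Node

variable {Δ : Bldg cs C} {c : C} {i : I} {ci : C} {X : Type*} {xp xm : X → A}

/-- The rank one subgroup of `A × K`. -/
def Gam (xp xm : X → A) (xp' xm' : X → K) : Subgroup (A × K) :=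
  Subgroup.closure (Set.range (fun t => (xp t, xp' t)) ∪ Set.range (fun t => (xm t, xm' t)))

theorem Gam.pos {xp xm : X → A} {xp' xm' : X → K} (t : X) : (xp t, xp' t) ∈ Gam xp xm xp' xm' :=
  Subgroup.subset_closure (Or.inl ⟨t, rfl⟩)

theorem Gam.neg {xp xm : X → A} {xp' xm' : X → K} (t : X) : (xm t, xm' t) ∈ Gam xp xm xp' xm' :=
  Subgroup.subset_closure (Or.inr ⟨t, rfl⟩)

theorem smul_Pan (iso : ∀ (a : A) x y, Δ.δ (a • x) (a • y) = Δ.δ x y) {a : A} {x y : C}
    (hx : a • x = x) (hy : y ∈ Δ.Pan i x) : a • y ∈ Δ.Pan i x := by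
  rcases hy with rfl | hy
  · rw [hx]; exact Or.inl rfl
  · right
    have := iso a x y
    rw [hx] at this
    rw [this, hy]

theorem Pan_symm {x y : C} (h : y ∈ Δ.Pan i x) : x ∈ Δ.Pan i y := by
  rcases h with rfl | h
  · exact Or.inl rfl
  · exact Or.inr (Δ.δ_symm_simple h)

theorem Pan_trans {x y z : C} (h : y ∈ Δ.Pan i x) (h' : z ∈ Δ.Pan i y) : z ∈ Δ.Pan i x := by
  rcases h with rfl | h
  · exact h'
  · rcases h' with rfl | h'
    · exact Or.inr h
    · rcases Δ.step x y z i h' with h1 | h1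
      · rw [h, cs.simple_mul_simple_self] at h1
        exact Or.inl ((Δ.eq_one x z).1 h1).symm
      · right; rw [h1, h]

theorem pan_Gam (iso : ∀ (a : A) x y, Δ.δ (a • x) (a • y) = Δ.δ x y)
    (h : NodeAct Δ c i ci xp xm) (xp' xm' : X → K) :
    ∀ g ∈ Gam xp xm xp' xm', g.1 • c ∈ Δ.Pan i c := by
  have key : ∀ g ∈ Gam xp xm xp' xm', ∀ y ∈ Δ.Pan i c, g.1 • y ∈ Δ.Pan i c := by
    intro g hg
    induction hg using Subgroup.closure_induction with
    | mem x hx =>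
      intro y hy
      rcases hx with ⟨t, rfl⟩ | ⟨t, rfl⟩
      · exact smul_Pan iso (h.fix t) hy
      · have h1 : y ∈ Δ.Pan i ci := Pan_trans (Pan_symm h.mem) hy
        exact Pan_trans h.mem (smul_Pan iso (h.fix' t) h1)
    | one => intro y hy; simpa using hy
    | mul x y _ _ hx hy => intro z hz; rw [Prod.fst_mul, mul_smul]; exact hx _ (hy _ hz)
    | inv x _ hx =>
      intro y hy
      -- `x` maps the panel into itself; so does `x⁻¹`
      have h1 : x.1 • c ∈ Δ.Pan i c := hx c (Or.inl rfl)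
      have h2 : x⁻¹.1 • c ∈ Δ.Pan i c := by
        rcases h1 with h1 | h1
        · left
          rw [Prod.fst_inv, inv_smul_eq_iff]; exact h1.symm
        · right
          have h3 := iso x.1 c (x⁻¹.1 • c)
          rw [Prod.fst_inv, smul_inv_smul] at h3
          rw [Prod.fst_inv, ← h3]
          exact Δ.δ_symm_simple h1
      have h3 : x⁻¹.1 • y ∈ Δ.Pan i (x⁻¹.1 • c) := by
        rcases hy with rfl | hy
        · exact Or.inl rfl
        · right; rw [iso, hy]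
      exact Pan_trans h2 h3
  exact fun g hg => key g hg c (Or.inl rfl)

/-- An element which conjugates the positive root group into the negative one maps `c` to `ci`. -/
theorem swap_smul (hth : Δ.Thick) (h : NodeAct Δ c i ci xp xm) {a : A}
    (ha : a • c ∈ Δ.Pan i c) (hconj : ∀ t, ∃ s, a * xp s * a⁻¹ = xm t) : a • c = ci := by
  by_contra hne
  -- the negative root group fixes `a • c`
  have h1 : ∀ t, xm t • (a • c) = a • c := by
    intro t
    obtain ⟨s, hs⟩ := hconj t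
    rw [← hs, ← mul_smul, inv_mul_cancel_right, mul_smul, h.fix]
  obtain ⟨t, ht⟩ := h.trans' _ ha hne
  have h2 : a • c = c := by
    have h3 := h1 t
    rw [← ht] at h3
    have h4 := smul_left_cancel _ h3
    rw [← ht, h4]
  have h1' : ∀ t, xm t • c = c := fun t => by have := h1 t; rwa [h2] at this
  obtain ⟨y, z, hyz, hy, hz⟩ := hth c i
  have h5 : ∀ y, Δ.δ c y = cs.simple i → y = ci := by
    intro y hy
    by_contra hy'
    obtain ⟨t, ht⟩ := h.trans' y (Or.inr hy) hy'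
    rw [h1' t] at ht
    exact Δ.ne_of_δ_simple hy ht
  exact hyz ((h5 y hy).trans (h5 z hz).symm)

theorem trans_Gam (h : NodeAct Δ c i ci xp xm) (xp' xm' : X → K) {n : A × K}
    (hn : n ∈ Gam xp xm xp' xm') (hnc : n.1 • c = ci) :
    ∀ y ∈ Δ.Pan i c, ∃ g ∈ Gam xp xm xp' xm', g.1 • c = y := by
  intro y hy
  by_cases hyc : y = ci
  · exact ⟨n, hn, by rw [hyc]; exact hnc⟩
  · obtain ⟨t, ht⟩ := h.trans' y hy hyc
    exact ⟨_, Gam.neg t, ht⟩

end Node

end Cfsg.Agent.TitsThree.AssembleBase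
end
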