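import Cfsg.Agent.Tits.MouOut
import Cfsg.Agent.TitsThree.GlueA
import Cfsg.Agent.TitsThree.AssembleBase
import Cfsg.Agent.LieRecognition.FieldSemilinear
set_option linter.all false
/-!
S1143: generic part of the two arithmetic hypotheses of the END theorem.
`A_{c,d}` is solvable if its images on the fundamental root groups are; `A_{c,d} ⊓ G'` has order prime
to `p` if its elements of order `p` centralise the fundamental root groups; the semilinear group
`ΓL₁(F)` is solvable; root groups parametrised as in `SL₂` (`Hua.SL2Par`).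
-/

set_option autoImplicit false

namespace Cfsg.Agent.TitsThree.EndGen

open Cfsg.Agent.Tits.Core Cfsg.Agent.Tits.Core.Bldg Cfsg.Agent.Tits.Exchange
open Cfsg.Agent.Tits
open Cfsg.Agent.Tits.MouDefs (rt)
open Cfsg.Agent.Tits.MouOut
open Cfsg.Agent.TitsThree.Hua
open MulAction

variable {I : Type*} {M : CoxeterMatrix I} {W : Type*} [Group W] {cs : CoxeterSystem M W}
variable {C A : Type*} [Group A] [MulAction A C] {Δ : Bldg cs C}

/-! ### Solvability and coprimality through homomorphisms -/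

/-- A group with finitely many homomorphisms to solvable groups, jointly injective, is solvable. -/
theorem solvable_of_homs {S : Type*} [Group S] [Finite I] {Q : I → Type*} [∀ i, Group (Q i)]
    (hQ : ∀ i, Group.IsSolvable (Q i)) (f : ∀ i, S →* Q i) (hf : ∀ s, (∀ i, f i s = 1) → s = 1) :
    Group.IsSolvable S := by
  classical
  have := Fintype.ofFinite I
  have h1 : ∀ i, ∃ n, derivedSeries (Q i) n = ⊥ := fun i => (hQ i).solvable
  choose n hn using h1
  let N := Finset.univ.sup n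
  refine ⟨⟨N, ?_⟩⟩
  rw [eq_bot_iff]
  intro s hs
  rw [Subgroup.mem_bot]
  refine hf s fun i => ?_
  have h2 : n i ≤ N := Finset.le_sup (Finset.mem_univ i)
  have h3 : derivedSeries S N ≤ derivedSeries S (n i) := derivedSeries_antitone S h2
  have h4 := map_derivedSeries_le_derivedSeries (f i) (n i) (Subgroup.mem_map_of_mem _ (h3 hs))
  rw [hn i, Subgroup.mem_bot] at h4
  exact h4

/-- `A_{c,d}` for the opposite chambers `c = σ 1`, `d = σ w₀`. -/
noncomputable def Tor (cs : CoxeterSystem M W) (A : Type*) [Group A] [MulAction A C] (σ : W → C) : Subgroup A :=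
  stabilizer A (σ 1) ⊓ stabilizer A (σ (w0 cs))

section Sys

variable {σ : W → C} {U : Set W → Subgroup A} (H : Sys Δ A σ U)

include H

theorem tor_fix [Finite W] {h : A} (hh : h ∈ Tor cs A σ) (v : W) : h • σ v = σ v :=
  H.fix_of_fix (mem_stabilizer_iff.1 hh.1) (mem_stabilizer_iff.1 hh.2) v

omit H in
theorem mem_tor_of_fix {h : A} (hh : ∀ v, h • σ v = σ v) : h ∈ Tor cs A σ :=
  ⟨mem_stabilizer_iff.2 (hh _), mem_stabilizer_iff.2 (hh _)⟩

theorem tor_conj [Finite W] {h : A} (hh : h ∈ Tor cs A σ) {w : W} {i : I} {g : A}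
    (hg : g ∈ U (rt cs w i)) : h * g * h⁻¹ ∈ U (rt cs w i) :=
  H.conj_of_fix (tor_fix H hh) hg

/-- **Rigidity**: an element of `A_{c,d}` centralising the positive fundamental root groups is `1`. -/
theorem tor_eq_one [Finite I] [Finite W] {h : A} (hh : h ∈ Tor cs A σ)
    (hc : ∀ i, ∀ u ∈ U (rt cs 1 i), h * u = u * h) : h = 1 := by
  have h2 := tor_fix H hh
  refine H.faith h fun x => ?_
  refine Rigid.rigid (Δ' := Δ) H.thick (J := Set.univ) (c := σ 1) (d := σ (w0 cs))
    (φ := fun x => h • x) (ψ := fun x => x) (fun a _ b _ => H.iso h a b) (fun a _ b _ => rfl)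
    ?_ H.opp (h2 _) x (by rw [Δ.Res_univ]; trivial)
  intro j _ y hy
  have e1 : Δ.δ (σ 1) (σ (cs.simple j)) = cs.simple j := by rw [H.chart, inv_one, one_mul]
  rcases hy with hy | hy
  · rw [hy]
    exact h2 1
  · obtain ⟨u, hu, huy⟩ := H.trans 1 j (σ (cs.simple j)) y e1 hy
    change h • y = y
    rw [← huy, ← mul_smul, hc j u hu, mul_smul, h2]

/-- **Solvability of `A_{c,d}`.** -/
theorem tor_solvable [Finite I] [Finite W] {Q : I → Type*} [∀ i, Group (Q i)]
    (hQ : ∀ i, Group.IsSolvable (Q i)) (f : ∀ i, ↥(Tor cs A σ) →* Q i)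
    (hf : ∀ i (h : ↥(Tor cs A σ)), f i h = 1 → ∀ u ∈ U (rt cs 1 i), (h : A) * u = u * h) :
    Group.IsSolvable ↥(Tor cs A σ) := by
  refine solvable_of_homs hQ f fun s hs => ?_
  exact Subtype.ext (tor_eq_one H s.2 fun i => hf i s (hs i))

/-- **Coprimality.** -/
theorem tor_coprime [Finite I] [Finite W] [Finite A] {p : ℕ} [hp : Fact p.Prime] {S : Subgroup A}
    (hS : S ≤ Tor cs A σ)
    (h : ∀ s ∈ S, orderOf s = p → ∀ i, ∀ u ∈ U (rt cs 1 i), s * u = u * s) :
    (Nat.card S).Coprime p := by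
  rw [Nat.coprime_comm, hp.out.coprime_iff_not_dvd]
  intro hdvd
  obtain ⟨s, hs⟩ := exists_prime_orderOf_dvd_card' p hdvd
  have h1 : orderOf (s : A) = p := by rw [Subgroup.orderOf_coe, hs]
  have h2 := tor_eq_one H (hS s.2) (h s s.2 h1)
  rw [h2, orderOf_one] at h1
  exact hp.out.one_lt.ne h1

/-- The parameters are the orders of the fundamental root groups. -/
theorem param [Finite I] [Finite W] [Finite C] (i : I) :
    Δ.Param i (Nat.card (U (rt cs 1 i))) := by
  have e1 : Δ.δ (σ 1) (σ (cs.simple i)) = cs.simple i := by rw [H.chart, inv_one, one_mul]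
  -- the panel of `σ 1`
  have h1 : Nat.card (Δ.Pan i (σ 1)) = Nat.card (U (rt cs 1 i)) + 1 := by
    have e : (Δ.Pan i (σ 1)) = insert (σ 1) (Set.range fun u : U (rt cs 1 i) => (u : A) • σ (cs.simple i)) := by
      ext y
      constructor
      · rintro (rfl | hy)
        · exact Set.mem_insert _ _
        · obtain ⟨u, hu, huy⟩ := H.trans 1 i (σ (cs.simple i)) y e1 hy
          exact Set.mem_insert_of_mem _ ⟨⟨u, hu⟩, huy⟩
      · rintro (rfl | ⟨u, rfl⟩)
        · exact Δ.self_mem_Pan _ _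
        · right
          have := H.iso (u : A) (σ 1) (σ (cs.simple i))
          rw [H.fix u.2 (self_mem_rt 1 i)] at this
          rw [this, e1]
    have hnot : σ 1 ∉ Set.range fun u : U (rt cs 1 i) => (u : A) • σ (cs.simple i) := by
      rintro ⟨u, hu⟩
      have h2 : (u : A) • σ (cs.simple i) = (u : A) • σ 1 := by
        rw [H.fix u.2 (self_mem_rt 1 i)]
        exact hu
      exact Δ.ne_of_δ_simple e1 (smul_left_cancel _ h2).symm
    have hinj : Function.Injective fun u : U (rt cs 1 i) => (u : A) • σ (cs.simple i) := by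
      intro u v huv
      have h3 : ((v : A)⁻¹ * u) • σ (1 * cs.simple i) = σ (1 * cs.simple i) := by
        rw [one_mul, mul_smul]
        have huv' : (u : A) • σ (cs.simple i) = (v : A) • σ (cs.simple i) := huv
        rw [huv', inv_smul_smul]
      have h4 := H.free 1 i _ (mul_mem (inv_mem v.2) u.2) h3
      exact Subtype.ext (inv_mul_eq_one.1 h4).symm
    rw [Nat.card_coe_set_eq, e, Set.ncard_insert_of_notMem hnot (Set.toFinite _),
      ← Nat.card_coe_set_eq, Nat.card_range_of_injective hinj]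
  intro x
  obtain ⟨g, -, hg⟩ := H.Gtrans x
  rw [← h1, ← hg]
  symm
  refine Nat.card_congr ⟨fun y => ⟨g • (y : C), Cfsg.Agent.Tits.MouTrans.pan_smul H.iso g y.2⟩,
    fun y => ⟨g⁻¹ • (y : C), ?_⟩, fun y => Subtype.ext (inv_smul_smul _ _),
    fun y => Subtype.ext (smul_inv_smul _ _)⟩
  have := Cfsg.Agent.Tits.MouTrans.pan_smul H.iso g⁻¹ y.2
  rwa [inv_smul_smul] at this

/-- An element of `L_i` fixing `σ 1` and `σ s_i` fixes `σ w₀`. -/
theorem mem_tor_of_Lg [Finite W] {i : I} {g : A} (hg : g ∈ Lg cs U i) (h1 : g • σ 1 = σ 1)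
    (h2 : g • σ (cs.simple i) = σ (cs.simple i)) : g ∈ Tor cs A σ := by
  refine ⟨mem_stabilizer_iff.2 h1, mem_stabilizer_iff.2 ?_⟩
  -- `L_i` maps the opposite panel to itself
  have e : cs.simple i * w0 cs = w0 cs * cs.simple (op cs i) := (w0_mul_simple_op cs i).symm
  have hl : cs.length (cs.simple i * w0 cs) + 1 = cs.length (w0 cs) := by
    have := length_mul_w0 cs (cs.simple i)
    rwa [cs.length_simple] at this
  have m1 : cs.simple i * w0 cs ∈ rt cs 1 i := by
    rw [mem_rt, inv_one, one_mul, cs.simple_mul_simple_cancel_left]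
    omega
  have m2 : w0 cs ∈ rt cs (cs.simple i) i := by
    rw [mem_rt, cs.inv_simple, cs.simple_mul_simple_cancel_left]
    omega
  have hpan : σ (cs.simple i * w0 cs) ∈ Δ.Pan (op cs i) (σ (w0 cs)) := by
    right
    rw [H.chart, e, inv_mul_cancel_left]
  have key : g • σ (w0 cs) ∈ Δ.Pan (op cs i) (σ (w0 cs)) := by
    let S : Subgroup A :=
      { carrier := {g | g • σ (w0 cs) ∈ Δ.Pan (op cs i) (σ (w0 cs))}
        one_mem' := by
          change (1 : A) • σ (w0 cs) ∈ Δ.Pan (op cs i) (σ (w0 cs))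
          rw [one_smul]; exact Δ.self_mem_Pan _ _
        mul_mem' := by
          intro a b ha hb
          change (a * b) • σ (w0 cs) ∈ Δ.Pan (op cs i) (σ (w0 cs))
          rw [mul_smul]
          exact Δ.mem_Pan_trans ha (MouTrans.pan_smul H.iso a hb)
        inv_mem' := by
          intro a ha
          change a⁻¹ • σ (w0 cs) ∈ Δ.Pan (op cs i) (σ (w0 cs))
          have := MouTrans.pan_smul H.iso a⁻¹ ha
          rw [inv_smul_smul] at this
          exact Δ.mem_Pan_symm this }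
    have s1 : U (rt cs 1 i) ≤ S := fun u hu => by
      change u • σ (w0 cs) ∈ Δ.Pan (op cs i) (σ (w0 cs))
      have h3 := MouTrans.pan_smul H.iso u (Δ.mem_Pan_symm hpan)
      rw [H.fix hu m1] at h3
      exact Δ.mem_Pan_trans hpan h3
    have s2 : U (rt cs (cs.simple i) i) ≤ S := fun u hu => by
      change u • σ (w0 cs) ∈ Δ.Pan (op cs i) (σ (w0 cs))
      rw [H.fix hu m2]
      exact Δ.self_mem_Pan _ _
    exact (sup_le s1 s2) hg
  rcases key with h3 | h3
  · exact h3
  · exfalso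
    have h4 : Δ.δ (σ (cs.simple i)) (g • σ (w0 cs)) = cs.simple i * w0 cs := by
      have := H.iso g (σ (cs.simple i)) (σ (w0 cs))
      rw [h2] at this
      rw [this, H.chart, cs.inv_simple]
    have h5 : Δ.δ (σ (cs.simple i)) (σ (w0 cs)) = cs.simple i * w0 cs := by
      rw [H.chart, cs.inv_simple]
    have h6 : Δ.δ (σ (cs.simple i)) (g • σ (w0 cs)) =
        cs.simple i * w0 cs * cs.simple (op cs i) := by
      refine Δ.δ_mul_of h5 h3 ?_
      rw [e, cs.simple_mul_simple_cancel_right, cs.length_simple, ← e]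
      omega
    rw [h4] at h6
    have h7 := congrArg (fun w => (cs.simple i * w0 cs)⁻¹ * w) h6
    simp only [inv_mul_cancel, inv_mul_cancel_left] at h7
    have h8 := cs.length_simple (op cs i)
    rw [← h7, cs.length_one] at h8
    omega

/-- If the stabiliser of `c` in `G'` is contained in `U_+ T`, `T ≤ A_{c,d}`, then
`A_{c,d} ⊓ G' ≤ T`. -/
theorem tor_inf_le [Finite I] [Finite W] {T : Subgroup A} (hT : T ≤ Tor cs A σ)
    (h : ∀ g ∈ Gg cs U, g • σ 1 = σ 1 → g ∈ Up cs U ⊔ T) : Tor cs A σ ⊓ Gg cs U ≤ T := by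
  intro g hg
  have h1 := h g hg.2 (tor_fix H hg.1 1)
  have hn : T ≤ Subgroup.normalizer (Up cs U : Set A) := by
    intro t ht
    rw [Subgroup.mem_normalizer_iff]
    intro x
    have ht1 := tor_fix H (hT ht)
    constructor
    · intro hx
      exact H.Up_conj_fix ht1 hx
    · intro hx
      have ht2 : ∀ v, t⁻¹ • σ v = σ v := fun v => by rw [inv_smul_eq_iff, ht1]
      have := H.Up_conj_fix ht2 hx
      simpa [mul_assoc] using this
  have h2 := Subgroup.coe_mul_of_right_le_normalizer_left (Up cs U) T hn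
  have h3 : g ∈ (↑(Up cs U ⊔ T) : Set A) := h1
  rw [h2, Set.mem_mul] at h3
  obtain ⟨u, hu, t, ht, rfl⟩ := h3
  have h4 : u • σ (w0 cs) = σ (w0 cs) := by
    have h5 := tor_fix H hg.1 (w0 cs)
    rw [mul_smul, tor_fix H (hT ht)] at h5
    exact h5
  rw [H.Up_free hu h4, one_mul]
  exact ht

end Sys

/-! ### The semilinear group -/

section Semilinear

variable (F : Type*) [Field F]

/-- `ΓL₁(F)` -/
def GL1 : Subgroup (Equiv.Perm F) where
  carrier := {φ | ∃ c : F, c ≠ 0 ∧ ∃ σ : F ≃+* F, ∀ t, φ t = c * σ t}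
  one_mem' := ⟨1, one_ne_zero, RingEquiv.refl F, fun t => by simp⟩
  mul_mem' := by
    rintro φ ψ ⟨c, hc, σ, h1⟩ ⟨d, hd, τ, h2⟩
    refine ⟨c * σ d, mul_ne_zero hc (by simpa using hd), τ.trans σ, fun t => ?_⟩
    rw [Equiv.Perm.mul_apply, h2, h1, map_mul, RingEquiv.trans_apply, mul_assoc]
  inv_mem' := by
    rintro φ ⟨c, hc, σ, h1⟩
    refine ⟨σ.symm c⁻¹, by simpa using hc, σ.symm, fun t => ?_⟩
    rw [Equiv.Perm.inv_eq_iff_eq, h1]
    simp [hc]

variable {F}

theorem mem_GL1 {φ : Equiv.Perm F} :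
    φ ∈ GL1 F ↔ ∃ c : F, c ≠ 0 ∧ ∃ σ : F ≃+* F, ∀ t, φ t = c * σ t := Iff.rfl

/-- the field automorphism of a semilinear map -/
noncomputable def fa (φ : GL1 F) : F ≃+* F := (mem_GL1.1 φ.2).choose_spec.2.choose

theorem fa_spec (φ : GL1 F) (t : F) : (φ : Equiv.Perm F) t = (φ : Equiv.Perm F) 1 * fa φ t := by
  have h := (mem_GL1.1 φ.2).choose_spec.2.choose_spec
  have h1 : (φ : Equiv.Perm F) 1 = (mem_GL1.1 φ.2).choose := by
    rw [h 1, map_one, mul_one]
  rw [h1]
  exact h t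

theorem apply_one_ne_zero (φ : GL1 F) : (φ : Equiv.Perm F) 1 ≠ 0 := by
  obtain ⟨c, hc, σ, h⟩ := mem_GL1.1 φ.2
  rw [h, map_one, mul_one]
  exact hc

/-- `ΓL₁(F) → Aut F` -/
noncomputable def faHom : GL1 F →* (F ≃+* F) where
  toFun := fa
  map_one' := by
    ext t
    have h := fa_spec (1 : GL1 F) t
    simpa using h.symm
  map_mul' φ ψ := by
    ext t
    have h := fa_spec (φ * ψ) t
    have h0 := fa_spec (φ * ψ) 1
    have e : ∀ s, ((φ * ψ : GL1 F) : Equiv.Perm F) s =
        (φ : Equiv.Perm F) ((ψ : Equiv.Perm F) s) := fun s => rfl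
    rw [e, e, fa_spec ψ t, fa_spec φ, map_mul, fa_spec φ ((ψ : Equiv.Perm F) 1), ← mul_assoc] at h
    exact (mul_left_cancel₀ (mul_ne_zero (apply_one_ne_zero φ)
      (by simpa using apply_one_ne_zero ψ)) h).symm

theorem isSolvable_GL1 [Finite F] : Group.IsSolvable (GL1 F) := by
  have : IsCyclic (F ≃+* F) := LieRecognition.FieldSemilinear.isCyclic_ringAut F
  have h1 : Group.IsSolvable (F ≃+* F) :=
    Group.isSolvable_of_comm fun a b => IsCyclic.commGroup.mul_comm a b
  have h2 : Group.IsSolvable (faHom (F := F)).ker := by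
    refine Group.isSolvable_of_comm fun a b => ?_
    have key : ∀ (a : (faHom (F := F)).ker) t, ((a : GL1 F) : Equiv.Perm F) t =
        ((a : GL1 F) : Equiv.Perm F) 1 * t := by
      intro a t
      have ha : fa (a : GL1 F) = 1 := a.2
      rw [fa_spec, ha]
      rfl
    apply Subtype.ext
    apply Subtype.ext
    ext t
    change ((a : GL1 F) : Equiv.Perm F) (((b : GL1 F) : Equiv.Perm F) t) =
      ((b : GL1 F) : Equiv.Perm F) (((a : GL1 F) : Equiv.Perm F) t)
    rw [key a (((b : GL1 F) : Equiv.Perm F) t), key b t,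
      key b (((a : GL1 F) : Equiv.Perm F) t), key a t]
    ring
  exact Group.isSolvable_of_ker_le_range (faHom (F := F)).ker.subtype faHom
    (by rw [Subgroup.range_subtype])

end Semilinear

/-! ### Nodes parametrised by a field -/

section Lin

variable {F : Type*} [Field F]

/-- The elements acting linearly on the root group `xp`. -/
def Lin (xp : F → A) : Subgroup A where
  carrier := {h | ∃ c : F, c ≠ 0 ∧ ∀ t, h * xp t * h⁻¹ = xp (c * t)}
  one_mem' := ⟨1, one_ne_zero, fun t => by simp⟩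
  mul_mem' := by
    rintro h k ⟨c, hc, h1⟩ ⟨d, hd, h2⟩
    refine ⟨c * d, mul_ne_zero hc hd, fun t => ?_⟩
    have e : h * k * xp t * (h * k)⁻¹ = h * (k * xp t * k⁻¹) * h⁻¹ := by group
    rw [e, h2, h1, mul_assoc]
  inv_mem' := by
    rintro h ⟨c, hc, h1⟩
    refine ⟨c⁻¹, inv_ne_zero hc, fun t => ?_⟩
    have h2 := h1 (c⁻¹ * t)
    rw [mul_inv_cancel_left₀ hc] at h2
    rw [← h2]
    group

theorem mem_Lin {xp : F → A} {h : A} :
    h ∈ Lin xp ↔ ∃ c : F, c ≠ 0 ∧ ∀ t, h * xp t * h⁻¹ = xp (c * t) := Iff.rfl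

/-- An element of order `p` acting linearly centralises. -/
theorem commute_of_mem_Lin {p : ℕ} [hp : Fact p.Prime] [CharP F p] {xp : F → A}
    (hinj : Function.Injective xp) {h : A} (hh : h ∈ Lin xp) (ho : orderOf h = p) (t : F) :
    h * xp t = xp t * h := by
  obtain ⟨c, hc, h1⟩ := hh
  have h2 : ∀ k : ℕ, ∀ t, h ^ k * xp t * (h ^ k)⁻¹ = xp (c ^ k * t) := by
    intro k
    induction k with
    | zero => intro t; simp
    | succ k ih =>
      intro t
      have e : h ^ (k + 1) * xp t * (h ^ (k + 1))⁻¹ = h * (h ^ k * xp t * (h ^ k)⁻¹) * h⁻¹ := by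
        rw [pow_succ']; group
      rw [e, ih, h1, pow_succ', mul_assoc]
  have h3 := h2 p 1
  rw [← ho, pow_orderOf_eq_one, one_mul, inv_one, mul_one, mul_one] at h3
  have h4 : c ^ p = 1 := by
    rw [← ho]
    exact (hinj h3).symm
  have h5 : c = 1 := by
    have h6 : (c - 1) ^ p = 0 := by rw [sub_pow_char, h4, one_pow, sub_self]
    exact sub_eq_zero.1 (pow_eq_zero_iff (hp.out.ne_zero) |>.1 h6)
  have h7 := h1 t
  rw [h5, one_mul, mul_inv_eq_iff_eq_mul] at h7
  exact h7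

theorem mem_Lin_of_commute {xp : F → A} {h : A} (hc : ∀ t, h * xp t = xp t * h) : h ∈ Lin xp :=
  ⟨1, one_ne_zero, fun t => by rw [hc, mul_inv_cancel_right, one_mul]⟩

/-- `h(t)` acts on its own root group as `t²`. -/
theorem hh_mem_Lin_self {xp xm : F → A} (par : SL2Par xp xm) {t : F} (ht : t ≠ 0) :
    hh xp xm t ∈ Lin xp := by
  refine ⟨t * t, mul_ne_zero ht ht, fun s => ?_⟩
  have h1 := par.conjm 1 one_ne_zero (-s)
  have h2 := par.conjm t ht (-s)
  have e1 : -(1 * 1 * -s) = s := by ring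
  have e2 : -(t * t * -s) = t * t * s := by ring
  rw [e1] at h1
  rw [e2] at h2
  unfold hh
  have e : nn xp xm t * (nn xp xm 1)⁻¹ * xp s * (nn xp xm t * (nn xp xm 1)⁻¹)⁻¹ =
      nn xp xm t * ((nn xp xm 1)⁻¹ * xp s * nn xp xm 1) * (nn xp xm t)⁻¹ := by group
  rw [e, ← h1]
  have e' : (nn xp xm 1)⁻¹ * (nn xp xm 1 * xm (-s) * (nn xp xm 1)⁻¹) * nn xp xm 1 = xm (-s) := by
    group
  rw [e', h2]

open Cfsg.Agent.AGraded in
/-- `h(t)` acts on the root group of a neighbour in an `A₂` edge as `t⁻¹`. -/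
theorem hh_mem_Lin_edge {x : Fin 3 → Fin 3 → F → A} (h : SteinRel x) {t : F} (ht : t ≠ 0) :
    hh (x 0 1) (x 1 0) t ∈ Lin (x 1 2) := by
  refine ⟨t⁻¹, inv_ne_zero ht, fun s => ?_⟩
  have h1 := GlueA.nn_conj_ik h (i := 0) (j := 1) (k := 2) (by decide) (by decide) (by decide)
    (one_ne_zero (α := F)) (-s)
  have h2 := GlueA.nn_conj_ik h (i := 0) (j := 1) (k := 2) (by decide) (by decide) (by decide)
    ht (-s)
  have e1 : -((1 : F)⁻¹ * -s) = s := by rw [inv_one]; ring
  have e2 : -(t⁻¹ * -s) = t⁻¹ * s := by ring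
  rw [e1] at h1
  rw [e2] at h2
  unfold hh
  have e : nn (x 0 1) (x 1 0) t * (nn (x 0 1) (x 1 0) 1)⁻¹ * x 1 2 s *
      (nn (x 0 1) (x 1 0) t * (nn (x 0 1) (x 1 0) 1)⁻¹)⁻¹ =
      nn (x 0 1) (x 1 0) t * ((nn (x 0 1) (x 1 0) 1)⁻¹ * x 1 2 s * nn (x 0 1) (x 1 0) 1) *
        (nn (x 0 1) (x 1 0) t)⁻¹ := by group
  rw [e, ← h1]
  have e' : (nn (x 0 1) (x 1 0) 1)⁻¹ * (nn (x 0 1) (x 1 0) 1 * x 0 2 (-s) *
      (nn (x 0 1) (x 1 0) 1)⁻¹) * nn (x 0 1) (x 1 0) 1 = x 0 2 (-s) := by
    group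
  rw [e', h2]

end Lin

section FNode

variable {σ : W → C} {U : Set W → Subgroup A} (H : Sys Δ A σ U)
variable {F : Type*} [Field F] {i : I} {xp xm : F → A}

theorem _root_.Cfsg.Agent.TitsThree.Hua.SL2Par.conj {xp xm : F → A} (h : SL2Par xp xm) (g : A) :
    SL2Par (fun t => g * xp t * g⁻¹) (fun t => g * xm t * g⁻¹) where
  addp s t := by rw [h.addp]; group
  addm s t := by rw [h.addm]; group
  injp s t hst := h.injp (mul_left_cancel (mul_right_cancel hst))
  injm s t hst := h.injm (mul_left_cancel (mul_right_cancel hst))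
  conjp t ht s := by
    have e : nn (fun t => g * xp t * g⁻¹) (fun t => g * xm t * g⁻¹) t =
        g * nn xp xm t * g⁻¹ := by unfold nn; group
    rw [e, ← h.conjp t ht s]
    group
  conjm t ht s := by
    have e : nn (fun t => g * xp t * g⁻¹) (fun t => g * xm t * g⁻¹) t =
        g * nn xp xm t * g⁻¹ := by unfold nn; group
    rw [e, ← h.conjm t ht s]
    group
  norm s hs := by
    refine h.norm s fun r => ?_
    obtain ⟨r', hr'⟩ := hs r
    refine ⟨r', ?_⟩
    have e : g * xm s * g⁻¹ * (g * xp r * g⁻¹) * (g * xm s * g⁻¹)⁻¹ =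
        g * (xm s * xp r * (xm s)⁻¹) * g⁻¹ := by group
    simp only [e] at hr'
    exact mul_left_cancel (mul_right_cancel hr')

include H

/-- `A_{c,d}` acts semilinearly on the nodes parametrised by a field. -/
theorem tor_semilinear [Finite W] [Finite F] (par : SL2Par xp xm)
    (hp : Set.range xp = U (rt cs 1 i)) (hm : Set.range xm = U (rt cs (cs.simple i) i)) {h : A}
    (hh : h ∈ Tor cs A σ) :
    ∃ c : F, c ≠ 0 ∧ ∃ τ : F ≃+* F, ∀ t, h * xp t * h⁻¹ = xp (c * τ t) := by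
  have hi : h⁻¹ ∈ Tor cs A σ := inv_mem hh
  have key : ∀ (y : F → A) (w : W), Set.range y = U (rt cs w i) →
      Set.range (fun t => h * y t * h⁻¹) = Set.range y := by
    intro y w hy
    rw [hy]
    ext g
    constructor
    · rintro ⟨t, rfl⟩
      exact tor_conj H hh (hy ▸ ⟨t, rfl⟩ : y t ∈ (U (rt cs w i) : Set A))
    · intro hg
      have h1 : h⁻¹ * g * h⁻¹⁻¹ ∈ (U (rt cs w i) : Set A) := tor_conj H hi hg
      rw [← hy] at h1
      obtain ⟨t, ht⟩ := h1
      exact ⟨t, by change h * y t * h⁻¹ = g; rw [ht]; group⟩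
  obtain ⟨τ, c, hc, h1, -⟩ := GlueA.compare par (par.conj h) (key xp 1 hp)
    (key xm (cs.simple i) hm)
  exact ⟨c, hc, τ, h1⟩

/-- The homomorphism `A_{c,d} → ΓL₁(F)` of a node parametrised by a field. -/
theorem exists_torHom [Finite W] [Finite F] (par : SL2Par xp xm)
    (hp : Set.range xp = U (rt cs 1 i)) (hm : Set.range xm = U (rt cs (cs.simple i) i)) :
    ∃ f : ↥(Tor cs A σ) →* GL1 F, ∀ h t,
      xp ((f h : Equiv.Perm F) t) = (h : A) * xp t * (h : A)⁻¹ := by
  have h1 := fun h : ↥(Tor cs A σ) => tor_semilinear H par hp hm h.2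
  choose c hc τ hτ using h1
  let g : ↥(Tor cs A σ) → Equiv.Perm F := fun h =>
    (τ h).toEquiv.trans (Equiv.mulLeft₀ (c h) (hc h))
  have hg : ∀ h t, xp (g h t) = (h : A) * xp t * (h : A)⁻¹ := fun h t => (hτ h t).symm
  refine ⟨MonoidHom.mk' (fun h => ⟨g h, c h, hc h, τ h, fun t => rfl⟩) ?_, hg⟩
  intro a b
  apply Subtype.ext
  ext t
  apply par.injp
  change xp (g (a * b) t) = xp (g a (g b t))
  rw [hg, hg, hg]
  simp only [Subgroup.coe_mul]
  group

/-- The image of `A_{c,d}` on a node parametrised by a field, in the form of `tor_solvable`. -/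
theorem exists_hom_solvable [Finite W] [Finite F] (par : SL2Par xp xm)
    (hp : Set.range xp = U (rt cs 1 i)) (hm : Set.range xm = U (rt cs (cs.simple i) i)) :
    ∃ f : ↥(Tor cs A σ) →* GL1 F, ∀ h : ↥(Tor cs A σ), f h = 1 →
      ∀ u ∈ U (rt cs 1 i), (h : A) * u = u * h := by
  obtain ⟨f, hf⟩ := exists_torHom H par hp hm
  refine ⟨f, fun h hh u hu => ?_⟩
  have hu' : u ∈ Set.range xp := hp ▸ hu
  obtain ⟨t, rfl⟩ := hu'
  have h1 := hf h t
  rw [hh] at h1
  rw [eq_mul_inv_iff_mul_eq] at h1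
  exact h1.symm

/-- The action of the fundamental root groups on the panels of `σ 1`. -/
theorem nodeAct {X : Type*} {xp xm : X → A} (hp : Set.range xp = U (rt cs 1 i))
    (hm : Set.range xm = U (rt cs (cs.simple i) i)) :
    Pack.NodeAct Δ (σ 1) i (σ (cs.simple i)) xp xm := by
  have e1 : Δ.δ (σ 1) (σ (cs.simple i)) = cs.simple i := by rw [H.chart, inv_one, one_mul]
  have e2 : Δ.δ (σ (cs.simple i)) (σ 1) = cs.simple i := Δ.δ_symm_simple e1
  have hs : σ (cs.simple i) ∈ Δ.Pan i (σ 1) := Or.inr e1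
  have hp1 : ∀ t, xp t ∈ U (rt cs 1 i) := fun t => (hp ▸ ⟨t, rfl⟩ : xp t ∈ (U (rt cs 1 i) : Set A))
  have hm1 : ∀ t, xm t ∈ U (rt cs (cs.simple i) i) := fun t =>
    (hm ▸ ⟨t, rfl⟩ : xm t ∈ (U (rt cs (cs.simple i) i) : Set A))
  refine ⟨hs, (Δ.ne_of_δ_simple e1).symm, fun t => H.fix (hp1 t) (self_mem_rt 1 i),
    fun t => H.fix (hm1 t) (self_mem_rt (cs.simple i) i), fun y hy hne => ?_, fun y hy hne => ?_⟩
  · obtain ⟨g, hg, h⟩ := H.trans 1 i (σ (cs.simple i)) y e1
      (Δ.δ_eq_of_mem_Pan (Δ.self_mem_Pan _ _) hy (Ne.symm hne))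
    have hg' : g ∈ Set.range xp := hp ▸ hg
    obtain ⟨t, rfl⟩ := hg'
    exact ⟨t, h⟩
  · obtain ⟨g, hg, h⟩ := H.trans (cs.simple i) i (σ 1) y e2 (Δ.δ_eq_of_mem_Pan hs hy (Ne.symm hne))
    have hg' : g ∈ Set.range xm := hm ▸ hg
    obtain ⟨t, rfl⟩ := hg'
    exact ⟨t, h⟩

end FNode

end Cfsg.Agent.TitsThree.EndGen
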