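import Cfsg.Agent.TitsThree.AssembleBase
import Cfsg.Agent.TitsThree.RankTwoA2
import Cfsg.Agent.TitsThree.CoreB2
import Cfsg.Agent.TitsThree.NormalTrans
import Cfsg.Agent.Tits.ExtAux
import Cfsg.Agent.TitsThree.B2NI
import Mathlib
import Cfsg.Agent.TitsThree.Pack
import Cfsg.Agent.TitsThree.Tree
import Cfsg.Agent.Tits.MouOut
import Cfsg.Agent.TitsThree.B2Transport
import Cfsg.Agent.TitsThree.EvenSp
import Cfsg.Agent.TitsThree.PQClass
import Cfsg.Agent.TitsThree.GlueA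
import Cfsg.Agent.TitsThree.EndGen
import Cfsg.Agent.Tits.RGOut_mg
import Cfsg.Agent.TitsThree.PQAbs
import Cfsg.Agent.TitsThree.EndHyp
set_option linter.all false

-- part: TitsThree/AssembleEdge
section
/-!
# GU assembly: a simple bond (S1143)

For two nodes joined by a simple bond, with root elements in `A × K` forming a Steinberg system of
type `A₂`: the elements `n(t)` map `c` to `ci`, and the stabiliser of `c` in the rank two subgroup is
generated by its intersections with the rank one subgroups and its second components lie in `Bor`.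
-/

set_option autoImplicit false

namespace Cfsg.Agent.TitsThree.AssembleEdge

open Cfsg.Agent.Tits.Core Cfsg.Agent.Tits.Core.Bldg Cfsg.Agent.AGraded
open Cfsg.Agent.TitsThree.Pack Cfsg.Agent.TitsThree.AssembleBase

variable {I : Type*} {M : CoxeterMatrix I} {W : Type*} [Group W] {cs : CoxeterSystem M W}
variable {C A K : Type*} [Group A] [Group K] [MulAction A C] {F : Type*} [Field F]
variable {Δ : Bldg cs C} {c : C} {i j : I} {ci cj : C}
variable {xp xm yp ym : F → A} {xp' xm' yp' ym' : F → K}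

/-- pairs -/
abbrev pr {X : Type*} (x : X → A) (x' : X → K) : X → A × K := fun t => (x t, x' t)

theorem nn_mem (t : F) : nn (pr xp xp') (pr xm xm') t ∈ Gam xp xm xp' xm' :=
  mul_mem (mul_mem (Gam.pos t) (Gam.neg _)) (Gam.pos t)

/-- `n(t) c = ci`, if `n(t)` swaps the two root groups. -/
theorem nn_smul_of (iso : ∀ (a : A) x y, Δ.δ (a • x) (a • y) = Δ.δ x y) (hth : Δ.Thick)
    (h : NodeAct Δ c i ci xp xm) {t : F}
    (hconj : ∀ r, ∃ s, nn (pr xp xp') (pr xm xm') t * (xp s, xp' s) *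
      (nn (pr xp xp') (pr xm xm') t)⁻¹ = (xm r, xm' r)) :
    (nn (pr xp xp') (pr xm xm') t).1 • c = ci := by
  apply swap_smul hth h (pan_Gam iso h xp' xm' _ (nn_mem t))
  intro r
  obtain ⟨s, hs⟩ := hconj r
  exact ⟨s, congrArg Prod.fst hs⟩

section

variable (iso : ∀ (a : A) x y, Δ.δ (a • x) (a • y) = Δ.δ x y) (hth : Δ.Thick)
  (hi : NodeAct Δ c i ci xp xm) (hj : NodeAct Δ c j cj yp ym)
  (he : Edge3 (pr xp xp') (pr xm xm') (pr yp yp') (pr ym ym'))

include iso hth he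

omit iso hth in
theorem conj_left (t : F) (ht : t ≠ 0) (r : F) : ∃ s, nn (pr xp xp') (pr xm xm') t * (xp s, xp' s) *
      (nn (pr xp xp') (pr xm xm') t)⁻¹ = (xm r, xm' r) := by
  obtain ⟨x, hx, h1, h2, -, -⟩ := he
  refine ⟨-(t * r * t), ?_⟩
  have e := RankTwoA2.n_ab hx (a := 0) (b := 1) (c := 2) (by decide) (by decide) (by decide) ht
    (-(t * r * t))
  have e1 : -(t⁻¹ * -(t * r * t) * t⁻¹) = r := by field_simp
  rw [e1] at e
  unfold RankTwoA2.n at e
  rw [h1, h2] at e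
  exact e

omit iso hth in
theorem conj_right (t : F) (ht : t ≠ 0) (r : F) : ∃ s, nn (pr yp yp') (pr ym ym') t * (yp s, yp' s) *
      (nn (pr yp yp') (pr ym ym') t)⁻¹ = (ym r, ym' r) := by
  obtain ⟨x, hx, -, -, h1, h2⟩ := he
  refine ⟨-(t * r * t), ?_⟩
  have e := RankTwoA2.n_ab hx (a := 1) (b := 2) (c := 0) (by decide) (by decide) (by decide) ht
    (-(t * r * t))
  have e1 : -(t⁻¹ * -(t * r * t) * t⁻¹) = r := by field_simp
  rw [e1] at e
  unfold RankTwoA2.n at e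
  rw [h1, h2] at e
  exact e

include hi in
theorem nn_smul_left (t : F) (ht : t ≠ 0) : (nn (pr xp xp') (pr xm xm') t).1 • c = ci :=
  nn_smul_of iso hth hi (conj_left he t ht)

include hj in
theorem nn_smul_right (t : F) (ht : t ≠ 0) : (nn (pr yp yp') (pr ym ym') t).1 • c = cj :=
  nn_smul_of iso hth hj (conj_right he t ht)

include hi hj in
/-- **The stabiliser of `c` for a simple bond.** -/
theorem stab {Bor : Subgroup K} (h1 : ∀ t, xp' t ∈ Bor) (h2 : ∀ t, yp' t ∈ Bor)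
    (h3 : ∀ t, t ≠ 0 → hh xp' xm' t ∈ Bor) (h4 : ∀ t, t ≠ 0 → hh yp' ym' t ∈ Bor)
    {g : A × K} (hg : g ∈ Gam xp xm xp' xm' ⊔ Gam yp ym yp' ym') (hgc : g.1 • c = c) :
    g.2 ∈ Bor ∧ g ∈ Subgroup.closure
      {h : A × K | (h ∈ Gam xp xm xp' xm' ∨ h ∈ Gam yp ym yp' ym') ∧ h.1 • c = c} := by
  have n1 := nn_smul_left iso hth hi he
  have n2 := nn_smul_right iso hth hj he
  obtain ⟨x, hx, e1, e2, e3, e4⟩ := he
  set T : Subgroup (A × K) := (MulAction.stabilizer A c).comap (MonoidHom.fst A K) with hT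
  have memT : ∀ g : A × K, g ∈ T ↔ g.1 • c = c := fun g => Iff.rfl
  have en : ∀ t, RankTwoA2.n x 0 1 t = nn (pr xp xp') (pr xm xm') t := by
    intro t; unfold RankTwoA2.n nn; rw [e1, e2]
  have en' : ∀ t, RankTwoA2.n x 1 2 t = nn (pr yp yp') (pr ym ym') t := by
    intro t; unfold RankTwoA2.n nn; rw [e3, e4]
  have k1 : ∀ s t : F, s ≠ 0 → t ≠ 0 → RankTwoA2.n x 0 1 s * (RankTwoA2.n x 0 1 t)⁻¹ ∈ T := by
    intro s t hs ht
    rw [memT, en, en, Prod.fst_mul, Prod.fst_inv, mul_smul]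
    have h5 : (nn (pr xp xp') (pr xm xm') t).1⁻¹ • c = (nn (pr xp xp') (pr xm xm') t).1⁻¹ • c := rfl
    -- `n(t)⁻¹ c = ci`
    have h6 : ∀ t, t ≠ 0 → (nn (pr xp xp') (pr xm xm') t).1⁻¹ • c = ci := by
      intro t ht
      have h7 := n1 (-t) (neg_ne_zero.2 ht)
      rw [← en, ← RankTwoA2.n_inv hx (by decide) t, en, Prod.fst_inv] at h7
      exact h7
    rw [h6 t ht, ← h6 s hs, smul_inv_smul]
  have k2 : ∀ s t : F, s ≠ 0 → t ≠ 0 → RankTwoA2.n x 1 2 s * (RankTwoA2.n x 1 2 t)⁻¹ ∈ T := by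
    intro s t hs ht
    rw [memT, en', en', Prod.fst_mul, Prod.fst_inv, mul_smul]
    have h6 : ∀ t, t ≠ 0 → (nn (pr yp yp') (pr ym ym') t).1⁻¹ • c = cj := by
      intro t ht
      have h7 := n2 (-t) (neg_ne_zero.2 ht)
      rw [← en', ← RankTwoA2.n_inv hx (by decide) t, en', Prod.fst_inv] at h7
      exact h7
    rw [h6 t ht, ← h6 s hs, smul_inv_smul]
  have hle1 : Gam xp xm xp' xm' ≤ Gam xp xm xp' xm' ⊔ Gam yp ym yp' ym' := le_sup_left
  have hle2 : Gam yp ym yp' ym' ≤ Gam xp xm xp' xm' ⊔ Gam yp ym yp' ym' := le_sup_right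
  have key : (Gam xp xm xp' xm' ⊔ Gam yp ym yp' ym') ⊓ T =
      Subgroup.closure (RankTwoA2.gensB x) := by
    apply RankTwoA2.stab_eq hx
    · refine le_trans inf_le_left (sup_le ?_ ?_)
      · refine (Subgroup.closure_le _).2 ?_
        rintro g (⟨t, rfl⟩ | ⟨t, rfl⟩)
        · exact Subgroup.subset_closure ⟨0, 1, t, by decide, (congrFun e1 t).symm⟩
        · exact Subgroup.subset_closure ⟨1, 0, t, by decide, (congrFun e2 t).symm⟩
      · refine (Subgroup.closure_le _).2 ?_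
        rintro g (⟨t, rfl⟩ | ⟨t, rfl⟩)
        · exact Subgroup.subset_closure ⟨1, 2, t, by decide, (congrFun e3 t).symm⟩
        · exact Subgroup.subset_closure ⟨2, 1, t, by decide, (congrFun e4 t).symm⟩
    · intro t
      refine ⟨?_, ?_⟩
      · rw [e1]; exact hle1 (Gam.pos t)
      · show x 0 1 t ∈ T
        rw [e1]; exact hi.fix t
    · intro t
      refine ⟨?_, ?_⟩
      · rw [e3]; exact hle2 (Gam.pos t)
      · show x 1 2 t ∈ T
        rw [e3]; exact hj.fix t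
    · intro s t hs ht
      refine ⟨?_, k1 s t hs ht⟩
      rw [en, en]
      exact hle1 (mul_mem (nn_mem s) (inv_mem (nn_mem t)))
    · intro s t hs ht
      refine ⟨?_, k2 s t hs ht⟩
      rw [en', en']
      exact hle2 (mul_mem (nn_mem s) (inv_mem (nn_mem t)))
    · intro h
      have h5 : (RankTwoA2.n x 0 1 1).1 • c = c := h.2
      rw [en, n1 1 one_ne_zero] at h5
      exact hi.ne h5
    · intro h
      have h5 : (RankTwoA2.n x 1 2 1).1 • c = c := h.2
      rw [en', n2 1 one_ne_zero] at h5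
      exact hj.ne h5
  have hg' : g ∈ Subgroup.closure (RankTwoA2.gensB x) := by
    rw [← key]; exact ⟨hg, hgc⟩
  have b1 : ∀ s t : F, s ≠ 0 → t ≠ 0 → (RankTwoA2.n x 0 1 s * (RankTwoA2.n x 0 1 t)⁻¹).2 ∈ Bor := by
    intro s t hs ht
    have h5 := mul_mem (h3 s hs) (inv_mem (h3 t ht))
    have e : (RankTwoA2.n x 0 1 s * (RankTwoA2.n x 0 1 t)⁻¹).2 =
        hh xp' xm' s * (hh xp' xm' t)⁻¹ := by
      rw [en, en]
      show nn xp' xm' s * (nn xp' xm' t)⁻¹ = _
      unfold hh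
      group
    rw [e]; exact h5
  have b2 : ∀ s t : F, s ≠ 0 → t ≠ 0 → (RankTwoA2.n x 1 2 s * (RankTwoA2.n x 1 2 t)⁻¹).2 ∈ Bor := by
    intro s t hs ht
    have h5 := mul_mem (h4 s hs) (inv_mem (h4 t ht))
    have e : (RankTwoA2.n x 1 2 s * (RankTwoA2.n x 1 2 t)⁻¹).2 =
        hh yp' ym' s * (hh yp' ym' t)⁻¹ := by
      rw [en', en']
      show nn yp' ym' s * (nn yp' ym' t)⁻¹ = _
      unfold hh
      group
    rw [e]; exact h5
  constructor
  · have h5 : Subgroup.closure (RankTwoA2.gensB x) ≤ Bor.comap (MonoidHom.snd A K) := by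
      refine (Subgroup.closure_le _).2 ?_
      rintro h ((⟨t, rfl⟩ | ⟨t, rfl⟩) | (⟨s, t, hs, ht, rfl⟩ | ⟨s, t, hs, ht, rfl⟩))
      · show (x 0 1 t).2 ∈ Bor
        rw [e1]; exact h1 t
      · show (x 1 2 t).2 ∈ Bor
        rw [e3]; exact h2 t
      · exact b1 s t hs ht
      · exact b2 s t hs ht
    exact h5 hg'
  · refine Subgroup.closure_le _ |>.2 ?_ hg'
    rintro h ((⟨t, rfl⟩ | ⟨t, rfl⟩) | (⟨s, t, hs, ht, rfl⟩ | ⟨s, t, hs, ht, rfl⟩))
    · rw [e1]; exact Subgroup.subset_closure ⟨Or.inl (Gam.pos t), hi.fix t⟩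
    · rw [e3]; exact Subgroup.subset_closure ⟨Or.inr (Gam.pos t), hj.fix t⟩
    · refine Subgroup.subset_closure ⟨Or.inl ?_, k1 s t hs ht⟩
      rw [en, en]
      exact mul_mem (nn_mem s) (inv_mem (nn_mem t))
    · refine Subgroup.subset_closure ⟨Or.inr ?_, k2 s t hs ht⟩
      rw [en', en']
      exact mul_mem (nn_mem s) (inv_mem (nn_mem t))

end

end Cfsg.Agent.TitsThree.AssembleEdge
end

-- part: TitsThree/AssembleB2
section
/-!
# GU assembly: the double bond (S1143)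

`nt_smul`, `nII_smul`: the elements `n_I(t)`, `n_II(p)` of `A × K` move `c` to the neighbours in the
apartment.  `stab`: the stabiliser of `c` in the rank two subgroup of the double bond is generated by
rank one stabilisers and the elements `y b`.  `genP_y`: the property `GenP` of `y b` with respect to a
node joined to the type I node only.
-/

set_option autoImplicit false

namespace Cfsg.Agent.TitsThree.AssembleB2

open Cfsg.Agent.Tits.Core Cfsg.Agent.Tits.Core.Bldg Cfsg.Agent.AGraded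
open Cfsg.Agent.TitsThree.Pack Cfsg.Agent.TitsThree.AssembleBase Cfsg.Agent.TitsThree.AssembleEdge
open Cfsg.Agent.TitsThree.B2Pkg Cfsg.Agent.TitsThree.CoreB2

variable {I : Type*} {M : CoxeterMatrix I} {W : Type*} [Group W] {cs : CoxeterSystem M W}
variable {C : Type*} {A K : Type*} [Group A] [Group K] [MulAction A C] {F : Type*} [Field F]
variable {V : Type*} [AddCommGroup V] [Module F V] {D : PQDatum F V}
variable {Δ : Bldg cs C} {c : C} {i j : I} {ci cj : C} {a : B2Maps D A} {k : B2Maps D K}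

section Conj

variable {Y : Type*} [Group Y] {m : B2Maps D Y} (h : B2Rel m) (hn : NIRel m)

include h hn in
theorem nt_conj_surj {t : F} (ht : t ≠ 0) (r : F) :
    ∃ s, nt m t * m.x s * (nt m t)⁻¹ = m.x' r := by
  obtain ⟨s, hs⟩ := hn.x' (-t) (neg_ne_zero.2 ht) r
  rw [CoreB2.nt_neg h, inv_inv] at hs
  refine ⟨s, ?_⟩
  rw [← hs]; group

include h in
theorem nII_conj_surj {p : D.T} (hp : p.c ≠ 0) (r : D.T) :
    ∃ s, m.nII p * m.z₂ s * (m.nII p)⁻¹ = m.z₂' r := by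
  have hp' : (p⁻¹).c ≠ 0 := CoreB2.inv_c_ne hp
  have h1 := h.nII_z₂' p⁻¹ hp' r
  rw [← CoreB2.nII_inv h, inv_inv] at h1
  refine ⟨D.sc (D.ε⁻¹ * p⁻¹.c) (D.refl p⁻¹ hp' r), ?_⟩
  rw [← h1]; group

end Conj

theorem nt_mem_Gam (t : F) : nt (a.prod k) t ∈ Gam a.x a.x' k.x k.x' := nn_mem t

theorem nII_mem_Gam (p : D.T) : (a.prod k).nII p ∈ Gam a.z₂ a.z₂' k.z₂ k.z₂' :=
  mul_mem (mul_mem (Gam.neg _) (Gam.pos p)) (Gam.neg _)

section

variable (iso : ∀ (g : A) x y, Δ.δ (g • x) (g • y) = Δ.δ x y) (hth : Δ.Thick)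
  (hi : NodeAct Δ c i ci a.x a.x') (hj : NodeAct Δ c j cj a.z₂ a.z₂')
  (h : B2Rel (a.prod k)) (hn : NIRel (a.prod k))

include iso hth h

include hi hn in
theorem nt_smul (t : F) (ht : t ≠ 0) : (nt (a.prod k) t).1 • c = ci := by
  apply swap_smul hth hi (pan_Gam iso hi k.x k.x' _ (nt_mem_Gam t))
  intro r
  obtain ⟨s, hs⟩ := nt_conj_surj h hn ht r
  exact ⟨s, congrArg Prod.fst hs⟩

include hj in
theorem nII_smul (p : D.T) (hp : p.c ≠ 0) : ((a.prod k).nII p).1 • c = cj := by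
  apply swap_smul hth hj (pan_Gam iso hj k.z₂ k.z₂' _ (nII_mem_Gam p))
  intro r
  obtain ⟨s, hs⟩ := nII_conj_surj h hp r
  exact ⟨s, congrArg Prod.fst hs⟩

include hi hj hn in
/-- **The stabiliser of `c` for the double bond.** -/
theorem stab (y_fix : ∀ b, a.y b • c = c) (ex : ∃ p : D.T, p.c ≠ 0) {Bor : Subgroup K}
    (h1 : ∀ t, k.x t ∈ Bor) (h2 : ∀ p, k.z₂ p ∈ Bor) (h2' : ∀ b, k.y b ∈ Bor)
    (h3 : ∀ t, t ≠ 0 → hh k.x k.x' t ∈ Bor)
    (h4 : ∀ p q : D.T, p.c ≠ 0 → q.c ≠ 0 → k.nII p * (k.nII q)⁻¹ ∈ Bor)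
    {g : A × K} (hg : g ∈ Gam a.x a.x' k.x k.x' ⊔ Gam a.z₂ a.z₂' k.z₂ k.z₂') (hgc : g.1 • c = c) :
    g.2 ∈ Bor ∧ g ∈ Subgroup.closure
      ({h : A × K | (h ∈ Gam a.x a.x' k.x k.x' ∨ h ∈ Gam a.z₂ a.z₂' k.z₂ k.z₂') ∧ h.1 • c = c} ∪
        Set.range (a.prod k).y) := by
  have n1 := nt_smul iso hth hi h hn
  have n2 := nII_smul iso hth hj h
  set T : Subgroup (A × K) := (MulAction.stabilizer A c).comap (MonoidHom.fst A K) with hT
  have memT : ∀ g : A × K, g ∈ T ↔ g.1 • c = c := fun g => Iff.rfl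
  have k1 : ∀ s t : F, s ≠ 0 → t ≠ 0 → nt (a.prod k) s * (nt (a.prod k) t)⁻¹ ∈ T := by
    intro s t hs ht
    rw [memT, Prod.fst_mul, Prod.fst_inv, mul_smul]
    have h6 : ∀ t, t ≠ 0 → (nt (a.prod k) t).1⁻¹ • c = ci := by
      intro t ht
      have h7 := n1 (-t) (neg_ne_zero.2 ht)
      rw [CoreB2.nt_neg h, Prod.fst_inv] at h7
      exact h7
    rw [h6 t ht, ← h6 s hs, smul_inv_smul]
  have k2 : ∀ p q : D.T, p.c ≠ 0 → q.c ≠ 0 → (a.prod k).nII p * ((a.prod k).nII q)⁻¹ ∈ T := by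
    intro p q hp hq
    rw [memT, Prod.fst_mul, Prod.fst_inv, mul_smul]
    have h6 : ∀ p : D.T, p.c ≠ 0 → ((a.prod k).nII p).1⁻¹ • c = cj := by
      intro p hp
      have h7 := n2 p⁻¹ (CoreB2.inv_c_ne hp)
      rw [← CoreB2.nII_inv h, Prod.fst_inv] at h7
      exact h7
    rw [h6 q hq, ← h6 p hp, smul_inv_smul]
  set G1 := Gam a.x a.x' k.x k.x' with hG1
  set G2 := Gam a.z₂ a.z₂' k.z₂ k.z₂' with hG2
  have hle1 : G1 ≤ G1 ⊔ G2 := le_sup_left
  have hle2 : G2 ≤ G1 ⊔ G2 := le_sup_right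
  have hy_mem : ∀ b, (a.prod k).y b ∈ G1 ⊔ G2 := by
    intro b
    obtain ⟨p, hp⟩ := ex
    have h7 := h.nII_y p hp b
    have e : (a.prod k).y b = ((a.prod k).nII p)⁻¹ * (a.prod k).x (p.c⁻¹ * b) * (a.prod k).nII p := by
      rw [← h7]; group
    rw [e]
    exact mul_mem (mul_mem (inv_mem (hle2 (nII_mem_Gam p))) (hle1 (Gam.pos _))) (hle2 (nII_mem_Gam p))
  have key : (G1 ⊔ G2) ⊓ T ≤ Subgroup.closure (stabSet (a.prod k)) := by
    apply b2_stab h hn
    · refine le_trans inf_le_left (sup_le ?_ ?_)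
      · refine (Subgroup.closure_le _).2 ?_
        rintro g (⟨t, rfl⟩ | ⟨t, rfl⟩)
        · exact Subgroup.subset_closure (Or.inl ⟨t, Or.inl rfl⟩)
        · exact Subgroup.subset_closure (Or.inl ⟨t, Or.inr rfl⟩)
      · refine (Subgroup.closure_le _).2 ?_
        rintro g (⟨t, rfl⟩ | ⟨t, rfl⟩)
        · exact Subgroup.subset_closure (Or.inr ⟨t, Or.inl rfl⟩)
        · exact Subgroup.subset_closure (Or.inr ⟨t, Or.inr rfl⟩)
    · exact fun t => ⟨hle1 (Gam.pos t), hi.fix t⟩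
    · exact fun t => ⟨hle2 (Gam.pos t), hj.fix t⟩
    · exact fun b => ⟨hy_mem b, y_fix b⟩
    · exact fun s t hs ht => ⟨hle1 (mul_mem (nt_mem_Gam s) (inv_mem (nt_mem_Gam t))), k1 s t hs ht⟩
    · exact fun p q hp hq =>
        ⟨hle2 (mul_mem (nII_mem_Gam p) (inv_mem (nII_mem_Gam q))), k2 p q hp hq⟩
    · intro h'
      have h5 : (nt (a.prod k) 1).1 • c = c := h'.2
      rw [n1 1 one_ne_zero] at h5
      exact hi.ne h5
    · intro p hp h'
      have h5 : ((a.prod k).nII p).1 • c = c := h'.2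
      rw [n2 p hp] at h5
      exact hj.ne h5
    · exact ex
  have hg' : g ∈ Subgroup.closure (stabSet (a.prod k)) := key ⟨hg, hgc⟩
  constructor
  · have h5 : Subgroup.closure (stabSet (a.prod k)) ≤ Bor.comap (MonoidHom.snd A K) := by
      refine (Subgroup.closure_le _).2 ?_
      rintro h' ((⟨t, rfl⟩ | ⟨t, rfl⟩ | ⟨t, rfl⟩) | (⟨s, t, hs, ht, rfl⟩ | ⟨s, t, hs, ht, rfl⟩))
      · exact h1 t
      · exact h2 t
      · exact h2' t
      · have h6 := mul_mem (h3 s hs) (inv_mem (h3 t ht))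
        have e : (nt (a.prod k) s * (nt (a.prod k) t)⁻¹).2 = hh k.x k.x' s * (hh k.x k.x' t)⁻¹ := by
          show nn k.x k.x' s * (nn k.x k.x' t)⁻¹ = _
          unfold hh
          group
        show (nt (a.prod k) s * (nt (a.prod k) t)⁻¹).2 ∈ Bor
        rw [e]; exact h6
      · exact h4 s t hs ht
    exact h5 hg'
  · refine Subgroup.closure_le _ |>.2 ?_ hg'
    rintro h' ((⟨t, rfl⟩ | ⟨t, rfl⟩ | ⟨t, rfl⟩) | (⟨s, t, hs, ht, rfl⟩ | ⟨s, t, hs, ht, rfl⟩))
    · exact Subgroup.subset_closure (Or.inl ⟨Or.inl (Gam.pos t), hi.fix t⟩)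
    · exact Subgroup.subset_closure (Or.inl ⟨Or.inr (Gam.pos t), hj.fix t⟩)
    · exact Subgroup.subset_closure (Or.inr ⟨t, rfl⟩)
    · exact Subgroup.subset_closure (Or.inl
        ⟨Or.inl (mul_mem (nt_mem_Gam s) (inv_mem (nt_mem_Gam t))), k1 s t hs ht⟩)
    · exact Subgroup.subset_closure (Or.inl
        ⟨Or.inr (mul_mem (nII_mem_Gam s) (inv_mem (nII_mem_Gam t))), k2 s t hs ht⟩)

end

/-- `y b` lies in the rank two subgroup. -/
theorem y_mem (h : B2Rel (a.prod k)) (ex : ∃ p : D.T, p.c ≠ 0) (b : F) :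
    (a.prod k).y b ∈ Gam a.x a.x' k.x k.x' ⊔ Gam a.z₂ a.z₂' k.z₂ k.z₂' := by
  obtain ⟨p, hp⟩ := ex
  have h7 := h.nII_y p hp b
  have e : (a.prod k).y b = ((a.prod k).nII p)⁻¹ * (a.prod k).x (p.c⁻¹ * b) * (a.prod k).nII p := by
    rw [← h7]; group
  rw [e]
  exact mul_mem (mul_mem (inv_mem (Subgroup.mem_sup_right (nII_mem_Gam p)))
    (Subgroup.mem_sup_left (Gam.pos _))) (Subgroup.mem_sup_right (nII_mem_Gam p))

section Adjacent

variable {Y : Type*} [Group Y] {m : B2Maps D Y} (h : B2Rel m) {x : Fin 3 → Fin 3 → F → Y}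
  (hx : SteinRel x) (e12 : x 1 2 = m.x)

theorem mem_normalizer_of {N : Subgroup Y} {g : F → Y} (hneg : ∀ t, g (-t) = (g t)⁻¹)
    (hg : ∀ t, ∀ y ∈ N, g t * y * (g t)⁻¹ ∈ N) (t : F) : g t ∈ Subgroup.normalizer (N : Set Y) := by
  rw [Subgroup.mem_normalizer_iff]
  intro y
  refine ⟨fun hy => hg t y hy, fun hy => ?_⟩
  have h1 := hg (-t) _ hy
  rw [hneg, inv_inv] at h1
  have e : (g t)⁻¹ * (g t * y * (g t)⁻¹) * g t = y := by group
  rwa [e] at h1

include h hx e12 in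
/-- The group generated by the `y b` and their `Γ_k`-conjugates, for a node `k` joined to the type I
node only. -/
theorem conj_y {B : Subgroup Y} (p : D.T) (hp : p.c ≠ 0)
    (c01 : ∀ t, Commute (x 0 1 t) (m.nII p)) (c10 : ∀ t, Commute (x 1 0 t) (m.nII p))
    (hy : ∀ b, m.y b ∈ B) (hx01 : ∀ t, x 0 1 t ∈ B) {g : Y}
    (hg : g ∈ Subgroup.closure (Set.range (x 0 1) ∪ Set.range (x 1 0))) (b : F) :
    g⁻¹ * m.y b * g ∈ B := by
  set ν := m.nII p with hν
  -- `y b = ν x(a) ν⁻¹`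
  have hyx : ∀ b, m.y b = ν * x 1 2 (D.ε⁻¹ * (D.σ p.c)⁻¹ * b) * ν⁻¹ := by
    intro b
    have h1 := h.nII_x p hp (D.ε⁻¹ * (D.σ p.c)⁻¹ * b)
    have h2 : D.σ p.c ≠ 0 := fun h0 => hp ((map_eq_zero_iff D.σ D.σ.injective).1 h0)
    have h3 : D.ε * D.σ p.c * (D.ε⁻¹ * (D.σ p.c)⁻¹ * b) = b := by
      have := D.ε_ne
      field_simp
    rw [h3] at h1
    rw [e12, hν, h1]
  let y3 : F → Y := fun s => ν * x 0 2 s * ν⁻¹
  set N : Subgroup Y := Subgroup.closure (Set.range m.y ∪ Set.range y3) with hN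
  have yN : ∀ b, m.y b ∈ N := fun b => Subgroup.subset_closure (Or.inl ⟨b, rfl⟩)
  have y3N : ∀ s, y3 s ∈ N := fun s => Subgroup.subset_closure (Or.inr ⟨s, rfl⟩)
  have hcomm : ∀ {u v w : Y}, Commute u ν → u * v * u⁻¹ = w → u * (ν * v * ν⁻¹) * u⁻¹ = ν * w * ν⁻¹ := by
    intro u v w h1 h2
    rw [← h2]
    have h3 : u * ν = ν * u := h1
    calc u * (ν * v * ν⁻¹) * u⁻¹ = (u * ν) * v * (u * ν)⁻¹ := by group
      _ = (ν * u) * v * (ν * u)⁻¹ := by rw [h3]
      _ = _ := by group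
  -- conjugation formulas
  have f1 : ∀ t b, x 0 1 t * m.y b * (x 0 1 t)⁻¹ = y3 (t * (D.ε⁻¹ * (D.σ p.c)⁻¹ * b)) * m.y b := by
    intro t b
    rw [hyx b, hcomm (c01 t) (RankTwoA2.conj_left hx (by decide) (by decide) (by decide) _ t)]
    show _ = (ν * x 0 2 _ * ν⁻¹) * (ν * _ * ν⁻¹)
    group
  have f2 : ∀ t s, x 0 1 t * y3 s * (x 0 1 t)⁻¹ = y3 s := by
    intro t s
    show x 0 1 t * (ν * x 0 2 s * ν⁻¹) * (x 0 1 t)⁻¹ = ν * x 0 2 s * ν⁻¹
    rw [hcomm (c01 t) (RankTwoA2.conj_comm hx (by decide) (by decide) (by decide) (by decide) s t)]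
  have f3 : ∀ t b, x 1 0 t * m.y b * (x 1 0 t)⁻¹ = m.y b := by
    intro t b
    rw [hyx b, hcomm (c10 t) (RankTwoA2.conj_comm hx (by decide) (by decide) (by decide) (by decide) _ t)]
  have f4 : ∀ t s, x 1 0 t * y3 s * (x 1 0 t)⁻¹ = ν * x 1 2 (t * s) * ν⁻¹ * y3 s := by
    intro t s
    show x 1 0 t * (ν * x 0 2 s * ν⁻¹) * (x 1 0 t)⁻¹ = _ * (ν * x 0 2 s * ν⁻¹)
    rw [hcomm (c10 t) (RankTwoA2.conj_left hx (by decide) (by decide) (by decide) s t)]
    group
  have xN : ∀ s, ν * x 1 2 s * ν⁻¹ ∈ N := by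
    intro s
    have h1 := h.nII_x p hp s
    rw [e12, hν, h1]
    exact yN _
  have gen_conj : ∀ {g : Y}, (∀ b, g * m.y b * g⁻¹ ∈ N) → (∀ s, g * y3 s * g⁻¹ ∈ N) →
      ∀ y ∈ N, g * y * g⁻¹ ∈ N := by
    intro g h1 h2 y hy
    have : N ≤ N.comap (MulAut.conj g).toMonoidHom := by
      conv_lhs => rw [hN]
      refine (Subgroup.closure_le _).2 ?_
      rintro _ (⟨b, rfl⟩ | ⟨s, rfl⟩)
      · exact h1 b
      · exact h2 s
    exact this hy
  have n01 : ∀ t, x 0 1 t ∈ Subgroup.normalizer (N : Set Y) := by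
    apply mem_normalizer_of (fun t => hx.neg (by decide) t)
    intro t
    apply gen_conj
    · intro b; rw [f1]; exact mul_mem (y3N _) (yN _)
    · intro s; rw [f2]; exact y3N _
  have n10 : ∀ t, x 1 0 t ∈ Subgroup.normalizer (N : Set Y) := by
    apply mem_normalizer_of (fun t => hx.neg (by decide) t)
    intro t
    apply gen_conj
    · intro b; rw [f3]; exact yN _
    · intro s; rw [f4]; exact mul_mem (xN _) (y3N _)
  have hgn : g⁻¹ ∈ Subgroup.normalizer (N : Set Y) := by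
    refine inv_mem ((Subgroup.closure_le _).2 ?_ hg)
    rintro _ (⟨t, rfl⟩ | ⟨t, rfl⟩)
    · exact n01 t
    · exact n10 t
  have h1 : g⁻¹ * m.y b * g⁻¹⁻¹ ∈ N := (Subgroup.mem_normalizer_iff.1 hgn _).1 (yN b)
  rw [inv_inv] at h1
  have hNB : N ≤ B := by
    refine (Subgroup.closure_le _).2 ?_
    rintro _ (⟨b, rfl⟩ | ⟨s, rfl⟩)
    · exact hy b
    · have h5 := f1 s (D.ε * D.σ p.c)
      have h2 : D.σ p.c ≠ 0 := fun h0 => hp ((map_eq_zero_iff D.σ D.σ.injective).1 h0)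
      have h6 : s * (D.ε⁻¹ * (D.σ p.c)⁻¹ * (D.ε * D.σ p.c)) = s := by
        have := D.ε_ne
        field_simp
      rw [h6] at h5
      have h7 : y3 s = x 0 1 s * m.y (D.ε * D.σ p.c) * (x 0 1 s)⁻¹ * (m.y (D.ε * D.σ p.c))⁻¹ := by
        rw [h5]; group
      rw [h7]
      exact mul_mem (mul_mem (mul_mem (hx01 s) (hy _)) (inv_mem (hx01 s))) (inv_mem (hy _))
  exact hNB h1

end Adjacent

end Cfsg.Agent.TitsThree.AssembleB2
end

-- part: TitsThree/AssembleCN
section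
/-!
# GU assembly of type `C_{n+1}` (S1143)

`stab_le` (L1): a package of type `C_{n+1}` in a group `G` acting on the building `Δ` and the same
package in a group `K`: the elements of the group generated by the pairs of root elements which fix
the base chamber have their second component in `Bor`.
`nonempty_mulEquiv` (L2): `GCN` + `KCN` ⟹ `G ≃* K`.
-/

set_option autoImplicit false

namespace Cfsg.Agent.TitsThree.AssembleCN

open Cfsg.Agent.Tits.Core Cfsg.Agent.Tits.Core.Bldg Cfsg.Agent.AGraded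
open Cfsg.Agent.TitsThree.Pack Cfsg.Agent.TitsThree.AssembleBase Cfsg.Agent.TitsThree.AssembleEdge
open Cfsg.Agent.TitsThree.B2Pkg Cfsg.Agent.TitsThree.CoreB2

variable {F : Type*} [Field F] {V : Type*} [AddCommGroup V] [Module F V] {D : PQDatum F V}
variable {n : ℕ} {M : CoxeterMatrix (Fin (n + 1))} {W : Type*} [Group W] {cs : CoxeterSystem M W}
variable {C G K : Type*} [Group G] [Group K] [MulAction G C]

/-- The rank one subgroups of `G × K`. -/
def Gi (g : CN G D n) (k : CN K D n) : Fin (n + 1) → Subgroup (G × K) :=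
  Fin.lastCases (Gam g.b2.z₂ g.b2.z₂' k.b2.z₂ k.b2.z₂')
    (fun i => Gam (g.xp i) (g.xm i) (k.xp i) (k.xm i))

@[simp] theorem Gi_last (g : CN G D n) (k : CN K D n) :
    Gi g k (Fin.last n) = Gam g.b2.z₂ g.b2.z₂' k.b2.z₂ k.b2.z₂' := by
  simp [Gi]

@[simp] theorem Gi_castSucc (g : CN G D n) (k : CN K D n) (i : Fin n) :
    Gi g k i.castSucc = Gam (g.xp i) (g.xm i) (k.xp i) (k.xm i) := by
  simp [Gi]

/-- The group generated by the pairs of root elements. -/
def graph (g : CN G D n) (k : CN K D n) : Subgroup (G × K) :=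
  Subgroup.closure {p : G × K | (∃ i t, p = (g.xp i t, k.xp i t) ∨ p = (g.xm i t, k.xm i t)) ∨
    ∃ t, p = (g.b2.z₂ t, k.b2.z₂ t) ∨ p = (g.b2.z₂' t, k.b2.z₂' t)}

theorem graph_eq (g : CN G D n) (k : CN K D n) : graph g k = ⨆ i, Gi g k i := by
  apply le_antisymm
  · refine (Subgroup.closure_le _).2 ?_
    have h1 : ∀ i : Fin n, Gam (g.xp i) (g.xm i) (k.xp i) (k.xm i) ≤ ⨆ i, Gi g k i := fun i => by
      rw [← Gi_castSucc]; exact le_iSup (Gi g k) _
    have h2 : Gam g.b2.z₂ g.b2.z₂' k.b2.z₂ k.b2.z₂' ≤ ⨆ i, Gi g k i := by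
      rw [← Gi_last]; exact le_iSup (Gi g k) _
    rintro p (⟨i, t, rfl | rfl⟩ | ⟨t, rfl | rfl⟩)
    · exact h1 i (Gam.pos t)
    · exact h1 i (Gam.neg t)
    · exact h2 (Gam.pos t)
    · exact h2 (Gam.neg t)
  · refine iSup_le ?_
    refine Fin.lastCases ?_ ?_
    · rw [Gi_last]
      refine (Subgroup.closure_le _).2 ?_
      rintro p (⟨t, rfl⟩ | ⟨t, rfl⟩)
      · exact Subgroup.subset_closure (Or.inr ⟨t, Or.inl rfl⟩)
      · exact Subgroup.subset_closure (Or.inr ⟨t, Or.inr rfl⟩)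
    · intro i
      rw [Gi_castSucc]
      refine (Subgroup.closure_le _).2 ?_
      rintro p (⟨t, rfl⟩ | ⟨t, rfl⟩)
      · exact Subgroup.subset_closure (Or.inl ⟨i, t, Or.inl rfl⟩)
      · exact Subgroup.subset_closure (Or.inl ⟨i, t, Or.inr rfl⟩)

theorem pr_comm {a a' : G} {b b' : K} (h : Commute a a') (h' : Commute b b') :
    ((a', b') : G × K) * (a, b) = (a, b) * (a', b') := Prod.ext h.symm h'.symm

/-- Two rank one subgroups commute if their generators do. -/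
theorem comm_of_Comm4 {X X' : Type*} {xp xm : X → G} {yp ym : X' → G} {xp' xm' : X → K}
    {yp' ym' : X' → K} (h : Comm4 xp xm yp ym) (h' : Comm4 xp' xm' yp' ym') :
    ∀ x ∈ Gam xp xm xp' xm', ∀ y ∈ Gam yp ym yp' ym', x * y = y * x := by
  have key : Gam xp xm xp' xm' ≤ Subgroup.centralizer (Gam yp ym yp' ym' : Set (G × K)) := by
    refine (Subgroup.closure_le _).2 ?_
    rw [Gam, Subgroup.centralizer_closure]
    rintro p (⟨s, rfl⟩ | ⟨s, rfl⟩)
    · rw [SetLike.mem_coe, Subgroup.mem_centralizer_iff]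
      rintro q (⟨t, rfl⟩ | ⟨t, rfl⟩)
      · exact pr_comm (h s t).1 (h' s t).1
      · exact pr_comm (h s t).2.1 (h' s t).2.1
    · rw [SetLike.mem_coe, Subgroup.mem_centralizer_iff]
      rintro q (⟨t, rfl⟩ | ⟨t, rfl⟩)
      · exact pr_comm (h s t).2.2.1 (h' s t).2.2.1
      · exact pr_comm (h s t).2.2.2 (h' s t).2.2.2
  intro x hx y hy
  exact ((Subgroup.mem_centralizer_iff.1 (key hx)) y hy).symm

/-- The memberships on the `K` side. -/
structure Mem (k : CN K D n) (Bor : Subgroup K) : Prop where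
  xp_mem : ∀ i t, k.xp i t ∈ Bor
  y_mem : ∀ t, k.b2.y t ∈ Bor
  z₂_mem : ∀ p, k.b2.z₂ p ∈ Bor
  hh_mem : ∀ i t, t ≠ 0 → hh (k.xp i) (k.xm i) t ∈ Bor
  nII_mem : ∀ p q, p.c ≠ 0 → q.c ≠ 0 → k.b2.nII p * (k.b2.nII q)⁻¹ ∈ Bor

/-- **(L1)** The elements of `graph g k` fixing the base chamber have their second component in `Bor`. -/
theorem stab_le [Finite W] {Δ : Bldg cs C} (hth : Δ.Thick)
    (iso : ∀ (a : G) x y, Δ.δ (a • x) (a • y) = Δ.δ x y) (hn : 2 ≤ n) (ex : ∃ p : D.T, p.c ≠ 0)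
    (g : CN G D n) {c : C} {ci : Fin (n + 1) → C}
    (act : ∀ i : Fin n, NodeAct Δ c i.castSucc (ci i.castSucc) (g.xp i) (g.xm i))
    (actT : NodeAct Δ c (Fin.last n) (ci (Fin.last n)) g.b2.z₂ g.b2.z₂')
    (y_fix : ∀ b, g.b2.y b • c = c) (k : CN K D n) {Bor : Subgroup K} (hk : Mem k Bor)
    (hnir : NIRel (g.b2.prod k.b2)) {p : G × K} (hp : p ∈ graph g k) (hpc : p.1 • c = c) :
    p.2 ∈ Bor := by
  have hB2 : B2Rel (g.b2.prod k.b2) := B2Rel.prod g.rel k.rel
  -- the last type I node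
  let l : Fin n := ⟨n - 1, by omega⟩
  have hl : l.1 + 1 = n := by show n - 1 + 1 = n; omega
  have gl := g.last l hl
  have kl := k.last l hl
  have hil : NodeAct Δ c l.castSucc (ci l.castSucc) g.b2.x g.b2.x' := by
    rw [gl.1, gl.2]; exact act l
  have eG : Gam g.b2.x g.b2.x' k.b2.x k.b2.x' = Gi g k l.castSucc := by
    rw [Gi_castSucc, gl.1, gl.2, kl.1, kl.2]
  have eT : Gam g.b2.z₂ g.b2.z₂' k.b2.z₂ k.b2.z₂' = Gi g k (Fin.last n) := (Gi_last g k).symm
  -- edges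
  have hedge : ∀ i j : Fin n, i.1 + 1 = j.1 → Edge3 (pr (g.xp i) (k.xp i)) (pr (g.xm i) (k.xm i))
      (pr (g.xp j) (k.xp j)) (pr (g.xm j) (k.xm j)) := fun i j hij =>
    Edge3.prod (g.st3 i j hij) (k.st3 i j hij)
  have edge_stab : ∀ i j : Fin n, i.1 + 1 = j.1 → ∀ q ∈ Gi g k i.castSucc ⊔ Gi g k j.castSucc,
      q.1 • c = c → q.2 ∈ Bor ∧ q ∈ Subgroup.closure
        {h : G × K | (h ∈ Gi g k i.castSucc ∨ h ∈ Gi g k j.castSucc) ∧ h.1 • c = c} := by
    intro i j hij q hq hqc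
    rw [Gi_castSucc, Gi_castSucc] at hq ⊢
    exact AssembleEdge.stab iso hth (act i) (act j) (hedge i j hij) (hk.xp_mem i) (hk.xp_mem j)
      (hk.hh_mem i) (hk.hh_mem j) hq hqc
  have b2_stab : ∀ q ∈ Gi g k l.castSucc ⊔ Gi g k (Fin.last n),
      q.1 • c = c → q.2 ∈ Bor ∧ q ∈ Subgroup.closure
        ({h : G × K | (h ∈ Gi g k l.castSucc ∨ h ∈ Gi g k (Fin.last n)) ∧ h.1 • c = c} ∪
          Set.range (g.b2.prod k.b2).y) := by
    intro q hq hqc
    rw [← eG, ← eT] at hq ⊢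
    refine AssembleB2.stab iso hth hil actT hB2 hnir y_fix ex ?_ hk.z₂_mem hk.y_mem ?_ hk.nII_mem
      hq hqc
    · rw [kl.1]; exact hk.xp_mem l
    · rw [kl.1, kl.2]; exact hk.hh_mem l
  -- swapping elements
  have swap : ∀ i : Fin n, ∃ q ∈ Gi g k i.castSucc, q.1 • c = ci i.castSucc := by
    intro i
    rw [Gi_castSucc]
    rcases Nat.lt_or_ge (i.1 + 1) n with h1 | h1
    · exact ⟨_, nn_mem 1, nn_smul_left iso hth (act i) (hedge i ⟨i.1 + 1, h1⟩ rfl) 1 one_ne_zero⟩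
    · have h2 : i.1 + 1 = n := le_antisymm i.2 h1
      exact ⟨_, nn_mem 1, nn_smul_right iso hth (act i)
        (hedge ⟨i.1 - 1, by omega⟩ i (by show i.1 - 1 + 1 = i.1; omega)) 1 one_ne_zero⟩
  have pan : ∀ i, ∀ q ∈ Gi g k i, q.1 • c ∈ Δ.Pan i c := by
    refine Fin.lastCases ?_ ?_
    · rw [Gi_last]; exact pan_Gam iso actT _ _
    · intro i; rw [Gi_castSucc]; exact pan_Gam iso (act i) _ _
  have trans : ∀ i, ∀ y ∈ Δ.Pan i c, ∃ q ∈ Gi g k i, q.1 • c = y := by
    refine Fin.lastCases ?_ ?_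
    · obtain ⟨r, hr⟩ := ex
      rw [Gi_last]
      exact trans_Gam actT _ _ (AssembleB2.nII_mem_Gam r) (AssembleB2.nII_smul iso hth actT hB2 r hr)
    · intro i
      obtain ⟨q, hq, hqc⟩ := swap i
      rw [Gi_castSucc] at hq ⊢
      exact trans_Gam (act i) _ _ hq hqc
  have R1 : ∀ i, ∀ q ∈ Gi g k i, q.1 • c = c → q.2 ∈ Bor := by
    refine Fin.lastCases ?_ ?_
    · intro q hq hqc
      exact (b2_stab q (Subgroup.mem_sup_right hq) hqc).1
    · intro i q hq hqc
      rcases Nat.lt_or_ge (i.1 + 1) n with h1 | h1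
      · exact (edge_stab i ⟨i.1 + 1, h1⟩ rfl q (Subgroup.mem_sup_left hq) hqc).1
      · exact (edge_stab ⟨i.1 - 1, by omega⟩ i (by show i.1 - 1 + 1 = i.1; omega) q
          (Subgroup.mem_sup_right hq) hqc).1
  have commI : ∀ i j : Fin n, i.1 + 1 < j.1 → ∀ x ∈ Gi g k i.castSucc, ∀ y ∈ Gi g k j.castSucc,
      x * y = y * x := by
    intro i j hij
    rw [Gi_castSucc, Gi_castSucc]
    exact comm_of_Comm4 (g.comm i j hij) (k.comm i j hij)
  have commT : ∀ i : Fin n, i.1 + 1 < n → ∀ x ∈ Gi g k i.castSucc, ∀ y ∈ Gi g k (Fin.last n),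
      x * y = y * x := by
    intro i hi
    rw [Gi_castSucc, Gi_last]
    exact comm_of_Comm4 (g.commT i hi) (k.commT i hi)
  set E : Set (G × K) := Set.range (g.b2.prod k.b2).y with hE
  set S : Set (G × K) := {h : G × K | ∃ i, h ∈ Gi g k i ∧ h.1 • c = c} ∪ E with hS
  have hRle : Subgroup.closure {h : G × K | ∃ i, h ∈ Gi g k i ∧ h.1 • c = c} ≤
      Subgroup.closure S := Subgroup.closure_mono Set.subset_union_left
  have sinj : Function.Injective cs.simple := Cfsg.Agent.Tits.Ext.simple_injective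
  -- (R)
  have RII : ∀ i j : Fin n, i.1 < j.1 → ∀ q ∈ Gi g k i.castSucc ⊔ Gi g k j.castSucc, q.1 • c = c →
      q ∈ Subgroup.closure S := by
    intro i j hij q hq hqc
    rcases Nat.lt_or_ge (i.1 + 1) j.1 with h1 | h1
    · refine hRle (comm_stab (Δ := Δ) pan (i := i.castSucc) (j := j.castSucc) ?_
        (commI i j h1) hq hqc)
      intro h2
      have h3 := sinj h2
      rw [Fin.castSucc_inj] at h3
      rw [h3] at hij
      exact lt_irrefl _ hij
    · refine Subgroup.closure_mono ?_ (edge_stab i j (by omega) q hq hqc).2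
      rintro h ⟨h2 | h2, h3⟩
      · exact Or.inl ⟨_, h2, h3⟩
      · exact Or.inl ⟨_, h2, h3⟩
  have RIT : ∀ i : Fin n, ∀ q ∈ Gi g k i.castSucc ⊔ Gi g k (Fin.last n), q.1 • c = c →
      q ∈ Subgroup.closure S := by
    intro i q hq hqc
    rcases Nat.lt_or_ge (i.1 + 1) n with h1 | h1
    · refine hRle (comm_stab (Δ := Δ) pan (i := i.castSucc) (j := Fin.last n) ?_
        (commT i h1) hq hqc)
      intro h2
      exact (Fin.castSucc_lt_last i).ne (sinj h2)
    · have h2 : i = l := Fin.ext (by have := i.2; show i.1 = n - 1; omega)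
      subst h2
      refine Subgroup.closure_mono ?_ (b2_stab q hq hqc).2
      rintro h (⟨h2 | h2, h3⟩ | h4)
      · exact Or.inl ⟨_, h2, h3⟩
      · exact Or.inl ⟨_, h2, h3⟩
      · exact Or.inr h4
  have R : ∀ i j, i ≠ j → ∀ q ∈ Gi g k i ⊔ Gi g k j, q.1 • c = c → q ∈ Subgroup.closure S := by
    refine Fin.lastCases ?_ ?_
    · refine Fin.lastCases ?_ ?_
      · intro h; exact absurd rfl h
      · intro j _ q hq hqc
        rw [sup_comm] at hq
        exact RIT j q hq hqc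
    · intro i
      refine Fin.lastCases ?_ ?_
      · intro _ q hq hqc
        exact RIT i q hq hqc
      · intro j hij q hq hqc
        rcases Nat.lt_trichotomy i.1 j.1 with h1 | h1 | h1
        · exact RII i j h1 q hq hqc
        · exact absurd (congrArg Fin.castSucc (Fin.ext h1)) hij
        · rw [sup_comm] at hq
          exact RII j i h1 q hq hqc
  -- `y b`
  have yfix' : ∀ b, ((g.b2.prod k.b2).y b).1 • c = c := y_fix
  have ymem : ∀ b, (g.b2.prod k.b2).y b ∈ Gi g k l.castSucc ⊔ Gi g k (Fin.last n) := by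
    intro b
    rw [← eG, ← eT]
    exact AssembleB2.y_mem hB2 ex b
  have yBt : ∀ b, (g.b2.prod k.b2).y b ∈ GUProd.Bt (Gi g k) c := fun b =>
    Subgroup.subset_closure ⟨_, _, ymem b, yfix' b⟩
  have hEprop : ∀ q ∈ E, q.1 • c = c ∧ q.2 ∈ Bor ∧ GenP (Gi g k) c q := by
    rintro _ ⟨b, rfl⟩
    refine ⟨yfix' b, hk.y_mem b, ?_⟩
    refine Fin.lastCases ?_ ?_
    · intro h hh
      exact genP_self iso pan trans (ymem b) (yfix' b) (Or.inr rfl) hh
    · intro j h hh
      rcases Nat.lt_or_ge (j.1 + 1) n with h1 | h1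
      · rcases Nat.lt_or_ge (j.1 + 1) l.1 with h2 | h2
        · -- commutes with everything
          refine ⟨h, hh, ?_⟩
          have h3 : Gi g k l.castSucc ⊔ Gi g k (Fin.last n) ≤
              Subgroup.centralizer (Gi g k j.castSucc : Set (G × K)) := by
            refine sup_le ?_ ?_
            · intro y hy
              rw [Subgroup.mem_centralizer_iff]
              intro x hx
              exact commI j l h2 x hx y hy
            · intro y hy
              rw [Subgroup.mem_centralizer_iff]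
              intro x hx
              exact commT j h1 x hx y hy
          have h4 := (Subgroup.mem_centralizer_iff.1 (h3 (ymem b))) h hh
          have h5 : h⁻¹ * (g.b2.prod k.b2).y b * h = (g.b2.prod k.b2).y b := by
            rw [mul_assoc, ← h4, inv_mul_cancel_left]
          rw [h5]
          exact yBt b
        · -- adjacent to the last type I node
          have hjl : j.1 + 1 = l.1 := by
            have e1 : l.1 = n - 1 := rfl
            omega
          obtain ⟨x, hx, e01, e10, e12, -⟩ := hedge j l hjl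
          obtain ⟨r, hr⟩ := ex
          refine ⟨h, hh, ?_⟩
          have hc := commT j h1
          have hν : (g.b2.prod k.b2).nII r ∈ Gi g k (Fin.last n) := by
            rw [Gi_last]; exact AssembleB2.nII_mem_Gam r
          refine AssembleB2.conj_y (m := g.b2.prod k.b2) hB2 hx ?_ r hr ?_ ?_ yBt ?_ ?_ b
          · rw [e12]
            funext t
            show (g.xp l t, k.xp l t) = (g.b2.x t, k.b2.x t)
            rw [gl.1, kl.1]
          · intro t
            refine hc _ ?_ _ hν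
            rw [e01, Gi_castSucc]; exact Gam.pos t
          · intro t
            refine hc _ ?_ _ hν
            rw [e10, Gi_castSucc]; exact Gam.neg t
          · intro t
            refine Subgroup.subset_closure ⟨j.castSucc, j.castSucc, ?_, ?_⟩
            · rw [e01, Gi_castSucc]; exact Subgroup.mem_sup_left (Gam.pos t)
            · rw [e01]; exact (act j).fix t
          · rw [Gi_castSucc] at hh
            rw [e01, e10]; exact hh
      · have h2 : j = l := Fin.ext (by have := j.2; show j.1 = n - 1; omega)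
        subst h2
        exact genP_self iso pan trans (ymem b) (yfix' b) (Or.inl rfl) hh
  rw [graph_eq] at hp
  exact gu_extra Δ c iso Bor (Gi g k) pan trans E hEprop R1 R p hp hpc

/-- **(L2)** -/
theorem nonempty_mulEquiv [Finite W] {Δ : Bldg cs C} (hth : Δ.Thick) (hA : Δ.StrongAct G)
    (hM : NormalTrans.Conn M) [IsSimpleGroup K] (hn : 2 ≤ n) (ex : ∃ p : D.T, p.c ≠ 0)
    (g : GCN Δ G D) (k : KCN K D n) (hnir : NIRel (g.b2.prod k.b2)) : Nonempty (G ≃* K) := by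
  have hk : Mem k.toCN k.Bor :=
    { xp_mem := k.xp_mem, y_mem := k.y_mem, z₂_mem := k.z₂_mem, hh_mem := k.hh_mem
      nII_mem := k.nII_mem }
  refine NormalTrans.mulEquiv_of_graph hth hA hM (graph g.toCN k.toCN) g.c k.Bor k.Bor_ne ?_ ?_ ?_
  · rw [eq_top_iff, ← g.gen, Subgroup.closure_le]
    rintro _ (⟨i, t, rfl | rfl⟩ | ⟨t, rfl | rfl⟩)
    · exact ⟨_, Subgroup.subset_closure (Or.inl ⟨i, t, Or.inl rfl⟩), rfl⟩
    · exact ⟨_, Subgroup.subset_closure (Or.inl ⟨i, t, Or.inr rfl⟩), rfl⟩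
    · exact ⟨_, Subgroup.subset_closure (Or.inr ⟨t, Or.inl rfl⟩), rfl⟩
    · exact ⟨_, Subgroup.subset_closure (Or.inr ⟨t, Or.inr rfl⟩), rfl⟩
  · rw [eq_top_iff, ← k.gen, Subgroup.closure_le]
    rintro _ (⟨i, t, rfl | rfl⟩ | ⟨t, rfl | rfl⟩)
    · exact ⟨_, Subgroup.subset_closure (Or.inl ⟨i, t, Or.inl rfl⟩), rfl⟩
    · exact ⟨_, Subgroup.subset_closure (Or.inl ⟨i, t, Or.inr rfl⟩), rfl⟩
    · exact ⟨_, Subgroup.subset_closure (Or.inr ⟨t, Or.inl rfl⟩), rfl⟩
    · exact ⟨_, Subgroup.subset_closure (Or.inr ⟨t, Or.inr rfl⟩), rfl⟩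
  · intro p hp hpc
    exact stab_le hth hA.iso hn ex g.toCN g.act g.actT g.y_fix k.toCN hk hnir hp hpc

/-- **(L1)** without the hypothesis on `n_I(t)`. -/
theorem stab_le' [Finite W] {Δ : Bldg cs C} (hth : Δ.Thick)
    (iso : ∀ (a : G) x y, Δ.δ (a • x) (a • y) = Δ.δ x y) (hn : 2 ≤ n) (ex : ∃ p : D.T, p.c ≠ 0)
    (g : CN G D n) {c : C} {ci : Fin (n + 1) → C}
    (act : ∀ i : Fin n, NodeAct Δ c i.castSucc (ci i.castSucc) (g.xp i) (g.xm i))
    (actT : NodeAct Δ c (Fin.last n) (ci (Fin.last n)) g.b2.z₂ g.b2.z₂')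
    (y_fix : ∀ b, g.b2.y b • c = c) (k : CN K D n) {Bor : Subgroup K} (hk : Mem k Bor)
    {p : G × K} (hp : p ∈ graph g k) (hpc : p.1 • c = c) : p.2 ∈ Bor := by
  obtain ⟨r, hr⟩ := ex
  exact stab_le hth iso hn ⟨r, hr⟩ g act actT y_fix k hk
    (B2NI.nirel (B2Rel.prod g.rel k.rel) hr) hp hpc

/-- **(L2)** without the hypothesis on `n_I(t)`. -/
theorem nonempty_mulEquiv' [Finite W] {Δ : Bldg cs C} (hth : Δ.Thick) (hA : Δ.StrongAct G)
    (hM : NormalTrans.Conn M) [IsSimpleGroup K] (hn : 2 ≤ n) (ex : ∃ p : D.T, p.c ≠ 0)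
    (g : GCN Δ G D) (k : KCN K D n) : Nonempty (G ≃* K) := by
  obtain ⟨r, hr⟩ := ex
  exact nonempty_mulEquiv hth hA hM hn ⟨r, hr⟩ g k (B2NI.nirel (B2Rel.prod g.rel k.rel) hr)

end Cfsg.Agent.TitsThree.AssembleCN
end

-- part: TitsThree/GSideCN
section
/-!
# The G side of type `C_{n+1}` (S1143, piece G2)

`gcn_of`: from the root groups of the simple roots (acting on the panels of the base chamber), the `B₂` package of the
double bond, the `A₂` edges over *some* field and the commuting pairs to the record `Pack.GCN`.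
-/

set_option autoImplicit false

namespace Cfsg.Agent.TitsThree.GSideCN

open Cfsg.Agent.Tits.Core Cfsg.Agent.AGraded Cfsg.Agent.TitsThree.B2Pkg Cfsg.Agent.TitsThree.Pack
  Cfsg.Agent.TitsThree.Tree Cfsg.Agent.TitsThree.Hua

/-- The action of the root groups `X, X'` of the node `i` on the `i`-panel of the base chamber. -/
structure PanAct {I : Type*} {M : CoxeterMatrix I} {W : Type*} [Group W] {cs : CoxeterSystem M W}
    {C : Type*} (Δ : Bldg cs C) {G : Type*} [Group G] [MulAction G C] (c : C) (i : I) (ci : C)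
    (X X' : Set G) : Prop where
  mem : ci ∈ Δ.Pan i c
  ne : ci ≠ c
  fix : ∀ g ∈ X, g • c = c
  fix' : ∀ g ∈ X', g • ci = ci
  trans : ∀ y ∈ Δ.Pan i c, y ≠ c → ∃ g ∈ X, g • ci = y
  trans' : ∀ y ∈ Δ.Pan i c, y ≠ ci → ∃ g ∈ X', g • c = y

section NodeAct

variable {I : Type*} {M : CoxeterMatrix I} {W : Type*} [Group W] {cs : CoxeterSystem M W}
  {C : Type*} {Δ : Bldg cs C} {G : Type*} [Group G] [MulAction G C] {c : C} {i : I} {ci : C}
  {X X' : Set G}

theorem PanAct.nodeAct (h : PanAct Δ c i ci X X') {P : Type*} {xp xm : P → G}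
    (hp : Set.range xp = X) (hm : Set.range xm = X') : NodeAct Δ c i ci xp xm where
  mem := h.mem
  ne := h.ne
  fix t := h.fix _ (hp ▸ ⟨t, rfl⟩)
  fix' t := h.fix' _ (hm ▸ ⟨t, rfl⟩)
  trans y hy hne := by
    obtain ⟨g, hg, e⟩ := h.trans y hy hne
    rw [← hp] at hg
    obtain ⟨t, rfl⟩ := hg
    exact ⟨t, e⟩
  trans' y hy hne := by
    obtain ⟨g, hg, e⟩ := h.trans' y hy hne
    rw [← hm] at hg
    obtain ⟨t, rfl⟩ := hg
    exact ⟨t, e⟩

end NodeAct

/-- The path `0, …, k` rooted at `k`. -/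
def pathRooted (k : ℕ) : Rooted (fun i j : Fin (k + 1) => i.1 + 1 = j.1) (Fin.last k) where
  par i := if h : i.1 < k then ⟨i.1 + 1, by omega⟩ else i
  rk i := k - i.1
  rk_par i hi := by
    have h1 : i.1 < k := by
      have := i.2
      have h2 : i.1 ≠ k := fun h => hi (Fin.ext h)
      omega
    simp only [h1, dif_pos]
    omega
  adj_par i hi := by
    have h1 : i.1 < k := by
      have := i.2
      have h2 : i.1 ≠ k := fun h => hi (Fin.ext h)
      omega
    right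
    simp only [h1, dif_pos]
  edge i j hij := by
    right
    have hj := j.2
    have h1 : i.1 < k := by omega
    refine ⟨fun h => ?_, ?_⟩
    · rw [h, Fin.val_last] at h1
      omega
    · simp only [h1, dif_pos]
      exact Fin.ext hij

section Main

variable {k : ℕ} {M : CoxeterMatrix (Fin (k + 2))} {W : Type*} [Group W] {cs : CoxeterSystem M W}
  {C : Type*} (Δ : Bldg cs C) {G : Type*} [Group G] [MulAction G C]
  {F : Type*} [Field F] {V : Type*} [AddCommGroup V] [Module F V] {D : PQDatum F V}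

/-- **G2, abstract form.** -/
theorem gcn_of (c : C) (ci : Fin (k + 2) → C) (X X' : Fin (k + 2) → Set G)
    (hact : ∀ i, PanAct Δ c i (ci i) (X i) (X' i))
    (hgen : Subgroup.closure (⋃ i, (X i ∪ X' i)) = ⊤)
    (hcomm : ∀ i j : Fin (k + 2), i.1 + 1 < j.1 → ∀ g ∈ X i ∪ X' i, ∀ g' ∈ X j ∪ X' j, Commute g g')
    (hE : ∀ i j : Fin (k + 1), i.1 + 1 = j.1 →
      EdgeA2 (X i.castSucc) (X' i.castSucc) (X j.castSucc) (X' j.castSucc))
    (m : B2Maps D G) (hm : B2Rel m) (hpar : SL2Par m.x m.x')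
    (rx : Set.range m.x = X (Fin.last k).castSucc) (rx' : Set.range m.x' = X' (Fin.last k).castSucc)
    (rz : Set.range m.z₂ = X (Fin.last (k + 1))) (rz' : Set.range m.z₂' = X' (Fin.last (k + 1)))
    (hy : ∀ b, m.y b • c = c) : Nonempty (GCN Δ G D (n := k + 1)) := by
  obtain ⟨xp, xm, h1, h2, -, h4, h5, h6⟩ := glueTree' (pathRooted k)
    (fun i => X i.castSucc) (fun i => X' i.castSucc) hE hpar rx rx'
  have hcomm' : ∀ i j : Fin (k + 1), i.1 + 1 < j.1 → Comm4 (xp i) (xm i) (xp j) (xm j) := by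
    intro i j hij s t
    have e1 : xp i s ∈ X i.castSucc := h4 i ▸ ⟨s, rfl⟩
    have e2 : xm i s ∈ X' i.castSucc := h5 i ▸ ⟨s, rfl⟩
    have e3 : xp j t ∈ X j.castSucc := h4 j ▸ ⟨t, rfl⟩
    have e4 : xm j t ∈ X' j.castSucc := h5 j ▸ ⟨t, rfl⟩
    have hc := hcomm i.castSucc j.castSucc hij
    exact ⟨hc _ (Or.inl e1) _ (Or.inl e3), hc _ (Or.inl e1) _ (Or.inr e4),
      hc _ (Or.inr e2) _ (Or.inl e3), hc _ (Or.inr e2) _ (Or.inr e4)⟩
  have hcommT : ∀ i : Fin (k + 1), i.1 + 1 < k + 1 → Comm4 (xp i) (xm i) m.z₂ m.z₂' := by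
    intro i hij s t
    have e1 : xp i s ∈ X i.castSucc := h4 i ▸ ⟨s, rfl⟩
    have e2 : xm i s ∈ X' i.castSucc := h5 i ▸ ⟨s, rfl⟩
    have e3 : m.z₂ t ∈ X (Fin.last (k + 1)) := rz ▸ ⟨t, rfl⟩
    have e4 : m.z₂' t ∈ X' (Fin.last (k + 1)) := rz' ▸ ⟨t, rfl⟩
    have hc := hcomm i.castSucc (Fin.last (k + 1)) (by simpa using hij)
    exact ⟨hc _ (Or.inl e1) _ (Or.inl e3), hc _ (Or.inl e1) _ (Or.inr e4),
      hc _ (Or.inr e2) _ (Or.inl e3), hc _ (Or.inr e2) _ (Or.inr e4)⟩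
  refine ⟨{ xp := xp, xm := xm, b2 := m, rel := hm, st3 := ?_, comm := hcomm', commT := hcommT,
            last := ?_, c := c, ci := ci, act := ?_, actT := ?_, y_fix := hy, gen := ?_ }⟩
  · intro i j hij
    obtain ⟨x, hx, -, e1, e2, e3, e4⟩ := h6 i j (Or.inl hij)
    exact ⟨x, hx, e1, e2, e3, e4⟩
  · intro i hi
    have : i = Fin.last k := Fin.ext (by rw [Fin.val_last]; omega)
    rw [this, h1, h2]
    exact ⟨rfl, rfl⟩
  · intro i
    exact (hact i.castSucc).nodeAct (h4 i) (h5 i)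
  · exact (hact (Fin.last (k + 1))).nodeAct rz rz'
  · rw [eq_top_iff, ← hgen, Subgroup.closure_le]
    intro g hg
    obtain ⟨i, hg⟩ := Set.mem_iUnion.1 hg
    apply Subgroup.subset_closure
    induction i using Fin.lastCases with
    | last =>
      right
      rcases hg with hg | hg
      · rw [← rz] at hg
        obtain ⟨p, rfl⟩ := hg
        exact ⟨p, Or.inl rfl⟩
      · rw [← rz'] at hg
        obtain ⟨p, rfl⟩ := hg
        exact ⟨p, Or.inr rfl⟩
    | cast i =>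
      left
      rcases hg with hg | hg
      · rw [← h4 i] at hg
        obtain ⟨t, rfl⟩ := hg
        exact ⟨i, t, Or.inl rfl⟩
      · rw [← h5 i] at hg
        obtain ⟨t, rfl⟩ := hg
        exact ⟨i, t, Or.inr rfl⟩

end Main

end Cfsg.Agent.TitsThree.GSideCN
end

-- part: TitsThree/GSideMou
section
/-!
# From the root groups of a building to the hypotheses of the G side (S1143)

`rootGrp Δ σ` : the group generated by the root groups of the simple roots and their negatives.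
For a group `G` with an injective homomorphism `ρ : G →* Equiv.Perm C` onto `rootGrp Δ σ`, acting on `C` through `ρ`:
`panAct`, `gen_preimage`, pull back of `EdgeA2`, `SL2Par`, `B2Rel` along `ρ`.
-/

set_option autoImplicit false

namespace Cfsg.Agent.TitsThree.GSideMou

open Cfsg.Agent.Tits.Core Cfsg.Agent.Tits.Core.Bldg Cfsg.Agent.AGraded Cfsg.Agent.TitsThree.B2Pkg
  Cfsg.Agent.TitsThree.Pack Cfsg.Agent.TitsThree.Tree Cfsg.Agent.TitsThree.Hua
  Cfsg.Agent.TitsThree.GSideCN Cfsg.Agent.Tits.MouDefs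
open scoped commutatorElement

/-! ### Pulling packages back along an injective homomorphism -/

section Pull

variable {G Y : Type*} [Group G] [Group Y] {ρ : G →* Y} (hρ : Function.Injective ρ)

include hρ

theorem SL2Par.pull {F : Type*} [Field F] {xp xm : F → G}
    (h : SL2Par (fun t => ρ (xp t)) (fun t => ρ (xm t))) : SL2Par xp xm where
  addp s t := hρ (by rw [map_mul]; exact h.addp s t)
  addm s t := hρ (by rw [map_mul]; exact h.addm s t)
  injp s t hst := h.injp (by simp only [hst])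
  injm s t hst := h.injm (by simp only [hst])
  conjp t ht s := hρ (by
    have := h.conjp t ht s
    simpa [KSideDefs.nn] using this)
  conjm t ht s := hρ (by
    have := h.conjm t ht s
    simpa [KSideDefs.nn] using this)
  norm s hs := h.norm s fun r => by
    obtain ⟨r', hr'⟩ := hs r
    exact ⟨r', by rw [← hr']; simp⟩

theorem SteinRel.pull {F : Type*} [Field F] {x : Fin 3 → Fin 3 → F → G}
    (h : SteinRel fun a b t => ρ (x a b t)) : SteinRel x where
  add i j hij a b := hρ (by rw [map_mul]; exact h.add i j hij a b)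
  comm i j k l hij hkl hjk hil a b := hρ (by
    have := h.comm i j k l hij hkl hjk hil a b
    simpa only [map_mul] using this)
  br i j k hij hjk hik a b := hρ (by
    have := h.br i j k hij hjk hik a b
    rw [map_commutatorElement]
    exact this)

omit hρ in
/-- The root groups `02`, `20` of a Steinberg system lie in the group generated by the others. -/
theorem mem_range_of_stein {F : Type*} [Field F] {x : Fin 3 → Fin 3 → F → Y} (h : SteinRel x) {N : Subgroup Y}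
    (h01 : ∀ t, x 0 1 t ∈ N) (h10 : ∀ t, x 1 0 t ∈ N) (h12 : ∀ t, x 1 2 t ∈ N) (h21 : ∀ t, x 2 1 t ∈ N) :
    ∀ a b, a ≠ b → ∀ t, x a b t ∈ N := by
  have hcomm : ∀ {a b : Y}, a ∈ N → b ∈ N → ⁅a, b⁆ ∈ N := by
    intro a b ha hb
    rw [commutatorElement_def]
    exact mul_mem (mul_mem (mul_mem ha hb) (inv_mem ha)) (inv_mem hb)
  have h02 : ∀ t, x 0 2 t ∈ N := by
    intro t
    have := h.br 0 1 2 (by decide) (by decide) (by decide) t 1
    rw [mul_one] at this
    rw [← this]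
    exact hcomm (h01 t) (h12 1)
  have h20 : ∀ t, x 2 0 t ∈ N := by
    intro t
    have := h.br 2 1 0 (by decide) (by decide) (by decide) t 1
    rw [mul_one] at this
    rw [← this]
    exact hcomm (h21 t) (h10 1)
  intro a b hab t
  fin_cases a <;> fin_cases b
  · exact absurd rfl hab
  · exact h01 t
  · exact h02 t
  · exact h10 t
  · exact absurd rfl hab
  · exact h12 t
  · exact h20 t
  · exact h21 t
  · exact absurd rfl hab

theorem EdgeA2.pull {Xi Xi' Xj Xj' : Set Y} (h : EdgeA2 Xi Xi' Xj Xj') (h1 : Xi ⊆ ρ.range)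
    (h2 : Xi' ⊆ ρ.range) (h3 : Xj ⊆ ρ.range) (h4 : Xj' ⊆ ρ.range) :
    EdgeA2 (ρ ⁻¹' Xi) (ρ ⁻¹' Xi') (ρ ⁻¹' Xj) (ρ ⁻¹' Xj') := by
  obtain ⟨F', i1, i2, x, hx, hinj, r01, r10, r12, r21⟩ := h
  have hmem := mem_range_of_stein hx (N := ρ.range) (fun t => h1 (r01 ▸ ⟨t, rfl⟩))
    (fun t => h2 (r10 ▸ ⟨t, rfl⟩)) (fun t => h3 (r12 ▸ ⟨t, rfl⟩)) (fun t => h4 (r21 ▸ ⟨t, rfl⟩))
  have hex : ∀ a b : Fin 3, ∀ t : F', ∃ g : G, a ≠ b → ρ g = x a b t := by
    intro a b t
    by_cases hab : a = b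
    · exact ⟨1, fun h => absurd hab h⟩
    · obtain ⟨g, hg⟩ := hmem a b hab t
      exact ⟨g, fun _ => hg⟩
  choose y hy using hex
  have hran : ∀ a b, a ≠ b → Set.range (y a b) = ρ ⁻¹' (Set.range (x a b)) := by
    intro a b hab
    ext g
    constructor
    · rintro ⟨t, rfl⟩
      exact ⟨t, (hy a b t hab).symm⟩
    · rintro ⟨t, ht⟩
      exact ⟨t, hρ (by rw [hy a b t hab, ht])⟩
  refine ⟨F', i1, i2, y, ?_, ?_, ?_, ?_, ?_, ?_⟩
  · refine ⟨fun i j hij a b => hρ ?_, fun i j k l hij hkl hjk hil a b => hρ ?_,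
      fun i j k hij hjk hik a b => hρ ?_⟩
    · rw [map_mul, hy i j _ hij, hy i j _ hij, hy i j _ hij]
      exact hx.add i j hij a b
    · have := hx.comm i j k l hij hkl hjk hil a b
      rw [map_mul, map_mul, hy i j _ hij, hy k l _ hkl]
      exact this
    · rw [map_commutatorElement, hy i j _ hij, hy j k _ hjk, hy i k _ hik]
      exact hx.br i j k hij hjk hik a b
  · intro a b hab s t hst
    apply hinj a b hab
    rw [← hy a b s hab, ← hy a b t hab, hst]
  · rw [hran 0 1 (by decide), r01]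
  · rw [hran 1 0 (by decide), r10]
  · rw [hran 1 2 (by decide), r12]
  · rw [hran 2 1 (by decide), r21]

end Pull

section B2

variable {F : Type*} [Field F] {V : Type*} [AddCommGroup V] [Module F V] {D : PQDatum F V}
  {Y : Type*} [Group Y]

/-- All eight families lie in the group generated by `x, x', z₂, z₂'`. -/
theorem b2_mem {m : B2Maps D Y} (h : B2Rel m) {N : Subgroup Y} (hp : ∃ p : D.T, p.c ≠ 0)
    (hx : ∀ a, m.x a ∈ N) (hx' : ∀ a, m.x' a ∈ N) (hz : ∀ p, m.z₂ p ∈ N) (hz' : ∀ p, m.z₂' p ∈ N) :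
    (∀ b, m.y b ∈ N) ∧ (∀ b, m.y' b ∈ N) ∧ (∀ p, m.z₁ p ∈ N) ∧ ∀ p, m.z₁' p ∈ N := by
  have hσ : ∀ x : F, D.σ x = 0 → x = 0 := fun x hx => by
    have := congrArg D.σ.symm hx
    simpa using this
  have hε : D.ε ≠ 0 := by
    intro h0
    have := D.ε_mul
    rw [h0, zero_mul] at this
    exact zero_ne_one this
  obtain ⟨p, hp⟩ := hp
  have hn : m.nII p ∈ N := mul_mem (mul_mem (hz' _) (hz _)) (hz' _)
  have hnI : m.nI ∈ N := mul_mem (mul_mem (hx _) (hx' _)) (hx _)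
  refine ⟨fun b => ?_, fun b => ?_, fun q => ?_, fun q => ?_⟩
  · have h0 : D.ε * D.σ p.c ≠ 0 := mul_ne_zero hε fun h1 => hp (hσ _ h1)
    have h1 := h.nII_x p hp ((D.ε * D.σ p.c)⁻¹ * b)
    rw [mul_inv_cancel_left₀ h0] at h1
    rw [← h1]
    exact mul_mem (mul_mem hn (hx _)) (inv_mem hn)
  · have h1 := h.nII_x' p hp (-(D.σ (p.c * b)))
    have e : -(p.c⁻¹ * D.σ (-(D.σ (p.c * b)))) = b := by
      rw [map_neg, D.σσ]
      field_simp
    rw [e] at h1
    rw [← h1]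
    exact mul_mem (mul_mem hn (hx' _)) (inv_mem hn)
  · rw [← h.nI_z₂ q]
    exact mul_mem (mul_mem hnI (hz _)) (inv_mem hnI)
  · rw [← h.nI_z₂' q]
    exact mul_mem (mul_mem hnI (hz' _)) (inv_mem hnI)

/-- A `B₂` package over the datum `D` on given subsets (root groups of the nodes `j` (type I), `k` (type II)). -/
def Bond (D : PQDatum F V) (Xj Xj' Xk Xk' Bc : Set Y) : Prop :=
  ∃ m : B2Maps D Y, B2Rel m ∧ SL2Par m.x m.x' ∧ Set.range m.x = Xj ∧ Set.range m.x' = Xj' ∧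
    Set.range m.z₂ = Xk ∧ Set.range m.z₂' = Xk' ∧ ∀ b, m.y b ∈ Bc

theorem Bond.pull {G : Type*} [Group G] {ρ : G →* Y} (hρ : Function.Injective ρ)
    {Xj Xj' Xk Xk' Bc : Set Y} (hp : ∃ p : D.T, p.c ≠ 0) (h : Bond D Xj Xj' Xk Xk' Bc)
    (h1 : Xj ⊆ ρ.range) (h2 : Xj' ⊆ ρ.range) (h3 : Xk ⊆ ρ.range) (h4 : Xk' ⊆ ρ.range) :
    Bond D (ρ ⁻¹' Xj) (ρ ⁻¹' Xj') (ρ ⁻¹' Xk) (ρ ⁻¹' Xk') (ρ ⁻¹' Bc) := by
  obtain ⟨m, hm, hpar, r1, r2, r3, r4, hy⟩ := h
  have e1 : ∀ t, m.x t ∈ ρ.range := fun t => h1 (r1 ▸ ⟨t, rfl⟩)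
  have e2 : ∀ t, m.x' t ∈ ρ.range := fun t => h2 (r2 ▸ ⟨t, rfl⟩)
  have e3 : ∀ t, m.z₂ t ∈ ρ.range := fun t => h3 (r3 ▸ ⟨t, rfl⟩)
  have e4 : ∀ t, m.z₂' t ∈ ρ.range := fun t => h4 (r4 ▸ ⟨t, rfl⟩)
  obtain ⟨e5, e6, e7, e8⟩ := b2_mem hm hp e1 e2 e3 e4
  choose x hx using e1
  choose x' hx' using e2
  choose z₂ hz₂ using e3
  choose z₂' hz₂' using e4
  choose y hy0 using e5
  choose y' hy' using e6
  choose z₁ hz₁ using e7
  choose z₁' hz₁' using e8
  have hm' : B2Rel ((⟨x, x', y, y', z₁, z₂, z₁', z₂'⟩ : B2Maps D G).map ρ) := by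
    have : (⟨x, x', y, y', z₁, z₂, z₁', z₂'⟩ : B2Maps D G).map ρ = m := by
      cases m
      simp only [B2Maps.map, B2Maps.mk.injEq]
      exact ⟨funext hx, funext hx', funext hy0, funext hy', funext hz₁, funext hz₂, funext hz₁', funext hz₂'⟩
    rw [this]; exact hm
  have hran : ∀ {P : Type _} (f : P → Y) (g : P → G) (_ : ∀ t, ρ (g t) = f t),
      Set.range g = ρ ⁻¹' (Set.range f) := by
    intro P f g hfg
    ext a
    constructor
    · rintro ⟨t, rfl⟩
      exact ⟨t, (hfg t).symm⟩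
    · rintro ⟨t, ht⟩
      exact ⟨t, hρ (by rw [hfg, ht])⟩
  refine ⟨⟨x, x', y, y', z₁, z₂, z₁', z₂'⟩, hm'.of_map hρ, ?_, ?_, ?_, ?_, ?_, ?_⟩
  · apply SL2Par.pull hρ
    simp only [hx, hx']
    exact hpar
  · rw [hran _ _ hx, r1]
  · rw [hran _ _ hx', r2]
  · ext a
    constructor
    · rintro ⟨t, rfl⟩
      show ρ (z₂ t) ∈ Xk
      rw [hz₂, ← r3]
      exact ⟨t, rfl⟩
    · intro ha
      have ha' : ρ a ∈ Xk := ha
      rw [← r3] at ha'
      obtain ⟨t, ht⟩ := ha'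
      exact ⟨t, hρ (by rw [hz₂, ht])⟩
  · ext a
    constructor
    · rintro ⟨t, rfl⟩
      show ρ (z₂' t) ∈ Xk'
      rw [hz₂', ← r4]
      exact ⟨t, rfl⟩
    · intro ha
      have ha' : ρ a ∈ Xk' := ha
      rw [← r4] at ha'
      obtain ⟨t, ht⟩ := ha'
      exact ⟨t, hρ (by rw [hz₂', ht])⟩
  · intro b
    show ρ (y b) ∈ Bc
    rw [hy0]
    exact hy b

end B2

/-! ### The group generated by the root groups -/

section Root

variable {I : Type*} {M : CoxeterMatrix I} {W : Type*} [Group W] {cs : CoxeterSystem M W}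
variable {C : Type*}

/-- The root group of the simple root `α_i` (it fixes `σ 1`). -/
def XP (Δ : Bldg cs C) (σ : W → C) (i : I) : Subgroup (Equiv.Perm C) := U Δ σ (rt cs 1 i)

/-- The root group of the root `-α_i`. -/
def XM (Δ : Bldg cs C) (σ : W → C) (i : I) : Subgroup (Equiv.Perm C) := U Δ σ (rt cs (cs.simple i) i)

/-- The group generated by the root groups of the simple roots and their negatives. -/
def rootGrp (Δ : Bldg cs C) (σ : W → C) : Subgroup (Equiv.Perm C) :=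
  Subgroup.closure (⋃ i, ((XP Δ σ i : Set (Equiv.Perm C)) ∪ (XM Δ σ i : Set (Equiv.Perm C))))

theorem XP_le (Δ : Bldg cs C) (σ : W → C) (i : I) : XP Δ σ i ≤ rootGrp Δ σ := fun _ hg =>
  Subgroup.subset_closure (Set.mem_iUnion.2 ⟨i, Or.inl hg⟩)

theorem XM_le (Δ : Bldg cs C) (σ : W → C) (i : I) : XM Δ σ i ≤ rootGrp Δ σ := fun _ hg =>
  Subgroup.subset_closure (Set.mem_iUnion.2 ⟨i, Or.inr hg⟩)

variable {Δ : Bldg cs C} {σ : W → C}

section Act

variable {G : Type*} [Group G] [MulAction G C] {ρ : G →* Equiv.Perm C} (hρ : Function.Injective ρ)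
  (hr : ρ.range = rootGrp Δ σ) (hact : ∀ (g : G) (x : C), g • x = ρ g x)

include hρ hr in
theorem gen_preimage :
    Subgroup.closure (⋃ i, (ρ ⁻¹' (XP Δ σ i : Set (Equiv.Perm C)) ∪ ρ ⁻¹' (XM Δ σ i : Set (Equiv.Perm C)))) =
      (⊤ : Subgroup G) := by
  apply Subgroup.map_injective hρ
  rw [MonoidHom.map_closure, ← MonoidHom.range_eq_map, hr, rootGrp]
  congr 1
  ext g
  constructor
  · rintro ⟨a, ha, rfl⟩
    obtain ⟨i, ha⟩ := Set.mem_iUnion.1 ha
    exact Set.mem_iUnion.2 ⟨i, ha⟩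
  · intro hg
    have hg' : g ∈ ρ.range := by
      rw [hr]; exact Subgroup.subset_closure hg
    obtain ⟨a, rfl⟩ := hg'
    obtain ⟨i, hg⟩ := Set.mem_iUnion.1 hg
    exact ⟨a, Set.mem_iUnion.2 ⟨i, hg⟩, rfl⟩

variable [Tits.OppRes.Cox cs] [Finite C] (hth : Δ.Thick) (hext : Ext Δ Δ) (hc : Comb cs) (hσ : Chart Δ σ)

include hr hact hth hext hc hσ in
theorem panAct (i : I) : PanAct Δ (σ 1) i (σ (cs.simple i)) (ρ ⁻¹' (XP Δ σ i : Set (Equiv.Perm C)))
    (ρ ⁻¹' (XM Δ σ i : Set (Equiv.Perm C))) := by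
  have h1 : σ (cs.simple i) ∈ Δ.Pan i (σ 1) := by
    have := Tits.Mou.mem_pan_chart hσ 1 i
    rwa [one_mul] at this
  have hss : cs.simple i * cs.simple i = 1 := cs.simple_mul_simple_self i
  refine ⟨h1, ?_, ?_, ?_, ?_, ?_⟩
  · intro h
    have := hσ.injective h
    have h2 := cs.length_simple i
    rw [this, cs.length_one] at h2
    exact zero_ne_one h2
  · intro g hg
    rw [hact]
    exact hg.2.1 1 (mem_rt_self 1 i)
  · intro g hg
    rw [hact]
    exact hg.2.1 (cs.simple i) (mem_rt_self _ i)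
  · intro y hy hne
    obtain ⟨g, hg, e⟩ := Tits.Mou.exists_root_elt hth hext hc hσ (v := 1) (i := i) hy hne
    rw [one_mul] at e
    obtain ⟨a, rfl⟩ : g ∈ ρ.range := by rw [hr]; exact XP_le Δ σ i hg
    exact ⟨a, hg, by rw [hact, e]⟩
  · intro y hy hne
    have hy' : y ∈ Δ.Pan i (σ (cs.simple i)) := by
      rw [Tits.Mou.pan_eq h1]; exact hy
    obtain ⟨g, hg, e⟩ := Tits.Mou.exists_root_elt hth hext hc hσ (v := cs.simple i) (i := i) hy' hne
    rw [hss] at e
    obtain ⟨a, rfl⟩ : g ∈ ρ.range := by rw [hr]; exact XM_le Δ σ i hg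
    exact ⟨a, hg, by rw [hact, e]⟩

end Act

end Root

/-! ### Type `C_{k+2}` -/

section TypeC

variable {k : ℕ} {M : CoxeterMatrix (Fin (k + 2))} {W : Type*} [Group W] {cs : CoxeterSystem M W}
  {C : Type*} [Finite C] {Δ : Bldg cs C} {σ : W → C} [Tits.OppRes.Cox cs]
  {G : Type*} [Group G] [MulAction G C] {ρ : G →* Equiv.Perm C}
  {F : Type*} [Field F] {V : Type*} [AddCommGroup V] [Module F V] {D : PQDatum F V}

/-- **G2**: the record `GCN` from the `B₂` package of the double bond, the `A₂` edges and the commuting pairs of root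
groups of the building `Δ`. -/
theorem gcn_of_bond (hρ : Function.Injective ρ)
    (hr : ρ.range = rootGrp Δ σ) (hact : ∀ (g : G) (x : C), g • x = ρ g x)
    (hth : Δ.Thick) (hext : Ext Δ Δ) (hc : Comb cs) (hσ : Chart Δ σ)
    (hcomm : ∀ i j : Fin (k + 2), i.1 + 1 < j.1 →
      ∀ g ∈ (XP Δ σ i : Set (Equiv.Perm C)) ∪ (XM Δ σ i : Set (Equiv.Perm C)),
      ∀ g' ∈ (XP Δ σ j : Set (Equiv.Perm C)) ∪ (XM Δ σ j : Set (Equiv.Perm C)), Commute g g')
    (hE : ∀ i j : Fin (k + 1), i.1 + 1 = j.1 →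
      EdgeA2 (XP Δ σ i.castSucc : Set (Equiv.Perm C)) (XM Δ σ i.castSucc) (XP Δ σ j.castSucc) (XM Δ σ j.castSucc))
    (hp : ∃ p : D.T, p.c ≠ 0)
    (hB : Bond D (XP Δ σ (Fin.last k).castSucc : Set (Equiv.Perm C)) (XM Δ σ (Fin.last k).castSucc)
      (XP Δ σ (Fin.last (k + 1))) (XM Δ σ (Fin.last (k + 1))) {g | g (σ 1) = σ 1}) :
    Nonempty (GCN Δ G D (n := k + 1)) := by
  have hP : ∀ i, (XP Δ σ i : Set (Equiv.Perm C)) ⊆ ρ.range := fun i => by rw [hr]; exact XP_le Δ σ i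
  have hM : ∀ i, (XM Δ σ i : Set (Equiv.Perm C)) ⊆ ρ.range := fun i => by rw [hr]; exact XM_le Δ σ i
  obtain ⟨m, hm, hpar, r1, r2, r3, r4, hy⟩ := hB.pull hρ hp (hP _) (hM _) (hP _) (hM _)
  refine gcn_of Δ (σ 1) (fun i => σ (cs.simple i)) (fun i => ρ ⁻¹' (XP Δ σ i : Set (Equiv.Perm C)))
    (fun i => ρ ⁻¹' (XM Δ σ i : Set (Equiv.Perm C))) (fun i => panAct hr hact hth hext hc hσ i)
    (gen_preimage hρ hr) ?_ ?_ m hm hpar r1 r2 r3 r4 ?_
  · intro i j hij g hg g' hg'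
    have := hcomm i j hij (ρ g) hg (ρ g') hg'
    exact hρ (by rw [map_mul, map_mul]; exact this)
  · intro i j hij
    exact EdgeA2.pull hρ (hE i j hij) (hP _) (hM _) (hP _) (hM _)
  · intro b
    rw [hact]
    exact hy b

end TypeC

end Cfsg.Agent.TitsThree.GSideMou
end

-- part: TitsThree/GCNTransport
section
/-!
# From an arbitrary finite parameter system to a standard one

`bond_std`, `gcn_std`: a `Bond D …` (`GCN Δ G D`) with `F`, `V` finite gives one over a standard parameter system.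
-/

set_option autoImplicit false

namespace Cfsg.Agent.TitsThree.GCNTransport

open Cfsg.Agent.Tits.Core Cfsg.Agent.TitsThree.B2Pkg Cfsg.Agent.TitsThree.StdData
  Cfsg.Agent.TitsThree.Pack Cfsg.Agent.TitsThree.GSideMou Cfsg.Agent.TitsThree.Hua

variable {F : Type*} [Field F] {V V' : Type*} [AddCommGroup V] [Module F V] [AddCommGroup V']
  [Module F V'] {D : PQDatum F V} {D' : PQDatum F V'}

/-! ### Root groups instead of parametrisations -/

theorem comm4_congr {X X' X₁ X₁' Y : Type*} [Group Y] {xp xm : X → Y} {yp ym : X' → Y}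
    {xp' xm' : X₁ → Y} {yp' ym' : X₁' → Y} (h : Comm4 xp xm yp ym)
    (h1 : Set.range xp' ⊆ Set.range xp) (h2 : Set.range xm' ⊆ Set.range xm)
    (h3 : Set.range yp' ⊆ Set.range yp) (h4 : Set.range ym' ⊆ Set.range ym) :
    Comm4 xp' xm' yp' ym' := by
  intro s t
  obtain ⟨a, ha⟩ := h1 ⟨s, rfl⟩
  obtain ⟨b, hb⟩ := h2 ⟨s, rfl⟩
  obtain ⟨c, hc⟩ := h3 ⟨t, rfl⟩
  obtain ⟨d, hd⟩ := h4 ⟨t, rfl⟩
  rw [← ha, ← hb, ← hc, ← hd]
  exact ⟨(h a c).1, (h a d).2.1, (h b c).2.2.1, (h b d).2.2.2⟩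

theorem nodeAct_congr {I : Type*} {M : CoxeterMatrix I} {W : Type*} [Group W]
    {cs : CoxeterSystem M W} {C : Type*} {Δ : Bldg cs C} {G : Type*} [Group G] [MulAction G C]
    {c : C} {i : I} {ci : C} {X X' : Type*} {xp xm : X → G} {xp' xm' : X' → G}
    (h : NodeAct Δ c i ci xp xm) (h1 : Set.range xp' = Set.range xp)
    (h2 : Set.range xm' = Set.range xm) : NodeAct Δ c i ci xp' xm' where
  mem := h.mem
  ne := h.ne
  fix t := by
    obtain ⟨a, ha⟩ : xp' t ∈ Set.range xp := h1 ▸ ⟨t, rfl⟩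
    rw [← ha]; exact h.fix a
  fix' t := by
    obtain ⟨a, ha⟩ : xm' t ∈ Set.range xm := h2 ▸ ⟨t, rfl⟩
    rw [← ha]; exact h.fix' a
  trans y hy hne := by
    obtain ⟨t, ht⟩ := h.trans y hy hne
    obtain ⟨a, ha⟩ : xp t ∈ Set.range xp' := h1 ▸ ⟨t, rfl⟩
    exact ⟨a, by rw [ha, ht]⟩
  trans' y hy hne := by
    obtain ⟨t, ht⟩ := h.trans' y hy hne
    obtain ⟨a, ha⟩ : xm t ∈ Set.range xm' := h2 ▸ ⟨t, rfl⟩
    exact ⟨a, by rw [ha, ht]⟩

section

variable {n : ℕ} {M : CoxeterMatrix (Fin (n + 1))} {W : Type*} [Group W] {cs : CoxeterSystem M W}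
  {C : Type*} {Δ : Bldg cs C} {G : Type*} [Group G] [MulAction G C]

/-- Change of the `B₂` package, same root groups. -/
def changeB2 (g : GCN Δ G D) (b : B2Maps D' G) (hb : B2Rel b) (hx : b.x = g.b2.x)
    (hx' : b.x' = g.b2.x') (h2 : Set.range b.z₂ = Set.range g.b2.z₂)
    (h2' : Set.range b.z₂' = Set.range g.b2.z₂') (hy : Set.range b.y ⊆ Set.range g.b2.y) :
    GCN Δ G D' where
  xp := g.xp
  xm := g.xm
  b2 := b
  rel := hb
  st3 := g.st3
  comm := g.comm
  commT i hi := comm4_congr (g.commT i hi) subset_rfl subset_rfl h2.subset h2'.subset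
  last i hi := ⟨hx.trans (g.last i hi).1, hx'.trans (g.last i hi).2⟩
  c := g.c
  ci := g.ci
  act := g.act
  actT := nodeAct_congr g.actT h2 h2'
  y_fix t := by
    obtain ⟨a, ha⟩ : b.y t ∈ Set.range g.b2.y := hy ⟨t, rfl⟩
    rw [← ha]; exact g.y_fix a
  gen := by
    have e : {x : G | (∃ i t, x = g.xp i t ∨ x = g.xm i t) ∨ ∃ p, x = b.z₂ p ∨ x = b.z₂' p} =
        {x : G | (∃ i t, x = g.xp i t ∨ x = g.xm i t) ∨ ∃ p, x = g.b2.z₂ p ∨ x = g.b2.z₂' p} := by
      ext x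
      have e1 : (∃ p, x = b.z₂ p ∨ x = b.z₂' p) ↔ (∃ p, x = g.b2.z₂ p ∨ x = g.b2.z₂' p) := by
        constructor
        · rintro ⟨p, hp | hp⟩
          · obtain ⟨a, ha⟩ : b.z₂ p ∈ Set.range g.b2.z₂ := h2 ▸ ⟨p, rfl⟩
            exact ⟨a, Or.inl (by rw [hp, ha])⟩
          · obtain ⟨a, ha⟩ : b.z₂' p ∈ Set.range g.b2.z₂' := h2' ▸ ⟨p, rfl⟩
            exact ⟨a, Or.inr (by rw [hp, ha])⟩
        · rintro ⟨p, hp | hp⟩
          · obtain ⟨a, ha⟩ : g.b2.z₂ p ∈ Set.range b.z₂ := h2 ▸ ⟨p, rfl⟩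
            exact ⟨a, Or.inl (by rw [hp, ha])⟩
          · obtain ⟨a, ha⟩ : g.b2.z₂' p ∈ Set.range b.z₂' := h2' ▸ ⟨p, rfl⟩
            exact ⟨a, Or.inr (by rw [hp, ha])⟩
      exact or_congr Iff.rfl e1
    rw [e]
    exact g.gen

/-- `GCN` along a similarity. -/
def gcnSim (s : Sim D D') (g : GCN Δ G D) : GCN Δ G D' :=
  changeB2 g (B2Transport.maps s g.b2) (B2Transport.rel s g.rel) rfl rfl
    (B2Transport.range_z₂ s g.b2) (B2Transport.range_z₂' s g.b2) (B2Transport.range_y s g.b2).subset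

/-- `GCN` over `stdSp` from `GCN` over `stdO1`, characteristic two. -/
noncomputable def gcnEven [Finite F] (h2 : (2 : F) = 0) (g : GCN Δ G (stdO1 F)) :
    GCN Δ G (stdSp F) :=
  changeB2 g (EvenSp.spMaps h2 g.b2) (EvenSp.spRel h2 g.rel) rfl rfl
    ((EvenSp.theta h2).surjective.range_comp g.b2.z₂)
    ((EvenSp.theta h2).surjective.range_comp g.b2.z₂') subset_rfl

/-- **`GCN` over an arbitrary finite parameter system gives `GCN` over a standard one.** -/
theorem gcn_std [Finite F] [Finite V] (h0 : ∀ c, D.ok 0 c → ∃ m, c = m - D.ε * D.σ m)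
    (hs : ∀ w, ∃ c, D.ok w c) (hne : ∃ w c, D.ok w c ∧ c ≠ 0) (g : GCN Δ G D) :
    Nonempty (GCN Δ G (stdSp F)) ∨ ((2 : F) ≠ 0 ∧ Nonempty (GCN Δ G (stdO1 F))) ∨
      (∃ a b hab, Nonempty (GCN Δ G (stdO2 F a b hab))) ∨
      ((∃ x, D.σ x ≠ x) ∧ Nonempty (GCN Δ G (stdU0 F D.σ D.σσ))) ∨
      ((∃ x, D.σ x ≠ x) ∧ Nonempty (GCN Δ G (stdU1 F D.σ D.σσ))) := by
  rcases PQClass.classify D h0 hs hne with ⟨-, ⟨s⟩⟩ | ⟨⟨s⟩⟩ | ⟨a, b, hab, ⟨s⟩⟩ | ⟨hx, ⟨s⟩⟩ | ⟨hx, ⟨s⟩⟩
  · exact Or.inl ⟨gcnSim s g⟩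
  · by_cases h2 : (2 : F) = 0
    · exact Or.inl ⟨gcnEven h2 (gcnSim s g)⟩
    · exact Or.inr (Or.inl ⟨h2, ⟨gcnSim s g⟩⟩)
  · exact Or.inr (Or.inr (Or.inl ⟨a, b, hab, ⟨gcnSim s g⟩⟩))
  · exact Or.inr (Or.inr (Or.inr (Or.inl ⟨hx, ⟨gcnSim s g⟩⟩)))
  · exact Or.inr (Or.inr (Or.inr (Or.inr ⟨hx, ⟨gcnSim s g⟩⟩)))

end

section

variable {Y : Type*} [Group Y] {Xj Xj' Xk Xk' Bc : Set Y}

theorem bondSim (s : Sim D D') (h : Bond D Xj Xj' Xk Xk' Bc) : Bond D' Xj Xj' Xk Xk' Bc := by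
  obtain ⟨m, hm, hpar, r1, r2, r3, r4, hy⟩ := h
  exact ⟨B2Transport.maps s m, B2Transport.rel s hm, hpar, r1, r2,
    (B2Transport.range_z₂ s m).trans r3, (B2Transport.range_z₂' s m).trans r4, fun b => hy _⟩

theorem bondEven [Finite F] (h2 : (2 : F) = 0) (h : Bond (stdO1 F) Xj Xj' Xk Xk' Bc) :
    Bond (stdSp F) Xj Xj' Xk Xk' Bc := by
  obtain ⟨m, hm, hpar, r1, r2, r3, r4, hy⟩ := h
  exact ⟨EvenSp.spMaps h2 m, EvenSp.spRel h2 hm, hpar, r1, r2,
    ((EvenSp.theta h2).surjective.range_comp m.z₂).trans r3,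
    ((EvenSp.theta h2).surjective.range_comp m.z₂').trans r4, hy⟩

/-- **`Bond` over an arbitrary finite parameter system gives `Bond` over a standard one.** -/
theorem bond_std [Finite F] [Finite V] (h0 : ∀ c, D.ok 0 c → ∃ m, c = m - D.ε * D.σ m)
    (hs : ∀ w, ∃ c, D.ok w c) (hne : ∃ w c, D.ok w c ∧ c ≠ 0) (g : Bond D Xj Xj' Xk Xk' Bc) :
    Bond (stdSp F) Xj Xj' Xk Xk' Bc ∨ ((2 : F) ≠ 0 ∧ Bond (stdO1 F) Xj Xj' Xk Xk' Bc) ∨
      (∃ a b hab, Bond (stdO2 F a b hab) Xj Xj' Xk Xk' Bc) ∨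
      ((∃ x, D.σ x ≠ x) ∧ Bond (stdU0 F D.σ D.σσ) Xj Xj' Xk Xk' Bc) ∨
      ((∃ x, D.σ x ≠ x) ∧ Bond (stdU1 F D.σ D.σσ) Xj Xj' Xk Xk' Bc) := by
  rcases PQClass.classify D h0 hs hne with ⟨-, ⟨s⟩⟩ | ⟨⟨s⟩⟩ | ⟨a, b, hab, ⟨s⟩⟩ | ⟨hx, ⟨s⟩⟩ | ⟨hx, ⟨s⟩⟩
  · exact Or.inl (bondSim s g)
  · by_cases h2 : (2 : F) = 0
    · exact Or.inl (bondEven h2 (bondSim s g))
    · exact Or.inr (Or.inl ⟨h2, bondSim s g⟩)
  · exact Or.inr (Or.inr (Or.inl ⟨a, b, hab, bondSim s g⟩))
  · exact Or.inr (Or.inr (Or.inr (Or.inl ⟨hx, bondSim s g⟩)))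
  · exact Or.inr (Or.inr (Or.inr (Or.inr ⟨hx, bondSim s g⟩)))

end

end Cfsg.Agent.TitsThree.GCNTransport
end

-- part: TitsThree/TorusAct
section
/-!
# The torus acts on the root groups by scalars (S1143, END hypotheses)

`Scal x h`: `h x(t) h⁻¹ = x(k t)` for some `k ≠ 0`.  The elements `hh xp xm t` and `nII p (nII q)⁻¹` of the packages
`Edge3`, `Comm4`, `B2Rel`, `CN`, `FF` act in this way on all root groups of type I (and, for `FF`, on those
parametrised by `E`).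
-/

set_option autoImplicit false
set_option linter.unusedSectionVars false

namespace Cfsg.Agent.TitsThree.TorusAct

open Cfsg.Agent.TitsThree Cfsg.Agent.AGraded Cfsg.Agent.TitsThree.Pack Cfsg.Agent.TitsThree.B2Pkg
open Cfsg.Agent.TitsThree.RankTwoA2 (Tor conj_comp conj_inv' conj_commutator)
open scoped commutatorElement

universe u v

variable {F : Type*} [Field F] {Y : Type u} [Group Y]

/-- `h` acts on the root group `x` by a scalar. -/
def Scal (x : F → Y) (h : Y) : Prop := ∃ k : F, k ≠ 0 ∧ ∀ t, h * x t * h⁻¹ = x (k * t)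

namespace Scal

variable {x : F → Y}

theorem one : Scal x 1 := ⟨1, one_ne_zero, fun t => by simp⟩

theorem mul {g h : Y} (hg : Scal x g) (hh : Scal x h) : Scal x (g * h) := by
  obtain ⟨k, hk, h1⟩ := hg
  obtain ⟨l, hl, h2⟩ := hh
  exact ⟨k * l, mul_ne_zero hk hl, fun t => by rw [conj_comp (h2 t) (h1 _), mul_assoc]⟩

theorem inv {h : Y} (hh : Scal x h) : Scal x h⁻¹ := by
  obtain ⟨k, hk, h1⟩ := hh
  refine ⟨k⁻¹, inv_ne_zero hk, fun t => ?_⟩
  have := conj_inv' (h1 (k⁻¹ * t))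
  rw [mul_inv_cancel_left₀ hk] at this
  rw [inv_inv]
  exact this

theorem of_comm {h : Y} (hc : ∀ t, Commute h (x t)) : Scal x h :=
  ⟨1, one_ne_zero, fun t => by rw [(hc t).eq, mul_inv_cancel_right, one_mul]⟩

/-- The subgroup of all elements acting by scalars. -/
def sub (x : F → Y) : Subgroup Y where
  carrier := {h | Scal x h}
  mul_mem' := fun ha hb => ha.mul hb
  one_mem' := Scal.one
  inv_mem' := fun ha => ha.inv

theorem mem_sub {h : Y} : h ∈ sub x ↔ Scal x h := Iff.rfl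

/-- An element of order dividing `p` acting by a scalar centralises the root group, in characteristic `p`. -/
theorem eq_of_pow {p : ℕ} [Fact p.Prime] [CharP F p] (hinj : Function.Injective x) {h : Y}
    (hh : Scal x h) (hp : h ^ p = 1) (t : F) : h * x t * h⁻¹ = x t := by
  obtain ⟨k, hk, h1⟩ := hh
  have h2 : ∀ (j : ℕ) (t : F), h ^ j * x t * (h ^ j)⁻¹ = x (k ^ j * t) := by
    intro j
    induction j with
    | zero => intro t; simp
    | succ j ih =>
      intro t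
      rw [pow_succ, conj_comp (h1 t) (ih _), pow_succ, mul_assoc]
  have h3 := h2 p 1
  rw [hp, one_mul, inv_one, mul_one] at h3
  have h4 := hinj h3
  rw [mul_one] at h4
  have h5 : k = 1 := by
    have h6 : (k - 1) ^ p = 0 := by
      rw [sub_pow_char, ← h4, one_pow, sub_self]
    exact sub_eq_zero.1 (pow_eq_zero_iff (Fact.out : p.Prime).ne_zero |>.1 h6)
  rw [h1, h5, one_mul]

end Scal

/-! ### Commuting pairs -/

section Comm

variable {X : Type*} {xp xm : F → Y} {yp ym : X → Y}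

theorem comm_nn (h : Comm4 xp xm yp ym) (t : F) (s : X) :
    Commute (nn xp xm t) (yp s) ∧ Commute (nn xp xm t) (ym s) := by
  have a := h t s
  have b := h (-t⁻¹) s
  exact ⟨(a.1.mul_left b.2.2.1).mul_left a.1, (a.2.1.mul_left b.2.2.2).mul_left a.2.1⟩

theorem comm_hh (h : Comm4 xp xm yp ym) (t : F) (s : X) :
    Commute (hh xp xm t) (yp s) ∧ Commute (hh xp xm t) (ym s) :=
  ⟨(comm_nn h t s).1.mul_left (comm_nn h 1 s).1.inv_left,
    (comm_nn h t s).2.mul_left (comm_nn h 1 s).2.inv_left⟩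

theorem Comm4.symm' {X' : Type*} {xp xm : X' → Y} {yp ym : X → Y} (h : Comm4 xp xm yp ym) :
    Comm4 yp ym xp xm := fun s t =>
  ⟨(h t s).1.symm, (h t s).2.2.1.symm, (h t s).2.1.symm, (h t s).2.2.2.symm⟩

end Comm

theorem scal_of_comm4 {F' : Type*} [Field F'] {xp xm : F → Y} {yp ym : F' → Y} (h : Comm4 xp xm yp ym)
    (t : F) : Scal yp (hh xp xm t) ∧ Scal ym (hh xp xm t) :=
  ⟨Scal.of_comm fun s => (comm_hh h t s).1, Scal.of_comm fun s => (comm_hh h t s).2⟩

/-! ### Edges of type `A₂` -/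

section Edge

theorem hh_eq (x : Fin 3 → Fin 3 → F → Y) (a b : Fin 3) (t : F) :
    hh (x a b) (x b a) t = RankTwoA2.n x a b t * (RankTwoA2.n x a b 1)⁻¹ := rfl

theorem scal_hh {x : Fin 3 → Fin 3 → F → Y} (hx : SteinRel x) {a b : Fin 3} (hab : a ≠ b) {t : F}
    (ht : t ≠ 0) {p q : Fin 3} (hpq : p ≠ q) : Scal (x p q) (hh (x a b) (x b a) t) := by
  obtain ⟨c, hca, hcb⟩ : ∃ c : Fin 3, c ≠ a ∧ c ≠ b := by
    revert hab; revert a b; decide
  rw [hh_eq]
  obtain ⟨r, hr, h1, -⟩ := RankTwoA2.tor_n hx hab hcb.symm hca.symm ht one_ne_zero p q hpq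
  exact ⟨r, hr, h1⟩

variable {xp xm yp ym : F → Y}

theorem edge_scal (e : Edge3 xp xm yp ym) {t : F} (ht : t ≠ 0) :
    Scal xp (hh xp xm t) ∧ Scal yp (hh xp xm t) ∧ Scal xp (hh yp ym t) ∧ Scal yp (hh yp ym t) := by
  obtain ⟨x, hx, rfl, rfl, rfl, rfl⟩ := e
  exact ⟨scal_hh hx (by decide) ht (by decide), scal_hh hx (by decide) ht (by decide),
    scal_hh hx (by decide) ht (by decide), scal_hh hx (by decide) ht (by decide)⟩

/-- injectivity is transported by conjugation -/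
theorem inj_of_conj {x y : F → Y} {g : Y} {k : F} (hk : k ≠ 0) (h : ∀ s, g * x s * g⁻¹ = y (k * s))
    (hx : Function.Injective x) : Function.Injective y := by
  intro a b hab
  have h1 : ∀ c, y c = g * x (k⁻¹ * c) * g⁻¹ := fun c => by
    rw [h, mul_inv_cancel_left₀ hk]
  rw [h1 a, h1 b] at hab
  have h2 : x (k⁻¹ * a) = x (k⁻¹ * b) := mul_left_cancel (mul_right_cancel hab)
  exact mul_left_cancel₀ (inv_ne_zero hk) (hx h2)

theorem stein_inj {x : Fin 3 → Fin 3 → F → Y} (hx : SteinRel x) (h01 : Function.Injective (x 0 1)) :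
    ∀ a b, a ≠ b → Function.Injective (x a b) := by
  have one : (1 : F) ≠ 0 := one_ne_zero
  have h02 : Function.Injective (x 0 2) := inj_of_conj (k := -1) (neg_ne_zero.2 one)
    (fun s => by rw [RankTwoA2.n_ca hx (a := 1) (b := 2) (c := 0) (by decide) (by decide) (by decide) one]
                 congr 1; ring) h01
  have h12 : Function.Injective (x 1 2) := inj_of_conj (k := -1) (neg_ne_zero.2 one)
    (fun s => by rw [RankTwoA2.n_ac hx (a := 0) (b := 1) (c := 2) (by decide) (by decide) (by decide) one]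
                 congr 1; ring) h02
  have h10 : Function.Injective (x 1 0) := inj_of_conj (k := -1) (neg_ne_zero.2 one)
    (fun s => by rw [RankTwoA2.n_ab hx (a := 0) (b := 1) (c := 2) (by decide) (by decide) (by decide) one]
                 congr 1; ring) h01
  have h21 : Function.Injective (x 2 1) := inj_of_conj (k := -1) (neg_ne_zero.2 one)
    (fun s => by rw [RankTwoA2.n_ab hx (a := 1) (b := 2) (c := 0) (by decide) (by decide) (by decide) one]
                 congr 1; ring) h12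
  have h20 : Function.Injective (x 2 0) := inj_of_conj (k := -1) (neg_ne_zero.2 one)
    (fun s => by rw [RankTwoA2.n_ab hx (a := 0) (b := 2) (c := 1) (by decide) (by decide) (by decide) one]
                 congr 1; ring) h02
  intro a b hab
  fin_cases a <;> fin_cases b <;> first | exact absurd rfl hab | assumption

/-- The root groups of an `A₂` edge are parametrised as in `SL₂`. -/
theorem edge_sl2 (e : Edge3 xp xm yp ym) (hinj : Function.Injective xp) :
    Hua.SL2Par xp xm ∧ Hua.SL2Par yp ym := by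
  obtain ⟨x, hx, rfl, rfl, rfl, rfl⟩ := e
  have h := stein_inj hx hinj
  exact ⟨GlueA.sl2Par hx h (by decide), GlueA.sl2Par hx h (by decide)⟩

theorem edge_symm (e : Edge3 xp xm yp ym) : Edge3 yp ym xp xm := by
  obtain ⟨x, hx, rfl, rfl, rfl, rfl⟩ := e
  refine ⟨_, Cfsg.Agent.TitsThree.SteinRel.flip hx, ?_, ?_, ?_, ?_⟩ <;> funext t <;>
    simp [sg3]

/-- An element normalising the first root group of an edge and centralising the second acts by a scalar. -/
theorem scal_of_edge (e : Edge3 xp xm yp ym) (hinj : Function.Injective xp) {h : Y}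
    (h1 : ∀ s, ∃ s', h * xp s * h⁻¹ = xp s') (h2 : ∀ s, Commute h (yp s)) : Scal xp h := by
  obtain ⟨x, hx, rfl, rfl, rfl, rfl⟩ := e
  have inj02 := stein_inj hx hinj 0 2 (by decide)
  choose φ hφ using h1
  have key : ∀ s t, h * x 0 2 (s * t) * h⁻¹ = x 0 2 (φ s * t) := by
    intro s t
    have e2 : h * x 1 2 t * h⁻¹ = x 1 2 t := by rw [(h2 t).eq, mul_inv_cancel_right]
    rw [← hx.br 0 1 2 (by decide) (by decide) (by decide) s t, conj_commutator, hφ, e2,
      hx.br 0 1 2 (by decide) (by decide) (by decide)]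
  have h3 : ∀ s, φ s = φ 1 * s := by
    intro s
    apply inj02
    have e1 := key s 1
    have e2 := key 1 s
    rw [mul_one, mul_one] at e1
    rw [one_mul] at e2
    rw [← e1, ← e2]
  refine ⟨φ 1, ?_, fun t => by rw [hφ, h3]⟩
  intro h0
  have e1 := hφ 1
  rw [h0, hx.zero (by decide), mul_inv_eq_one, mul_eq_left, ← hx.zero (show (0 : Fin 3) ≠ 1 by decide)]
    at e1
  exact one_ne_zero (hinj e1)

end Edge

/-! ### The double bond -/

section Bond

variable {V : Type*} [AddCommGroup V] [Module F V] {D : PQDatum F V} {m : B2Maps D Y}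

/-- `n_II(p) n_II(q)⁻¹` acts on the type I root group by a scalar. -/
theorem scal_nII (h : B2Rel m) {p q : D.T} (hp : p.c ≠ 0) (hq : q.c ≠ 0) :
    Scal m.x (m.nII p * (m.nII q)⁻¹) := by
  have hq' := CoreB2.inv_c_ne hq
  refine ⟨p.c⁻¹ * (D.ε * D.σ (q⁻¹).c), ?_, fun t => ?_⟩
  · refine mul_ne_zero (inv_ne_zero hp) (mul_ne_zero ?_ ?_)
    · intro h0
      have := D.ε_mul
      rw [h0, zero_mul] at this
      exact zero_ne_one this
    · intro h0
      exact hq' ((map_eq_zero D.σ).1 h0)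
  · rw [CoreB2.nII_inv h q, conj_comp (h.nII_x _ hq' t) (h.nII_y _ hp _)]
    congr 1
    ring

/-- the torus element `h_I(t)` maps the type II root group into itself -/
theorem hh_z₂ (h : B2Rel m) {p₀ : D.T} (hp : p₀.c ≠ 0) {t : F} (ht : t ≠ 0) (p : D.T) :
    ∃ q, hh m.x m.x' t * m.z₂ p * (hh m.x m.x' t)⁻¹ = m.z₂ q := by
  have hn := B2NI.nirel h hp
  have e : hh m.x m.x' t = nn m.x m.x' t * nn m.x m.x' (-1) := by
    have h1 : nn m.x m.x' (-1) = (nn m.x m.x' 1)⁻¹ := CoreB2.nt_neg h 1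
    rw [hh, h1]
  have h1 : nn m.x m.x' (-1) * m.z₂ p * (nn m.x m.x' (-1))⁻¹ = m.z₁ (D.sc (-1) p) :=
    hn.z₂ (-1) (neg_ne_zero.2 one_ne_zero) p
  refine ⟨D.sc (-t⁻¹) (D.sc (-1) p), ?_⟩
  rw [e]
  exact conj_comp h1 (hn.z₁ t ht _)

end Bond

/-! ### Uniqueness of the reflection elements -/

section Unique

variable {xp xm : F → Y}

theorem nn_mid (h : Hua.SL2Par xp xm) {t : F} (ht : t ≠ 0) :
    nn xp xm t = xm (-t⁻¹) * xp t * xm (-t⁻¹) := by
  have h1 := h.conjp t ht t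
  have h2 := h.conjm t ht (-t⁻¹)
  have e1 : -(t⁻¹ * t⁻¹ * t) = -t⁻¹ := by rw [mul_assoc, inv_mul_cancel₀ ht, mul_one]
  have e2 : -(t * t * -t⁻¹) = t := by
    rw [mul_neg, neg_neg, mul_assoc, mul_inv_cancel₀ ht, mul_one]
  rw [e1] at h1
  rw [e2] at h2
  calc nn xp xm t = nn xp xm t * nn xp xm t * (nn xp xm t)⁻¹ := by group
    _ = nn xp xm t * (xp t * xm (-t⁻¹) * xp t) * (nn xp xm t)⁻¹ := rfl
    _ = (nn xp xm t * xp t * (nn xp xm t)⁻¹) * (nn xp xm t * xm (-t⁻¹) * (nn xp xm t)⁻¹) *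
        (nn xp xm t * xp t * (nn xp xm t)⁻¹) := by group
    _ = _ := by rw [h1, h2]

/-- The reflection element attached to `xp t` is unique. -/
theorem mu_unique (h : Hua.SL2Par xp xm) {t a b : F} (ht : t ≠ 0)
    (h1 : ∀ s, ∃ s', (xm a * xp t * xm b) * xp s * (xm a * xp t * xm b)⁻¹ = xm s')
    (h2 : ∀ s, ∃ s', (xm a * xp t * xm b) * xm s * (xm a * xp t * xm b)⁻¹ = xp s') :
    xm a * xp t * xm b = nn xp xm t := by
  set n := nn xp xm t with hn
  have hmid := nn_mid h ht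
  rw [← hn] at hmid
  have e : xm a * xp t * xm b = xm (a + t⁻¹) * n * xm (b + t⁻¹) := by
    rw [hmid]
    have e1 : xm (a + t⁻¹) * (xm (-t⁻¹) * xp t * xm (-t⁻¹)) * xm (b + t⁻¹) =
        (xm (a + t⁻¹) * xm (-t⁻¹)) * xp t * (xm (-t⁻¹) * xm (b + t⁻¹)) := by group
    rw [e1, ← h.addm, ← h.addm]
    congr 3
    · congr 1
      ring
    · ring
  set α := a + t⁻¹
  set β := b + t⁻¹
  have hβ : β = 0 := by
    apply h.norm
    intro r
    obtain ⟨s', hs'⟩ := h1 r
    rw [e] at hs'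
    refine ⟨-(t * t * s'), ?_⟩
    have h3 := h.conjp t ht (-(t * t * s'))
    have e3 : -(t⁻¹ * t⁻¹ * -(t * t * s')) = s' := by field_simp
    rw [e3, ← hn] at h3
    have h4 : xm β * xp r * (xm β)⁻¹ = n⁻¹ * ((xm α)⁻¹ * xm s' * xm α) * n := by
      rw [← hs']; group
    have h5 : (xm α)⁻¹ * xm s' * xm α = xm s' := by
      rw [← h.negm, ← h.addm, ← h.addm]
      congr 1
      ring
    rw [h4, h5, ← h3]
    group
  rw [hβ, h.zerom, mul_one] at e
  have hα : α = 0 := by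
    apply h.norm
    intro r
    have h3 := h.conjm t ht (-(t⁻¹ * t⁻¹ * r))
    have e3 : -(t * t * -(t⁻¹ * t⁻¹ * r)) = r := by field_simp
    rw [e3, ← hn] at h3
    obtain ⟨s', hs'⟩ := h2 (-(t⁻¹ * t⁻¹ * r))
    refine ⟨s', ?_⟩
    rw [← hs', e, ← h3]
    group
  rw [e, hα, h.zerom, one_mul]

end Unique

/-! ### Type `C_n` -/

section CN

variable {V : Type*} [AddCommGroup V] [Module F V] {D : PQDatum F V} {n : ℕ}

/-- The torus of a package of type `C_{n+1}`. -/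
def torusCN (P : CN Y D n) : Subgroup Y :=
  Subgroup.closure ({g | ∃ i t, t ≠ 0 ∧ g = hh (P.xp i) (P.xm i) t} ∪
    {g | ∃ p q : D.T, p.c ≠ 0 ∧ q.c ≠ 0 ∧ g = P.b2.nII p * (P.b2.nII q)⁻¹})

theorem hh_mem_torusCN (P : CN Y D n) (i : Fin n) {t : F} (ht : t ≠ 0) :
    hh (P.xp i) (P.xm i) t ∈ torusCN P := Subgroup.subset_closure (Or.inl ⟨i, t, ht, rfl⟩)

theorem nII_mem_torusCN (P : CN Y D n) {p q : D.T} (hp : p.c ≠ 0) (hq : q.c ≠ 0) :
    P.b2.nII p * (P.b2.nII q)⁻¹ ∈ torusCN P := Subgroup.subset_closure (Or.inr ⟨p, q, hp, hq, rfl⟩)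

theorem comm_nII {m : B2Maps D Y} {xp xm : F → Y} (h : Comm4 xp xm m.z₂ m.z₂') (p : D.T) (s : F) :
    Commute (m.nII p) (xp s) ∧ Commute (m.nII p) (xm s) := by
  have a := fun q => (h s q)
  exact ⟨(((a _).2.1.symm).mul_left (a _).1.symm).mul_left (a _).2.1.symm,
    (((a _).2.2.2.symm).mul_left (a _).2.2.1.symm).mul_left (a _).2.2.2.symm⟩

/-- The torus acts on the type I root groups by scalars. -/
theorem scalCN (hn : 2 ≤ n) (P : CN Y D n) (j : Fin n) {h : Y} (hh' : h ∈ torusCN P) :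
    Scal (P.xp j) h := by
  have hle : torusCN P ≤ Scal.sub (P.xp j) := by
    rw [torusCN, Subgroup.closure_le]
    rintro g (⟨i, t, ht, rfl⟩ | ⟨p, q, hp, hq, rfl⟩)
    · change Scal (P.xp j) _
      rcases lt_trichotomy i.1 j.1 with hij | hij | hij
      · rcases Nat.lt_or_ge (i.1 + 1) j.1 with h2 | h2
        · exact (scal_of_comm4 (P.comm i j h2) t).1
        · exact (edge_scal (P.st3 i j (by omega)) ht).2.1
      · obtain rfl : i = j := Fin.ext hij
        -- a neighbour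
        rcases Nat.lt_or_ge (i.1 + 1) n with h2 | h2
        · exact (edge_scal (P.st3 i ⟨i.1 + 1, h2⟩ rfl) ht).1
        · have h3 : 1 ≤ i.1 := by omega
          exact (edge_scal (P.st3 ⟨i.1 - 1, by omega⟩ i (by simp; omega)) ht).2.2.2
      · rcases Nat.lt_or_ge (j.1 + 1) i.1 with h2 | h2
        · exact (scal_of_comm4 (Comm4.symm' (P.comm j i h2)) t).1
        · exact (edge_scal (P.st3 j i (by omega)) ht).2.2.1
    · change Scal (P.xp j) _
      rcases Nat.lt_or_ge (j.1 + 1) n with h2 | h2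
      · refine Scal.of_comm fun s => ?_
        exact (comm_nII (P.commT j h2) p s).1.mul_left (comm_nII (P.commT j h2) q s).1.inv_left
      · have h3 := P.last j (by have := j.2; omega)
        rw [← h3.1]
        exact scal_nII P.rel hp hq
  exact hle hh'

end CN

/-! ### Type `F₄` -/

section FF

variable {V : Type*} [AddCommGroup V] [Module F V] {D : PQDatum F V} {E : Type*} [Field E]
  {τ τ' : E → D.T}

/-- The torus of a package of type `F₄`. -/
def torusFF (P : FF Y D τ τ') : Subgroup Y :=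
  Subgroup.closure (({g | ∃ t, t ≠ 0 ∧ g = hh P.x0 P.y0 t} ∪ {g | ∃ t, t ≠ 0 ∧ g = hh P.x1 P.y1 t}) ∪
    ({g | ∃ t, t ≠ 0 ∧ g = hh P.x2 P.y2 t} ∪ {g | ∃ t, t ≠ 0 ∧ g = hh P.x3 P.y3 t}))

variable (P : FF Y D τ τ')

theorem hh0_mem {t : F} (ht : t ≠ 0) : hh P.x0 P.y0 t ∈ torusFF P :=
  Subgroup.subset_closure (Or.inl (Or.inl ⟨t, ht, rfl⟩))

theorem hh1_mem {t : F} (ht : t ≠ 0) : hh P.x1 P.y1 t ∈ torusFF P :=
  Subgroup.subset_closure (Or.inl (Or.inr ⟨t, ht, rfl⟩))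

theorem hh2_mem {t : E} (ht : t ≠ 0) : hh P.x2 P.y2 t ∈ torusFF P :=
  Subgroup.subset_closure (Or.inr (Or.inl ⟨t, ht, rfl⟩))

theorem hh3_mem {t : E} (ht : t ≠ 0) : hh P.x3 P.y3 t ∈ torusFF P :=
  Subgroup.subset_closure (Or.inr (Or.inr ⟨t, ht, rfl⟩))

theorem tau_c_ne (hinj : Function.Injective P.x2) {t : E} (ht : t ≠ 0) : (τ t).c ≠ 0 := by
  intro h0
  have h1 : τ t = 1 := PQDatum.T.c_eq_zero_iff.1 h0
  have h2 := P.hz t
  rw [h1, CoreB2.z₂_one P.rel] at h2
  obtain ⟨x, hx, e, -⟩ := P.e23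
  have h3 : P.x2 0 = 1 := by rw [← e]; exact hx.zero (by decide)
  exact ht (hinj (by rw [← h2, h3]))

/-- `n_II(τ t) = n_2(t)` -/
theorem nII_eq (hτ : Function.Surjective τ) (hτ' : Function.Surjective τ')
    (hinj : Function.Injective P.x2) {t : E} (ht : t ≠ 0) : P.b2.nII (τ t) = nn P.x2 P.y2 t := by
  have hc := tau_c_ne P hinj ht
  have hSL := (edge_sl2 P.e23 hinj).1
  obtain ⟨a, ha⟩ := hτ' (D.sc (-(D.σ (τ t).c)⁻¹) (τ t))
  obtain ⟨b, hb⟩ := hτ' (D.sc (-(D.ε * (τ t).c⁻¹)) (τ t))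
  have e : P.b2.nII (τ t) = P.y2 a * P.x2 t * P.y2 b := by
    rw [B2Maps.nII, ← ha, ← hb, P.hz', P.hz', P.hz]
  rw [e]
  apply mu_unique hSL ht
  · intro s
    rw [← e, ← P.hz, P.rel.nII_z₂ _ hc]
    obtain ⟨s', hs'⟩ := hτ' (D.sc (D.σ (τ t).c)⁻¹ (D.refl (τ t) hc (τ s)))
    exact ⟨s', by rw [← hs', P.hz']⟩
  · intro s
    rw [← e, ← P.hz', P.rel.nII_z₂' _ hc]
    obtain ⟨s', hs'⟩ := hτ (D.sc (D.ε⁻¹ * (τ t).c) (D.refl (τ t) hc (τ' s)))
    exact ⟨s', by rw [← hs', P.hz]⟩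

theorem nII_mem_torusFF (hτ : Function.Surjective τ) (hτ' : Function.Surjective τ')
    (hinj : Function.Injective P.x2) {p q : D.T} (hp : p.c ≠ 0) (hq : q.c ≠ 0) :
    P.b2.nII p * (P.b2.nII q)⁻¹ ∈ torusFF P := by
  obtain ⟨s, rfl⟩ := hτ p
  obtain ⟨t, rfl⟩ := hτ q
  have h0 : ∀ r : E, (τ r).c ≠ 0 → r ≠ 0 := by
    rintro _ hr rfl
    apply hr
    obtain ⟨x, hx, e, -⟩ := P.e23
    have h3 : P.x2 0 = 1 := by rw [← e]; exact hx.zero (by decide)
    -- `τ 0 = 1`
    by_contra hne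
    have hs : ∃ r : E, τ r = 1 := hτ 1
    obtain ⟨r, hr'⟩ := hs
    have h4 : P.x2 r = 1 := by rw [← P.hz, hr', CoreB2.z₂_one P.rel]
    have h5 : r = 0 := hinj (by rw [h4, h3])
    rw [h5] at hr'
    rw [hr'] at hne
    exact hne rfl
  have hs := h0 s hp
  have ht := h0 t hq
  rw [nII_eq P hτ hτ' hinj hs, nII_eq P hτ hτ' hinj ht]
  have e : nn P.x2 P.y2 s * (nn P.x2 P.y2 t)⁻¹ = hh P.x2 P.y2 s * (hh P.x2 P.y2 t)⁻¹ := by
    rw [hh, hh]; group
  rw [e]
  exact mul_mem (hh2_mem P hs) (inv_mem (hh2_mem P ht))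

/-- The torus acts on all simple root groups by scalars. -/
theorem scalFF (hτ : Function.Surjective τ) (hτ' : Function.Surjective τ')
    (hinj : Function.Injective P.x2) {h : Y} (hh' : h ∈ torusFF P) :
    Scal P.x0 h ∧ Scal P.x1 h ∧ Scal P.x2 h ∧ Scal P.x3 h := by
  have hc1 := tau_c_ne P hinj (one_ne_zero : (1 : E) ≠ 0)
  have hle : torusFF P ≤ Scal.sub P.x0 ⊓ (Scal.sub P.x1 ⊓ (Scal.sub P.x2 ⊓ Scal.sub P.x3)) := by
    rw [torusFF, Subgroup.closure_le]
    rintro g ((⟨t, ht, rfl⟩ | ⟨t, ht, rfl⟩) | (⟨t, ht, rfl⟩ | ⟨t, ht, rfl⟩))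
    · exact ⟨(edge_scal P.e01 ht).1, (edge_scal P.e01 ht).2.1, (scal_of_comm4 P.c02 t).1,
        (scal_of_comm4 P.c03 t).1⟩
    · refine ⟨(edge_scal P.e01 ht).2.2.1, (edge_scal P.e01 ht).2.2.2, ?_, (scal_of_comm4 P.c13 t).1⟩
      refine scal_of_edge P.e23 hinj (fun s => ?_) fun s => (comm_hh P.c13 t s).1
      obtain ⟨q, hq⟩ := hh_z₂ P.rel hc1 ht (τ s)
      rw [P.hx, P.hx', P.hz] at hq
      obtain ⟨s', rfl⟩ := hτ q
      exact ⟨s', by rw [hq, P.hz]⟩
    · refine ⟨(scal_of_comm4 (Comm4.symm' P.c02) t).1, ?_, (edge_scal P.e23 ht).1,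
        (edge_scal P.e23 ht).2.1⟩
      change Scal P.x1 (hh P.x2 P.y2 t)
      rw [hh, ← nII_eq P hτ hτ' hinj ht, ← nII_eq P hτ hτ' hinj one_ne_zero, ← P.hx]
      exact scal_nII P.rel (tau_c_ne P hinj ht) hc1
    · exact ⟨(scal_of_comm4 (Comm4.symm' P.c03) t).1, (scal_of_comm4 (Comm4.symm' P.c13) t).1,
        (edge_scal P.e23 ht).2.2.1, (edge_scal P.e23 ht).2.2.2⟩
  have h1 := hle hh'
  exact ⟨h1.1, h1.2.1, h1.2.2.1, h1.2.2.2⟩

end FF

end Cfsg.Agent.TitsThree.TorusAct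
end

-- part: TitsThree/EndRange
section
/-!
# Ranges of the root elements, and the common part of `EndCN`, `EndFF` (S1143)
-/

set_option autoImplicit false

namespace Cfsg.Agent.TitsThree.EndRange

open Cfsg.Agent.Tits.Core Cfsg.Agent.Tits.Core.Bldg Cfsg.Agent.Tits
open Cfsg.Agent.Tits.MouDefs (rt)
open Cfsg.Agent.Tits.MouOut
open Cfsg.Agent.TitsThree.Hua Cfsg.Agent.TitsThree.EndGen Cfsg.Agent.TitsThree.TorusAct

variable {I : Type*} {M : CoxeterMatrix I} {W : Type*} [Group W] {cs : CoxeterSystem M W}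
variable {C A : Type*} [Group A] [MulAction A C] {Δ : Bldg cs C}
variable {σ : W → C} {U : Set W → Subgroup A}

/-- The root elements of the node `i` exhaust the root groups `U (rt 1 i)`, `U (rt s_i i)`. -/
def NodeRange (U : Set W → Subgroup A) (i : I) {X : Type*} (xp xm : X → ↥(Gg cs U)) : Prop :=
  Set.range (fun t => (xp t : A)) = U (rt cs 1 i) ∧
    Set.range (fun t => (xm t : A)) = U (rt cs (cs.simple i) i)

namespace NodeRange

variable {i : I} {X : Type*} {xp xm : X → ↥(Gg cs U)}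

theorem mem (h : NodeRange U i xp xm) (t : X) : (xp t : A) ∈ U (rt cs 1 i) := by
  have : (xp t : A) ∈ Set.range (fun t => (xp t : A)) := ⟨t, rfl⟩
  rw [h.1] at this
  exact this

theorem mem' (h : NodeRange U i xp xm) (t : X) : (xm t : A) ∈ U (rt cs (cs.simple i) i) := by
  have : (xm t : A) ∈ Set.range (fun t => (xm t : A)) := ⟨t, rfl⟩
  rw [h.2] at this
  exact this

theorem exists_eq (h : NodeRange U i xp xm) {g : A} (hg : g ∈ U (rt cs 1 i)) : ∃ t, (xp t : A) = g := by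
  have : g ∈ (U (rt cs 1 i) : Set A) := hg
  rw [← h.1] at this
  exact this

theorem exists_eq' (h : NodeRange U i xp xm) {g : A} (hg : g ∈ U (rt cs (cs.simple i) i)) :
    ∃ t, (xm t : A) = g := by
  have : g ∈ (U (rt cs (cs.simple i) i) : Set A) := hg
  rw [← h.2] at this
  exact this

end NodeRange

/-- `SL2Par` is preserved by injective homomorphisms. -/
theorem sl2_map {G Y : Type*} [Group G] [Group Y] {f : G →* Y} (hf : Function.Injective f)
    {F : Type*} [Field F] {xp xm : F → G} (h : SL2Par xp xm) :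
    SL2Par (fun t => f (xp t)) (fun t => f (xm t)) where
  addp s t := by rw [h.addp, map_mul]
  addm s t := by rw [h.addm, map_mul]
  injp := hf.comp h.injp
  injm := hf.comp h.injm
  conjp t ht s := by
    have := congrArg f (h.conjp t ht s)
    simpa [nn] using this
  conjm t ht s := by
    have := congrArg f (h.conjm t ht s)
    simpa [nn] using this
  norm s hs := h.norm s fun r => by
    obtain ⟨r', hr'⟩ := hs r
    exact ⟨r', hf (by simpa using hr')⟩

/-- The homomorphism `A_{c,d} → ΓL₁(F)` of a field node. -/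
theorem hom_of_node [Finite W] (H : Sys Δ A σ U) {F : Type*} [Field F] [Finite F] {i : I}
    {xp xm : F → ↥(Gg cs U)} (hr : NodeRange U i xp xm) (par : SL2Par xp xm) :
    ∃ f : ↥(Tor cs A σ) →* GL1 F, ∀ h : ↥(Tor cs A σ), f h = 1 →
      ∀ u ∈ U (rt cs 1 i), (h : A) * u = u * h :=
  exists_hom_solvable H (sl2_map (f := (Gg cs U).subtype) (Subgroup.subtype_injective _) par) hr.1 hr.2

/-- An element of order `p` acting by a scalar on a node centralises the root group. -/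
theorem comm_of_scal {F : Type*} [Field F] {p : ℕ} [Fact p.Prime] [CharP F p] {i : I}
    {xp xm : F → ↥(Gg cs U)} (hr : NodeRange U i xp xm) (hinj : Function.Injective xp)
    {h : ↥(Gg cs U)} (hs : Scal xp h) (hp : h ^ p = 1) :
    ∀ u ∈ U (rt cs 1 i), (h : A) * u = u * h := by
  intro u hu
  obtain ⟨t, rfl⟩ := hr.exists_eq hu
  have h1 := Scal.eq_of_pow hinj hs hp t
  have h2 : h * xp t = xp t * h := by
    rw [mul_inv_eq_iff_eq_mul] at h1
    exact h1
  exact congrArg (Subgroup.subtype _) h2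

end Cfsg.Agent.TitsThree.EndRange
end

-- part: TitsThree/GCNOfSys
section
/-!
# The G side of type `C_n` from the Moufang property (S1143, G6)

`Out Δ σ D`: the group `G' = Gg cs (UU Δ σ)` of a building of type `C_{k+2}` has the record `GCN` over `D`, with base
chamber `σ 1`, and the root elements exhaust the root groups.
`out_of_bond`: this holds as soon as the root groups of the double bond carry a package `Bond D`.
`Std Q`: `Q` holds for one of the standard data over a finite field.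
-/

set_option autoImplicit false

namespace Cfsg.Agent.TitsThree.GCNOfSys

open Cfsg.Agent.Tits.Core Cfsg.Agent.Tits.Core.Bldg Cfsg.Agent.AGraded Cfsg.Agent.TitsThree.B2Pkg
  Cfsg.Agent.TitsThree.Pack Cfsg.Agent.TitsThree.Tree Cfsg.Agent.TitsThree.Hua
  Cfsg.Agent.TitsThree.GSideCN Cfsg.Agent.TitsThree.GSideMou Cfsg.Agent.TitsThree.StdData
open Cfsg.Agent.Tits.MouOut Cfsg.Agent.Tits.RGOut Cfsg.Agent.TitsThree.EndRange
open Cfsg.Agent.Tits.MouDefs (rt Aut Chart)
open Cfsg.Agent.Tits.RootComb (Diag)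
open Cfsg.Agent.Tits.MouAll (Lab234)

section General

variable {I : Type*} {M : CoxeterMatrix I} {W : Type*} [Group W] {cs : CoxeterSystem M W}
  {C : Type*} {Δ : Bldg cs C} {σ : W → C}

/-- The root groups of a node act on the panel of the base chamber. -/
theorem panAct (H : Sys Δ (Aut Δ) σ (UU Δ σ)) (i : I) :
    PanAct Δ (σ 1) i (σ (cs.simple i)) (RX Δ σ (rt cs 1 i) : Set ↥(Gg cs (UU Δ σ)))
      (RX Δ σ (rt cs (cs.simple i) i)) := by
  have key := H.nodeAct (i := i)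
    (X := ↥(RX Δ σ (rt cs 1 i)) × ↥(RX Δ σ (rt cs (cs.simple i) i)))
    (xp := fun t => t.1.1) (xm := fun t => t.2.1) (fun t => t.1.2)
    (fun g hg => ⟨(⟨⟨g, H.rt_le _ _ hg⟩, hg⟩, 1), rfl⟩) (fun t => t.2.2)
    (fun g hg => ⟨(1, ⟨⟨g, H.rt_le _ _ hg⟩, hg⟩), rfl⟩)
  refine ⟨key.mem, key.ne, fun g hg => key.fix (⟨g, hg⟩, 1), fun g hg => key.fix' (1, ⟨g, hg⟩),
    fun y hy hne => ?_, fun y hy hne => ?_⟩
  · obtain ⟨t, ht⟩ := key.trans y hy hne
    exact ⟨t.1.1, t.1.2, ht⟩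
  · obtain ⟨t, ht⟩ := key.trans' y hy hne
    exact ⟨t.2.1, t.2.2, ht⟩

theorem gen (H : Sys Δ (Aut Δ) σ (UU Δ σ)) :
    Subgroup.closure (⋃ i, ((RX Δ σ (rt cs 1 i) : Set ↥(Gg cs (UU Δ σ))) ∪
      RX Δ σ (rt cs (cs.simple i) i))) = ⊤ := by
  apply H.closure_eq_top
  · intro i g hg
    exact ⟨⟨g, H.rt_le _ _ hg⟩, Set.mem_iUnion.2 ⟨i, Or.inl hg⟩, rfl⟩
  · intro i g hg
    exact ⟨⟨g, H.rt_le _ _ hg⟩, Set.mem_iUnion.2 ⟨i, Or.inr hg⟩, rfl⟩

theorem nodeRange (H : Sys Δ (Aut Δ) σ (UU Δ σ)) {i : I} {X : Type*} {xp xm : X → ↥(Gg cs (UU Δ σ))}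
    (hp : Set.range xp = RX Δ σ (rt cs 1 i)) (hm : Set.range xm = RX Δ σ (rt cs (cs.simple i) i)) :
    NodeRange (UU Δ σ) i xp xm := by
  have key : ∀ (w : W) {x : X → ↥(Gg cs (UU Δ σ))}, Set.range x = RX Δ σ (rt cs w i) →
      Set.range (fun t => (x t : Aut Δ)) = UU Δ σ (rt cs w i) := by
    intro w x hx
    ext g
    constructor
    · rintro ⟨t, rfl⟩
      have : x t ∈ (RX Δ σ (rt cs w i) : Set ↥(Gg cs (UU Δ σ))) := hx ▸ ⟨t, rfl⟩
      exact this
    · intro hg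
      have : (⟨g, H.rt_le w i hg⟩ : ↥(Gg cs (UU Δ σ))) ∈
          (RX Δ σ (rt cs w i) : Set ↥(Gg cs (UU Δ σ))) := hg
      rw [← hx] at this
      obtain ⟨t, ht⟩ := this
      exact ⟨t, congrArg Subtype.val ht⟩
  exact ⟨key 1 hp, key _ hm⟩

/-- `z₂` is injective if `x` is. -/
theorem z₂_injective {F : Type*} [Field F] {V : Type*} [AddCommGroup V] [Module F V] {D : PQDatum F V}
    {Y : Type*} [Group Y] {m : B2Maps D Y} (h : B2Rel m) (hx : Function.Injective m.x) :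
    Function.Injective m.z₂ := by
  have hσ : ∀ x : F, D.σ x = 0 → x = 0 := fun x hx => by
    have := congrArg D.σ.symm hx
    simpa using this
  have key : ∀ p, m.z₂ p = 1 → p = 1 := by
    intro p hp
    by_contra hne
    have hc : p.c ≠ 0 := fun h0 => hne (PQDatum.T.c_eq_zero_iff.1 h0)
    have h1 : ∀ a, m.z₁ (D.sc a p) * m.y (-(D.ε * a * D.σ p.c)) = 1 := fun a => by
      rw [← h.x_z₂ a p, hp, commutatorElement_one_right]
    have h2 : m.z₁ p = 1 := by
      rw [← h.nI_z₂ p, hp, mul_one, mul_inv_cancel]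
    have h3 : D.sc 1 p = p := by
      ext
      · simp
      · simp
    have h4 := h1 1
    rw [h3, h2, one_mul] at h4
    have h5 := h.nII_y p hc (-(D.ε * 1 * D.σ p.c))
    rw [h4, mul_one, mul_inv_cancel] at h5
    have h6 : m.x 0 = 1 := by
      have := h.x_add 0 0
      rwa [add_zero, left_eq_mul] at this
    have h7 := hx (h6.trans h5)
    have h8 : D.ε * D.σ p.c ≠ 0 := mul_ne_zero D.ε_ne fun h0 => hc (hσ _ h0)
    have h9 : p.c⁻¹ * -(D.ε * 1 * D.σ p.c) ≠ 0 := by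
      rw [mul_one]
      exact mul_ne_zero (inv_ne_zero hc) (neg_ne_zero.2 h8)
    exact h9 h7.symm
  intro p q hpq
  have h1 : m.z₂ (p * q⁻¹) = 1 := by
    have h2 := h.z₂_mul q q⁻¹
    have h3 : m.z₂ 1 = 1 := by
      have := h.z₂_mul 1 1
      rwa [mul_one, left_eq_mul] at this
    rw [mul_inv_cancel, h3, ← hpq] at h2
    rw [h.z₂_mul, ← h2]
  exact mul_inv_eq_one.1 (key _ h1)

end General

section TypeC

variable {k : ℕ} {M : CoxeterMatrix (Fin (k + 2))} {W : Type*} [Group W] {cs : CoxeterSystem M W}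
  {C : Type*}

/-- The output of the G side for the datum `D`. -/
def Out {F : Type*} [Field F] {V : Type*} [AddCommGroup V] [Module F V] (Δ : Bldg cs C) (σ : W → C)
    (D : PQDatum F V) : Prop :=
  ∃ P : GCN Δ ↥(Gg cs (UU Δ σ)) D (n := k + 1), P.c = σ 1 ∧ (∀ i, P.ci i = σ (cs.simple i)) ∧
    (∀ i : Fin (k + 1), NodeRange (UU Δ σ) i.castSucc (P.xp i) (P.xm i)) ∧
    NodeRange (UU Δ σ) (Fin.last (k + 1)) P.b2.z₂ P.b2.z₂' ∧
    (∀ i, SL2Par (P.xp i) (P.xm i)) ∧ Function.Injective P.b2.z₂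

/-- `Q` holds for one of the standard data over a finite field. -/
def Std (Q : ∀ (F : Type) [Field F] (V : Type) [AddCommGroup V] [Module F V], PQDatum F V → Prop) :
    Prop :=
  ∃ (F : Type) (_ : Field F) (_ : Finite F),
    Q F Unit (stdSp F) ∨ ((2 : F) ≠ 0 ∧ Q F F (stdO1 F)) ∨ (∃ a b hab, Q F (F × F) (stdO2 F a b hab)) ∨
      (∃ (τ : F ≃+* F) (hτ : ∀ x, τ (τ x) = x), (∃ x, τ x ≠ x) ∧ Q F Unit (stdU0 F τ hτ)) ∨
      (∃ (τ : F ≃+* F) (hτ : ∀ x, τ (τ x) = x), (∃ x, τ x ≠ x) ∧ Q F F (stdU1 F τ hτ))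

theorem Std.imp {Q Q' : ∀ (F : Type) [Field F] (V : Type) [AddCommGroup V] [Module F V], PQDatum F V → Prop}
    (h : Std Q) (hQ : ∀ (F : Type) [Field F] (V : Type) [AddCommGroup V] [Module F V] (D : PQDatum F V),
      Q F V D → Q' F V D) : Std Q' := by
  obtain ⟨F, i1, i2, h | ⟨h2, h⟩ | ⟨a, b, hab, h⟩ | ⟨τ, hτ, hx, h⟩ | ⟨τ, hτ, hx, h⟩⟩ := h
  · exact ⟨F, i1, i2, Or.inl (hQ _ _ _ h)⟩
  · exact ⟨F, i1, i2, Or.inr (Or.inl ⟨h2, hQ _ _ _ h⟩)⟩
  · exact ⟨F, i1, i2, Or.inr (Or.inr (Or.inl ⟨a, b, hab, hQ _ _ _ h⟩))⟩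
  · exact ⟨F, i1, i2, Or.inr (Or.inr (Or.inr (Or.inl ⟨τ, hτ, hx, hQ _ _ _ h⟩)))⟩
  · exact ⟨F, i1, i2, Or.inr (Or.inr (Or.inr (Or.inr ⟨τ, hτ, hx, hQ _ _ _ h⟩)))⟩

variable [Finite W] [Finite C] {Δ : Bldg cs C} {σ : W → C}

/-- The record `GCN` from the package of the double bond. -/
theorem out_of_bond {F : Type*} [Field F] {V : Type*} [AddCommGroup V] [Module F V] {D : PQDatum F V}
    (hM : Lab234 M) (hD : Diag M) (hth : Δ.Thick) (hσ : Chart Δ σ)
    (h3 : ∀ i j : Fin (k + 1), i.1 + 1 = j.1 → M i.castSucc j.castSucc = 3)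
    (h2 : ∀ i j : Fin (k + 2), i.1 + 1 < j.1 → M i j = 2)
    (hB : Bond D (RX Δ σ (rt cs 1 (Fin.last k).castSucc) : Set ↥(Gg cs (UU Δ σ)))
      (RX Δ σ (rt cs (cs.simple (Fin.last k).castSucc) (Fin.last k).castSucc))
      (RX Δ σ (rt cs 1 (Fin.last (k + 1))))
      (RX Δ σ (rt cs (cs.simple (Fin.last (k + 1))) (Fin.last (k + 1)))) {g | g • σ 1 = σ 1}) :
    Out Δ σ D := by
  have H := Cfsg.Agent.Tits.MouAll.sys hM hD hth hσ
  obtain ⟨m, hm, hpar, rx, rx', rz, rz', hy⟩ := hB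
  obtain ⟨xp, xm, h1, h2', h3', h4, h5, h6⟩ := glueTree' (pathRooted k)
    (fun i => (RX Δ σ (rt cs 1 i.castSucc) : Set ↥(Gg cs (UU Δ σ))))
    (fun i => (RX Δ σ (rt cs (cs.simple i.castSucc) i.castSucc) : Set ↥(Gg cs (UU Δ σ))))
    (fun i j hij => edgeA2 hM hD hth hσ (h3 i j hij)) hpar rx rx'
  have hcomm : ∀ i j : Fin (k + 2), i.1 + 1 < j.1 →
      ∀ g ∈ (RX Δ σ (rt cs 1 i) : Set ↥(Gg cs (UU Δ σ))) ∪ RX Δ σ (rt cs (cs.simple i) i),
      ∀ g' ∈ (RX Δ σ (rt cs 1 j) : Set ↥(Gg cs (UU Δ σ))) ∪ RX Δ σ (rt cs (cs.simple j) j),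
      Commute g g' := by
    intro i j hij g hg g' hg'
    rcases hg with hg | hg <;> rcases hg' with hg' | hg'
    · exact comm_two hM hD hth hσ (h2 i j hij) (Or.inl rfl) (Or.inl rfl) hg hg'
    · exact comm_two hM hD hth hσ (h2 i j hij) (Or.inl rfl) (Or.inr rfl) hg hg'
    · exact comm_two hM hD hth hσ (h2 i j hij) (Or.inr rfl) (Or.inl rfl) hg hg'
    · exact comm_two hM hD hth hσ (h2 i j hij) (Or.inr rfl) (Or.inr rfl) hg hg'
  have ep : ∀ i t, xp i t ∈ (RX Δ σ (rt cs 1 i.castSucc) : Set ↥(Gg cs (UU Δ σ))) := fun i t =>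
    h4 i ▸ ⟨t, rfl⟩
  have em : ∀ i t, xm i t ∈ (RX Δ σ (rt cs (cs.simple i.castSucc) i.castSucc) :
      Set ↥(Gg cs (UU Δ σ))) := fun i t => h5 i ▸ ⟨t, rfl⟩
  have ez : ∀ t, m.z₂ t ∈ (RX Δ σ (rt cs 1 (Fin.last (k + 1))) : Set ↥(Gg cs (UU Δ σ))) := fun t =>
    rz ▸ ⟨t, rfl⟩
  have ez' : ∀ t, m.z₂' t ∈ (RX Δ σ (rt cs (cs.simple (Fin.last (k + 1))) (Fin.last (k + 1))) :
      Set ↥(Gg cs (UU Δ σ))) := fun t => rz' ▸ ⟨t, rfl⟩
  refine ⟨{ xp := xp, xm := xm, b2 := m, rel := hm, st3 := ?_, comm := ?_, commT := ?_,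
            last := ?_, c := σ 1, ci := fun i => σ (cs.simple i), act := ?_, actT := ?_,
            y_fix := hy, gen := ?_ }, rfl, fun i => rfl, ?_, ?_, h3', ?_⟩
  · intro i j hij
    obtain ⟨x, hx, -, e1, e2, e3, e4⟩ := h6 i j (Or.inl hij)
    exact ⟨x, hx, e1, e2, e3, e4⟩
  · intro i j hij s t
    have hc := hcomm i.castSucc j.castSucc hij
    exact ⟨hc _ (Or.inl (ep i s)) _ (Or.inl (ep j t)), hc _ (Or.inl (ep i s)) _ (Or.inr (em j t)),
      hc _ (Or.inr (em i s)) _ (Or.inl (ep j t)), hc _ (Or.inr (em i s)) _ (Or.inr (em j t))⟩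
  · intro i hij s t
    have hc := hcomm i.castSucc (Fin.last (k + 1)) (by simpa using hij)
    exact ⟨hc _ (Or.inl (ep i s)) _ (Or.inl (ez t)), hc _ (Or.inl (ep i s)) _ (Or.inr (ez' t)),
      hc _ (Or.inr (em i s)) _ (Or.inl (ez t)), hc _ (Or.inr (em i s)) _ (Or.inr (ez' t))⟩
  · intro i hi
    have : i = Fin.last k := Fin.ext (by rw [Fin.val_last]; omega)
    rw [this, h1, h2']
    exact ⟨rfl, rfl⟩
  · intro i
    exact (panAct H i.castSucc).nodeAct (h4 i) (h5 i)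
  · exact (panAct H (Fin.last (k + 1))).nodeAct rz rz'
  · rw [eq_top_iff, ← gen H, Subgroup.closure_le]
    intro g hg
    obtain ⟨i, hg⟩ := Set.mem_iUnion.1 hg
    apply Subgroup.subset_closure
    induction i using Fin.lastCases with
    | last =>
      right
      rcases hg with hg | hg
      · rw [← rz] at hg
        obtain ⟨p, rfl⟩ := hg
        exact ⟨p, Or.inl rfl⟩
      · rw [← rz'] at hg
        obtain ⟨p, rfl⟩ := hg
        exact ⟨p, Or.inr rfl⟩
    | cast i =>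
      left
      rcases hg with hg | hg
      · rw [← h4 i] at hg
        obtain ⟨t, rfl⟩ := hg
        exact ⟨i, t, Or.inl rfl⟩
      · rw [← h5 i] at hg
        obtain ⟨t, rfl⟩ := hg
        exact ⟨i, t, Or.inr rfl⟩
  · intro i
    exact nodeRange H (h4 i) (h5 i)
  · exact nodeRange H rz rz'
  · exact z₂_injective hm hpar.injp

theorem std_out (hM : Lab234 M) (hD : Diag M) (hth : Δ.Thick) (hσ : Chart Δ σ)
    (h3 : ∀ i j : Fin (k + 1), i.1 + 1 = j.1 → M i.castSucc j.castSucc = 3)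
    (h2 : ∀ i j : Fin (k + 2), i.1 + 1 < j.1 → M i j = 2)
    (hB : Std fun F _ V _ _ D => Bond D
      (RX Δ σ (rt cs 1 (Fin.last k).castSucc) : Set ↥(Gg cs (UU Δ σ)))
      (RX Δ σ (rt cs (cs.simple (Fin.last k).castSucc) (Fin.last k).castSucc))
      (RX Δ σ (rt cs 1 (Fin.last (k + 1))))
      (RX Δ σ (rt cs (cs.simple (Fin.last (k + 1))) (Fin.last (k + 1)))) {g | g • σ 1 = σ 1}) :
    Std fun F _ V _ _ D => Out Δ σ D :=
  hB.imp fun _ _ _ _ _ _ h => out_of_bond hM hD hth hσ h3 h2 h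

end TypeC

end Cfsg.Agent.TitsThree.GCNOfSys
end

-- part: Tits/MouC3
section
/-!
S1143, interface (I3): the root groups of a triple of nodes of type `C₃`, in signed notation.
-/

set_option autoImplicit false
set_option linter.unusedSectionVars false

namespace Cfsg.Agent.Tits.MouC3

open CoxeterSystem Cfsg.Agent.ChevalleyStructure.CoxeterGeom Cfsg.Agent.Tits.Roots
open Cfsg.Agent.Tits.C3Roots Cfsg.Agent.Tits.RGSys
open scoped commutatorElement

variable {I W : Type*} [Fintype I] [DecidableEq I] [Group W] {M : CoxeterMatrix I}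
  {cs : CoxeterSystem M W} {A : I → I → ℤ} {h : IsCartan M A} {Y : Type*} [Group Y]

/-- The signed map given by a frame. -/
def fr (x y z : S) (c : S) : S :=
  if c.1 = 0 then (if c.2 then x else ng x) else if c.1 = 1 then (if c.2 then y else ng y) else
    (if c.2 then z else ng z)

theorem exists_third : ∀ x y : S, ∃ z : S, z.1 ≠ x.1 ∧ z.1 ≠ y.1 := by decide

/-- `w` maps the standard frame to `(x, y, z)`. -/
structure Fr (cs : CoxeterSystem M W) (h : IsCartan M A) (n : Fin 3 → I) (w : W) (x y z : S) : Prop where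
  e0 : rep cs h w (E n 0) = b n x
  e1 : rep cs h w (E n 1) = b n y
  e2 : rep cs h w (E n 2) = b n z

variable {n : Fin 3 → I} (hn : Tri A n)

theorem Fr.act {w : W} {x y z : S} (f : Fr cs h n w x y z) (c : S) :
    rep cs h w (b n c) = b n (fr x y z c) := by
  obtain ⟨k, e⟩ := c
  fin_cases k <;> cases e
  · show rep cs h w (-E n 0) = b n (ng x)
    rw [map_neg, f.e0, b_ng]
  · exact f.e0
  · show rep cs h w (-E n 1) = b n (ng y)
    rw [map_neg, f.e1, b_ng]
  · exact f.e1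
  · show rep cs h w (-E n 2) = b n (ng z)
    rw [map_neg, f.e2, b_ng]
  · exact f.e2

include hn

theorem exists_fr (cs : CoxeterSystem M W) (h : IsCartan M A) {x y z : S} (hxy : x.1 ≠ y.1)
    (hyz : y.1 ≠ z.1) (hxz : x.1 ≠ z.1) : ∃ w, Fr cs h n w x y z := by
  obtain ⟨w, -, h0, h1, h2⟩ := exists_frame (cs := cs) (h := h) hn hxy hyz hxz
  exact ⟨w, h0, h1, h2⟩

omit hn in
theorem neg_b (x : S) : -b n x = b n (ng x) := (b_ng n x).symm

omit hn in
theorem ng_ng (x : S) : ng (ng x) = x := by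
  obtain ⟨a, e⟩ := x
  cases e <;> rfl

omit hn in
theorem ng_fst (x : S) : (ng x).1 = x.1 := rfl

/-! ### The roots -/

section

variable {w : W} {x y z : S} (f : Fr cs h n w x y z)

include f

omit hn in
theorem Fr.s0 : rep cs h w (sr (n 0)) = b n x + b n (ng y) := by
  rw [sr0, map_sub, f.e0, f.e1, sub_eq_add_neg, neg_b]

omit hn in
theorem Fr.s1 : rep cs h w (sr (n 1)) = b n y + b n (ng z) := by
  rw [sr1, map_sub, f.e1, f.e2, sub_eq_add_neg, neg_b]

omit hn in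
theorem Fr.s2 : rep cs h w (sr (n 2)) = b n z := by
  rw [sr2, f.e2]

/-- Compose with a simple reflection. -/
theorem Fr.mul (a : Fin 3) : Fr cs h n (w * cs.simple (n a)) (fr x y z (sg a (0, true)))
    (fr x y z (sg a (1, true))) (fr x y z (sg a (2, true))) := by
  refine ⟨?_, ?_, ?_⟩
  · rw [rep_mul_apply, rep_E hn, f.act]
  · rw [rep_mul_apply, rep_E hn, f.act]
  · rw [rep_mul_apply, rep_E hn, f.act]

theorem Fr.mul0 : Fr cs h n (w * cs.simple (n 0)) y x z := f.mul hn 0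

theorem Fr.mul1 : Fr cs h n (w * cs.simple (n 1)) x z y := f.mul hn 1

theorem Fr.mul2 : Fr cs h n (w * cs.simple (n 2)) x y (ng z) := f.mul hn 2

/-- The action of a conjugate of a simple reflection. -/
theorem Fr.refl (a : Fin 3) (c : S) :
    rep cs h (w * cs.simple (n a) * w⁻¹) (b n (fr x y z c)) = b n (fr x y z (sg a c)) := by
  rw [← f.act, rep_mul_apply, rep_inv_apply, rep_mul_apply, rep_b hn, f.act]

end

theorem isRoot_b (cs : CoxeterSystem M W) (h : IsCartan M A) (x : S) : IsRoot cs h (b n x) := by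
  obtain ⟨y, z, hyz, hzx, hyx⟩ : ∃ y z : S, y.1 ≠ z.1 ∧ z.1 ≠ x.1 ∧ y.1 ≠ x.1 := by
    revert x
    decide
  obtain ⟨w, f⟩ := exists_fr hn cs h hyz hzx hyx
  exact ⟨w, n 2, f.s2.symm⟩

theorem isRoot_bb (cs : CoxeterSystem M W) (h : IsCartan M A) {x y : S} (hxy : x.1 ≠ y.1) :
    IsRoot cs h (b n x + b n y) := by
  obtain ⟨z, hzx, hzy⟩ := exists_third x y
  obtain ⟨w, f⟩ := exists_fr hn cs h (x := x) (y := ng y) (z := z) hxy hzy.symm hzx.symm
  refine ⟨w, n 0, ?_⟩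
  rw [f.s0, ng_ng]

/-! ### The commutator relations -/

variable {X : (I → ℤ) → Subgroup Y} {St : W → Subgroup Y} (hX : RG cs h X St)
  (h01 : M (n 0) (n 1) = 3) (h12 : M (n 1) (n 2) = 4) (h02 : M (n 0) (n 2) = 2)

include hX

theorem xx60 (h01 : M (n 0) (n 1) = 3) {x y z : S} (hxy : x.1 ≠ y.1) (hyz : y.1 ≠ z.1)
    (hxz : x.1 ≠ z.1) {a c : Y} (ha : a ∈ X (b n x + b n y)) (hc : c ∈ X (b n x + b n z)) :
    a * c = c * a := by
  obtain ⟨w, f⟩ := exists_fr hn cs h (x := x) (y := ng y) (z := ng z) hxy hyz hxz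
  refine adj12 hX h01 w ?_ ?_
  · rw [f.s0, ng_ng]; exact ha
  · rw [map_add, f.s0, f.s1, ng_ng, ng_ng, add_assoc, ← add_assoc (b n y), b_ng, add_neg_cancel,
      zero_add]
    exact hc

theorem xx120 (h01 : M (n 0) (n 1) = 3) {x y z : S} (hxy : x.1 ≠ y.1) (hyz : y.1 ≠ z.1)
    (hxz : x.1 ≠ z.1) {a c : Y} (ha : a ∈ X (b n x + b n y)) (hc : c ∈ X (b n (ng y) + b n z)) :
    ⁅a, c⁆ ∈ X (b n x + b n z) := by
  obtain ⟨w, f⟩ := exists_fr hn cs h (x := x) (y := ng y) (z := ng z) hxy hyz hxz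
  have := two13 hX h01 w (a := a) (b := c) (by rw [f.s0, ng_ng]; exact ha)
    (by rw [f.s1, ng_ng]; exact hc)
  rwa [map_add, f.s0, f.s1, ng_ng, ng_ng, add_assoc, ← add_assoc (b n y), b_ng, add_neg_cancel,
      zero_add] at this

theorem xx90 (h12 : M (n 1) (n 2) = 4) {x y : S} (hxy : x.1 ≠ y.1) {a c : Y}
    (ha : a ∈ X (b n x + b n y)) (hc : c ∈ X (b n x + b n (ng y))) : ⁅a, c⁆ ∈ X (b n x) := by
  obtain ⟨z, hzx, hzy⟩ := exists_third x y
  obtain ⟨w, f⟩ := exists_fr hn cs h (x := z) (y := x) (z := ng y) hzx hxy hzy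
  have f1 := f.mul1 hn
  have f2 := f1.mul2 hn
  have := hX.two w (n 1) (n 2) (Or.inr h12) a (by rw [f.s1, ng_ng]; exact ha) c
    (by rw [f2.s1, ng_ng, add_comm]; exact hc)
  rwa [f1.s2] at this

theorem zx45 (h12 : M (n 1) (n 2) = 4) {x y : S} (hxy : x.1 ≠ y.1) {a c : Y}
    (ha : a ∈ X (b n x)) (hc : c ∈ X (b n x + b n y)) : a * c = c * a := by
  obtain ⟨z, hzx, hzy⟩ := exists_third x y
  obtain ⟨w, f⟩ := exists_fr hn cs h (x := z) (y := y) (z := x) hzy hxy.symm hzx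
  have hne : n 2 ≠ n 1 := by
    intro e
    rw [e, M.diagonal] at h12
    omega
  refine hX.adj w (n 2) (n 1) hne a (by rw [f.s2]; exact ha) c ?_
  rw [(f.mul2 hn).s1, ng_ng, add_comm]
  exact hc

theorem zx90 (h02 : M (n 0) (n 2) = 2) {x y z : S} (hxy : x.1 ≠ y.1) (hyz : y.1 ≠ z.1)
    (hxz : x.1 ≠ z.1) {a c : Y} (ha : a ∈ X (b n x)) (hc : c ∈ X (b n y + b n z)) :
    a * c = c * a := by
  obtain ⟨w, f⟩ := exists_fr hn cs h (x := y) (y := ng z) (z := x) hyz hxz.symm hxy.symm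
  have hne : n 2 ≠ n 0 := by
    intro e
    rw [e, M.diagonal] at h02
    omega
  refine hX.adj w (n 2) (n 0) hne a (by rw [f.s2]; exact ha) c ?_
  rw [(f.mul2 hn).s0, ng_ng]
  exact hc

theorem zx135 (h12 : M (n 1) (n 2) = 4) {x y : S} (hxy : x.1 ≠ y.1) {a c : Y}
    (ha : a ∈ X (b n x + b n (ng y))) (hc : c ∈ X (b n y)) :
    ∃ p ∈ X (b n x), ∃ q ∈ X (b n x + b n y), ⁅a, c⁆ = p * q := by
  obtain ⟨z, hzx, hzy⟩ := exists_third x y
  obtain ⟨w, f⟩ := exists_fr hn cs h (x := z) (y := x) (z := y) hzx hxy hzy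
  have f1 := f.mul1 hn
  have f2 := f1.mul2 hn
  have f3 := f2.mul1 hn
  obtain ⟨p, hp, q, hq, e⟩ := hX.three w (n 1) (n 2) h12 a (by rw [f.s1]; exact ha) c
    (by rw [f3.s2]; exact hc)
  rw [f1.s2] at hp
  rw [f2.s1, ng_ng, add_comm] at hq
  exact ⟨p, hp, q, hq, e⟩

theorem zz (h12 : M (n 1) (n 2) = 4) {x y : S} (hxy : x.1 ≠ y.1) {a c : Y}
    (ha : a ∈ X (b n x)) (hc : c ∈ X (b n y)) : ⁅a, c⁆ ∈ X (b n x + b n y) := by
  obtain ⟨z, hzx, hzy⟩ := exists_third x y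
  obtain ⟨w, f⟩ := exists_fr hn cs h (x := z) (y := y) (z := x) hzy hxy.symm hzx
  have f2 := f.mul2 hn
  have f1 := f2.mul1 hn
  have h21 : M (n 2) (n 1) = 4 := by rw [M.symmetric]; exact h12
  have := hX.two w (n 2) (n 1) (Or.inr h21) a (by rw [f.s2]; exact ha) c (by rw [f1.s2]; exact hc)
  rwa [f2.s1, ng_ng, add_comm] at this

/-! ### Unique factorisation -/

omit hX hn

theorem nonneg_E (n : Fin 3 → I) (a : Fin 3) : 0 ≤ E n a := by
  have h0 := sr_nonneg (n 0)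
  have h1 := sr_nonneg (n 1)
  have h2 := sr_nonneg (n 2)
  fin_cases a
  · exact add_nonneg (add_nonneg h0 h1) h2
  · exact add_nonneg h1 h2
  · exact h2

theorem nonneg_bb (n : Fin 3 → I) {c d : S} (hcd : c.1 < d.1) (hc : c.2 = true) :
    0 ≤ b n c + b n d := by
  obtain ⟨a, s⟩ := c
  obtain ⟨a', s'⟩ := d
  have hs : s = true := hc
  subst hs
  have h0 := sr_nonneg (n 0)
  have h1 := sr_nonneg (n 1)
  have e1 : b n (a, true) = E n a := rfl
  rw [e1]
  cases s'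
  · have e2 : b n (a', false) = -E n a' := rfl
    rw [e2, ← sub_eq_add_neg, sub_nonneg]
    have h01 : E n 1 ≤ E n 0 := by rw [← sub_nonneg, ← sr0]; exact h0
    have h12 : E n 2 ≤ E n 1 := by rw [← sub_nonneg, ← sr1]; exact h1
    fin_cases a <;> fin_cases a'
    · exact absurd hcd (by decide)
    · exact h01
    · exact h12.trans h01
    · exact absurd hcd (by decide)
    · exact absurd hcd (by decide)
    · exact h12
    · exact absurd hcd (by decide)
    · exact absurd hcd (by decide)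
    · exact absurd hcd (by decide)
  · have e2 : b n (a', true) = E n a' := rfl
    rw [e2]
    exact add_nonneg (nonneg_E n a) (nonneg_E n a')

theorem Fr.inv {w : W} {x y z : S} (f : Fr cs h n w x y z) (c : S) :
    rep cs h w⁻¹ (b n (fr x y z c)) = b n c := by
  rw [← f.act, rep_inv_apply]

theorem Fr.nn {w : W} {x y z : S} (f : Fr cs h n w x y z) {c d : S} (hcd : c.1 < d.1)
    (hc : c.2 = true) : 0 ≤ rep cs h w⁻¹ (b n (fr x y z c) + b n (fr x y z d)) := by
  rw [map_add, f.inv, f.inv]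
  exact nonneg_bb n hcd hc

theorem Fr.n1 {w : W} {x y z : S} (f : Fr cs h n w x y z) (a : Fin 3) :
    0 ≤ rep cs h w⁻¹ (b n (fr x y z (a, true))) := by
  rw [f.inv]
  exact nonneg_E n a

include hX

theorem sep' {v : W} {x : I → ℤ} (hx : IsRoot cs h x) (h0 : 0 ≤ rep cs h v⁻¹ (-x)) {a : Y}
    (ha : a ∈ X x) (hg : a ∈ St v) : a = 1 := by
  refine hX.sep v x hx ?_ a ha hg
  rw [(hx.act v⁻¹).not_nonneg_iff_neg, ← map_neg]
  exact h0

include hn

theorem u2 {x y : S} (hxy : x.1 ≠ y.1) {a c d : Y} (ha : a ∈ X (b n x))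
    (hc : c ∈ X (b n x + b n y)) (hd : d ∈ X (b n x + b n (ng y))) (he : a * c * d = 1) :
    a = 1 ∧ c = 1 ∧ d = 1 := by
  obtain ⟨z, hzx, hzy⟩ := exists_third x y
  have hd1 : d = 1 := by
    obtain ⟨w, f⟩ := exists_fr hn cs h (x := y) (y := x) (z := z) hxy.symm hzx.symm hzy.symm
    have h1 : a ∈ St w := hX.le_St w _ (isRoot_b hn cs h x) (f.n1 1) ha
    have h2 : c ∈ St w := hX.le_St w _ (isRoot_bb hn cs h hxy) (by
      rw [add_comm]; exact f.nn (c := (0, true)) (d := (1, true)) (by decide) rfl) hc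
    refine sep' hX (isRoot_bb hn cs h (x := x) (y := ng y) hxy) (v := w) ?_ hd ?_
    · rw [neg_add, neg_b, neg_b, ng_ng, add_comm]
      exact f.nn (c := (0, true)) (d := (1, false)) (by decide) rfl
    · rw [mul_eq_one_iff_inv_eq.1 he |>.symm]
      exact inv_mem (mul_mem h1 h2)
  subst hd1
  rw [mul_one] at he
  have hc1 : c = 1 := by
    obtain ⟨w, f⟩ := exists_fr hn cs h (x := ng y) (y := x) (z := z) hxy.symm hzx.symm hzy.symm
    have h1 : a ∈ St w := hX.le_St w _ (isRoot_b hn cs h x) (f.n1 1) ha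
    refine sep' hX (isRoot_bb hn cs h hxy) (v := w) ?_ hc ?_
    · rw [neg_add, neg_b, neg_b, add_comm]
      exact f.nn (c := (0, true)) (d := (1, false)) (by decide) rfl
    · rw [mul_eq_one_iff_inv_eq.1 he |>.symm]
      exact inv_mem h1
  subst hc1
  rw [mul_one] at he
  exact ⟨he, rfl, rfl⟩

theorem u3 {x y z : S} (hxy : x.1 ≠ y.1) (hyz : y.1 ≠ z.1) (hxz : x.1 ≠ z.1) {a1 a2 a3 a4 a5 a6 : Y}
    (h1 : a1 ∈ X (b n x)) (h2 : a2 ∈ X (b n y)) (h3 : a3 ∈ X (b n z))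
    (h4 : a4 ∈ X (b n x + b n y)) (h5 : a5 ∈ X (b n x + b n z)) (h6 : a6 ∈ X (b n y + b n z))
    (he : a1 * a2 * a3 * a4 * a5 * a6 = 1) :
    a1 = 1 ∧ a2 = 1 ∧ a3 = 1 ∧ a4 = 1 ∧ a5 = 1 ∧ a6 = 1 := by
  have rx := isRoot_b hn cs h x
  have ry := isRoot_b hn cs h y
  have rz := isRoot_b hn cs h z
  have rxy := isRoot_bb hn cs h hxy
  have rxz := isRoot_bb hn cs h hxz
  have ryz := isRoot_bb hn cs h hyz
  have e1 : a1 = 1 := by
    obtain ⟨w, f⟩ := exists_fr hn cs h (x := z) (y := y) (z := ng x) hyz.symm hxy.symm hxz.symm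
    have g2 : a2 ∈ St w := hX.le_St w _ ry (f.n1 1) h2
    have g3 : a3 ∈ St w := hX.le_St w _ rz (f.n1 0) h3
    have g4 : a4 ∈ St w := hX.le_St w _ rxy (by
      have := f.nn (c := (1, true)) (d := (2, false)) (by decide) rfl
      rw [add_comm]
      simpa [fr, ng_ng] using this) h4
    have g5 : a5 ∈ St w := hX.le_St w _ rxz (by
      have := f.nn (c := (0, true)) (d := (2, false)) (by decide) rfl
      rw [add_comm]
      simpa [fr, ng_ng] using this) h5
    have g6 : a6 ∈ St w := hX.le_St w _ ryz (by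
      have := f.nn (c := (0, true)) (d := (1, true)) (by decide) rfl
      rw [add_comm]
      simpa [fr, ng_ng] using this) h6
    refine sep' hX rx (v := w) ?_ h1 ?_
    · rw [neg_b]; exact f.n1 2
    · have : a1 = (a2 * a3 * a4 * a5 * a6)⁻¹ := by
        rw [eq_inv_iff_mul_eq_one, ← he]
        group
      rw [this]
      exact inv_mem (mul_mem (mul_mem (mul_mem (mul_mem g2 g3) g4) g5) g6)
  subst e1
  rw [one_mul] at he
  have e2 : a2 = 1 := by
    obtain ⟨w, f⟩ := exists_fr hn cs h (x := z) (y := x) (z := ng y) hxz.symm hxy hyz.symm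
    have g3 : a3 ∈ St w := hX.le_St w _ rz (f.n1 0) h3
    have g4 : a4 ∈ St w := hX.le_St w _ rxy (by
      have := f.nn (c := (1, true)) (d := (2, false)) (by decide) rfl
      simpa [fr, ng_ng] using this) h4
    have g5 : a5 ∈ St w := hX.le_St w _ rxz (by
      have := f.nn (c := (0, true)) (d := (1, true)) (by decide) rfl
      rw [add_comm]
      simpa [fr, ng_ng] using this) h5
    have g6 : a6 ∈ St w := hX.le_St w _ ryz (by
      have := f.nn (c := (0, true)) (d := (2, false)) (by decide) rfl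
      rw [add_comm]
      simpa [fr, ng_ng] using this) h6
    refine sep' hX ry (v := w) ?_ h2 ?_
    · rw [neg_b]; exact f.n1 2
    · have : a2 = (a3 * a4 * a5 * a6)⁻¹ := by
        rw [eq_inv_iff_mul_eq_one, ← he]
        group
      rw [this]
      exact inv_mem (mul_mem (mul_mem (mul_mem g3 g4) g5) g6)
  subst e2
  rw [one_mul] at he
  have e3 : a3 = 1 := by
    obtain ⟨w, f⟩ := exists_fr hn cs h (x := x) (y := y) (z := ng z) hxy hyz hxz
    have g4 : a4 ∈ St w := hX.le_St w _ rxy (by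
      have := f.nn (c := (0, true)) (d := (1, true)) (by decide) rfl
      simpa [fr, ng_ng] using this) h4
    have g5 : a5 ∈ St w := hX.le_St w _ rxz (by
      have := f.nn (c := (0, true)) (d := (2, false)) (by decide) rfl
      simpa [fr, ng_ng] using this) h5
    have g6 : a6 ∈ St w := hX.le_St w _ ryz (by
      have := f.nn (c := (1, true)) (d := (2, false)) (by decide) rfl
      simpa [fr, ng_ng] using this) h6
    refine sep' hX rz (v := w) ?_ h3 ?_
    · rw [neg_b]; exact f.n1 2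
    · have : a3 = (a4 * a5 * a6)⁻¹ := by
        rw [eq_inv_iff_mul_eq_one, ← he]
        group
      rw [this]
      exact inv_mem (mul_mem (mul_mem g4 g5) g6)
  subst e3
  rw [one_mul] at he
  have e4 : a4 = 1 := by
    obtain ⟨w, f⟩ := exists_fr hn cs h (x := z) (y := ng x) (z := ng y) hxz.symm hxy hyz.symm
    have g5 : a5 ∈ St w := hX.le_St w _ rxz (by
      have := f.nn (c := (0, true)) (d := (1, false)) (by decide) rfl
      rw [add_comm]
      simpa [fr, ng_ng] using this) h5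
    have g6 : a6 ∈ St w := hX.le_St w _ ryz (by
      have := f.nn (c := (0, true)) (d := (2, false)) (by decide) rfl
      rw [add_comm]
      simpa [fr, ng_ng] using this) h6
    refine sep' hX rxy (v := w) ?_ h4 ?_
    · rw [neg_add, neg_b, neg_b]
      exact f.nn (c := (1, true)) (d := (2, true)) (by decide) rfl
    · have : a4 = (a5 * a6)⁻¹ := by
        rw [eq_inv_iff_mul_eq_one, ← he]
        group
      rw [this]
      exact inv_mem (mul_mem g5 g6)
  subst e4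
  rw [one_mul] at he
  have e5 : a5 = 1 := by
    obtain ⟨w, f⟩ := exists_fr hn cs h (x := y) (y := ng x) (z := ng z) hxy.symm hxz hyz
    have g6 : a6 ∈ St w := hX.le_St w _ ryz (by
      have := f.nn (c := (0, true)) (d := (2, false)) (by decide) rfl
      simpa [fr, ng_ng] using this) h6
    refine sep' hX rxz (v := w) ?_ h5 ?_
    · rw [neg_add, neg_b, neg_b]
      exact f.nn (c := (1, true)) (d := (2, true)) (by decide) rfl
    · have : a5 = a6⁻¹ := by
        rw [eq_inv_iff_mul_eq_one, ← he]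
      rw [this]
      exact inv_mem g6
  subst e5
  rw [one_mul] at he
  exact ⟨rfl, rfl, rfl, rfl, rfl, he⟩

/-! ### `μ`-elements -/

theorem nZ (x : S) {u : Y} (hu : u ∈ X (b n x)) (hu1 : u ≠ 1) :
    ∃ v ∈ X (b n (ng x)), ∃ w ∈ X (b n (ng x)),
      (∀ a c : S, a.1 ≠ c.1 → ∀ g, g ∈ X (b n a + b n c) ↔ (v * u * w) * g * (v * u * w)⁻¹ ∈
        X (b n (if a.1 = x.1 then ng a else a) + b n (if c.1 = x.1 then ng c else c))) ∧
      (∀ a : S, ∀ g, g ∈ X (b n a) ↔ (v * u * w) * g * (v * u * w)⁻¹ ∈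
        X (b n (if a.1 = x.1 then ng a else a))) := by
  have key : ∀ x : S, ∃ y z : S, y.1 ≠ z.1 ∧ z.1 ≠ x.1 ∧ y.1 ≠ x.1 ∧
      ∀ a, ∃ c, fr y z x c = a ∧ fr y z x (sg 2 c) = (if a.1 = x.1 then ng a else a) := by
    decide
  obtain ⟨y, z, hyz, hzx, hyx, hk⟩ := key x
  obtain ⟨w, f⟩ := exists_fr hn cs h hyz hzx hyx
  obtain ⟨v, hv, v', hv', hm⟩ := hX.mu w (n 2) u (by rw [f.s2]; exact hu) hu1
  rw [f.s2, neg_b] at hv hv'
  have hr : ∀ a : S, rep cs h (w * cs.simple (n 2) * w⁻¹) (b n a) =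
      b n (if a.1 = x.1 then ng a else a) := by
    intro a
    obtain ⟨c, rfl, hc⟩ := hk a
    rw [← hc, f.refl hn]
  refine ⟨v, hv, v', hv', fun a c hac g => ?_, fun a g => ?_⟩
  · have := hm _ (isRoot_bb hn cs h hac) g
    rw [map_add, hr, hr] at this
    exact this.symm
  · have := hm _ (isRoot_b hn cs h a) g
    rw [hr] at this
    exact this.symm

/-- The reflection in `b x + b y` on signed indices. -/
def rXY (x y a : S) : S :=
  if a = x then ng y else if a = ng x then y else if a = y then ng x else if a = ng y then x else a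

theorem nX {x y : S} (hxy : x.1 ≠ y.1) {u : Y} (hu : u ∈ X (b n x + b n y)) (hu1 : u ≠ 1) :
    ∃ v ∈ X (b n (ng x) + b n (ng y)), ∃ w ∈ X (b n (ng x) + b n (ng y)),
      (∀ a c : S, a.1 ≠ c.1 → ∀ g, g ∈ X (b n a + b n c) ↔ (v * u * w) * g * (v * u * w)⁻¹ ∈
        X (b n (rXY x y a) + b n (rXY x y c))) ∧
      (∀ a : S, ∀ g, g ∈ X (b n a) ↔ (v * u * w) * g * (v * u * w)⁻¹ ∈ X (b n (rXY x y a))) := by
  have key : ∀ x y : S, x.1 ≠ y.1 → ∃ z : S, z.1 ≠ x.1 ∧ z.1 ≠ y.1 ∧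
      ∀ a, ∃ c, fr x (ng y) z c = a ∧ fr x (ng y) z (sg 0 c) = rXY x y a := by
    decide
  obtain ⟨z, hzx, hzy, hk⟩ := key x y hxy
  obtain ⟨w, f⟩ := exists_fr hn cs h (x := x) (y := ng y) (z := z) hxy hzy.symm hzx.symm
  obtain ⟨v, hv, v', hv', hm⟩ := hX.mu w (n 0) u (by rw [f.s0, ng_ng]; exact hu) hu1
  rw [f.s0, ng_ng, neg_add, neg_b, neg_b] at hv hv'
  have hr : ∀ a : S, rep cs h (w * cs.simple (n 0) * w⁻¹) (b n a) = b n (rXY x y a) := by
    intro a
    obtain ⟨c, rfl, hc⟩ := hk a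
    rw [← hc, f.refl hn]
  refine ⟨v, hv, v', hv', fun a c hac g => ?_, fun a g => ?_⟩
  · have := hm _ (isRoot_bb hn cs h hac) g
    rw [map_add, hr, hr] at this
    exact this.symm
  · have := hm _ (isRoot_b hn cs h a) g
    rw [hr] at this
    exact this.symm

theorem Z_ne (x : S) : X (b n x) ≠ ⊥ := by
  obtain ⟨a, ha, ha1⟩ := hX.ne_bot _ (isRoot_b hn cs h x)
  intro e
  rw [e] at ha
  exact ha1 (Subgroup.mem_bot.1 ha)

end Cfsg.Agent.Tits.MouC3
end

-- part: Tits/RGC3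
section
/-!
S1143, interface (I3): a triple of nodes of type `C₃` in a system of root groups gives helper894's
structure `C3Grp.Grp` (`grp`) together with `C3Grp.Crd` coordinates of the root groups
`X (i,true) (j,false)` over a finite field (`exists_crd`).
-/

set_option autoImplicit false
set_option linter.unusedSectionVars false

namespace Cfsg.Agent.Tits.RGC3

open CoxeterSystem Cfsg.Agent.ChevalleyStructure.CoxeterGeom Cfsg.Agent.Tits.Roots
open Cfsg.Agent.Tits.C3Roots Cfsg.Agent.Tits.RGSys Cfsg.Agent.Tits.MouC3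
open Cfsg.Agent.TitsThree
open scoped commutatorElement

variable {I W : Type*} [Fintype I] [DecidableEq I] [Group W] {M : CoxeterMatrix I}
  {cs : CoxeterSystem M W} {A : I → I → ℤ} {h : IsCartan M A} {Y : Type*} [Group Y]
  {n : Fin 3 → I} (hn : Tri A n) {X : (I → ℤ) → Subgroup Y} {St : W → Subgroup Y}
  (hX : RG cs h X St) (h01 : M (n 0) (n 1) = 3) (h12 : M (n 1) (n 2) = 4) (h02 : M (n 0) (n 2) = 2)

theorem ng_eq (x : S) : ng x = C3Grp.op x := rfl

/-- (I3) -/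
def grp : C3Grp.Grp Y where
  X x y := X (b n x + b n y)
  Z x := X (b n x)
  symm x y := by rw [add_comm]
  xx60 x y z hxy hxz hyz a ha c hc := xx60 hn hX h01 hxy hyz hxz ha hc
  xx120 x y z hxy hxz hyz a ha c hc := xx120 hn hX h01 hxy hyz hxz ha hc
  xx90 x y hxy a ha c hc := xx90 hn hX h12 hxy ha hc
  zx45 x y hxy a ha c hc := zx45 hn hX h12 hxy ha hc
  zx90 x y z hxy hxz hyz a ha c hc := zx90 hn hX h02 hxy hyz hxz ha hc
  zx135 x y hxy a ha c hc := zx135 hn hX h12 hxy ha hc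
  zz x y hxy a ha c hc := zz hn hX h12 hxy ha hc
  u3 x y z hxy hxz hyz a ha c hc d hd e he f hf g hg he1 := u3 hn hX hxy hyz hxz ha hc hd he hf hg he1
  u2 x y hxy a ha c hc d hd he := u2 hn hX hxy ha hc hd he
  nZ x u hu hu1 := by
    obtain ⟨v, hv, w, hw, h1, h2⟩ := nZ hn hX x hu hu1
    exact ⟨v, hv, w, hw, ⟨h1, h2⟩⟩
  nX x y hxy u hu hu1 := by
    obtain ⟨v, hv, w, hw, h1, h2⟩ := nX hn hX hxy hu hu1
    exact ⟨v, hv, w, hw, ⟨h1, h2⟩⟩
  Z_ne x := Z_ne hn hX x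

theorem p_sub (a c : Fin 3) : MouA2.p (n 0) (n 1) a - MouA2.p (n 0) (n 1) c =
    b n (a, true) + b n (c, false) := by
  have e : ∀ a, E n a = MouA2.p (n 0) (n 1) a + sr (n 2) := by
    intro a
    fin_cases a
    · simp [E, MouA2.p]
    · simp [E, MouA2.p]
    · simp [E, MouA2.p]
  have e1 : b n (a, true) = E n a := rfl
  have e2 : b n (c, false) = -E n c := rfl
  rw [e1, e2, e, e]
  abel

/-- Coordinates of the root groups `X (i,true) (j,false)` over a finite field. -/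
theorem exists_crd [Finite Y] : ∃ (F : Type) (_ : Field F) (_ : Fintype F)
    (x : Fin 3 → Fin 3 → F → Y), C3Grp.Crd (grp hn hX h01 h12 h02) x := by
  obtain ⟨F, i1, i2, x, hx, hr⟩ :=
    A2Field.exists_field (MouA2.graded h01 hX) (MouA2.rgd h01 hX)
  have hX3 : ∀ i j : Fin 3, MouA2.X3 X (n 0) (n 1) i j = (grp hn hX h01 h12 h02).X (i, true) (j, false) := by
    intro i j
    change X _ = X _
    rw [p_sub]
  refine ⟨F, i1, i2, x, hx, ?_, ?_, ?_⟩
  · intro i j hij t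
    rw [← hX3]
    exact (hr i j hij).1 t
  · intro i j hij g hg
    rw [← hX3] at hg
    obtain ⟨t, ht, -⟩ := (hr i j hij).2 g hg
    exact ⟨t, ht⟩
  · intro i j hij s t hst
    exact ((hr i j hij).2 _ ((hr i j hij).1 t)).unique hst rfl

/-! ### The simple root groups in signed notation -/

theorem b_sr0 : b n (0, true) + b n (1, false) = sr (n 0) := by
  rw [sr0, sub_eq_add_neg]; rfl

theorem b_sr1 : b n (1, true) + b n (2, false) = sr (n 1) := by
  rw [sr1, sub_eq_add_neg]; rfl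

theorem b_sr2 : b n (2, true) = sr (n 2) := by
  rw [sr2]; rfl

theorem b_nsr0 : b n (1, true) + b n (0, false) = -sr (n 0) := by
  rw [sr0, neg_sub, sub_eq_add_neg]; rfl

theorem b_nsr1 : b n (2, true) + b n (1, false) = -sr (n 1) := by
  rw [sr1, neg_sub, sub_eq_add_neg]; rfl

theorem b_nsr2 : b n (2, false) = -sr (n 2) := by
  rw [sr2]; rfl

theorem grp_X (x y : S) : (grp hn hX h01 h12 h02).X x y = X (b n x + b n y) := rfl

theorem grp_Z (x : S) : (grp hn hX h01 h12 h02).Z x = X (b n x) := rfl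

/-- `X (1,+) (2,+)` is positive. -/
theorem X12_le : (grp hn hX h01 h12 h02).X (1, true) (2, true) ≤ St 1 :=
  hX.le_St 1 _ (isRoot_bb hn cs h (by decide)) (by
    rw [inv_one, map_one, Module.End.one_apply]
    exact nonneg_bb n (c := (1, true)) (d := (2, true)) (by decide) rfl)

end Cfsg.Agent.Tits.RGC3
end

-- part: TitsThree/C3Short
section
/-!
# Short root groups of a group of type `C₃` (S1143)

`L : Long C F` coordinates of the long root groups.  For `u ∈ Z y` we have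
`E x y a * u * (E x y a)⁻¹ = P x y a u * E x (op y) (Q x y a u) * u`.  The functions `P`, `Q` satisfy
`P x z a (P z y b u) = P x y (a b) u`, `Q x y a u = a * Q₁ y u`, `Q₁ z (P z y b u) = g z / g y * b σ b * Q₁ y u`.
-/

set_option autoImplicit false

namespace Cfsg.Agent.TitsThree.C3Short

open scoped commutatorElement
open Cfsg.Agent.AGraded Cfsg.Agent.TitsThree.C3Grp

variable {G : Type*} [Group G] {C : Grp G} {F : Type*} [Field F] (L : Long C F)

/-- the scalars -/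
def g (x : S) : F := gg L.ε x

theorem ε_ne : L.ε ≠ 0 := by
  intro h
  have := L.ε_mul
  rw [h, zero_mul] at this
  exact zero_ne_one this

theorem σε : L.σ L.ε = L.ε⁻¹ := eq_inv_of_mul_eq_one_right L.ε_mul

theorem g_ne (x : S) : g L x ≠ 0 := by
  unfold g gg
  split_ifs
  · exact ε_ne L
  · exact one_ne_zero

theorem σg (x : S) : L.σ (g L x) = L.ε⁻¹ * g L (op x) := by
  obtain ⟨i, b⟩ := x
  have := ε_ne L
  cases b
  · simp [g, ε_ne L]
  · simp [g, σε L]

theorem zero {x y : S} (hxy : x.1 ≠ y.1) : L.E x y 0 = 1 := by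
  have := L.add x y hxy 0 0
  rw [add_zero] at this; simpa using this

theorem neg {x y : S} (hxy : x.1 ≠ y.1) (t : F) : L.E x y (-t) = (L.E x y t)⁻¹ := by
  rw [eq_inv_iff_mul_eq_one, ← L.add x y hxy, neg_add_cancel, zero L hxy]

theorem eq_one_iff {x y : S} (hxy : x.1 ≠ y.1) {t : F} : L.E x y t = 1 ↔ t = 0 := by
  constructor
  · intro h
    apply L.inj x y hxy
    rw [h, zero L hxy]
  · rintro rfl; exact zero L hxy

/-- membership in the group of the other orientation -/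
theorem mem' {x y : S} (hxy : x.1 ≠ y.1) (t : F) : L.E x y t ∈ C.X (op y) x := by
  rw [C.symm]; exact L.mem x y hxy t

theorem memo {x y : S} (hxy : x.1 ≠ y.1) (t : F) : L.E x (op y) t ∈ C.X x y := by
  have := L.mem x (op y) (by simpa using hxy) t
  rwa [op_op] at this

/-! ### conjugation formulas for the long root groups -/

section Long

variable {x y z : S} (hxy : x.1 ≠ y.1) (hxz : x.1 ≠ z.1) (hyz : y.1 ≠ z.1)
include hxy hxz hyz

theorem c_xx (s t : F) : cg (L.E x y s) (L.E x z t) = L.E x z t :=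
  cg_of_comm (C.xx60 x (op y) (op z) (by simpa) (by simpa) (by simpa) _ (L.mem _ _ hxy _) _
    (L.mem _ _ hxz _))

theorem c_yy (s t : F) : cg (L.E x y s) (L.E z y t) = L.E z y t :=
  cg_of_comm (C.xx60 (op y) x z (by simpa using Ne.symm hxy) (by simpa) hxz _ (mem' L hxy _) _
    (mem' L (Ne.symm hyz) _))

theorem c_l (s t : F) : cg (L.E x y s) (L.E y z t) = L.E x z (s * t) * L.E y z t := by
  rw [cg_eq, L.br x y z hxy hxz hyz]

theorem c_r (s t : F) : cg (L.E y z t) (L.E x y s) = L.E x z (-(s * t)) * L.E x y s := by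
  rw [cg_eq, ← commutatorElement_inv, L.br x y z hxy hxz hyz, neg L hxz]

/-- conjugation of `E x (op y)` by `E z y` -/
theorem c_f (b s : F) : cg (L.E z y b) (L.E x (op y) s) =
    L.E x (op z) (g L z * (g L y)⁻¹ * L.σ b * s) * L.E x (op y) s := by
  have h1 := L.swap x (op y) (by simpa using hxy) s
  rw [op_op] at h1
  rw [h1, c_l L (x := z) (y := y) (z := op x) (Ne.symm hyz) (by simpa using Ne.symm hxz)
    (by simpa using Ne.symm hxy)]
  congr 1
  rw [L.swap z (op x) (by simpa using Ne.symm hxz), op_op]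
  congr 1
  change -(g L z * (g L (op x))⁻¹ * L.σ (b * -(g L x * (g L (op y))⁻¹ * L.σ s))) = _
  rw [map_mul, map_neg, map_mul, map_mul, map_inv₀, σg, σg, L.σσ, op_op]
  have h2 := g_ne L (op x)
  have h3 := ε_ne L
  have h4 := g_ne L y
  field_simp

/-- `E y z` fixes `Z x` -/
theorem c_z90 (t : F) {u : G} (hu : u ∈ C.Z x) : cg (L.E y z t) u = u :=
  cg_of_comm (C.zx90 x y (op z) hxy (by simpa) (by simpa) u hu _ (L.mem y z hyz t)).symm

theorem c_z90' (t : F) {u : G} (hu : u ∈ C.Z x) : cg u (L.E y z t) = L.E y z t :=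
  cg_of_comm (C.zx90 x y (op z) hxy (by simpa) (by simpa) u hu _ (L.mem y z hyz t))

end Long

section Two

variable {x y : S} (hxy : x.1 ≠ y.1)
include hxy

/-- `E x y` fixes `Z x` -/
theorem c_z45 (t : F) {u : G} (hu : u ∈ C.Z x) : cg (L.E x y t) u = u :=
  cg_of_comm (C.zx45 x (op y) (by simpa) u hu _ (L.mem x y hxy t)).symm

theorem c_z45' (t : F) {u : G} (hu : u ∈ C.Z x) : cg u (L.E x y t) = L.E x y t :=
  cg_of_comm (C.zx45 x (op y) (by simpa) u hu _ (L.mem x y hxy t))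

/-- `E x (op y)` commutes with `Z y` -/
theorem c_z45o (t : F) {u : G} (hu : u ∈ C.Z y) : cg (L.E x (op y) t) u = u :=
  cg_of_comm (C.zx45 y x (Ne.symm hxy) u hu _ (by rw [C.symm]; exact memo L hxy t)).symm

theorem c_z45o' (t : F) {u : G} (hu : u ∈ C.Z y) : cg u (L.E x (op y) t) = L.E x (op y) t :=
  cg_of_comm (C.zx45 y x (Ne.symm hxy) u hu _ (by rw [C.symm]; exact memo L hxy t))

end Two

/-! ### `P` and `Q` -/

theorem exists_PQ {x y : S} (hxy : x.1 ≠ y.1) (a : F) {u : G} (hu : u ∈ C.Z y) :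
    ∃ p : G, ∃ q : F, p ∈ C.Z x ∧ cg (L.E x y a) u = p * L.E x (op y) q * u := by
  obtain ⟨p, hp, e, he, h⟩ := C.zx135 x y hxy _ (L.mem x y hxy a) u hu
  obtain ⟨q, rfl⟩ := L.surj x (op y) (by simpa) e (by simpa using he)
  exact ⟨p, q, hp, by rw [cg_eq, h]⟩

open Classical in
/-- the `Z x` component -/
noncomputable def P (x y : S) (a : F) (u : G) : G :=
  if h : x.1 ≠ y.1 ∧ u ∈ C.Z y then (exists_PQ L h.1 a h.2).choose else 1

open Classical in
/-- the `X x y` component -/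
noncomputable def Q (x y : S) (a : F) (u : G) : F :=
  if h : x.1 ≠ y.1 ∧ u ∈ C.Z y then (exists_PQ L h.1 a h.2).choose_spec.choose else 0

theorem P_mem {x y : S} (hxy : x.1 ≠ y.1) (a : F) {u : G} (hu : u ∈ C.Z y) : P L x y a u ∈ C.Z x := by
  unfold P
  rw [dif_pos ⟨hxy, hu⟩]
  exact (exists_PQ L hxy a hu).choose_spec.choose_spec.1

theorem PQ {x y : S} (hxy : x.1 ≠ y.1) (a : F) {u : G} (hu : u ∈ C.Z y) :
    cg (L.E x y a) u = P L x y a u * L.E x (op y) (Q L x y a u) * u := by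
  unfold P Q
  rw [dif_pos ⟨hxy, hu⟩, dif_pos ⟨hxy, hu⟩]
  exact (exists_PQ L hxy a hu).choose_spec.choose_spec.2

/-- uniqueness in `Z x * X x y` -/
theorem uniq2 {x y : S} (hxy : x.1 ≠ y.1) {p p' : G} {q q' : F} (hp : p ∈ C.Z x) (hp' : p' ∈ C.Z x)
    (h : p * L.E x (op y) q = p' * L.E x (op y) q') : p = p' ∧ q = q' := by
  have h1 : (p'⁻¹ * p) * L.E x (op y) (q - q') * 1 = 1 := by
    have e : L.E x (op y) (q - q') = L.E x (op y) q * (L.E x (op y) q')⁻¹ := by
      rw [sub_eq_add_neg, L.add x (op y) (by simpa), neg L (by simpa)]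
    rw [e, mul_one, mul_assoc, ← mul_assoc p, h]
    group
  obtain ⟨h2, h3, -⟩ := C.u2 x y hxy _ (mul_mem (inv_mem hp') hp) _ (memo L hxy _) _ (one_mem _) h1
  exact ⟨(inv_mul_eq_one.1 h2).symm, sub_eq_zero.1 ((eq_one_iff L (by simpa)).1 h3)⟩

/-- uniqueness in `Z x * X x z * X x y` -/
theorem uniq3 {x y z : S} (hxy : x.1 ≠ y.1) (hxz : x.1 ≠ z.1) (hyz : y.1 ≠ z.1) {p p' : G}
    {v w w' : F} (hp : p ∈ C.Z x) (hp' : p' ∈ C.Z x)
    (h : p * L.E x (op z) v * L.E x (op y) w = p' * L.E x (op y) w') : v = 0 ∧ p = p' ∧ w = w' := by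
  have h1 : (p'⁻¹ * p) * 1 * 1 * 1 * L.E x (op z) v * 1 * L.E x (op y) (w - w') = 1 := by
    have e : L.E x (op y) (w - w') = L.E x (op y) w * (L.E x (op y) w')⁻¹ := by
      rw [sub_eq_add_neg, L.add x (op y) (by simpa), neg L (by simpa)]
    have : p'⁻¹ * (p * L.E x (op z) v * L.E x (op y) w) * (L.E x (op y) w')⁻¹ = 1 := by
      rw [h]; group
    rw [e]
    refine Eq.trans ?_ this
    group
  have c1 : L.E x (op z) v * L.E x (op y) (w - w') = L.E x (op y) (w - w') * L.E x (op z) v :=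
    comm_of_cg (c_xx L (by simpa) (by simpa) (by simpa using Ne.symm hyz) _ _)
  have h2 : (p'⁻¹ * p) * 1 * 1 * L.E x (op y) (w - w') * L.E x (op z) v * 1 = 1 := by
    refine Eq.trans ?_ h1
    simp only [mul_one]
    rw [mul_assoc, ← c1, ← mul_assoc]
  obtain ⟨h3, -, -, h4, h5, -⟩ := C.u3 x y z hxy hxz hyz _ (mul_mem (inv_mem hp') hp) _ (one_mem _) _
    (one_mem _) _ (memo L hxy _) _ (memo L hxz _) _ (one_mem _) h2
  exact ⟨(eq_one_iff L (by simpa)).1 h5, (inv_mul_eq_one.1 h3).symm,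
    sub_eq_zero.1 ((eq_one_iff L (by simpa)).1 h4)⟩

theorem PQ_unique {x y : S} (hxy : x.1 ≠ y.1) {a : F} {u p : G} {q : F} (hu : u ∈ C.Z y)
    (hp : p ∈ C.Z x) (h : cg (L.E x y a) u = p * L.E x (op y) q * u) : P L x y a u = p ∧ Q L x y a u = q := by
  rw [PQ L hxy a hu] at h
  exact uniq2 L hxy (P_mem L hxy a hu) hp (mul_right_cancel h)

theorem P_one {x y : S} (hxy : x.1 ≠ y.1) (a : F) : P L x y a 1 = 1 :=
  (PQ_unique L hxy (q := 0) (one_mem _) (one_mem _) (by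
    rw [cg_one, zero L (by simpa), mul_one, mul_one])).1

/-! ### the main relation -/

theorem main {x y z : S} (hxy : x.1 ≠ y.1) (hxz : x.1 ≠ z.1) (hyz : y.1 ≠ z.1) (a b : F) {u : G}
    (hu : u ∈ C.Z y) :
    P L x y (a * b) u = P L x z (-a) (P L z y (-b) u) ∧
      Q L x y (a * b) u = -(a * Q L z y (-b) u) ∧
      Q L x z (-a) (P L z y (-b) u) = g L z * (g L y)⁻¹ * L.σ b * a * Q L z y (-b) u := by
  have hzy := Ne.symm hyz
  have hzx := Ne.symm hxz
  have hyx := Ne.symm hxy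
  set p := P L z y (-b) u with hp
  set q := Q L z y (-b) u with hq
  have hpm : p ∈ C.Z z := P_mem L hzy _ hu
  set p' := P L x z (-a) p with hp'
  set q' := Q L x z (-a) p with hq'
  have hpm' : p' ∈ C.Z x := P_mem L hxz _ hpm
  have s1 : cg (L.E z y b)⁻¹ u = p * L.E z (op y) q * u := by
    rw [← neg L hzy, PQ L hzy _ hu]
  have k1 : p * L.E x (op y) (-(a * q)) = L.E x (op y) (-(a * q)) * p :=
    comm_of_cg (c_z90' L (x := z) (y := x) (z := op y) hzx (by simpa) (by simpa) _ hpm)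
  have s2 : cg (L.E x z a)⁻¹ (cg (L.E z y b)⁻¹ u) =
      p' * L.E x (op z) q' * L.E x (op y) (-(a * q)) * (cg (L.E z y b)⁻¹ u) := by
    rw [s1, ← neg L hxz, cg_mul, cg_mul, PQ L hxz _ hpm, c_l L hxz (z := op y) (by simpa) (by simpa),
      c_z90 L (x := y) (y := x) (z := z) hyx hyz hxz _ hu, neg_mul]
    calc p' * L.E x (op z) q' * p * (L.E x (op y) (-(a * q)) * L.E z (op y) q) * u
        = p' * L.E x (op z) q' * (p * L.E x (op y) (-(a * q))) * (L.E z (op y) q * u) := by group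
      _ = p' * L.E x (op z) q' * (L.E x (op y) (-(a * q)) * p) * (L.E z (op y) q * u) := by rw [k1]
      _ = _ := by group
  set κ := g L z * (g L y)⁻¹ * L.σ b * (-(a * q)) with hκ
  have s3 : cg (L.E z y b) (cg (L.E x z a)⁻¹ (cg (L.E z y b)⁻¹ u)) =
      p' * L.E x (op z) (q' + κ) * L.E x (op y) (-(a * q)) * u := by
    rw [s2, cg_mul, cg_mul, cg_mul, cg_cg_inv, c_z90 L (x := x) (y := z) (z := y) hxz hxy hzy _ hpm',
      c_f L hxy hxz hyz, ← hκ, L.add x (op z) (by simpa)]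
    have k2 : cg (L.E z y b) (L.E x (op z) q') = L.E x (op z) q' :=
      cg_of_comm (C.xx60 z (op y) x (by simpa) hzx (by simpa) _ (L.mem z y hzy b) _
        (by rw [C.symm]; exact memo L hxz _))
    rw [k2]
    group
  have s4 : cg (L.E x y (a * b)) u =
      (p' * ⁅L.E x z a, L.E x (op z) (q' + κ)⁆) * L.E x (op z) (q' + κ) * L.E x (op y) (-(a * q)) * u := by
    rw [← L.br x z y hxz hxy hzy, commutatorElement_def, mul_cg, mul_cg, mul_cg, s3, cg_mul, cg_mul,
      cg_mul, c_z45 L hxz _ hpm', cg_eq _ (L.E x (op z) (q' + κ)),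
      c_xx L hxz (z := op y) (by simpa) (by simpa),
      c_z90 L (x := y) (y := x) (z := z) hyx hyz hxz _ hu]
    group
  have hc : ⁅L.E x z a, L.E x (op z) (q' + κ)⁆ ∈ C.Z x := by
    have := C.xx90 x (op z) (by simpa) _ (L.mem x z hxz a) _ (L.mem x (op z) (by simpa) (q' + κ))
    exact this
  rw [PQ L hxy _ hu] at s4
  obtain ⟨h1, h2, h3⟩ := uniq3 L hxy hxz hyz (mul_mem hpm' hc) (P_mem L hxy _ hu)
    (mul_right_cancel s4).symm
  refine ⟨?_, h3.symm, ?_⟩
  · rw [← h2, h1, zero L (by simpa)]; simp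
  · rw [hκ] at h1
    linear_combination h1

/-! ### consequences for `Q` and `P` -/

theorem P_zero {x y : S} (hxy : x.1 ≠ y.1) {u : G} (hu : u ∈ C.Z y) : P L x y 0 u = 1 :=
  (PQ_unique L hxy (q := 0) hu (one_mem _) (by
    rw [zero L hxy, zero L (by simpa)]; simp [cg])).1

/-- `Q x y a u = a * Q₁ y u`, first form -/
theorem Q_lin {x y z : S} (hxy : x.1 ≠ y.1) (hxz : x.1 ≠ z.1) (hyz : y.1 ≠ z.1) (a : F) {u : G}
    (hu : u ∈ C.Z y) : Q L x y a u = a * Q L z y 1 u := by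
  have h1 := (main L (Ne.symm hyz) (Ne.symm hxz) (Ne.symm hxy) (-1) 1 hu).2.1
  rw [mul_one] at h1
  have h2 := (main L hxy hxz hyz a 1 hu).2.1
  have h3 := (main L (Ne.symm hyz) (Ne.symm hxz) (Ne.symm hxy) 1 1 hu).2.1
  have h4 := (main L hxy hxz hyz (-1) 1 hu).2.1
  rw [mul_one] at h2 h3 h4
  rw [h2, h3]
  have h5 : Q L z y (-1) u = Q L x y (-1) u := by rw [h1]; ring
  rw [h5]
  ring

theorem Q_eq {x x' y : S} (hxy : x.1 ≠ y.1) (hxy' : x'.1 ≠ y.1) {u : G} (hu : u ∈ C.Z y) :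
    Q L x y 1 u = Q L x' y 1 u := by
  by_cases hxx : x.1 = x'.1
  · obtain ⟨z, hzx, hzy⟩ := exists_third x y
    rw [Q_lin L hxy (Ne.symm hzx) (Ne.symm hzy) 1 hu,
      Q_lin L hxy' (hxx ▸ Ne.symm hzx) (Ne.symm hzy) 1 hu]
  · rw [Q_lin L hxy hxx (Ne.symm hxy') 1 hu, one_mul]

theorem Q_smul {x y : S} (hxy : x.1 ≠ y.1) (a : F) {u : G} (hu : u ∈ C.Z y) :
    Q L x y a u = a * Q L x y 1 u := by
  obtain ⟨z, hzx, hzy⟩ := exists_third x y
  rw [Q_lin L hxy (Ne.symm hzx) (Ne.symm hzy) a hu, Q_eq L hzy hxy hu]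

/-- composition of the `P`'s -/
theorem P_P {x y z : S} (hxy : x.1 ≠ y.1) (hxz : x.1 ≠ z.1) (hyz : y.1 ≠ z.1) (a b : F) {u : G}
    (hu : u ∈ C.Z y) : P L x z a (P L z y b u) = P L x y (a * b) u := by
  have := (main L hxy hxz hyz (-a) (-b) hu).1
  rw [neg_neg, neg_neg, neg_mul_neg] at this
  exact this.symm

/-- `Q` of `P` -/
theorem Q_P {y z : S} (hyz : y.1 ≠ z.1) (x : S) (hxz : x.1 ≠ z.1) (b : F) {u : G}
    (hu : u ∈ C.Z y) : Q L x z 1 (P L z y b u) =
      g L z * (g L y)⁻¹ * (b * L.σ b) * Q L z y 1 u := by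
  obtain ⟨x', hx'y, hx'z⟩ := exists_third y z
  rw [Q_eq L hxz hx'z (P_mem L (Ne.symm hyz) b hu)]
  have h1 := (main L hx'y hx'z hyz (-1) (-b) hu).2.2
  rw [neg_neg, neg_neg, Q_smul L (Ne.symm hyz) b hu, map_neg] at h1
  rw [h1]
  ring

/-! ### the elements `n` of the short roots -/

/-- The standard element attached to `u ∈ Z y`: conjugation maps `E x y a` to `E x (op y) (-Q)`. -/
theorem m_E {x y : S} (hxy : x.1 ≠ y.1) {u v w : G} (hu : u ∈ C.Z y) (hv : v ∈ C.Z (op y))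
    (hw : w ∈ C.Z (op y)) (hm : Acts C.X C.Z (v * u * w) (rZ y)) (a : F) :
    cg (v * u * w) (L.E x y a) = L.E x (op y) (-(Q L x y a u)) := by
  set p := P L x y a u with hp
  set q := Q L x y a u with hq
  have hpm : p ∈ C.Z x := P_mem L hxy a hu
  have hEo : x.1 ≠ (op y).1 := by simpa
  -- conjugation by `u`
  have s1 : cg u (L.E x y a) = (L.E x (op y) q)⁻¹ * (p⁻¹ * L.E x y a) := by
    have h1 := PQ L hxy a hu
    rw [← hp, ← hq] at h1
    unfold cg at h1 ⊢
    have h2 : L.E x y a * u = p * L.E x (op y) q * u * L.E x y a := by rw [← h1]; group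
    have h3 : u * L.E x y a = (L.E x (op y) q)⁻¹ * p⁻¹ * (L.E x y a * u) := by rw [h2]; group
    rw [h3]; group
  have s0 : cg w (L.E x y a) = L.E x y a := by
    have := c_z45o' L (x := x) (y := op y) (by simpa) a (u := w) hw
    rwa [op_op] at this
  have s2 : cg (v * u * w) (L.E x y a) = cg v (L.E x (op y) q)⁻¹ * cg v (p⁻¹ * L.E x y a) := by
    rw [mul_cg, mul_cg, s0, s1, cg_mul]
  -- the subgroup `K = Z x * X x (op y)`
  have hzX : ∀ z ∈ C.Z x, ∀ f ∈ C.X x (op y), z * f = f * z := fun z hz f hf => C.zx45 x (op y) hEo z hz f hf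
  obtain ⟨z1, hz1, f1, hf1, e1⟩ := C.zx135 x (op y) hEo (L.E x (op y) q)
    (by rw [op_op]; exact memo L hxy q) v hv
  -- `cg v (p⁻¹ * E) = f2 * p⁻¹ * E`
  have s3 : cg v (p⁻¹ * L.E x y a) = ⁅v, p⁻¹⁆ * p⁻¹ * L.E x y a := by
    rw [cg_mul, cg_eq v p⁻¹]
    have := c_z45o' L (x := x) (y := op y) (by simpa) a (u := v) hv
    rw [op_op] at this
    rw [this]
  have hf2 : ⁅v, p⁻¹⁆ ∈ C.X x (op y) := by
    rw [C.symm]; exact C.zz (op y) x (by simpa using Ne.symm hxy) v hv _ (inv_mem hpm)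
  set f2 := ⁅v, p⁻¹⁆ with hf2'
  -- `cg v e⁻¹`
  have s4 : cg v (L.E x (op y) q)⁻¹ = (L.E x (op y) q)⁻¹ * (z1 * f1) := by
    rw [← e1, comm_eq]
    unfold cg
    group
  have hE := L.mem x y hxy a
  have s5 : cg (v * u * w) (L.E x y a) =
      (L.E x (op y) q)⁻¹ * ((z1 * p⁻¹) * (f1 * f2 * L.E x y a)) := by
    rw [s2, s3, s4]
    have k1 := hzX _ (inv_mem hpm) _ (mul_mem hf1 hf2)
    calc (L.E x (op y) q)⁻¹ * (z1 * f1) * (f2 * p⁻¹ * L.E x y a)
        = (L.E x (op y) q)⁻¹ * (z1 * ((f1 * f2) * p⁻¹) * L.E x y a) := by group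
      _ = (L.E x (op y) q)⁻¹ * (z1 * (p⁻¹ * (f1 * f2)) * L.E x y a) := by rw [k1]
      _ = _ := by group
  have h6 : cg (v * u * w) (L.E x y a) ∈ C.X x y := by
    have h7 := (acts_X hm hEo).1 hE
    have e : rZ y x = x := by simp [rZ, hxy]
    have e' : rZ y (op y) = y := by simp [rZ]
    rwa [e, e'] at h7
  set t := cg (v * u * w) (L.E x y a) with ht
  have h8 : L.E x (op y) q * t ∈ C.X x y := mul_mem (memo L hxy q) h6
  have h9 : (z1 * p⁻¹) * (L.E x (op y) q * t)⁻¹ * (f1 * f2 * L.E x y a) = 1 := by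
    have k2 : L.E x (op y) q * t = (z1 * p⁻¹) * (f1 * f2 * L.E x y a) := by rw [s5]; group
    have k3 := C.zx45 x y hxy _ (mul_mem hz1 (inv_mem hpm)) _ (inv_mem h8)
    rw [k3, mul_assoc, ← k2]; group
  obtain ⟨-, h10, -⟩ := C.u2 x y hxy _ (mul_mem hz1 (inv_mem hpm)) _ (inv_mem h8) _
    (mul_mem (mul_mem hf1 hf2) hE) h9
  rw [neg L hEo]
  have h11 : L.E x (op y) q * t = 1 := inv_eq_one.1 h10
  exact eq_inv_of_mul_eq_one_right h11

theorem Q_ne {x y : S} (hxy : x.1 ≠ y.1) {u : G} (hu : u ∈ C.Z y) (hu1 : u ≠ 1) :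
    Q L x y 1 u ≠ 0 := by
  intro h
  obtain ⟨v, hv, w, hw, hm⟩ := C.nZ y u hu hu1
  have h1 := m_E L hxy hu hv hw hm 1
  rw [h, neg_zero, zero L (by simpa)] at h1
  have h2 : L.E x y 1 = 1 := by
    apply cg_injective (v * u * w)
    rw [h1, cg_one]
  exact one_ne_zero ((eq_one_iff L hxy).1 h2)

theorem P_ne {x y : S} (hxy : x.1 ≠ y.1) {a : F} (ha : a ≠ 0) {u : G} (hu : u ∈ C.Z y) (hu1 : u ≠ 1) :
    P L x y a u ≠ 1 := by
  intro h
  have h1 := Q_P L (Ne.symm hxy) y (Ne.symm hxy) a hu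
  rw [h] at h1
  have h2 : Q L y x 1 1 = 0 := by
    have := (PQ_unique L (Ne.symm hxy) (a := 1) (u := (1 : G)) (q := 0) (one_mem _) (one_mem _) (by
      rw [cg_one, zero L (by simpa using Ne.symm hxy), mul_one, mul_one])).2
    exact this
  rw [h2] at h1
  have h3 : a * L.σ a ≠ 0 := mul_ne_zero ha ((map_ne_zero_iff L.σ L.σ.injective).2 ha)
  exact (mul_ne_zero (mul_ne_zero (mul_ne_zero (g_ne L x) (inv_ne_zero (g_ne L y))) h3)
    (Q_ne L hxy hu hu1)) h1.symm

end Cfsg.Agent.TitsThree.C3Short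
end

-- part: TitsThree/C3Sys
section
/-!
# The pseudo-quadratic system of a group of type `C₃` (S1143)

`H x y p q` : the commutator of `Z x` and `Z y`; `Φ x u` : the commutators of `X x y` and `X x (op y)`.
`ζ x : Z (0,true) → Z x` compatible isomorphisms.
-/

set_option autoImplicit false

namespace Cfsg.Agent.TitsThree.C3Sys

open scoped commutatorElement
open Cfsg.Agent.AGraded Cfsg.Agent.TitsThree.C3Grp Cfsg.Agent.TitsThree.C3Short

variable {G : Type*} [Group G] {C : Grp G} {F : Type*} [Field F] (L : Long C F)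

/-! ### commutators of short root groups -/

theorem exists_H {x y : S} (hxy : x.1 ≠ y.1) {p q : G} (hp : p ∈ C.Z x) (hq : q ∈ C.Z y) :
    ∃ t : F, ⁅p, q⁆ = L.E x (op y) t := by
  obtain ⟨t, ht⟩ := L.surj x (op y) (by simpa) _ (by simpa using C.zz x y hxy p hp q hq)
  exact ⟨t, ht.symm⟩

open Classical in
/-- the commutator of two short root elements -/
noncomputable def H (x y : S) (p q : G) : F :=
  if h : x.1 ≠ y.1 ∧ p ∈ C.Z x ∧ q ∈ C.Z y then (exists_H L h.1 h.2.1 h.2.2).choose else 0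

theorem H_spec {x y : S} (hxy : x.1 ≠ y.1) {p q : G} (hp : p ∈ C.Z x) (hq : q ∈ C.Z y) :
    ⁅p, q⁆ = L.E x (op y) (H L x y p q) := by
  unfold H
  rw [dif_pos ⟨hxy, hp, hq⟩]
  exact (exists_H L hxy hp hq).choose_spec

theorem E_inj {x y : S} (hxy : x.1 ≠ y.1) {s t : F} (h : L.E x y s = L.E x y t) : s = t :=
  L.inj x y hxy h

theorem H_unique {x y : S} (hxy : x.1 ≠ y.1) {p q : G} (hp : p ∈ C.Z x) (hq : q ∈ C.Z y) {t : F}
    (h : ⁅p, q⁆ = L.E x (op y) t) : H L x y p q = t :=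
  E_inj L (x := x) (y := op y) (by simpa) (by rw [← h, H_spec L hxy hp hq])

theorem comm_mul_left (a b c : G) : ⁅a * b, c⁆ = cg a ⁅b, c⁆ * ⁅a, c⁆ := by
  simp [cg, commutatorElement_def, mul_assoc]

theorem comm_mul_right (a b c : G) : ⁅a, b * c⁆ = ⁅a, b⁆ * cg b ⁅a, c⁆ := by
  simp [cg, commutatorElement_def, mul_assoc]

theorem H_mul {x y : S} (hxy : x.1 ≠ y.1) {p p' q : G} (hp : p ∈ C.Z x) (hp' : p' ∈ C.Z x)
    (hq : q ∈ C.Z y) : H L x y (p * p') q = H L x y p q + H L x y p' q := by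
  apply H_unique L hxy (mul_mem hp hp') hq
  rw [comm_mul_left, H_spec L hxy hp hq, H_spec L hxy hp' hq,
    c_z45' L (x := x) (y := op y) (by simpa) _ hp, add_comm, L.add x (op y) (by simpa)]

/-- `E x (op y)` in the other orientation -/
theorem swap' {x y : S} (hxy : x.1 ≠ y.1) (t : F) :
    L.E x (op y) t = L.E y (op x) (-(g L x * (g L (op y))⁻¹ * L.σ t)) := by
  have h1 := L.swap x (op y) (by simpa using hxy) t
  rw [op_op] at h1
  exact h1

theorem H_swap {x y : S} (hxy : x.1 ≠ y.1) {p q : G} (hp : p ∈ C.Z x) (hq : q ∈ C.Z y) :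
    H L y x q p = g L x * (g L (op y))⁻¹ * L.σ (H L x y p q) := by
  apply H_unique L (Ne.symm hxy) hq hp
  rw [← commutatorElement_inv, H_spec L hxy hp hq, swap' L hxy, ← neg L (by simpa using Ne.symm hxy),
    neg_neg]

theorem H_P {x y z : S} (hxy : x.1 ≠ y.1) (hxz : x.1 ≠ z.1) (hyz : y.1 ≠ z.1) (a : F) {p q : G}
    (hp : p ∈ C.Z x) (hq : q ∈ C.Z y) : H L z y (P L z x a p) q = a * H L x y p q := by
  have hzx := Ne.symm hxz
  have hzy := Ne.symm hyz
  have hyx := Ne.symm hxy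
  have hP := P_mem L hzx a hp
  have h1 : cg (L.E z x a) ⁅p, q⁆ = L.E z (op y) (a * H L x y p q) * L.E x (op y) (H L x y p q) := by
    rw [H_spec L hxy hp hq, c_l L hzx (z := op y) (by simpa) (by simpa)]
  have h2 : cg (L.E z x a) ⁅p, q⁆ = L.E x (op y) (H L x y p q) * L.E z (op y) (H L z y (P L z x a p) q) := by
    have k1 : ⁅L.E z (op x) (Q L z x a p), q⁆ = 1 := by
      rw [commutatorElement_eq_one_iff_mul_comm]
      exact comm_of_cg (c_z90 L (x := y) (y := z) (z := op x) hyz (by simpa) (by simpa) _ hq)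
    have k2 : cg (L.E z (op x) (Q L z x a p)) (L.E x (op y) (H L x y p q)) =
        L.E x (op y) (H L x y p q) :=
      cg_of_comm (C.xx60 x z y hxz hxy hzy _ (by rw [C.symm]; exact memo L hzx _) _ (memo L hxy _))
    rw [cg_comm, PQ L hzx a hp, c_z90 L (x := y) (y := z) (z := x) hyz hyx hzx _ hq, comm_mul_left,
      comm_mul_left, k1, cg_one, one_mul, mul_cg, H_spec L hxy hp hq, k2,
      c_z90' L (x := z) (y := x) (z := op y) hzx (by simpa) (by simpa) _ hP, H_spec L hzy hP hq]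
  have h3 : L.E x (op y) (H L x y p q) * L.E z (op y) (H L z y (P L z x a p) q) =
      L.E z (op y) (H L z y (P L z x a p) q) * L.E x (op y) (H L x y p q) :=
    comm_of_cg (c_yy L (x := x) (y := op y) (z := z) (by simpa) hxz (by simpa) _ _)
  rw [h2, h3] at h1
  exact E_inj L (x := z) (y := op y) (by simpa) (mul_right_cancel h1)

/-- multiplicativity of `P`, the law for `Q` -/
theorem P_mul {x y : S} (hxy : x.1 ≠ y.1) (a : F) {u u' : G} (hu : u ∈ C.Z y) (hu' : u' ∈ C.Z y) :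
    P L x y a (u * u') = P L x y a u * P L x y a u' ∧
      Q L x y a (u * u') = Q L x y a u + Q L x y a u' - H L x y (P L x y a u') u := by
  have hP := P_mem L hxy a hu
  have hP' := P_mem L hxy a hu'
  apply PQ_unique L hxy (mul_mem hu hu') (mul_mem hP hP')
  rw [cg_mul, PQ L hxy a hu, PQ L hxy a hu']
  set p := P L x y a u
  set p' := P L x y a u'
  set q := Q L x y a u
  set q' := Q L x y a u'
  set k := H L x y p' u with hk
  have e1 : u * p' = L.E x (op y) (-k) * p' * u := by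
    rw [neg L (by simpa), ← H_spec L hxy hP' hu, commutatorElement_def]; group
  have e2 : u * L.E x (op y) q' = L.E x (op y) q' * u := comm_of_cg (c_z45o' L hxy _ hu)
  have e3 : ∀ t, L.E x (op y) t * p' = p' * L.E x (op y) t := fun t =>
    comm_of_cg (c_z45 L (x := x) (y := op y) (by simpa) _ hP')
  have e4 : L.E x (op y) (q + q' - k) = L.E x (op y) q * L.E x (op y) (-k) * L.E x (op y) q' := by
    rw [← L.add x (op y) (by simpa), ← L.add x (op y) (by simpa)]
    congr 1; ring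
  rw [e4]
  calc p * L.E x (op y) q * u * (p' * L.E x (op y) q' * u')
      = p * L.E x (op y) q * (u * p') * L.E x (op y) q' * u' := by group
    _ = p * L.E x (op y) q * (L.E x (op y) (-k) * p' * u) * L.E x (op y) q' * u' := by rw [e1]
    _ = p * L.E x (op y) q * (L.E x (op y) (-k) * p') * (u * L.E x (op y) q') * u' := by group
    _ = p * L.E x (op y) q * (p' * L.E x (op y) (-k)) * (L.E x (op y) q' * u) * u' := by rw [e3, e2]
    _ = p * (L.E x (op y) q * p') * L.E x (op y) (-k) * L.E x (op y) q' * (u * u') := by group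
    _ = p * (p' * L.E x (op y) q) * L.E x (op y) (-k) * L.E x (op y) q' * (u * u') := by rw [e3]
    _ = _ := by group

/-! ### the trace elements -/

/-- commutators of `X x y` and `X x (op y)` -/
def B (x y : S) (s t : F) : G := ⁅L.E x (op y) s, L.E x y t⁆

theorem B_mem {x y : S} (hxy : x.1 ≠ y.1) (s t : F) : B L x y s t ∈ C.Z x :=
  C.xx90 x y hxy _ (memo L hxy s) _ (L.mem x y hxy t)

theorem B_aux {x y z : S} (hxy : x.1 ≠ y.1) (hxz : x.1 ≠ z.1) (hyz : y.1 ≠ z.1) (s a b : F) :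
    B L x y s (a * b) = B L x z (-(g L z * (g L y)⁻¹ * L.σ b * s)) (-a) := by
  have hzy := Ne.symm hyz
  set κ := g L z * (g L y)⁻¹ * L.σ b * s with hκ
  set D := ⁅L.E x z (-a), L.E x (op z) (-κ)⁆ with hD
  have hDm : D ∈ C.Z x := by
    have := C.xx90 x (op z) (by simpa) _ (L.mem x z hxz (-a)) _ (L.mem x (op z) (by simpa) (-κ))
    exact this
  have s1 : cg (L.E z y b)⁻¹ (L.E x (op y) s) = L.E x (op z) (-κ) * L.E x (op y) s := by
    rw [← neg L hzy, c_f L hxy hxz hyz]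
    congr 2
    rw [map_neg, hκ]; ring
  have s2 : cg (L.E x z a)⁻¹ (cg (L.E z y b)⁻¹ (L.E x (op y) s)) =
      D * cg (L.E z y b)⁻¹ (L.E x (op y) s) := by
    rw [s1, ← neg L hxz, cg_mul, cg_eq _ (L.E x (op z) (-κ)), ← hD,
      c_xx L hxz (z := op y) (by simpa) (by simpa), mul_assoc]
  have s3 : cg (L.E x y (a * b)) (L.E x (op y) s) = D * L.E x (op y) s := by
    rw [← L.br x z y hxz hxy hzy, commutatorElement_def, mul_cg, mul_cg, mul_cg, s2, cg_mul, cg_cg_inv,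
      c_z90 L (x := x) (y := z) (z := y) hxz hxy hzy _ hDm, cg_mul, c_z45 L hxz _ hDm,
      c_xx L hxz (z := op y) (by simpa) (by simpa)]
  unfold B
  rw [← commutatorElement_inv, comm_eq, s3, mul_inv_cancel_right, hD, commutatorElement_inv]

theorem B_left {x y : S} (hxy : x.1 ≠ y.1) (s a b : F) :
    B L x y s (a * b) = B L x y (L.σ b * s) a := by
  obtain ⟨z, hzx, hzy⟩ := exists_third x y
  have hxz := Ne.symm hzx
  have hyz := Ne.symm hzy
  have h1 := B_aux L hxz hxy hzy (-(g L z * (g L y)⁻¹ * L.σ b * s)) (-a) 1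
  rw [mul_one] at h1
  rw [B_aux L hxy hxz hyz, h1, neg_neg, map_one, mul_one]
  congr 1
  have := g_ne L y
  have := g_ne L z
  field_simp

theorem B_one {x y : S} (hxy : x.1 ≠ y.1) (s t : F) : B L x y s t = B L x y (L.σ t * s) 1 := by
  have := B_left L hxy s 1 t
  rwa [one_mul] at this

theorem B_change {x y z : S} (hxy : x.1 ≠ y.1) (hxz : x.1 ≠ z.1) (hyz : y.1 ≠ z.1) (u : F) :
    B L x y (g L y * u) 1 = B L x z (g L z * u) 1 := by
  have h1 := B_aux L hxy hxz hyz (g L y * u) 1 1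
  rw [mul_one, B_one L hxz] at h1
  rw [h1]
  congr 1
  rw [map_neg, map_one]
  have := g_ne L y
  field_simp

/-- the trace elements of `Z x` -/
def Φ (x : S) (u : F) : G :=
  if x.1 = 0 then B L x (1, true) (g L (1, true) * u) 1 else B L x (0, true) (g L (0, true) * u) 1

theorem B_eq {x y : S} (hxy : x.1 ≠ y.1) (s t : F) : B L x y s t = Φ L x ((g L y)⁻¹ * L.σ t * s) := by
  have key : ∀ y y' : S, x.1 ≠ y.1 → x.1 ≠ y'.1 → ∀ u,
      B L x y (g L y * u) 1 = B L x y' (g L y' * u) 1 := by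
    intro y y' hxy hxy' u
    by_cases hyy : y.1 = y'.1
    · obtain ⟨z, hzx, hzy⟩ := exists_third x y
      rw [B_change L hxy (Ne.symm hzx) (Ne.symm hzy), B_change L (Ne.symm hzx) hxy' (hyy ▸ hzy)]
    · exact B_change L hxy hxy' hyy u
  have e : L.σ t * s = g L y * ((g L y)⁻¹ * L.σ t * s) := by
    have := g_ne L y
    field_simp
  rw [B_one L hxy, e]
  unfold Φ
  split_ifs with h
  · exact key _ _ hxy (by rw [h]; decide) _
  · exact key _ _ hxy h _

theorem Φ_eq {x y : S} (hxy : x.1 ≠ y.1) (u : F) : Φ L x u = B L x y (g L y * u) 1 := by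
  rw [B_eq L hxy, map_one]
  congr 1
  have := g_ne L y
  field_simp

theorem Φ_mem (x : S) (u : F) : Φ L x u ∈ C.Z x := by
  obtain ⟨z, hzx, -⟩ := exists_third x x
  rw [Φ_eq L (Ne.symm hzx)]
  exact B_mem L (Ne.symm hzx) _ _

/-- trace elements commute with the other short root groups -/
theorem Φ_comm {x y : S} (hxy : x.1 ≠ y.1) (u : F) {p : G} (hp : p ∈ C.Z y) :
    ⁅Φ L x u, p⁆ = 1 := by
  obtain ⟨z, hzx, hzy⟩ := exists_third x y
  rw [Φ_eq L (Ne.symm hzx), commutatorElement_eq_one_iff_mul_comm]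
  symm
  apply comm_of_cg
  unfold B
  rw [cg_comm, c_z90' L (x := y) (y := x) (z := op z) (Ne.symm hxy) (by simpa using Ne.symm hzy)
    (by simpa using Ne.symm hzx) _ hp, c_z90' L (x := y) (y := x) (z := z) (Ne.symm hxy)
    (Ne.symm hzy) (Ne.symm hzx) _ hp]

/-- `P`, `Q` of trace elements -/
theorem PQ_Φ {x z : S} (hzx : z.1 ≠ x.1) (a u : F) :
    P L z x a (Φ L x u) = Φ L z (a * L.σ a * u) ∧
      Q L z x a (Φ L x u) = a * g L x * (L.ε⁻¹ * L.σ u - u) := by
  obtain ⟨y, hyx, hyz⟩ := exists_third x z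
  have hxy := Ne.symm hyx
  have hxz := Ne.symm hzx
  have hzy := Ne.symm hyz
  rw [Φ_eq L hxy]
  set s := g L y * u with hs
  have hBz : B L z y (a * s) a = Φ L z (a * L.σ a * u) := by
    rw [B_eq L hzy]
    congr 1
    have := g_ne L y
    rw [hs]; field_simp
  have hBx := B_mem L hxy s 1
  have hBzm := B_mem L hzy (a * s) a
  rw [← hBz]
  apply PQ_unique L hzx hBx hBzm
  -- the four commutators
  have c1 : ⁅L.E x (op y) s, L.E z y a⁆ = L.E z (op x) (a * g L x * (L.ε⁻¹ * L.σ u)) := by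
    have h1 := c_f L hxy hxz hyz a s
    rw [cg_eq] at h1
    rw [← commutatorElement_inv, mul_right_cancel h1, ← neg L (by simpa), swap' L hxz]
    congr 1
    rw [hs, map_neg, map_mul, map_mul, map_mul, map_inv₀, map_mul, L.σσ, σg, σg]
    have := g_ne L (op y)
    have := g_ne L (op z)
    have := ε_ne L
    field_simp
  have c2 : ⁅L.E z (op y) (a * s), L.E x y 1⁆ = L.E z (op x) (-(a * g L x * u)) := by
    have h1 := c_f L (x := z) (y := y) (z := x) hzy hzx hyx 1 (a * s)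
    rw [cg_eq] at h1
    rw [← commutatorElement_inv, mul_right_cancel h1, ← neg L (by simpa)]
    congr 2
    rw [hs, map_one]
    have := g_ne L y
    field_simp
  have e0 : cg (L.E z x a) (B L x y s 1) =
      ⁅L.E z (op y) (a * s) * L.E x (op y) s, L.E z y a * L.E x y 1⁆ := by
    unfold B
    rw [cg_comm, c_l L hzx (z := op y) (by simpa) (by simpa), c_l L hzx hzy hxy, mul_one]
  have k1 : cg (L.E z y a) (B L x y s 1) = B L x y s 1 :=
    c_z90 L (x := x) (y := z) (z := y) hxz hxy hzy _ hBx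
  have k2 : cg (L.E z y a) (L.E z (op x) (-(a * g L x * u))) = L.E z (op x) (-(a * g L x * u)) :=
    c_xx L hzy (z := op x) (by simpa) (by simpa) _ _
  have k3 : cg (L.E z (op y) (a * s)) (L.E z (op x) (a * g L x * (L.ε⁻¹ * L.σ u))) =
      L.E z (op x) (a * g L x * (L.ε⁻¹ * L.σ u)) :=
    c_xx L (y := op y) (z := op x) (by simpa) (by simpa) (by simpa) _ _
  have k4 : cg (L.E z (op y) (a * s)) (B L x y s 1) = B L x y s 1 :=
    c_z90 L (x := x) (y := z) (z := op y) hxz (by simpa) (by simpa) _ hBx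
  have k5 : B L x y s 1 * B L z y (a * s) a = B L z y (a * s) a * B L x y s 1 := by
    apply comm_of_cg
    change cg (B L x y s 1) ⁅L.E z (op y) (a * s), L.E z y a⁆ = ⁅L.E z (op y) (a * s), L.E z y a⁆
    rw [cg_comm, c_z90' L (x := x) (y := z) (z := op y) hxz (by simpa) (by simpa) _ hBx,
      c_z90' L (x := x) (y := z) (z := y) hxz hxy hzy _ hBx]
  have k6 : ∀ t, B L x y s 1 * L.E z (op x) t = L.E z (op x) t * B L x y s 1 := fun t =>
    comm_of_cg (c_z45o' L hzx t hBx)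
  have k7 : ∀ t, L.E z (op x) t * B L z y (a * s) a = B L z y (a * s) a * L.E z (op x) t := fun t =>
    comm_of_cg (c_z45 L (x := z) (y := op x) (by simpa) t hBzm)
  have e1 : a * g L x * (L.ε⁻¹ * L.σ u - u) = a * g L x * (L.ε⁻¹ * L.σ u) + -(a * g L x * u) := by ring
  have e2 : B L z y (a * s) a = ⁅L.E z (op y) (a * s), L.E z y a⁆ := rfl
  have e3 : ⁅L.E x (op y) s, L.E x y 1⁆ = B L x y s 1 := rfl
  rw [e0, comm_mul_left, comm_mul_right, comm_mul_right, c1, c2, e3, k1, k2, cg_mul, k3, k4, ← e2, e1,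
    L.add z (op x) (by simpa)]
  set e := L.E z (op x) (a * g L x * (L.ε⁻¹ * L.σ u))
  set e' := L.E z (op x) (-(a * g L x * u))
  set bx := B L x y s 1
  set bz := B L z y (a * s) a
  calc e * bx * (bz * e') = e * (bx * bz) * e' := by group
    _ = e * (bz * bx) * e' := by rw [k5]
    _ = (e * bz) * (bx * e') := by group
    _ = (bz * e) * (e' * bx) := by rw [k6, k7]
    _ = _ := by group

/-! ### compatible parametrisations of the short root groups -/

theorem P1_inj {x y : S} (hxy : x.1 ≠ y.1) {u u' : G} (hu : u ∈ C.Z y) (hu' : u' ∈ C.Z y)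
    (h : P L x y 1 u = P L x y 1 u') : u = u' := by
  by_contra hne
  have h1 : u * u'⁻¹ ≠ 1 := fun e => hne (mul_inv_eq_one.1 e)
  apply P_ne L hxy one_ne_zero (mul_mem hu (inv_mem hu')) h1
  have h2 := (P_mul L hxy 1 (mul_mem hu (inv_mem hu')) hu').1
  rw [inv_mul_cancel_right, h] at h2
  exact (right_eq_mul.1 h2)

private theorem n01 : (0 : Fin 3) ≠ 1 := by decide
private theorem n02 : (0 : Fin 3) ≠ 2 := by decide
private theorem n10 : (1 : Fin 3) ≠ 0 := by decide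
private theorem n12 : (1 : Fin 3) ≠ 2 := by decide
private theorem n20 : (2 : Fin 3) ≠ 0 := by decide
private theorem n21 : (2 : Fin 3) ≠ 1 := by decide

/-- A functional cocycle is a coboundary. -/
theorem cocycle_fun {π : S → S → G → G} (hmem : ∀ x y : S, x.1 ≠ y.1 → ∀ u ∈ C.Z y, π x y u ∈ C.Z x)
    (hco : ∀ x y z : S, x.1 ≠ y.1 → x.1 ≠ z.1 → y.1 ≠ z.1 → ∀ u ∈ C.Z y,
      π x z (π z y u) = π x y u)
    (hinj : ∀ x y : S, x.1 ≠ y.1 → ∀ u ∈ C.Z y, ∀ u' ∈ C.Z y, π x y u = π x y u' → u = u') :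
    ∃ ζ : S → G → G, (∀ x, ∀ p ∈ C.Z (0, true), ζ x p ∈ C.Z x) ∧
      (∀ p ∈ C.Z (0, true), ζ (0, true) p = p) ∧
      (∀ x y : S, x.1 ≠ y.1 → ∀ p ∈ C.Z (0, true), π x y (ζ y p) = ζ x p) ∧
      ∀ x, ∀ u ∈ C.Z x, ∃ p ∈ C.Z (0, true), ζ x p = u := by
  have hinv : ∀ x y : S, x.1 ≠ y.1 → ∀ u ∈ C.Z x, π x y (π y x u) = u := by
    intro x y hxy u hu
    obtain ⟨z, hzx, hzy⟩ := exists_third x y
    have h1 := hmem y x (Ne.symm hxy) u hu
    apply hinj z x hzx _ (hmem x y hxy _ h1) _ hu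
    rw [hco z y x hzy hzx (Ne.symm hxy) _ h1, hco z x y hzx hzy hxy _ hu]
  let ζ : S → G → G := fun x p =>
    if x.1 = 0 then π x (1, true) (π (1, true) (0, true) p) else π x (0, true) p
  have hζ : ∀ x, ∀ p ∈ C.Z (0, true), ζ x p ∈ C.Z x := by
    intro x p hp
    change (if _ then _ else _) ∈ _
    split_ifs with h
    · exact hmem _ _ (by rw [h]; decide) _ (hmem _ _ n10 _ hp)
    · exact hmem _ _ h _ hp
  have hπ : ∀ x y : S, x.1 ≠ y.1 → ∀ p ∈ C.Z (0, true), π x y (ζ y p) = ζ x p := by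
    intro x y hxy p hp
    obtain ⟨i, s⟩ := x
    obtain ⟨j, t⟩ := y
    have hij : i ≠ j := hxy
    have hr := hmem (1, true) (0, true) n10 p hp
    change π (i, s) (j, t) (if j = 0 then _ else _) = (if i = 0 then _ else _)
    fin_cases i <;> fin_cases j <;> simp at hij ⊢
    · -- 0 1
      have h1 := hmem (1, t) (0, true) n10 p hp
      rw [← hco (0, s) (1, t) (2, true) n01 n02 n12 _ h1,
        ← hco (0, s) (1, true) (2, true) n01 n02 n12 _ hr,
        hco (2, true) (0, true) (1, t) n20 n21 n01 p hp,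
        hco (2, true) (0, true) (1, true) n20 n21 n01 p hp]
    · -- 0 2
      rw [← hco (2, t) (0, true) (1, true) n20 n21 n01 p hp,
        hco (0, s) (1, true) (2, t) n01 n02 n12 _ hr]
    · -- 1 0
      have h1 := hmem (0, t) (1, true) n01 _ hr
      rw [← hco (1, s) (0, t) (2, true) n10 n12 n02 _ h1,
        hco (2, true) (1, true) (0, t) n21 n20 n10 _ hr,
        hco (2, true) (0, true) (1, true) n20 n21 n01 p hp,
        hco (1, s) (0, true) (2, true) n10 n12 n02 p hp]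
    · -- 1 2
      rw [hco (1, s) (0, true) (2, t) n10 n12 n02 p hp]
    · -- 2 0
      rw [hco (2, s) (1, true) (0, t) n21 n20 n10 _ hr,
        hco (2, s) (0, true) (1, true) n20 n21 n01 p hp]
    · -- 2 1
      rw [hco (2, s) (0, true) (1, t) n20 n21 n01 p hp]
  have h0 : ∀ p ∈ C.Z (0, true), ζ (0, true) p = p := by
    intro p hp
    change (if (0 : Fin 3) = 0 then π (0, true) (1, true) (π (1, true) (0, true) p) else _) = p
    rw [if_pos rfl, hinv (0, true) (1, true) n01 p hp]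
  refine ⟨ζ, hζ, h0, hπ, ?_⟩
  intro x u hu
  by_cases hx : x.1 = 0
  · have hx1 : x.1 ≠ (1, true).1 := by rw [hx]; exact n01
    have h1 := hmem (1, true) x (Ne.symm hx1) u hu
    have h2 := hmem (0, true) (1, true) n01 _ h1
    refine ⟨_, h2, ?_⟩
    rw [← hπ x (1, true) hx1 _ h2, ← hπ (1, true) (0, true) n10 _ h2, h0 _ h2,
      hinv (1, true) (0, true) n10 _ h1, hinv x (1, true) hx1 u hu]
  · have h1 := hmem (0, true) x (Ne.symm hx) u hu
    refine ⟨_, h1, ?_⟩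
    rw [← hπ x (0, true) hx _ h1, h0 _ h1, hinv x (0, true) hx u hu]

/-- The short root groups with compatible parametrisations, at the level of the group `Z (0,true)`. -/
structure Short (L : Long C F) where
  ζ : S → C.Z (0, true) →* G
  sys : PQAbs.Sys F (C.Z (0, true))
  hσ : sys.σ = L.σ
  hε : sys.ε = L.ε
  mem : ∀ x p, ζ x p ∈ C.Z x
  surj : ∀ x, ∀ u ∈ C.Z x, ∃ p, ζ x p = u
  inj : ∀ x, Function.Injective (ζ x)
  zero : ∀ p, ζ (0, true) p = p
  xz : ∀ x y, x.1 ≠ y.1 → ∀ a p, cg (L.E x y a) (ζ y p) =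
    ζ x (sys.smul (L.σ a) p) * L.E x (op y) (-(a * g L y * L.σ (sys.c p))) * ζ y p
  xx : ∀ x y, x.1 ≠ y.1 → ∀ a b, ⁅L.E x y a, L.E x (op y) b⁆ =
    ζ x (sys.tr (L.ε * (g L y)⁻¹ * b * L.σ a))
  zz : ∀ x y, x.1 ≠ y.1 → ∀ p q, ⁅ζ x p, ζ y q⁆ =
    L.E x (op y) (-(g L y * L.ε⁻¹ * sys.h q p))

theorem exists_short : Nonempty (Short L) := by
  obtain ⟨ζ0, hζ, hζ0, hπ, hsurj⟩ := cocycle_fun (C := C) (π := fun x y u => P L x y 1 u)
    (fun x y hxy u hu => P_mem L hxy 1 hu)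
    (fun x y z hxy hxz hyz u hu => by
      change P L x z 1 (P L z y 1 u) = P L x y 1 u
      rw [P_P L hxy hxz hyz 1 1 hu, one_mul])
    (fun x y hxy u hu u' hu' h => P1_inj L hxy hu hu' h)
  have hmul1 : ∀ x y : S, x.1 ≠ y.1 → ∀ u ∈ C.Z y, ∀ u' ∈ C.Z y,
      P L x y 1 (u * u') = P L x y 1 u * P L x y 1 u' := fun x y hxy u hu u' hu' =>
    (P_mul L hxy 1 hu hu').1
  have hζmul0 : ∀ x : S, x.1 ≠ 0 → ∀ p ∈ C.Z (0, true), ∀ q ∈ C.Z (0, true),
      ζ0 x (p * q) = ζ0 x p * ζ0 x q := by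
    intro x hx p hp q hq
    rw [← hπ x (0, true) hx _ (mul_mem hp hq), ← hπ x (0, true) hx p hp, ← hπ x (0, true) hx q hq,
      hζ0 _ (mul_mem hp hq), hζ0 p hp, hζ0 q hq]
    exact hmul1 x (0, true) hx p hp q hq
  have hζmul : ∀ x : S, ∀ p ∈ C.Z (0, true), ∀ q ∈ C.Z (0, true),
      ζ0 x (p * q) = ζ0 x p * ζ0 x q := by
    intro x p hp q hq
    by_cases hx : x.1 = 0
    · have hx1 : x.1 ≠ (1, true).1 := by rw [hx]; exact n01
      rw [← hπ x (1, true) hx1 _ (mul_mem hp hq), ← hπ x (1, true) hx1 p hp, ← hπ x (1, true) hx1 q hq,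
        hζmul0 (1, true) n10 p hp q hq]
      exact hmul1 x (1, true) hx1 _ (hζ _ p hp) _ (hζ _ q hq)
    · exact hζmul0 x hx p hp q hq
  have hζinj : ∀ x : S, ∀ p ∈ C.Z (0, true), ∀ q ∈ C.Z (0, true), ζ0 x p = ζ0 x q → p = q := by
    intro x p hp q hq h
    by_cases hx : x.1 = 0
    · have hx1 : x.1 ≠ (1, true).1 := by rw [hx]; exact n01
      have h1 : ζ0 (1, true) p = ζ0 (1, true) q := by
        rw [← hπ (1, true) x (Ne.symm hx1) p hp, ← hπ (1, true) x (Ne.symm hx1) q hq, h]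
      rw [← hπ (1, true) (0, true) n10 p hp, ← hπ (1, true) (0, true) n10 q hq] at h1
      have h2 := P1_inj L (x := (1, true)) (y := (0, true)) n10 (hζ _ p hp) (hζ _ q hq) h1
      rwa [hζ0 p hp, hζ0 q hq] at h2
    · rw [← hπ x (0, true) hx p hp, ← hπ x (0, true) hx q hq] at h
      have h2 := P1_inj L (x := x) (y := (0, true)) hx (hζ _ p hp) (hζ _ q hq) h
      rwa [hζ0 p hp, hζ0 q hq] at h2
  let ζ : S → C.Z (0, true) →* G := fun x =>
    { toFun := fun p => ζ0 x p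
      map_one' := by
        have := hζmul x 1 (one_mem _) 1 (one_mem _)
        rw [mul_one] at this
        exact left_eq_mul.1 this
      map_mul' := fun p q => hζmul x p p.2 q q.2 }
  have ζmem : ∀ x p, ζ x p ∈ C.Z x := fun x p => hζ x p p.2
  have ζinj : ∀ x, Function.Injective (ζ x) := fun x p q h => Subtype.ext (hζinj x p p.2 q q.2 h)
  have ζsurj : ∀ x, ∀ u ∈ C.Z x, ∃ p, ζ x p = u := fun x u hu => by
    obtain ⟨p, hp, h⟩ := hsurj x u hu
    exact ⟨⟨p, hp⟩, h⟩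
  have ζπ : ∀ x y : S, x.1 ≠ y.1 → ∀ p, P L x y 1 (ζ y p) = ζ x p := fun x y hxy p => hπ x y hxy p p.2
  -- scaling
  have hW1 : ∀ x y z : S, x.1 ≠ y.1 → x.1 ≠ z.1 → y.1 ≠ z.1 → ∀ a p,
      P L x y a (ζ y p) = P L x z a (ζ z p) := by
    intro x y z hxy hxz hyz a p
    rw [← ζπ z y (Ne.symm hyz) p, P_P L hxy hxz hyz a 1 (ζmem y p), mul_one]
  have hW : ∀ x y y' : S, x.1 ≠ y.1 → x.1 ≠ y'.1 → ∀ a p, P L x y a (ζ y p) = P L x y' a (ζ y' p) := by
    intro x y y' hxy hxy' a p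
    by_cases hyy : y.1 = y'.1
    · obtain ⟨z, hzx, hzy⟩ := exists_third x y
      rw [hW1 x y z hxy (Ne.symm hzx) (Ne.symm hzy), hW1 x y' z hxy' (Ne.symm hzx) (hyy ▸ Ne.symm hzy)]
    · exact hW1 x y y' hxy hxy' hyy a p
  let α : F → C.Z (0, true) → C.Z (0, true) := fun a p =>
    ⟨P L (0, true) (1, true) a (ζ (1, true) p), P_mem L n01 a (ζmem _ p)⟩
  have hα0 : ∀ x y : S, x.1 ≠ 0 → x.1 ≠ y.1 → ∀ a p, P L x y a (ζ y p) = ζ x (α a p) := by
    intro x y hx hxy a p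
    obtain ⟨z, hzx, hz0⟩ := exists_third x (0, true)
    rw [hW x y z hxy (Ne.symm hzx), ← ζπ x (0, true) hx (α a p)]
    have e1 : ζ (0, true) (α a p) = P L (0, true) z a (ζ z p) := by
      change ζ0 (0, true) (α a p) = _
      rw [hζ0 _ (α a p).2]
      exact hW (0, true) (1, true) z n01 (Ne.symm hz0) a p
    rw [e1, P_P L (x := x) (y := z) (z := (0, true)) (Ne.symm hzx) hx hz0 1 a (ζmem z p), one_mul]
  have hα : ∀ x y : S, x.1 ≠ y.1 → ∀ a p, P L x y a (ζ y p) = ζ x (α a p) := by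
    intro x y hxy a p
    by_cases hx : x.1 = 0
    · have hx1 : x.1 ≠ (1, true).1 := by rw [hx]; exact n01
      have hx2 : x.1 ≠ (2, true).1 := by rw [hx]; exact n02
      rw [hW x y (2, true) hxy hx2, ← ζπ x (1, true) hx1 (α a p), ← hα0 (1, true) (2, true) n10 n12 a p,
        P_P L (x := x) (y := (2, true)) (z := (1, true)) hx2 hx1 n21 1 a (ζmem _ p), one_mul]
    · exact hα0 x y hx hxy a p
  -- the form `c`
  let qf : C.Z (0, true) → F := fun p => Q L (0, true) (1, true) 1 (ζ (1, true) p) * (g L (1, true))⁻¹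
  have hqf1 : ∀ x y z : S, x.1 ≠ z.1 → y.1 ≠ z.1 → ∀ p,
      Q L x z 1 (ζ z p) = g L z * (g L y)⁻¹ * Q L z y 1 (ζ y p) := by
    intro x y z hxz hyz p
    rw [← ζπ z y (Ne.symm hyz) p, Q_P L hyz x hxz 1 (ζmem y p), map_one, mul_one, mul_one]
  have hqf : ∀ x y : S, x.1 ≠ y.1 → ∀ p, Q L x y 1 (ζ y p) = g L y * qf p := by
    have h1 : ∀ x y : S, x.1 ≠ y.1 → y.1 ≠ 1 → ∀ p, Q L x y 1 (ζ y p) = g L y * qf p := by
      intro x y hxy hy p
      rw [hqf1 x (1, true) y hxy (Ne.symm hy) p,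
        Q_eq L (x := y) (x' := (0, true)) (y := (1, true)) hy n01 (ζmem _ p)]
      change _ = g L y * (_ * _)
      ring
    intro x y hxy p
    by_cases hy : y.1 = 1
    · have hy0 : (0, true).1 ≠ y.1 := by rw [hy]; exact n01
      rw [hqf1 x (0, true) y hxy hy0 p, h1 y (0, true) (Ne.symm hy0) n01 p]
      have := g_ne L (0, true)
      field_simp
    · exact h1 x y hxy hy p
  have hqfα : ∀ a p, qf (α a p) = a * L.σ a * qf p := by
    intro a p
    have h1 := Q_P L (y := (1, true)) (z := (0, true)) n10 (1, true) n10 a (ζmem (1, true) p)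
    rw [hα (0, true) (1, true) n01 a p, hqf (1, true) (0, true) n10, hqf (0, true) (1, true) n01] at h1
    have := g_ne L (0, true)
    have := g_ne L (1, true)
    field_simp at h1
    linear_combination h1
  -- the form `h`
  let K : S → C.Z (0, true) → C.Z (0, true) → F := fun y p q =>
    (g L y)⁻¹ * H L (if y.1 = 0 then (1, true) else (0, true)) y
      (ζ (if y.1 = 0 then (1, true) else (0, true)) p) (ζ y q)
  have hH1 : ∀ x y z : S, x.1 ≠ y.1 → x.1 ≠ z.1 → y.1 ≠ z.1 → ∀ a p q,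
      H L z y (ζ z (α a p)) (ζ y q) = a * H L x y (ζ x p) (ζ y q) := by
    intro x y z hxy hxz hyz a p q
    rw [← hα z x (Ne.symm hxz) a p, H_P L hxy hxz hyz a (ζmem x p) (ζmem y q)]
  have hα1 : ∀ p, α 1 p = p := by
    intro p
    apply ζinj (0, true)
    rw [← hα (0, true) (1, true) n01 1 p, ζπ (0, true) (1, true) n01 p]
  have hH2 : ∀ x x' y : S, x.1 ≠ y.1 → x'.1 ≠ y.1 → ∀ p q,
      H L x y (ζ x p) (ζ y q) = H L x' y (ζ x' p) (ζ y q) := by
    have h1 : ∀ x y z : S, x.1 ≠ y.1 → x.1 ≠ z.1 → y.1 ≠ z.1 → ∀ p q,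
        H L z y (ζ z p) (ζ y q) = H L x y (ζ x p) (ζ y q) := by
      intro x y z hxy hxz hyz p q
      have := hH1 x y z hxy hxz hyz 1 p q
      rwa [hα1, one_mul] at this
    intro x x' y hxy hxy' p q
    by_cases hxx : x.1 = x'.1
    · obtain ⟨z, hzx, hzy⟩ := exists_third x y
      rw [← h1 x y z hxy (Ne.symm hzx) (Ne.symm hzy), ← h1 x' y z hxy' (hxx ▸ Ne.symm hzx) (Ne.symm hzy)]
    · rw [← h1 x y x' hxy hxx (Ne.symm hxy')]
  have hK : ∀ x y : S, x.1 ≠ y.1 → ∀ p q, H L x y (ζ x p) (ζ y q) = g L y * K y p q := by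
    intro x y hxy p q
    have := g_ne L y
    change _ = g L y * ((g L y)⁻¹ * _)
    rw [mul_inv_cancel_left₀ this]
    apply hH2 _ _ _ hxy
    split_ifs with h
    · rw [h]; exact n10
    · exact Ne.symm h
  have hKswap : ∀ x y : S, x.1 ≠ y.1 → ∀ p q, K x q p = L.ε⁻¹ * L.σ (K y p q) := by
    intro x y hxy p q
    have h1 := H_swap L hxy (ζmem x p) (ζmem y q)
    rw [hK y x (Ne.symm hxy), hK x y hxy, map_mul, σg] at h1
    have := g_ne L x
    have := g_ne L (op y)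
    have := ε_ne L
    field_simp at h1 ⊢
    linear_combination h1
  have hKeq : ∀ x y : S, ∀ p q, K x p q = K y p q := by
    intro x y p q
    obtain ⟨z, hzx, hzy⟩ := exists_third x y
    rw [hKswap x z (Ne.symm hzx), hKswap y z (Ne.symm hzy)]
  let k : C.Z (0, true) → C.Z (0, true) → F := K (0, true)
  have hk : ∀ x y : S, x.1 ≠ y.1 → ∀ p q, H L x y (ζ x p) (ζ y q) = g L y * k p q := by
    intro x y hxy p q
    rw [hK x y hxy, hKeq y (0, true)]
  have kswap : ∀ p q, k q p = L.ε⁻¹ * L.σ (k p q) := by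
    intro p q
    have := hKswap (0, true) (1, true) n01 p q
    rwa [hKeq (1, true) (0, true)] at this
  have kα : ∀ a p q, k (α a p) q = a * k p q := by
    intro a p q
    have h1 := hH1 (0, true) (1, true) (2, true) n01 n02 n12 a p q
    rw [hk _ _ n21, hk _ _ n01] at h1
    have := g_ne L (1, true)
    have h2 : g L (1, true) * k (α a p) q = g L (1, true) * (a * k p q) := by linear_combination h1
    exact mul_left_cancel₀ this h2
  have kmul : ∀ p p' q, k (p * p') q = k p q + k p' q := by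
    intro p p' q
    have h1 := H_mul L (x := (0, true)) (y := (1, true)) n01 (ζmem _ p) (ζmem _ p') (ζmem _ q)
    rw [← map_mul, hk _ _ n01, hk _ _ n01, hk _ _ n01] at h1
    have := g_ne L (1, true)
    have h2 : g L (1, true) * k (p * p') q = g L (1, true) * (k p q + k p' q) := by
      linear_combination h1
    exact mul_left_cancel₀ this h2
  -- the trace elements
  let φ : F → C.Z (0, true) := fun u => ⟨Φ L (0, true) u, Φ_mem L (0, true) u⟩
  have hφ0 : ∀ u, ζ (0, true) (φ u) = Φ L (0, true) u := fun u => hζ0 _ (φ u).2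
  have hΦπ : ∀ z x : S, z.1 ≠ x.1 → ∀ u, P L z x 1 (Φ L x u) = Φ L z u := by
    intro z x hzx u
    rw [(PQ_Φ L hzx 1 u).1, map_one, one_mul, one_mul]
  have hφ1 : ∀ x : S, x.1 ≠ 0 → ∀ u, ζ x (φ u) = Φ L x u := by
    intro x hx u
    rw [← ζπ x (0, true) hx, hφ0, hΦπ x (0, true) hx]
  have hφ : ∀ x u, ζ x (φ u) = Φ L x u := by
    intro x u
    by_cases hx : x.1 = 0
    · have hx1 : x.1 ≠ (1, true).1 := by rw [hx]; exact n01
      rw [← ζπ x (1, true) hx1, hφ1 (1, true) n10, hΦπ x (1, true) hx1]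
    · exact hφ1 x hx u
  have qfφ : ∀ u, qf (φ u) = L.ε⁻¹ * L.σ u - u := by
    intro u
    have h1 := (PQ_Φ L (x := (1, true)) (z := (0, true)) n01 1 u).2
    rw [← hφ, hqf (0, true) (1, true) n01] at h1
    have := g_ne L (1, true)
    have h2 : g L (1, true) * qf (φ u) = g L (1, true) * (L.ε⁻¹ * L.σ u - u) := by
      linear_combination h1
    exact mul_left_cancel₀ this h2
  have kφ : ∀ u p, k (φ u) p = 0 := by
    intro u p
    have h1 := Φ_comm L (x := (0, true)) (y := (1, true)) n01 u (ζmem (1, true) p)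
    rw [← hφ, H_spec L n01 (ζmem _ _) (ζmem _ _), eq_one_iff L (by exact n01), hk _ _ n01] at h1
    exact (mul_eq_zero.1 h1).resolve_left (g_ne L _)
  -- the law for `qf`
  have qfmul : ∀ p p', qf (p * p') = qf p + qf p' - k p' p := by
    intro p p'
    have h1 := (P_mul L (x := (0, true)) (y := (1, true)) n01 1 (ζmem _ p) (ζmem _ p')).2
    rw [← map_mul, hqf _ _ n01, hqf _ _ n01, hqf _ _ n01, ζπ _ _ n01, hk _ _ n01] at h1
    have := g_ne L (1, true)
    have h2 : g L (1, true) * qf (p * p') = g L (1, true) * (qf p + qf p' - k p' p) := by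
      linear_combination h1
    exact mul_left_cancel₀ this h2
  have ε0 := ε_ne L
  have hxz : ∀ x y : S, x.1 ≠ y.1 → ∀ a p, cg (L.E x y a) (ζ y p) =
      ζ x (α a p) * L.E x (op y) (a * g L y * qf p) * ζ y p := by
    intro x y hxy a p
    rw [PQ L hxy a (ζmem y p), hα x y hxy, Q_smul L hxy a (ζmem y p), hqf x y hxy]
    congr 3
    ring
  have hxx : ∀ x y : S, x.1 ≠ y.1 → ∀ a b, ⁅L.E x y a, L.E x (op y) b⁆ =
      (ζ x (φ ((g L y)⁻¹ * L.σ a * b)))⁻¹ := by
    intro x y hxy a b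
    rw [hφ, ← B_eq L hxy, B, commutatorElement_inv]
  -- the hermitian relation
  have hherm : ∀ p, p * (φ (qf p) * α (-1) p) = 1 := by
    intro p
    have h1 := hxz (0, true) (1, true) n01 1 p
    have h2 : cg (L.E (0, true) (1, true) (-1)) (cg (L.E (0, true) (1, true) 1) (ζ (1, true) p)) =
        ζ (1, true) p := by
      rw [neg L n01, cg_inv_cg]
    have h3 := hxx (0, true) (1, true) n01 (-1) (g L (1, true) * qf p)
    have e1 : (g L (1, true))⁻¹ * L.σ (-1) * (g L (1, true) * qf p) = -qf p := by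
      have := g_ne L (1, true)
      rw [map_neg, map_one]; field_simp
    rw [e1] at h3
    rw [h1, cg_mul, cg_mul, c_z45 L (x := (0, true)) (y := (1, true)) n01 _ (ζmem _ _), hα1, one_mul,
      cg_eq _ (L.E (0, true) (op (1, true)) (g L (1, true) * qf p)), h3, hxz (0, true) (1, true) n01 (-1) p] at h2
    have h4 : L.E (0, true) (op (1, true)) (-1 * g L (1, true) * qf p) =
        (L.E (0, true) (op (1, true)) (g L (1, true) * qf p))⁻¹ := by
      rw [← neg L (by exact n01)]; congr 1; ring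
    rw [h4] at h2
    have h5 : L.E (0, true) (op (1, true)) (g L (1, true) * qf p) * ζ (0, true) (α (-1) p) =
        ζ (0, true) (α (-1) p) * L.E (0, true) (op (1, true)) (g L (1, true) * qf p) :=
      comm_of_cg (c_z45 L (x := (0, true)) (y := op (1, true)) n01 _ (ζmem _ _))
    have h6 : ζ (0, true) p * (ζ (0, true) (φ (-qf p)))⁻¹ * ζ (0, true) (α (-1) p) = 1 := by
      have e : ζ (0, true) p * (ζ (0, true) (φ (-qf p)))⁻¹ * ζ (0, true) (α (-1) p) =
          ζ (0, true) p * ((ζ (0, true) (φ (-qf p)))⁻¹ *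
            L.E (0, true) (op (1, true)) (g L (1, true) * qf p)) *
          (ζ (0, true) (α (-1) p) *
            (L.E (0, true) (op (1, true)) (g L (1, true) * qf p))⁻¹ * ζ (1, true) p) *
            (ζ (1, true) p)⁻¹ := by
        have h7 : L.E (0, true) (op (1, true)) (g L (1, true) * qf p) *
            (ζ (0, true) (α (-1) p) *
            (L.E (0, true) (op (1, true)) (g L (1, true) * qf p))⁻¹) = ζ (0, true) (α (-1) p) := by
          rw [← mul_assoc, h5, mul_inv_cancel_right]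
        calc ζ (0, true) p * (ζ (0, true) (φ (-qf p)))⁻¹ * ζ (0, true) (α (-1) p)
            = ζ (0, true) p * (ζ (0, true) (φ (-qf p)))⁻¹ *
              (L.E (0, true) (op (1, true)) (g L (1, true) * qf p) *
            (ζ (0, true) (α (-1) p) *
            (L.E (0, true) (op (1, true)) (g L (1, true) * qf p))⁻¹)) := by rw [h7]
          _ = _ := by group
      rw [e, h2, mul_inv_cancel]
    have h8 : (ζ (0, true) (φ (-qf p)))⁻¹ = ζ (0, true) (φ (qf p)) := by
      rw [hφ, hφ]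
      have h9 : Φ L (0, true) (-qf p) = B L (0, true) (1, true) (-(g L (1, true) * qf p)) 1 := by
        rw [Φ_eq L (x := (0, true)) (y := (1, true)) n01]; congr 1; ring
      have h10 : Φ L (0, true) (qf p) = B L (0, true) (1, true) (g L (1, true) * qf p) 1 := by
        rw [Φ_eq L (x := (0, true)) (y := (1, true)) n01]
      rw [h9, h10]
      set s := g L (1, true) * qf p
      have hb := B_mem L (x := (0, true)) (y := (1, true)) n01 s 1
      have h11 : cg (L.E (0, true) (op (1, true)) (-s)) (B L (0, true) (1, true) s 1) =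
          B L (0, true) (1, true) s 1 :=
        c_z45 L (x := (0, true)) (y := op (1, true)) n01 _ hb
      have h12 : B L (0, true) (1, true) (-s + s) 1 =
          cg (L.E (0, true) (op (1, true)) (-s)) (B L (0, true) (1, true) s 1) *
            B L (0, true) (1, true) (-s) 1 := by
        unfold B
        rw [L.add _ _ (by exact n01), comm_mul_left]
      rw [h11, neg_add_cancel] at h12
      have h13 : B L (0, true) (1, true) 0 1 = 1 := by
        unfold B
        rw [zero L (by exact n01)]; simp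
      rw [h13] at h12
      exact inv_eq_of_mul_eq_one_left h12.symm
    rw [h8, mul_assoc, ← map_mul, ← map_mul] at h6
    apply ζinj (0, true)
    rw [h6, map_one]
  let c : C.Z (0, true) → F := fun p => -L.σ (qf p)
  have hqc : ∀ p, qf p = -L.σ (c p) := by
    intro p
    change _ = -L.σ (-L.σ (qf p))
    rw [map_neg, L.σσ, neg_neg]
  refine ⟨{ ζ := ζ
            sys := { σ := L.σ, σσ := L.σσ, ε := L.ε, ε_mul := L.ε_mul
                     c := c
                     h := fun p q => -L.σ (k p q)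
                     smul := fun a p => α (L.σ a) p
                     tr := fun m => φ (-(L.ε⁻¹ * m))
                     h_mul := ?_, h_swap := ?_, c_mul := ?_, c_herm := ?_, h_smul := ?_, c_smul := ?_,
                     h_tr := ?_, c_tr := ?_, eq_one := ?_ }
            hσ := rfl
            hε := rfl
            mem := ζmem
            surj := ζsurj
            inj := ζinj
            zero := fun p => hζ0 p p.2
            xz := ?_
            xx := ?_
            zz := ?_ }⟩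
  · intro p q r
    change -L.σ (k (p * q) r) = -L.σ (k p r) + -L.σ (k q r)
    rw [kmul, map_add]; ring
  · intro p q
    change -L.σ (k q p) = L.ε * L.σ (-L.σ (k p q))
    rw [kswap, map_mul, map_neg, L.σσ, map_inv₀, σε, inv_inv]; ring
  · intro p q
    change -L.σ (qf (p * q)) = -L.σ (qf p) + -L.σ (qf q) - -L.σ (k q p)
    rw [qfmul, map_sub, map_add]; ring
  · intro p
    change -L.σ (qf p) + L.ε * L.σ (-L.σ (qf p)) = - -L.σ (k p p)
    have h1 := congrArg qf (hherm p)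
    rw [qfmul, qfmul, hqfα, qfφ] at h1
    have h2 : qf 1 = 0 := by
      have := qfmul 1 1
      have h3 := kmul 1 1 1
      rw [mul_one] at this h3
      linear_combination -this - h3
    have h4 : ∀ p q, k (p * q) p = k p p + k q p := fun p q => kmul p q p
    rw [h2, kα, map_neg, map_one] at h1
    have h5 : k (φ (qf p) * α (-1) p) p = -k p p := by
      rw [kmul, kφ, kα]; ring
    have h6 : k (α (-1) p) (φ (qf p)) = 0 := by
      rw [kswap, kφ, map_zero, mul_zero]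
    rw [h5] at h1
    have h7 : k p (φ (qf p)) = 0 := by rw [kswap, kφ, map_zero, mul_zero]
    rw [h7] at h1
    have h8 : L.σ (qf p + L.ε⁻¹ * L.σ (qf p) + k p p) = 0 := by
      rw [← map_zero L.σ]
      congr 1
      linear_combination h1
    rw [map_add, map_add, map_mul L.σ L.ε⁻¹ (L.σ (qf p)), L.σσ, map_inv₀, σε, inv_inv] at h8
    rw [map_neg, L.σσ]
    linear_combination -h8
  · intro a p q
    change -L.σ (k (α (L.σ a) p) q) = a * -L.σ (k p q)
    rw [kα, map_mul, L.σσ]; ring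
  · intro a p
    change -L.σ (qf (α (L.σ a) p)) = a * L.σ a * -L.σ (qf p)
    rw [hqfα, map_mul, map_mul, L.σσ]; ring
  · intro m p
    change -L.σ (k (φ _) p) = 0
    rw [kφ, map_zero, neg_zero]
  · intro m
    change -L.σ (qf (φ (-(L.ε⁻¹ * m)))) = m - L.ε * L.σ m
    rw [qfφ]
    simp only [map_sub, map_mul, map_neg, L.σσ, map_inv₀, σε, inv_inv]
    field_simp
    ring
  · intro p hp
    change -L.σ (qf p) = 0 at hp
    have h1 : qf p = 0 := by
      have := neg_eq_zero.1 hp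
      exact (map_eq_zero_iff L.σ L.σ.injective).1 this
    by_contra hne
    have h2 : ζ (1, true) p ≠ 1 := fun e => hne (ζinj (1, true) (by rw [e, map_one]))
    apply Q_ne L (x := (0, true)) (y := (1, true)) n01 (ζmem _ p) h2
    rw [hqf _ _ n01, h1, mul_zero]
  · intro x y hxy a p
    change _ = ζ x (α (L.σ (L.σ a)) p) * L.E x (op y) (-(a * g L y * L.σ (c p))) * ζ y p
    rw [L.σσ, hxz x y hxy a p, hqc]
    congr 3
    ring
  · intro x y hxy a b
    change _ = ζ x (φ (-(L.ε⁻¹ * (L.ε * (g L y)⁻¹ * b * L.σ a))))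
    rw [hxx x y hxy a b]
    have h1 : (-(L.ε⁻¹ * (L.ε * (g L y)⁻¹ * b * L.σ a))) = -((g L y)⁻¹ * L.σ a * b) := by
      field_simp
    rw [h1]
    -- `Φ (-u) = (Φ u)⁻¹`
    rw [hφ, hφ]
    generalize (g L y)⁻¹ * L.σ a * b = u
    rw [Φ_eq L hxy, Φ_eq L hxy]
    have e : g L y * -u = -(g L y * u) := by ring
    rw [e]
    generalize g L y * u = s
    have hb := B_mem L hxy s 1
    have h11 : cg (L.E x (op y) (-s)) (B L x y s 1) = B L x y s 1 :=
      c_z45 L (x := x) (y := op y) (by simpa) _ hb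
    have h12 : B L x y (-s + s) 1 = cg (L.E x (op y) (-s)) (B L x y s 1) * B L x y (-s) 1 := by
      unfold B
      rw [L.add _ _ (by simpa), comm_mul_left]
    rw [h11, neg_add_cancel] at h12
    have h13 : B L x y 0 1 = 1 := by
      unfold B
      rw [zero L (by simpa)]; simp
    rw [h13] at h12
    exact inv_eq_of_mul_eq_one_right h12.symm
  · intro x y hxy p q
    change _ = L.E x (op y) (-(g L y * L.ε⁻¹ * -L.σ (k q p)))
    rw [H_spec L hxy (ζmem x p) (ζmem y q), hk x y hxy, kswap q p]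
    congr 1
    ring

end Cfsg.Agent.TitsThree.C3Sys
end

-- part: TitsThree/C3Out
section
/-!
# Output of the `C₃` coordinatisation (S1143)

`toSgn` : the signed relations `C3Sgn.Sgn` for a group with root groups of type `C₃`.
`exists_sgn` : the same, starting from coordinates of the root groups `X (i,true) (j,false)`.
-/

set_option autoImplicit false

namespace Cfsg.Agent.TitsThree.C3Out

open scoped commutatorElement
open Cfsg.Agent.AGraded Cfsg.Agent.TitsThree.C3Grp Cfsg.Agent.TitsThree.C3Short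
  Cfsg.Agent.TitsThree.C3Sys Cfsg.Agent.TitsThree.C3Sgn

variable {G : Type*} [Group G] {C : Grp G} {F : Type*} [Field F] {L : Long C F}

theorem ε_g (L : Long C F) (y : S) : L.ε * (g L (op y))⁻¹ = g L y := by
  obtain ⟨i, b⟩ := y
  have := ε_ne L
  cases b
  · simp [g, ε_ne L]
  · simp [g]

/-- The signed relations. -/
def toSgn (sh : Short L) : Sgn sh.sys G where
  E := L.E
  Z := fun x p => sh.ζ x p
  E_add := L.add
  E_comm x y z hxy hxz hyz s t := comm_of_cg (c_xx L hxy hxz hyz s t)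
  E_E := L.br
  E_swap x y hxy t := by rw [sh.hσ, sh.hε]; exact L.swap x y hxy t
  Z_mul x p q := map_mul _ _ _
  Z_E x y hxy p t := (comm_of_cg (c_z45 L hxy t (sh.mem x p))).symm
  Z_E3 x y z hxy hxz hyz p t := (comm_of_cg (c_z90 L hxy hxz hyz t (sh.mem x p))).symm
  E_same x y hxy a b := by
    have h1 := sh.xx x (op y) (by simpa) a b
    rw [op_op] at h1
    rw [sh.hσ, sh.hε]
    have e : L.ε * (g L (op y))⁻¹ * b * L.σ a = L.σ a * b * gg L.ε y := by
      rw [ε_g]; change gg L.ε y * b * L.σ a = _; ring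
    rw [e] at h1
    rw [← h1, commutatorElement_def]; group
  E_Z x y hxy a p := by
    have h1 := sh.xz x y hxy a p
    rw [sh.hσ, sh.hε]
    unfold cg at h1
    rw [mul_inv_eq_iff_eq_mul] at h1
    rw [h1]
    change _ = _ * (L.E x (op y) (-(a * g L y * L.σ (sh.sys.c p))) * _)
    group
  Z_Z x y hxy p q := by
    have h1 := sh.zz x y hxy p q
    rw [sh.hε]
    change _ = L.E x (op y) (-(g L y * L.ε⁻¹ * sh.sys.h q p)) * _
    rw [← h1, commutatorElement_def]; group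

/-- Everything at once: from coordinates `x` of the root groups `X (i,true) (j,false)`. -/
theorem exists_sgn {x : Fin 3 → Fin 3 → F → G} (hx : Crd C x) :
    ∃ (P : PQAbs.Sys F (C.Z (0, true))) (M : Sgn P G),
      (∀ i j : Fin 3, i ≠ j → ∀ t, M.E (i, true) (j, true) t = x i j t) ∧
      (∀ a b : S, a.1 ≠ b.1 → Set.range (M.E a b) = (C.X a (op b) : Set G)) ∧
      (∀ a b : S, a.1 ≠ b.1 → Function.Injective (M.E a b)) ∧
      (∀ a, Set.range (M.Z a) = (C.Z a : Set G)) ∧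
      (∀ a, Function.Injective (M.Z a)) ∧
      (∀ p, M.Z (0, true) p = p) ∧ (∃ p, P.c p ≠ 0) := by
  obtain ⟨L, hL⟩ := exists_long hx
  obtain ⟨sh⟩ := exists_short L
  refine ⟨sh.sys, toSgn sh, hL, ?_, L.inj, ?_, sh.inj, sh.zero, ?_⟩
  · intro a b hab
    ext g
    exact ⟨by rintro ⟨t, rfl⟩; exact L.mem a b hab t, fun hg => L.surj a b hab g hg⟩
  · intro a
    ext g
    exact ⟨by rintro ⟨p, rfl⟩; exact sh.mem a p, fun hg => sh.surj a g hg⟩
  · obtain ⟨p, hp⟩ := (Subgroup.ne_bot_iff_exists_ne_one).1 (C.Z_ne (0, true))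
    exact ⟨p, fun h => hp (sh.sys.eq_one p h)⟩

end Cfsg.Agent.TitsThree.C3Out
end

-- part: Tits/RGBond
section
/-!
S1143, (G2)(c): a triple of nodes `n 0 - n 1 = n 2` of type `C₃` in a system of root groups: the double bond
`n 1 = n 2` is helper284's `Bond` over one of the five standard data (`bond_std`).
-/

set_option autoImplicit false
set_option linter.unusedSectionVars false

namespace Cfsg.Agent.Tits.RGBond

open CoxeterSystem Cfsg.Agent.ChevalleyStructure.CoxeterGeom Cfsg.Agent.Tits.Roots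
open Cfsg.Agent.Tits.C3Roots Cfsg.Agent.Tits.RGSys Cfsg.Agent.Tits.RGC3
open Cfsg.Agent.TitsThree Cfsg.Agent.TitsThree.B2Pkg Cfsg.Agent.TitsThree.GSideMou
open Cfsg.Agent.TitsThree.StdData
open scoped commutatorElement

variable {I W : Type*} [Fintype I] [DecidableEq I] [Group W] {M : CoxeterMatrix I}
  {cs : CoxeterSystem M W} {A : I → I → ℤ} {h : IsCartan M A} {Y : Type*} [Group Y]
  {n : Fin 3 → I} (hn : Tri A n) {X : (I → ℤ) → Subgroup Y} {St : W → Subgroup Y}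
  (hX : RG cs h X St) (h01 : M (n 0) (n 1) = 3) (h12 : M (n 1) (n 2) = 4) (h02 : M (n 0) (n 2) = 2)

/-- From the B2 package with the right ranges to `Bond`. -/
theorem bond_of_b2 {F : Type*} [Field F] {V : Type*} [AddCommGroup V] [Module F V]
    {D : PQDatum F V} {x : Fin 3 → Fin 3 → F → Y}
    (hx : C3Grp.Crd (grp hn hX h01 h12 h02) x) (m : B2Maps D Y) (hm : B2Rel m)
    (ex : m.x = x 1 2) (ex' : m.x' = x 2 1)
    (r3 : Set.range m.z₂ = ((grp hn hX h01 h12 h02).Z (2, true) : Set Y))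
    (r4 : Set.range m.z₂' = ((grp hn hX h01 h12 h02).Z (2, false) : Set Y))
    (hy : ∀ b, m.y b ∈ (grp hn hX h01 h12 h02).X (1, true) (2, true)) :
    Bond D (X (sr (n 1)) : Set Y) (X (-sr (n 1))) (X (sr (n 2))) (X (-sr (n 2))) (St 1) := by
  have h12' : (1 : Fin 3) ≠ 2 := by decide
  have h21' : (2 : Fin 3) ≠ 1 := by decide
  refine ⟨m, hm, ?_, ?_, ?_, ?_, ?_, fun b => X12_le hn hX h01 h12 h02 (hy b)⟩
  · rw [ex, ex']
    exact GlueA.sl2Par hx.stein (fun a b hab => hx.inj a b hab) h12'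
  · rw [ex]
    ext g
    constructor
    · rintro ⟨t, rfl⟩
      have := hx.mem 1 2 h12' t
      rwa [grp_X, b_sr1] at this
    · intro hg
      refine hx.surj 1 2 h12' g ?_
      rw [grp_X, b_sr1]
      exact hg
  · rw [ex']
    ext g
    constructor
    · rintro ⟨t, rfl⟩
      have := hx.mem 2 1 h21' t
      rwa [grp_X, b_nsr1] at this
    · intro hg
      refine hx.surj 2 1 h21' g ?_
      rw [grp_X, b_nsr1]
      exact hg
  · rw [r3, grp_Z, b_sr2]
  · rw [r4, grp_Z, b_nsr2]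

/-- The final disjunction over the standard data. -/
def StdBond {Y : Type*} [Group Y] (a b c d e : Set Y) : Prop :=
  ∃ (F : Type) (_ : Field F) (_ : Finite F), Bond (stdSp F) a b c d e ∨
    ((2 : F) ≠ 0 ∧ Bond (stdO1 F) a b c d e) ∨ (∃ x y hxy, Bond (stdO2 F x y hxy) a b c d e) ∨
    (∃ τ hτ, (∃ x, τ x ≠ x) ∧ Bond (stdU0 F τ hτ) a b c d e) ∨
    (∃ τ hτ, (∃ x, τ x ≠ x) ∧ Bond (stdU1 F τ hτ) a b c d e)

include hn hX h01 h12 h02 in
/-- **(G2)(c)** -/
theorem bond_std [Finite Y] : StdBond (X (sr (n 1)) : Set Y) (X (-sr (n 1))) (X (sr (n 2)))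
    (X (-sr (n 2))) (St 1) := by
  obtain ⟨F, i1, i2, x, hx⟩ := exists_crd hn hX h01 h12 h02
  obtain ⟨P, M, hE, hrE, hiE, hrZ, hiZ, -, hne⟩ := C3Out.exists_sgn hx
  have hB : ∃ m : B2Maps P.datum Y, B2Rel m ∧ m.x = M.E (1, true) (2, true) ∧
      m.x' = M.E (2, true) (1, true) ∧ Set.range m.z₂ = Set.range (M.Z (2, true)) ∧
      Set.range m.z₂' = Set.range (M.Z (2, false)) ∧
      ∀ b, m.y b ∈ Set.range (M.E (1, true) (2, false)) :=
    ⟨C3B2.maps M 1 2, C3B2.b2Rel M (by decide), rfl, rfl, C3B2.range_z₂ M 1 2, C3B2.range_z₂' M 1 2,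
      fun b => ⟨b, rfl⟩⟩
  obtain ⟨m, hm, ex, ex', r3, r4, hy⟩ := hB
  have hbond := bond_of_b2 hn hX h01 h12 h02 hx m hm (by rw [ex]; exact funext (hE 1 2 (by decide)))
    (by rw [ex']; exact funext (hE 2 1 (by decide))) (by rw [r3, hrZ]) (by rw [r4, hrZ])
    (fun b => by
      have := hy b
      rw [hrE (1, true) (2, false) (by decide)] at this
      exact this)
  have : Finite P.V := by
    have : Function.Surjective (P.cl) := fun v => P.cl_surj v
    exact Finite.of_surjective _ this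
  have : Finite F := Finite.of_fintype F
  have h0 : ∀ c, P.datum.ok 0 c → ∃ m, c = m - P.datum.ε * P.datum.σ m := fun c hc =>
    P.datum_ok_zero hc
  have hs : ∀ w, ∃ c, P.datum.ok w c := P.datum_surj
  have hne' : ∃ w c, P.datum.ok w c ∧ c ≠ 0 := by
    obtain ⟨p, hp⟩ := hne
    exact ⟨_, _, (P.equiv p).ok, by rw [P.equiv_c]; exact hp⟩
  rcases GCNTransport.bond_std h0 hs hne' hbond with h | h | h | ⟨h1, h2⟩ | ⟨h1, h2⟩
  · exact ⟨F, i1, inferInstance, Or.inl h⟩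
  · exact ⟨F, i1, inferInstance, Or.inr (Or.inl h)⟩
  · exact ⟨F, i1, inferInstance, Or.inr (Or.inr (Or.inl h))⟩
  · exact ⟨F, i1, inferInstance, Or.inr (Or.inr (Or.inr (Or.inl ⟨_, _, h1, h2⟩)))⟩
  · exact ⟨F, i1, inferInstance, Or.inr (Or.inr (Or.inr (Or.inr ⟨_, _, h1, h2⟩)))⟩

/-! ### In the group `G'` of an apartment -/

section Out

open Cfsg.Agent.Tits.Core Cfsg.Agent.Tits.Core.Bldg Cfsg.Agent.Tits.MouOut Cfsg.Agent.Tits.MouAll
open Cfsg.Agent.Tits.RGOut Cfsg.Agent.Tits.MouRG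
open Cfsg.Agent.Tits.MouDefs (rt Aut Chart)
open Cfsg.Agent.Tits.RootComb (Diag)

variable {C : Type*} {Δ : Bldg cs C} {σ : W → C} [Finite W] [Finite C] (hM : Lab234 M) (hD : Diag M)
  (hth : Δ.Thick) (hσ : Chart Δ σ)

include hM hD hth hσ

/-- **(G2)(c)** for three nodes `i - j = k` of a building of rank at least three. -/
theorem stdBond {i j k : I} (hij : M i j = 3) (hjk : M j k = 4) (hik : M i k = 2) :
    StdBond (RX Δ σ (rt cs 1 j) : Set ↥(Gg cs (UU Δ σ))) (RX Δ σ (rt cs (cs.simple j) j))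
      (RX Δ σ (rt cs 1 k)) (RX Δ σ (rt cs (cs.simple k) k)) {g | g • σ 1 = σ 1} := by
  have hcart := exists_cartan' hM hD hth hσ
  obtain ⟨A, h, hn⟩ := exists_tri hcart ![i, j, k] hij hjk hik
  have hX := rgG hM hD hth hσ h
  have := bond_std hn hX hij hjk hik
  have e : ((Subgroup.comap (inc Δ σ) (stab σ 1) : Subgroup _) : Set ↥(Gg cs (UU Δ σ))) =
      {g | g • σ 1 = σ 1} := rfl
  rw [e] at this
  change StdBond (RX Δ σ (Rt cs h (sr j)) : Set ↥(Gg cs (UU Δ σ))) (RX Δ σ (Rt cs h (-sr j)))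
    (RX Δ σ (Rt cs h (sr k))) (RX Δ σ (Rt cs h (-sr k))) _ at this
  rwa [RX_sr hM hD hth hσ, RX_sr hM hD hth hσ, RX_neg_sr hM hD hth hσ,
    RX_neg_sr hM hD hth hσ] at this

end Out

end Cfsg.Agent.Tits.RGBond
end

-- part: TitsThree/EndFF
section
/-!
# The hypotheses of END for type `F₄` (S1143)

`RangesFF`: the root elements of a package `FF` in `G' = Gg cs U` exhaust the fundamental root groups.
From this and `A_{c,d} ⊓ G' ≤ T` (`T = torusFF P`): `A_{c,d}` is solvable, `A_{c,d} ⊓ G'` is a `p'`-group,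
the root groups are `p`-groups.
-/

set_option autoImplicit false

namespace Cfsg.Agent.TitsThree.EndFF

open Cfsg.Agent.Tits.Core Cfsg.Agent.Tits.Core.Bldg Cfsg.Agent.Tits
open Cfsg.Agent.Tits.MouDefs (rt Aut)
open Cfsg.Agent.Tits.MouOut
open Cfsg.Agent.TitsThree Cfsg.Agent.TitsThree.Pack Cfsg.Agent.TitsThree.B2Pkg
open Cfsg.Agent.TitsThree.Hua Cfsg.Agent.TitsThree.EndGen Cfsg.Agent.TitsThree.TorusAct
open Cfsg.Agent.TitsThree.EndRange

variable {M : CoxeterMatrix (Fin 4)} {W : Type*} [Group W] {cs : CoxeterSystem M W}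
variable {C A : Type*} [Group A] [MulAction A C] {Δ : Bldg cs C}
variable {σ : W → C} {U : Set W → Subgroup A}
variable {F : Type*} [Field F] {V : Type*} [AddCommGroup V] [Module F V] {D : PQDatum F V}
variable {E : Type*} [Field E] {τ τ' : E → D.T}

/-- The package exhausts the fundamental root groups. -/
structure RangesFF (P : FF ↥(Gg cs U) D τ τ') : Prop where
  r0 : NodeRange U 0 P.x0 P.y0
  r1 : NodeRange U 1 P.x1 P.y1
  r2 : NodeRange U 2 P.x2 P.y2
  r3 : NodeRange U 3 P.x3 P.y3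
  inj0 : Function.Injective P.x0
  inj2 : Function.Injective P.x2

variable {P : FF ↥(Gg cs U) D τ τ'}

/-- `A_{c,d}` is solvable. -/
theorem solvable [Finite W] [Finite F] [Finite E] (H : Sys Δ A σ U) (R : RangesFF P) :
    Group.IsSolvable ↥(Tor cs A σ) := by
  obtain ⟨s0, s1⟩ := edge_sl2 P.e01 R.inj0
  obtain ⟨s2, s3⟩ := edge_sl2 P.e23 R.inj2
  obtain ⟨f0, h0⟩ := hom_of_node H R.r0 s0
  obtain ⟨f1, h1⟩ := hom_of_node H R.r1 s1
  obtain ⟨f2, h2⟩ := hom_of_node H R.r2 s2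
  obtain ⟨f3, h3⟩ := hom_of_node H R.r3 s3
  have sF : Group.IsSolvable (GL1 F) := isSolvable_GL1
  have sE : Group.IsSolvable (GL1 E) := isSolvable_GL1
  have sP : Group.IsSolvable (GL1 F × GL1 E) := by
    refine Group.isSolvable_of_ker_le_range (MonoidHom.inr (GL1 F) (GL1 E)) (MonoidHom.fst _ _) ?_
    rintro ⟨a, b⟩ hab
    exact ⟨b, Prod.ext (show (1 : GL1 F) = a from (MonoidHom.mem_ker.1 hab).symm) rfl⟩
  refine tor_solvable H (Q := fun _ => GL1 F × GL1 E) (fun _ => sP)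
    (fun i => ![(MonoidHom.inl _ _).comp f0, (MonoidHom.inl _ _).comp f1, (MonoidHom.inr _ _).comp f2,
      (MonoidHom.inr _ _).comp f3] i) ?_
  intro i h hi
  fin_cases i
  · exact h0 h (congrArg Prod.fst hi)
  · exact h1 h (congrArg Prod.fst hi)
  · exact h2 h (congrArg Prod.snd hi)
  · exact h3 h (congrArg Prod.snd hi)

/-- `A_{c,d} ⊓ G'` is a `p'`-group. -/
theorem coprime [Finite W] [Finite A] (H : Sys Δ A σ U) {p : ℕ} [Fact p.Prime] [CharP F p]
    [CharP E p] (R : RangesFF P) (hτ : Function.Surjective τ) (hτ' : Function.Surjective τ')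
    (hT : Tor cs A σ ⊓ Gg cs U ≤ (torusFF P).map (Gg cs U).subtype) :
    (Nat.card ↥(Tor cs A σ ⊓ Gg cs U)).Coprime p := by
  refine tor_coprime H inf_le_left ?_
  intro s hs ho i
  obtain ⟨g, hg, rfl⟩ := hT hs
  obtain ⟨a0, a1, a2, a3⟩ := scalFF P hτ hτ' R.inj2 hg
  have hp : g ^ p = 1 := by
    apply Subgroup.subtype_injective (Gg cs U)
    rw [map_pow, map_one, ← ho, pow_orderOf_eq_one]
  have inj1 := (edge_sl2 P.e01 R.inj0).2.injp
  have inj3 := (edge_sl2 P.e23 R.inj2).2.injp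
  fin_cases i
  · exact comm_of_scal R.r0 R.inj0 a0 hp
  · exact comm_of_scal R.r1 inj1 a1 hp
  · exact comm_of_scal R.r2 R.inj2 a2 hp
  · exact comm_of_scal R.r3 inj3 a3 hp

/-- A root group parametrised as in `SL₂` is a `p`-group. -/
theorem isPGroup_of_node {I : Type*} {M : CoxeterMatrix I} {cs : CoxeterSystem M W}
    {U : Set W → Subgroup A} {p : ℕ} [Fact p.Prime] [CharP F p] {i : I}
    {xp xm : F → ↥(Gg cs U)} (hr : NodeRange U i xp xm) (par : SL2Par xp xm) :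
    IsPGroup p ↥(U (rt cs 1 i)) := by
  rintro ⟨u, hu⟩
  obtain ⟨t, rfl⟩ := hr.exists_eq hu
  have h1 : ∀ k : ℕ, xp t ^ k = xp (k * t) := by
    intro k
    induction k with
    | zero => rw [pow_zero, Nat.cast_zero, zero_mul, par.zerop]
    | succ k ih => rw [pow_succ, ih, ← par.addp]; congr 1; push_cast; ring
  refine ⟨1, Subtype.ext ?_⟩
  rw [pow_one]
  change (xp t : A) ^ p = 1
  rw [← Subgroup.coe_pow, h1, CharP.cast_eq_zero, zero_mul, par.zerop]
  rfl

/-- The fundamental root groups are `p`-groups. -/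
theorem isPGroup {p : ℕ} [Fact p.Prime] [CharP F p] [CharP E p] (R : RangesFF P) (i : Fin 4) :
    IsPGroup p ↥(U (rt cs 1 i)) := by
  obtain ⟨s0, s1⟩ := edge_sl2 P.e01 R.inj0
  obtain ⟨s2, s3⟩ := edge_sl2 P.e23 R.inj2
  fin_cases i
  · exact isPGroup_of_node R.r0 s0
  · exact isPGroup_of_node R.r1 s1
  · exact isPGroup_of_node R.r2 s2
  · exact isPGroup_of_node R.r3 s3

/-- **END for `F₄`**: `Solved Δ` from a package with ranges, `A_{c,d} ⊓ G' ≤ T` and the identification of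
`G'`. -/
theorem solved [Finite W] {C : Type*} [Finite C] {Δ : Bldg cs C} {σ : W → C}
    (H : Sys Δ (Aut Δ) σ (UU Δ σ)) {p : ℕ} [Fact p.Prime] [Finite F] [Finite E] [CharP F p]
    [CharP E p] {P : FF ↥(Gg cs (UU Δ σ)) D τ τ'} (R : RangesFF P) (hτ : Function.Surjective τ)
    (hτ' : Function.Surjective τ')
    (hT : Tor cs (Aut Δ) σ ⊓ Gg cs (UU Δ σ) ≤ (torusFF P).map (Gg cs (UU Δ σ)).subtype)
    (hK : IsSimpleGroup ↥(Gg cs (UU Δ σ)) → Top.LieConcl ↥(Gg cs (UU Δ σ))) : Top.Solved Δ := by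
  have : Finite (Aut Δ) := by
    refine Finite.of_injective (fun a : Aut Δ => (MulAction.toPerm a : Equiv.Perm C)) fun a b hab => ?_
    have h1 : b⁻¹ * a = 1 := H.faith _ fun x => by
      rw [mul_smul, inv_smul_eq_iff]
      exact congrFun (congrArg DFunLike.coe hab) x
    exact (inv_mul_eq_one.1 h1).symm
  exact EndHyp.solved H (p := p) (isPGroup R) (solvable H R) (coprime H R hτ hτ' hT) hK

end Cfsg.Agent.TitsThree.EndFF
end
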