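import Cfsg.Agent.TitsThree.KSideO
import Cfsg.Agent.TitsThree.KInstU
import Cfsg.Agent.TitsThree.KInstSp
import Cfsg.Agent.TitsThree.Top
import Cfsg.Agent.S0270
import Cfsg.Agent.S0295
import Cfsg.Agent.S0297
import Cfsg.Agent.S0301
import Cfsg.Agent.S0303
set_option linter.all false

/-!
# Simple groups of Lie type with a prescribed standard datum

`HasModel D n`: there is a simple group `K` satisfying `LieConcl` with a package `KCN K D (n+1)` (type `C_{n+2}`).
Proved for `stdSp`, `stdO1` (odd characteristic), `stdO2`, `stdU0`, `stdU1`; rank two (`n = 0`) is included (except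
`stdSp` over the field with two elements).
-/

set_option autoImplicit false

namespace Cfsg.Agent.TitsThree.CnModel

open Cfsg.Agent.TitsThree.B2Pkg Cfsg.Agent.TitsThree.Pack Cfsg.Agent.TitsThree.StdData
  Cfsg.Agent.TitsThree.Top Cfsg.Agent.TitsThree.KSideO Cfsg.Agent.TitsThree.KInstU

universe u v w

/-- There is a simple group of Lie type with a K side package over `D`. -/
def HasModel {F : Type u} [Field F] {V : Type v} [AddCommGroup V] [Module F V] (D : PQDatum F V) (n : ℕ) :
    Prop :=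
  ∃ (K : Type) (_ : Group K), IsSimpleGroup K ∧ LieConcl K ∧ Nonempty (KCN K D (n + 1))

theorem simple_of_equiv {G K : Type*} [Group G] [Group K] (e : G ≃* K) (h : IsSimpleGroup K) :
    IsSimpleGroup G := by
  have := e.toEquiv.nontrivial
  exact IsSimpleGroup.isSimpleGroup_of_surjective e.symm.toMonoidHom e.symm.surjective

theorem odd_card_of_two_ne {F : Type*} [Field F] [Fintype F] (h2 : (2 : F) ≠ 0) :
    Odd (Fintype.card F) := by
  by_contra hodd
  apply h2
  have h : Fintype.card F % 2 = 0 := Nat.even_iff.1 (Nat.not_odd_iff_even.1 hodd)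
  have h3 : ringChar F = 2 := by
    by_contra h4
    have := FiniteField.odd_card_of_char_ne_two h4
    omega
  have := ringChar.Nat.cast_ringChar (R := F)
  rw [h3] at this
  exact_mod_cast this

theorem three_le_card {F : Type*} [Field F] [Fintype F] (h2 : (2 : F) ≠ 0) :
    3 ≤ Fintype.card F := by
  have h1 := odd_card_of_two_ne h2
  have h3 := Fintype.one_lt_card (α := F)
  rcases h1 with ⟨k, hk⟩
  omega

/-- Symplectic groups. -/
theorem hasModel_Sp {F : Type} [Field F] [Fintype F] (n : ℕ) (h : n = 0 → 3 ≤ Fintype.card F) :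
    HasModel (stdSp F) n := by
  obtain ⟨K, i, h1, h2, h3⟩ := KInstSp.exists_KCN_Sp (F := F) n h
  exact ⟨K, i, h1, Or.inr (Or.inl h2), h3⟩

/-- Odd dimensional orthogonal groups, odd characteristic. -/
theorem hasModel_O1 {F : Type} [Field F] [Fintype F] (h2 : (2 : F) ≠ 0) (n : ℕ) :
    HasModel (stdO1 F) n := by
  have hodd := odd_card_of_two_ne h2
  have h3 := three_le_card h2
  rcases n with _ | n
  · obtain ⟨e⟩ := Cfsg.Agent.S0301.result (F := F) hodd
    have hs : IsSimpleGroup (Cfsg.PSp 2 F) := Cfsg.Agent.S0270.result 2 le_rfl (fun _ => h3)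
    exact ⟨Cfsg.POmega F (Cfsg.quadFormOdd 2 F), inferInstance, simple_of_equiv e hs,
      Or.inr (Or.inl ⟨F, inferInstance, inferInstance, 2, le_rfl, fun _ => h3, ⟨e⟩⟩),
      exists_KCN_odd F h2 0⟩
  · exact ⟨Cfsg.POmega F (Cfsg.quadFormOdd (n + 3) F), inferInstance,
      Cfsg.Agent.S0295.result hodd (n + 3) (by omega),
      Or.inr (Or.inr (Or.inr (Or.inl ⟨F, inferInstance, inferInstance, n + 3, by omega, hodd,
        ⟨MulEquiv.refl _⟩⟩))),
      exists_KCN_odd F h2 (n + 1)⟩

/-- A field with `q ^ 2` elements. -/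
theorem exists_sq_field (F : Type) [Field F] [Fintype F] :
    ∃ (K : Type) (_ : Field K) (_ : Fintype K), Fintype.card K = Fintype.card F ^ 2 := by
  classical
  obtain ⟨p, hp⟩ := CharP.exists F
  have hpp : Fact p.Prime := ⟨CharP.char_is_prime F p⟩
  obtain ⟨k, hk, hk'⟩ := FiniteField.card F p
  have hk0 : (2 * (k : ℕ)) ≠ 0 := by
    have := k.pos
    omega
  let K := GaloisField p (2 * (k : ℕ))
  have hfin : Finite K := inferInstance
  let _ : Fintype K := Fintype.ofFinite K
  refine ⟨K, inferInstance, inferInstance, ?_⟩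
  have h1 := GaloisField.card p (2 * (k : ℕ)) hk0
  rw [Nat.card_eq_fintype_card] at h1
  rw [h1, hk', ← pow_mul, mul_comm]

/-- Even dimensional orthogonal groups of minus type. -/
theorem hasModel_O2 {F : Type} [Field F] [Fintype F] (a b : F)
    (hab : ∀ z₁ z₂ : F, z₁ ^ 2 + a * z₁ * z₂ + b * z₂ ^ 2 = 0 → z₁ = 0 ∧ z₂ = 0) (n : ℕ) :
    HasModel (stdO2 F a b hab) n := by
  rcases n with _ | n
  · obtain ⟨K, i1, i2, hK⟩ := exists_sq_field F
    obtain ⟨e⟩ := Cfsg.Agent.S0303.result (F := F) (K := K) (q := Fintype.card F) rfl hK a b hab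
    have hs : IsSimpleGroup (Cfsg.PSU 4 K (Fintype.card F)) := KSideUDesc.isSimple hK (by omega)
    exact ⟨Cfsg.POmega F (Cfsg.quadFormMinus 2 F a b), inferInstance, simple_of_equiv e hs,
      Or.inr (Or.inr (Or.inl ⟨K, i1, i2, 4, Fintype.card F, hK, by omega, by omega, ⟨e⟩⟩)),
      exists_KCN_minus F a b hab 0⟩
  · exact ⟨Cfsg.POmega F (Cfsg.quadFormMinus (n + 3) F a b), inferInstance,
      Cfsg.Agent.S0297.result (n + 4) (by omega) a b hab,
      Or.inr (Or.inr (Or.inr (Or.inr (Or.inr (Or.inl ⟨F, inferInstance, inferInstance, n + 4, a, b,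
        by omega, hab, ⟨MulEquiv.refl _⟩⟩))))),
      exists_KCN_minus F a b hab (n + 1)⟩

/-- Even dimensional unitary groups. -/
theorem hasModel_U0 {F : Type} [Field F] [Fintype F] (σ : F ≃+* F) (hσ : ∀ x, σ (σ x) = x)
    (hne : ∃ x, σ x ≠ x) (n : ℕ) : HasModel (stdU0 F σ hσ) n := by
  obtain ⟨K, i, h1, h2, h3⟩ := exists_KCN_U0 σ hσ hne n
  exact ⟨K, i, h1, Or.inr (Or.inr (Or.inl h2)), h3⟩

/-- Odd dimensional unitary groups. -/
theorem hasModel_U1 {F : Type} [Field F] [Fintype F] (σ : F ≃+* F) (hσ : ∀ x, σ (σ x) = x)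
    (hne : ∃ x, σ x ≠ x) (n : ℕ) : HasModel (stdU1 F σ hσ) n := by
  obtain ⟨K, i, h1, h2, h3⟩ := exists_KCN_U1 σ hσ hne n
  exact ⟨K, i, h1, Or.inr (Or.inr (Or.inl h2)), h3⟩

end Cfsg.Agent.TitsThree.CnModel
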