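import Mathlib
import Cfsg.Agent.TitsThree.AssembleCN_mg
import Cfsg.Agent.TitsThree.EndGen
import Cfsg.Agent.TitsThree.StdData
import Cfsg.Agent.TitsThree.PQClass
import Cfsg.Agent.TitsThree.B2NI
import Cfsg.Agent.Tits.ExtAux
import Cfsg.Agent.TitsThree.CnModel
import Cfsg.Agent.TitsThree.EndHyp
import Cfsg.Agent.Tits.RGOut_mg
import Cfsg.Agent.Tits.Opp
set_option linter.all false

-- part: TitsThree/GCNMain
section
/-!
# The G side of type `C_n`, final form (S1143, G6)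

`exists_out`: for every thick building of type `C_{k+3}` the group `G'` has the record `GCN` over one of the standard
data.
-/

set_option autoImplicit false

namespace Cfsg.Agent.TitsThree.GCNMain

open Cfsg.Agent.Tits.Core Cfsg.Agent.Tits.Core.Bldg Cfsg.Agent.TitsThree.B2Pkg
  Cfsg.Agent.TitsThree.GSideMou Cfsg.Agent.TitsThree.StdData Cfsg.Agent.TitsThree.GCNOfSys
open Cfsg.Agent.Tits Cfsg.Agent.Tits.MouOut Cfsg.Agent.Tits.RGOut
open Cfsg.Agent.Tits.MouDefs (rt Aut Chart)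
open Cfsg.Agent.Tits.RootComb (Diag)
open Cfsg.Agent.Tits.MouAll (Lab234 lab_C)
open Cfsg.Agent.Tits.CombInst (diag_C)
open Cfsg.Agent.LieRecognition.BNCox Cfsg.Agent.LieRecognition.CoxClass

variable {k : ℕ} {W : Type*} [Group W] [Finite W] {cs : CoxeterSystem (cC (k + 3)) W}
  {C : Type*} [Finite C] {Δ : Bldg cs C} {σ : W → C}

/-- **The G side of type `C_{k+3}`.** -/
theorem exists_out (hth : Δ.Thick) (hσ : Chart Δ σ) :
    Std fun F _ V _ _ D => Out (k := k + 1) Δ σ D := by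
  have hM : Lab234 (cC (k + 3)) := lab_C _
  have hD : Diag (cC (k + 3)) := diag_C (by omega)
  refine std_out (k := k + 1) hM hD hth hσ ?_ ?_ ?_
  · intro i j hij
    rw [cC_apply, mC]
    have hj := j.2
    simp only [Fin.val_castSucc]
    rw [if_neg (by omega), if_pos hij, if_neg (by omega)]
  · intro i j hij
    rw [cC_apply, mC, if_neg (by omega), if_neg (by omega), if_neg (by omega)]
  · have h01 : cC (k + 3) (Fin.last k).castSucc.castSucc (Fin.last (k + 1)).castSucc = 3 := by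
      rw [cC_apply, mC]
      simp
    have h12 : cC (k + 3) (Fin.last (k + 1)).castSucc (Fin.last (k + 2)) = 4 := by
      rw [cC_apply, mC]
      simp
    have h02 : cC (k + 3) (Fin.last k).castSucc.castSucc (Fin.last (k + 2)) = 2 := by
      rw [cC_apply, mC]
      simp
      omega
    exact RGBond.stdBond hM hD hth hσ h01 h12 h02

end Cfsg.Agent.TitsThree.GCNMain
end

-- part: TitsThree/EndPerm
section
/-!
S1143, END: elements of the rank one groups `L_j` acting on the apartment.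
-/

set_option autoImplicit false

namespace Cfsg.Agent.TitsThree.EndPerm

open Cfsg.Agent.Tits.Core Cfsg.Agent.Tits.Core.Bldg Cfsg.Agent.Tits.Exchange
open Cfsg.Agent.Tits
open Cfsg.Agent.Tits.MouDefs (rt)
open Cfsg.Agent.Tits.MouOut Cfsg.Agent.Tits.MouTrans
open Cfsg.Agent.TitsThree.EndGen
open MulAction

variable {I : Type*} {M : CoxeterMatrix I} {W : Type*} [Group W] {cs : CoxeterSystem M W}
variable {C A : Type*} [Group A] [MulAction A C] {Δ : Bldg cs C}

local prefix:100 "ℓ" => cs.length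
local prefix:100 "s" => cs.simple

theorem mem_rt_w0 [Finite W] {w v : W} {i : I} : v * w0 cs ∈ rt cs w i ↔ v ∉ rt cs w i := by
  change ℓ (w⁻¹ * (v * w0 cs)) < ℓ (cs.simple i * (w⁻¹ * (v * w0 cs))) ↔
    ¬ ℓ (w⁻¹ * v) < ℓ (cs.simple i * (w⁻¹ * v))
  have h1 := Exchange.length_mul_w0 cs (w⁻¹ * v)
  have h2 := Exchange.length_mul_w0 cs (cs.simple i * (w⁻¹ * v))
  rw [← mul_assoc w⁻¹ v, ← mul_assoc (cs.simple i)]
  have := cs.length_simple_mul_ne (w⁻¹ * v) i
  omega

variable {σ : W → C} {U : Set W → Subgroup A} (H : Sys Δ A σ U)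

include H

/-- An element fixing two opposite chambers of the apartment fixes the apartment. -/
theorem fix_all [Finite W] {h : A} {a : W} (h1 : h • σ a = σ a)
    (h2 : h • σ (a * w0 cs) = σ (a * w0 cs)) (v : W) : h • σ v = σ v := by
  obtain ⟨n, -, hn⟩ := H.exists_weyl a
  have h3 : ∀ v, (n⁻¹ * h * n) • σ v = σ v := by
    intro v
    refine H.fix_of_fix ?_ ?_ v
    · rw [mul_smul, mul_smul, hn, mul_one, h1, inv_smul_eq_iff, hn, mul_one]
    · rw [mul_smul, mul_smul, hn, h2, inv_smul_eq_iff, hn]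
  have h4 := h3 (a⁻¹ * v)
  rw [mul_smul, mul_smul, hn, mul_inv_cancel_left, inv_smul_eq_iff, hn, mul_inv_cancel_left] at h4
  exact h4

/-- An element of a root group fixing a chamber of the apartment outside the root is trivial. -/
theorem eq_one_of_fix [Finite W] {w v : W} {i : I} {u : A} (hu : u ∈ U (rt cs w i))
    (hv : v ∉ rt cs w i) (h : u • σ v = σ v) : u = 1 :=
  H.free w i u hu (fix_all H h (H.fix hu (mem_rt_w0.2 hv)) _)

/-- Different root groups meet trivially. -/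
theorem eq_one_of_mem_two [Finite W] {w w' v : W} {i i' : I} {u : A} (hu : u ∈ U (rt cs w i))
    (hu' : u ∈ U (rt cs w' i')) (hv : v ∉ rt cs w i) (hv' : v ∈ rt cs w' i') : u = 1 :=
  eq_one_of_fix H hu hv (H.fix hu' hv')

theorem Lg_pan_op [Finite W] {j : I} {g : A} (hg : g ∈ Lg cs U j) :
    g • σ (w0 cs) ∈ Δ.Pan (op cs j) (σ (w0 cs)) := by
  have e1 : Δ.δ (σ (w0 cs)) (σ (s j * w0 cs)) = s (op cs j) := by
    rw [H.chart, ← w0_mul_simple_op cs j, inv_mul_cancel_left]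
  have hs : σ (s j * w0 cs) ∈ Δ.Pan (op cs j) (σ (w0 cs)) := Or.inr e1
  let S : Subgroup A :=
    { carrier := {g | g • σ (w0 cs) ∈ Δ.Pan (op cs j) (σ (w0 cs))}
      one_mem' := by
        change (1 : A) • σ (w0 cs) ∈ Δ.Pan (op cs j) (σ (w0 cs))
        rw [one_smul]; exact Δ.self_mem_Pan _ _
      mul_mem' := by
        intro a b ha hb
        change (a * b) • σ (w0 cs) ∈ Δ.Pan (op cs j) (σ (w0 cs))
        rw [mul_smul]
        exact Δ.mem_Pan_trans ha (pan_smul H.iso a hb)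
      inv_mem' := by
        intro a ha
        change a⁻¹ • σ (w0 cs) ∈ Δ.Pan (op cs j) (σ (w0 cs))
        have := pan_smul H.iso a⁻¹ ha
        rw [inv_smul_smul] at this
        exact Δ.mem_Pan_symm this }
  have hw : (w0 cs) ∉ rt cs 1 j := by
    have h1 := (mem_rt_w0 (cs := cs) (w := 1) (v := 1) (i := j)).not_left.2 (self_mem_rt 1 j)
    rwa [one_mul] at h1
  have hw1 : s j * w0 cs ∈ rt cs 1 j := mem_rt_w0.2 (by
    have := mul_simple_notMem_rt (cs := cs) 1 j
    rwa [one_mul] at this)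
  have hw2 : w0 cs ∈ rt cs (s j) j := by
    have h1 : (1 : W) * w0 cs ∈ rt cs (s j) j := mem_rt_w0.2 (by
      have := mul_simple_notMem_rt (cs := cs) (s j) j
      rwa [cs.simple_mul_simple_self] at this)
    rwa [one_mul] at h1
  have h1 : U (rt cs 1 j) ≤ S := fun g hg => by
    change g • σ (w0 cs) ∈ Δ.Pan (op cs j) (σ (w0 cs))
    have h3 := pan_smul H.iso g (Δ.mem_Pan_symm hs)
    rw [H.fix hg hw1] at h3
    exact Δ.mem_Pan_trans hs h3
  have h2 : U (rt cs (s j) j) ≤ S := fun g hg => by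
    change g • σ (w0 cs) ∈ Δ.Pan (op cs j) (σ (w0 cs))
    rw [H.fix hg hw2]
    exact Δ.self_mem_Pan _ _
  exact (sup_le h1 h2) hg

/-- An element of `L_j` fixing `σ 1` and `σ s_j` fixes the apartment. -/
theorem fix_of_Lg [Finite W] {j : I} {k : A} (hk : k ∈ Lg cs U j) (h1 : k • σ 1 = σ 1)
    (h2 : k • σ (s j) = σ (s j)) (v : W) : k • σ v = σ v := by
  refine H.fix_of_fix h1 ?_ v
  have h3 := Lg_pan_op H hk
  have h4 : Δ.δ (σ (s j)) (σ (w0 cs)) = s j * w0 cs := by rw [H.chart, cs.inv_simple]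
  have h5 : Δ.δ (σ (s j)) (k • σ (w0 cs)) = s j * w0 cs := by
    rw [← h4, ← H.iso k (σ (s j)) (σ (w0 cs)), h2]
  rcases h3 with h3 | h3
  · exact h3
  · exfalso
    have h6 := Δ.step_lt (σ (s j)) (σ (w0 cs)) (k • σ (w0 cs)) (op cs j) h3
    have e : s j * w0 cs * s (op cs j) = w0 cs := by
      rw [mul_assoc, w0_mul_simple_op, ← mul_assoc, cs.simple_mul_simple_self, one_mul]
    rw [h4, h5, e] at h6
    have h7 := length_mul_w0 cs (s j)
    rw [cs.length_simple] at h7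
    have h8 := h6 (by omega)
    rw [h8] at h7
    omega

/-- An element of `L_j` swapping `σ 1` and `σ s_j` induces the reflection on the apartment. -/
theorem perm_of_Lg [Finite W] {j : I} {n : A} (hn : n ∈ Lg cs U j) (h1 : n • σ 1 = σ (s j))
    (h2 : n • σ (s j) = σ 1) (v : W) : n • σ v = σ (s j * v) := by
  obtain ⟨m, hm, hm'⟩ := H.weyl j
  have h3 := fix_of_Lg H (mul_mem (inv_mem (show m ∈ Lg cs U j from hm)) hn) (k := m⁻¹ * n)
    (by rw [mul_smul, h1, inv_smul_eq_iff, hm', mul_one])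
    (by rw [mul_smul, h2, inv_smul_eq_iff, hm', cs.simple_mul_simple_self]) v
  rw [mul_smul, inv_smul_eq_iff, hm'] at h3
  exact h3

/-- An element of `L_j` fixing `σ 1` and `σ s_j` lies in the torus. -/
theorem mem_Tor_of_Lg [Finite W] {j : I} {k : A} (hk : k ∈ Lg cs U j) (h1 : k • σ 1 = σ 1)
    (h2 : k • σ (s j) = σ (s j)) : k ∈ Tor cs A σ :=
  mem_tor_of_fix (fix_of_Lg H hk h1 h2)

omit H in
/-- Two elements inducing the same permutation of the apartment differ by the torus. -/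
theorem mul_inv_mem_Tor {a b : A} {w : W} (ha : ∀ v, a • σ v = σ (w * v))
    (hb : ∀ v, b • σ v = σ (w * v)) : a * b⁻¹ ∈ Tor cs A σ := by
  refine mem_tor_of_fix fun v => ?_
  have h : b⁻¹ • σ v = σ (w⁻¹ * v) := by rw [inv_smul_eq_iff, hb, mul_inv_cancel_left]
  rw [mul_smul, h, ha, mul_inv_cancel_left]

omit H in
theorem inv_mul_mem_Tor {a b : A} {w : W} (ha : ∀ v, a • σ v = σ (w * v))
    (hb : ∀ v, b • σ v = σ (w * v)) : a⁻¹ * b ∈ Tor cs A σ := by
  refine mem_tor_of_fix fun v => ?_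
  rw [mul_smul, hb, inv_smul_eq_iff, ha]

/-- Products `v u v'` (`u ∈ U_j` mapping ..., `v, v' ∈ U_{-j}`) swapping `σ 1` and `σ s_j`. -/
theorem perm_of_mul [Finite W] {j : I} {u v v' : A} (hv : v ∈ U (rt cs (s j) j))
    (hu : u ∈ U (rt cs 1 j)) (hv' : v' ∈ U (rt cs (s j) j))
    (h1 : (v * u * v') • σ 1 = σ (s j)) (h2 : (v * u * v') • σ (s j) = σ 1) (x : W) :
    (v * u * v') • σ x = σ (s j * x) :=
  perm_of_Lg H (mul_mem (mul_mem (Subgroup.mem_sup_right hv) (Subgroup.mem_sup_left hu))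
    (Subgroup.mem_sup_right hv')) h1 h2 x

/-- A chamber of the panel of `σ w` fixed by `U (rt w i)` is `σ w`. -/
theorem eq_of_fixed {w : W} {i : I} {x : C} (hx : x ∈ Δ.Pan i (σ w))
    (h : ∀ u ∈ U (rt cs w i), u • x = x) : x = σ w := by
  by_contra hne
  have h1 : Δ.δ (σ w) x = s i := hx.resolve_left hne
  obtain ⟨y, z, hyz, hy, hz⟩ := H.thick (σ w) i
  obtain ⟨t, ht, htn⟩ : ∃ t, Δ.δ (σ w) t = s i ∧ t ≠ x := by
    by_cases h2 : y = x
    · exact ⟨z, hz, fun h' => hyz (h2.trans h'.symm)⟩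
    · exact ⟨y, hy, h2⟩
  obtain ⟨u, hu, hut⟩ := H.trans w i x t h1 ht
  rw [h u hu] at hut
  exact htn hut.symm

/-- An element of `L_j` interchanging the two root groups induces the reflection on the
apartment. -/
theorem perm_of_conj [Finite W] {j : I} {n : A} (hn : n ∈ Lg cs U j)
    (h1 : ∀ u ∈ U (rt cs (s j) j), n⁻¹ * u * n ∈ U (rt cs 1 j))
    (h2 : ∀ u ∈ U (rt cs 1 j), n⁻¹ * u * n ∈ U (rt cs (s j) j)) (v : W) :
    n • σ v = σ (s j * v) := by
  have e1 : Δ.δ (σ 1) (σ (s j)) = s j := by rw [H.chart, inv_one, one_mul]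
  have hs : σ (s j) ∈ Δ.Pan j (σ 1) := Or.inr e1
  have hp : n • σ 1 ∈ Δ.Pan j (σ 1) := H.pan hn
  refine perm_of_Lg H hn ?_ ?_ v
  · refine eq_of_fixed H (i := j) (Δ.mem_Pan_trans (Δ.mem_Pan_symm hs) hp) fun u hu => ?_
    have e : u * n = n * (n⁻¹ * u * n) := by group
    rw [← mul_smul, e, mul_smul, H.fix (h1 u hu) (self_mem_rt 1 j)]
  · refine eq_of_fixed H (i := j) (Δ.mem_Pan_trans hp (pan_smul H.iso n hs)) fun u hu => ?_
    have e : u * n = n * (n⁻¹ * u * n) := by group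
    rw [← mul_smul, e, mul_smul, H.fix (h2 u hu) (self_mem_rt (s j) j)]

end Cfsg.Agent.TitsThree.EndPerm
end

-- part: TitsThree/TorusII
section
/-!
# The type II node: similitudes and torus of the five standard parameter systems

* `SimG D` : automorphisms `φ` of `D.T` with `φ (sc a p) = sc a (φ p)`, `(φ p).c = κ * p.c`; it is
  solvable for the five standard systems;
* `TorG D` : generated by the maps `sc a` and `sc a ∘ refl p ∘ refl q`; its order is prime to the
  characteristic.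
-/

set_option autoImplicit false

namespace Cfsg.Agent.TitsThree.TorusII

open Cfsg.Agent.TitsThree.Siegel Cfsg.Agent.TitsThree.B2Pkg Cfsg.Agent.TitsThree.StdData
open scoped commutatorElement

/-! ### Group theory -/

/-- `H` is solvable if its commutators lie in a commutative subgroup. -/
theorem solvable_of_commutators {M : Type*} [Group M] (H Q : Subgroup M)
    (hQ : ∀ x ∈ Q, ∀ y ∈ Q, x * y = y * x) (h : ∀ x ∈ H, ∀ y ∈ H, ⁅x, y⁆ ∈ Q) :
    Group.IsSolvable H := by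
  refine ⟨2, ?_⟩
  have h1 : derivedSeries H 1 ≤ Q.subgroupOf H := by
    rw [derivedSeries_one]
    unfold commutator
    rw [Subgroup.commutator_le]
    rintro ⟨x, hx⟩ - ⟨y, hy⟩ -
    rw [Subgroup.mem_subgroupOf]
    exact h x hx y hy
  rw [derivedSeries_succ, eq_bot_iff, Subgroup.commutator_le]
  intro x hx y hy
  have hx' := Subgroup.mem_subgroupOf.1 (h1 hx)
  have hy' := Subgroup.mem_subgroupOf.1 (h1 hy)
  rw [Subgroup.mem_bot, commutatorElement_eq_one_iff_mul_comm]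
  exact Subtype.ext (hQ _ hx' _ hy')

/-- A finite group without elements of order `p` has order prime to `p`. -/
theorem not_dvd_card {M : Type*} [Group M] [Finite M] (p : ℕ) [Fact p.Prime] (Q : Subgroup M)
    (h : ∀ x ∈ Q, x ^ p = 1 → x = 1) : ¬ p ∣ Nat.card Q := by
  intro hd
  obtain ⟨⟨x, hx⟩, hxo⟩ := exists_prime_orderOf_dvd_card' (G := Q) p hd
  have h1 : x ^ p = 1 := by
    have := pow_orderOf_eq_one (⟨x, hx⟩ : Q)
    rw [hxo] at this
    exact congrArg Subtype.val this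
  have h2 := h x hx h1
  have h3 : orderOf (⟨x, hx⟩ : Q) = 1 := by
    rw [orderOf_eq_one_iff]
    exact Subtype.ext h2
  rw [hxo] at h3
  exact (Fact.out : p.Prime).one_lt.ne' h3

theorem not_dvd_card_mono {M : Type*} [Group M] [Finite M] {p : ℕ} {Q R : Subgroup M} (hQR : Q ≤ R)
    (h : ¬ p ∣ Nat.card R) : ¬ p ∣ Nat.card Q :=
  fun hd => h (hd.trans (Subgroup.card_dvd_of_le hQR))

section

variable {F : Type*} [Field F] {V : Type*} [AddCommGroup V] [Module F V] (D : PQDatum F V)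

theorem sc_mul (a : F) (p q : D.T) : D.sc a (p * q) = D.sc a p * D.sc a q := by
  ext
  · simp
  · simp only [PQDatum.sc_c, PQDatum.T.mul_c, PQDatum.sc_w, D.smul_left, D.smul_right, D.σσ]
    ring

theorem sc_sc (a b : F) (p : D.T) : D.sc a (D.sc b p) = D.sc (a * b) p := by
  ext
  · simp [smul_smul]
  · simp only [PQDatum.sc_c, map_mul]; ring

theorem sc_one (p : D.T) : D.sc 1 p = p := by
  ext <;> simp

/-- Similitudes of the parameter group. -/
def SimG : Subgroup (MulAut D.T) where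
  carrier := {φ | (∀ a p, φ (D.sc a p) = D.sc a (φ p)) ∧ ∃ κ : F, κ ≠ 0 ∧ ∀ p, (φ p).c = κ * p.c}
  mul_mem' := by
    rintro φ ψ ⟨h1, κ, hκ, h2⟩ ⟨h1', κ', hκ', h2'⟩
    refine ⟨fun a p => ?_, κ * κ', mul_ne_zero hκ hκ', fun p => ?_⟩
    · rw [MulAut.mul_apply, MulAut.mul_apply, h1', h1]
    · rw [MulAut.mul_apply, h2, h2']; ring
  one_mem' := ⟨fun _ _ => rfl, 1, one_ne_zero, fun _ => (one_mul _).symm⟩
  inv_mem' := by
    rintro φ ⟨h1, κ, hκ, h2⟩
    refine ⟨fun a p => ?_, κ⁻¹, inv_ne_zero hκ, fun p => ?_⟩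
    · apply φ.injective
      rw [MulAut.apply_inv_self, h1, MulAut.apply_inv_self]
    · have := h2 (φ⁻¹ p)
      rw [MulAut.apply_inv_self] at this
      rw [this, ← mul_assoc, inv_mul_cancel₀ hκ, one_mul]

/-- Generators of the torus. -/
def torSet : Set (MulAut D.T) :=
  {φ | (∃ a : F, a ≠ 0 ∧ ∀ r, φ r = D.sc a r) ∨
    ∃ (a : F) (p q : D.T) (hp : p.c ≠ 0) (hq : q.c ≠ 0), a ≠ 0 ∧
      ∀ r, φ r = D.sc a (D.refl p hp (D.refl q hq r))}

/-- The torus. -/
def TorG : Subgroup (MulAut D.T) := Subgroup.closure (torSet D)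

/-- Automorphisms acting by scalars. -/
def Q1 : Subgroup (MulAut D.T) where
  carrier := {φ | ∃ μ κ : F, μ ≠ 0 ∧ κ ≠ 0 ∧ ∀ r, (φ r).w = μ • r.w ∧ (φ r).c = κ * r.c}
  mul_mem' := by
    rintro φ ψ ⟨μ, κ, hμ, hκ, h⟩ ⟨μ', κ', hμ', hκ', h'⟩
    refine ⟨μ * μ', κ * κ', mul_ne_zero hμ hμ', mul_ne_zero hκ hκ', fun r => ⟨?_, ?_⟩⟩
    · rw [MulAut.mul_apply, (h _).1, (h' _).1, smul_smul]
    · rw [MulAut.mul_apply, (h _).2, (h' _).2, mul_assoc]
  one_mem' := ⟨1, 1, one_ne_zero, one_ne_zero, fun r => ⟨(one_smul F _).symm, (one_mul _).symm⟩⟩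
  inv_mem' := by
    rintro φ ⟨μ, κ, hμ, hκ, h⟩
    refine ⟨μ⁻¹, κ⁻¹, inv_ne_zero hμ, inv_ne_zero hκ, fun r => ?_⟩
    have h1 := h (φ⁻¹ r)
    rw [MulAut.apply_inv_self] at h1
    constructor
    · rw [h1.1, smul_smul, inv_mul_cancel₀ hμ, one_smul]
    · rw [h1.2, ← mul_assoc, inv_mul_cancel₀ hκ, one_mul]

theorem Q1_comm : ∀ x ∈ Q1 D, ∀ y ∈ Q1 D, x * y = y * x := by
  rintro φ ⟨μ, κ, -, -, h⟩ ψ ⟨μ', κ', -, -, h'⟩
  ext r
  · rw [MulAut.mul_apply, MulAut.mul_apply, (h _).1, (h' _).1, (h' _).1, (h _).1, smul_smul,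
      smul_smul, mul_comm]
  · rw [MulAut.mul_apply, MulAut.mul_apply, (h _).2, (h' _).2, (h' _).2, (h _).2]; ring

theorem Q1_solvable (h : SimG D ≤ Q1 D) : Group.IsSolvable (SimG D) :=
  solvable_of_commutators _ (Q1 D) (Q1_comm D) (fun x hx y hy => by
    rw [commutatorElement_def]
    exact (Q1 D).mul_mem ((Q1 D).mul_mem ((Q1 D).mul_mem (h hx) (h hy)) ((Q1 D).inv_mem (h hx)))
      ((Q1 D).inv_mem (h hy)))

theorem pow_eq_one_of_char {F : Type*} [Field F] (p : ℕ) [Fact p.Prime] [CharP F p] {x : F}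
    (h : x ^ p = 1) : x = 1 := by
  have h1 : (x - 1) ^ p = 0 := by rw [sub_pow_char, h, one_pow, sub_self]
  exact sub_eq_zero.1 (pow_eq_zero_iff (Fact.out : p.Prime).ne_zero |>.1 h1)

theorem Q1_not_dvd [Finite D.T] (p : ℕ) [Fact p.Prime] [CharP F p] (hne : ∃ r : D.T, r.c ≠ 0) :
    ¬ p ∣ Nat.card (Q1 D) := by
  have : Finite (MulAut D.T) := Finite.of_injective (fun φ : MulAut D.T => (φ : D.T → D.T))
    DFunLike.coe_injective
  apply not_dvd_card
  rintro φ ⟨μ, κ, hμ, hκ, h⟩ hφ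
  have hpow : ∀ n : ℕ, ∀ r, ((φ ^ n) r).w = μ ^ n • r.w ∧ ((φ ^ n) r).c = κ ^ n * r.c := by
    intro n
    induction n with
    | zero => intro r; simp
    | succ n ih =>
      intro r
      rw [pow_succ, MulAut.mul_apply, (ih _).1, (ih _).2, (h r).1, (h r).2, smul_smul]
      exact ⟨by rw [pow_succ], by rw [pow_succ]; ring⟩
  have hw : ∀ r : D.T, r.w = μ ^ p • r.w := by
    intro r
    have := (hpow p r).1
    rwa [hφ] at this
  have hc : ∀ r : D.T, r.c = κ ^ p * r.c := by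
    intro r
    have := (hpow p r).2
    rwa [hφ] at this
  have hκ1 : κ = 1 := by
    obtain ⟨r, hr⟩ := hne
    apply pow_eq_one_of_char p
    have := hc r
    exact mul_right_cancel₀ hr (by rw [one_mul]; exact this.symm)
  ext r
  · rw [(h r).1, MulAut.one_apply]
    by_cases hr : r.w = 0
    · rw [hr, smul_zero]
    · have hμ1 : μ = 1 := by
        apply pow_eq_one_of_char p
        have h1 := hw r
        have h2 : (μ ^ p - 1) • r.w = 0 := by rw [sub_smul, one_smul, ← h1, sub_self]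
        exact sub_eq_zero.1 ((smul_eq_zero.1 h2).resolve_right hr)
      rw [hμ1, one_smul]
  · rw [(h r).2, hκ1, one_mul, MulAut.one_apply]

/-- `refl p` acts as a scalar if `V` is at most one dimensional. -/
theorem refl_scalar (hV : ∀ w w' : V, D.h w' w • w = D.h w w • w') (p : D.T) (hp : p.c ≠ 0)
    (r : D.T) : (D.refl p hp r).w = (-(D.ε * D.σ p.c) / p.c) • r.w := by
  rw [PQDatum.refl_w, mul_smul, hV, smul_smul]
  have h1 := p.rel
  have h2 : D.h p.w p.w = -p.c - D.ε * D.σ p.c := by linear_combination h1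
  have h3 : -(D.ε * D.σ p.c) / p.c = 1 + p.c⁻¹ * D.h p.w p.w := by
    rw [h2]; field_simp; ring
  rw [h3, add_smul, one_smul]

theorem TorG_le_Q1 (hV : ∀ w w' : V, D.h w' w • w = D.h w w • w') : TorG D ≤ Q1 D := by
  have hσ0 : ∀ x : F, x ≠ 0 → D.σ x ≠ 0 := fun x hx h => hx (by
    have := congrArg D.σ h
    rwa [D.σσ, map_zero] at this)
  rw [TorG, Subgroup.closure_le]
  rintro φ (⟨a, ha, h⟩ | ⟨a, p, q, hp, hq, ha, h⟩)
  · refine ⟨D.σ a, a * D.σ a, hσ0 a ha, mul_ne_zero ha (hσ0 a ha), fun r => ?_⟩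
    rw [h r]
    exact ⟨rfl, rfl⟩
  · refine ⟨D.σ a * ((-(D.ε * D.σ p.c) / p.c) * (-(D.ε * D.σ q.c) / q.c)), a * D.σ a, ?_,
      mul_ne_zero ha (hσ0 a ha), fun r => ?_⟩
    · have h1 : ∀ s : D.T, s.c ≠ 0 → -(D.ε * D.σ s.c) / s.c ≠ 0 := fun s hs =>
        div_ne_zero (neg_ne_zero.2 (mul_ne_zero D.ε_ne (hσ0 _ hs))) hs
      exact mul_ne_zero (hσ0 a ha) (mul_ne_zero (h1 p hp) (h1 q hq))
    · rw [h r]
      constructor
      · rw [PQDatum.sc_w, refl_scalar D hV, refl_scalar D hV, smul_smul, smul_smul, mul_assoc]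
      · rw [PQDatum.sc_c, PQDatum.refl_c, PQDatum.refl_c]

end

/-! ### The data with `dim V ≤ 1` -/

section small

variable {F : Type*} [Field F]

theorem simG_le_Q1_unit (D : PQDatum F Unit) : SimG D ≤ Q1 D := by
  rintro φ ⟨-, κ, hκ, h⟩
  exact ⟨1, κ, one_ne_zero, hκ, fun r => ⟨rfl, h r⟩⟩

theorem solvable_sp : Group.IsSolvable (SimG (stdSp F)) := Q1_solvable _ (simG_le_Q1_unit _)

theorem solvable_u0 (σ : F ≃+* F) (hσ : ∀ x, σ (σ x) = x) :
    Group.IsSolvable (SimG (stdU0 F σ hσ)) := Q1_solvable _ (simG_le_Q1_unit _)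

theorem solvable_o1 : Group.IsSolvable (SimG (stdO1 F)) := by
  apply Q1_solvable
  rintro φ ⟨hs, κ, hκ, h⟩
  let r₁ : (stdO1 F).T := ⟨1, -1 ^ 2, rfl⟩
  have hr : ∀ r : (stdO1 F).T, r = (stdO1 F).sc r.w r₁ := by
    intro r
    have hrc : r.c = -r.w ^ 2 := r.ok
    ext
    · rw [PQDatum.sc_w]
      change r.w = r.w * 1
      ring
    · rw [PQDatum.sc_c, hrc]
      change _ = r.w * r.w * -(1 : F) ^ 2
      ring
  have hφ : ∀ r, (φ r).w = (φ r₁).w * r.w := by
    intro r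
    conv_lhs => rw [hr r, hs, PQDatum.sc_w]
    change r.w * _ = _
    ring
  have hμ : (φ r₁).w ≠ 0 := by
    intro h0
    have h1 := h r₁
    have h2 : (φ r₁).c = -(φ r₁).w ^ 2 := (φ r₁).ok
    rw [h0] at h2
    rw [h2] at h1
    apply hκ
    have h3 : r₁.c = -1 := by change -(1 : F) ^ 2 = -1; ring
    rw [h3] at h1
    linear_combination h1
  exact ⟨(φ r₁).w, κ, hμ, hκ, fun r => ⟨by rw [hφ r]; rfl, h r⟩⟩

theorem solvable_u1 (σ : F ≃+* F) (hσ : ∀ x, σ (σ x) = x) (hex : ∃ c, c + σ c = -(1 : F)) :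
    Group.IsSolvable (SimG (stdU1 F σ hσ)) := by
  apply Q1_solvable
  rintro φ ⟨hs, κ, hκ, h⟩
  have hσ0 : ∀ x : F, σ x = 0 → x = 0 := fun x hx => by
    have := congrArg σ hx
    rwa [hσ, map_zero] at this
  obtain ⟨c₁, hc₁⟩ := hex
  let r₁ : (stdU1 F σ hσ).T := ⟨1, c₁, by
    change c₁ + σ c₁ = -(1 * σ 1)
    rw [map_one, one_mul]; exact hc₁⟩
  have hok : ∀ r : (stdU1 F σ hσ).T, r.c + σ r.c = -(r.w * σ r.w) := fun r => r.ok
  -- central elements go to central elements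
  have hcen : ∀ r : (stdU1 F σ hσ).T, r.w = 0 → (φ r).w = 0 := by
    intro r hr
    have h1 := hok r
    rw [hr, zero_mul, neg_zero] at h1
    have h2 := hok (φ r)
    rw [h r, map_mul] at h2
    by_contra hw
    have hN : (φ r).w * σ (φ r).w ≠ 0 := mul_ne_zero hw (fun hh => hw (hσ0 _ hh))
    have h12 : ∀ a : F, (φ ((stdU1 F σ hσ).sc a r)).w = σ a * (φ r).w := by
      intro a
      rw [hs, PQDatum.sc_w]; rfl
    have h13 : ∀ a : F, a + σ a = 0 := by
      intro a
      have h14 := hok (φ (r * (stdU1 F σ hσ).sc a r))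
      rw [h (r * (stdU1 F σ hσ).sc a r), map_mul φ, PQDatum.T.mul_w, h12, PQDatum.T.mul_c,
        PQDatum.sc_w, hr] at h14
      have h15 : (κ * (r.c + ((stdU1 F σ hσ).sc a r).c - (stdU1 F σ hσ).h (σ a • (0 : F)) 0)) =
          κ * (r.c * (1 + a * σ a)) := by
        rw [PQDatum.sc_c]
        change κ * (r.c + a * σ a * r.c - (σ a * 0) * σ 0) = _
        ring
      have h14' : κ * (r.c * (1 + a * σ a)) + σ (κ * (r.c * (1 + a * σ a))) =
          -(((φ r).w + σ a * (φ r).w) * σ ((φ r).w + σ a * (φ r).w)) := by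
        rw [← h15]; exact h14
      simp only [map_mul, map_add, map_one, hσ] at h14'
      have h16 : ((φ r).w * σ (φ r).w) * (a + σ a) = 0 := by
        linear_combination h14' - (1 + a * σ a) * h2
      exact (mul_eq_zero.1 h16).resolve_left hN
    have h17 := h13 c₁
    rw [hc₁] at h17
    exact one_ne_zero (neg_eq_zero.1 h17)
  have hφ : ∀ r, (φ r).w = (φ r₁).w * r.w := by
    intro r
    have h1 : ((stdU1 F σ hσ).sc (σ r.w) r₁)⁻¹ * r = ((stdU1 F σ hσ).sc (σ r.w) r₁)⁻¹ * r := rfl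
    have h2 : (((stdU1 F σ hσ).sc (σ r.w) r₁)⁻¹ * r).w = 0 := by
      rw [PQDatum.T.mul_w, PQDatum.T.inv_w, PQDatum.sc_w]
      change -(σ (σ r.w) * 1) + r.w = 0
      rw [hσ]; ring
    have h3 := hcen _ h2
    rw [map_mul, map_inv, PQDatum.T.mul_w, PQDatum.T.inv_w, hs, PQDatum.sc_w] at h3
    have h4 : -(σ (σ r.w) * (φ r₁).w) + (φ r).w = 0 := h3
    rw [hσ] at h4
    linear_combination h4
  have hμ : (φ r₁).w ≠ 0 := by
    intro h0
    have h1 := hok (φ r₁)
    -- surjectivity of `φ`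
    have h2 := hφ (φ⁻¹ r₁)
    rw [MulAut.apply_inv_self, h0, zero_mul] at h2
    exact one_ne_zero h2
  exact ⟨(φ r₁).w, κ, hμ, hκ, fun r => ⟨by rw [hφ r]; rfl, h r⟩⟩

end small

/-! ### The datum `stdO2` -/

section quad

open QuadraticAlgebra

variable {F : Type*} [Field F]

theorem fact_of_aniso {a b : F}
    (hab : ∀ z₁ z₂ : F, z₁ ^ 2 + a * z₁ * z₂ + b * z₂ ^ 2 = 0 → z₁ = 0 ∧ z₂ = 0) :
    Fact (∀ r : F, r ^ 2 ≠ -b + a * r) := by
  refine ⟨fun r hr => ?_⟩
  have := hab (-r) 1 (by linear_combination hr)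
  exact one_ne_zero this.2

/-- linear maps preserving the norm fixing one -/
theorem eq_of_fix_one {a b : F}
    (hab : ∀ z₁ z₂ : F, z₁ ^ 2 + a * z₁ * z₂ + b * z₂ ^ 2 = 0 → z₁ = 0 ∧ z₂ = 0)
    (T : QuadraticAlgebra F (-b) a →ₗ[F] QuadraticAlgebra F (-b) a)
    (hT : ∀ x, norm (T x) = norm x) (h1 : T 1 = 1) :
    (∀ x, T x = x) ∨ (∀ x, T x = star x) := by
  have := fact_of_aniso hab
  have key : ∀ x : QuadraticAlgebra F (-b) a, norm (x + 1) = norm x + trace x + 1 := by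
    intro x
    simp only [norm_def, trace_def, re_add, im_add, re_one, im_one]
    ring
  have htr : ∀ x, trace (T x) = trace x := by
    intro x
    have h2 := hT (x + 1)
    rw [map_add, h1, key, key, hT x] at h2
    linear_combination h2
  have hroot : (T ω - ω) * (T ω - star ω) = 0 := by
    have h3 := sq_sub_trace_smul_add_norm_eq_zero (T ω)
    rw [htr, hT, Algebra.smul_def, algebraMap_trace_eq_add_star, algebraMap_norm_eq_mul_star] at h3
    linear_combination h3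
  have hx : ∀ x : QuadraticAlgebra F (-b) a, T x = x.re • 1 + x.im • T ω := by
    intro x
    conv_lhs => rw [← mk_eta x, mk_eq_add_smul_omega]
    rw [map_add, map_smul, Algebra.algebraMap_eq_smul_one, map_smul, h1]
  rcases mul_eq_zero.1 hroot with h | h
  · left
    intro x
    rw [hx, sub_eq_zero.1 h]
    ext <;> simp
  · right
    intro x
    rw [hx, sub_eq_zero.1 h]
    ext <;> simp
    ring

/-- `V = F²` as the quadratic extension -/
def em (a b : F) (w : F × F) : QuadraticAlgebra F (-b) a := ⟨w.1, w.2⟩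

theorem em_add (a b : F) (w w' : F × F) : em a b (w + w') = em a b w + em a b w' := rfl

theorem em_smul (a b x : F) (w : F × F) : em a b (x • w) = x • em a b w := rfl

theorem em_inj {a b : F} {w w' : F × F} (h : em a b w = em a b w') : w = w' :=
  Prod.ext (congrArg re h) (congrArg im h)

theorem norm_em (a b : F) (w : F × F) : norm (em a b w) = nf a b w := by
  simp only [norm_def, em, nf]; ring

variable {a b : F} (hab : ∀ z₁ z₂ : F, z₁ ^ 2 + a * z₁ * z₂ + b * z₂ ^ 2 = 0 → z₁ = 0 ∧ z₂ = 0)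

/-- Automorphisms acting by multiplications. -/
def Q2 : Subgroup (MulAut (stdO2 F a b hab).T) where
  carrier := {φ | ∃ m : QuadraticAlgebra F (-b) a, m ≠ 0 ∧ ∀ r, em a b (φ r).w = m * em a b r.w}
  mul_mem' := by
    have := fact_of_aniso hab
    rintro φ ψ ⟨m, hm, h⟩ ⟨m', hm', h'⟩
    refine ⟨m * m', mul_ne_zero hm hm', fun r => ?_⟩
    rw [MulAut.mul_apply, h, h', mul_assoc]
  one_mem' := by
    have := fact_of_aniso hab
    exact ⟨1, one_ne_zero, fun r => (one_mul _).symm⟩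
  inv_mem' := by
    have := fact_of_aniso hab
    rintro φ ⟨m, hm, h⟩
    refine ⟨m⁻¹, inv_ne_zero hm, fun r => ?_⟩
    have h1 := h (φ⁻¹ r)
    rw [MulAut.apply_inv_self] at h1
    rw [h1, ← mul_assoc, inv_mul_cancel₀ hm, one_mul]

theorem o2_ext {p q : (stdO2 F a b hab).T} (h : p.w = q.w) : p = q := by
  have h1 : p.c = -nf a b p.w := p.ok
  have h2 : q.c = -nf a b q.w := q.ok
  ext1
  · exact h
  · rw [h1, h2, h]

theorem Q2_comm : ∀ x ∈ Q2 hab, ∀ y ∈ Q2 hab, x * y = y * x := by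
  rintro φ ⟨m, -, h⟩ ψ ⟨m', -, h'⟩
  apply MulEquiv.ext
  intro r
  apply o2_ext
  apply em_inj (a := a) (b := b)
  rw [MulAut.mul_apply, MulAut.mul_apply, h, h', h', h]; ring

/-- type of a similitude: `star` or not -/
def HasType (s : Bool) (φ : MulAut (stdO2 F a b hab).T) : Prop :=
  ∃ m : QuadraticAlgebra F (-b) a, m ≠ 0 ∧
    ∀ r, em a b (φ r).w = m * (if s then star (em a b r.w) else em a b r.w)

theorem star_ne {m : QuadraticAlgebra F (-b) a} (hm : m ≠ 0) : star m ≠ 0 := fun h => hm (by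
  rw [← star_star m, h, star_zero])

theorem HasType.mul {s t : Bool} {φ ψ : MulAut (stdO2 F a b hab).T} (h : HasType hab s φ)
    (h' : HasType hab t ψ) : HasType hab (xor s t) (φ * ψ) := by
  have := fact_of_aniso hab
  obtain ⟨m, hm, h⟩ := h
  obtain ⟨m', hm', h'⟩ := h'
  refine ⟨m * (if s then star m' else m'), mul_ne_zero hm ?_, fun r => ?_⟩
  · split_ifs
    · exact star_ne hm'
    · exact hm'
  · rw [MulAut.mul_apply, h, h']
    cases s <;> cases t <;> simp [star_mul', mul_assoc]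

theorem HasType.inv {s : Bool} {φ : MulAut (stdO2 F a b hab).T} (h : HasType hab s φ) :
    HasType hab s φ⁻¹ := by
  have := fact_of_aniso hab
  obtain ⟨m, hm, h⟩ := h
  refine ⟨(if s then star m⁻¹ else m⁻¹), ?_, fun r => ?_⟩
  · split_ifs
    · exact star_ne (inv_ne_zero hm)
    · exact inv_ne_zero hm
  · have h1 := h (φ⁻¹ r)
    rw [MulAut.apply_inv_self] at h1
    rw [h1]
    cases s
    · simp only [Bool.false_eq_true, if_false]
      rw [← mul_assoc, inv_mul_cancel₀ hm, one_mul]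
    · simp only [if_true, star_mul', star_star]
      rw [← mul_assoc, ← star_mul', inv_mul_cancel₀ hm, star_one, one_mul]

theorem hasType_of_sim {φ : MulAut (stdO2 F a b hab).T} (hφ : φ ∈ SimG (stdO2 F a b hab)) :
    ∃ s, HasType hab s φ := by
  have := fact_of_aniso hab
  obtain ⟨hs, κ, hκ, h⟩ := hφ
  let el : QuadraticAlgebra F (-b) a → (stdO2 F a b hab).T :=
    fun x => ⟨(x.re, x.im), -nf a b (x.re, x.im), rfl⟩
  have hel : ∀ x, em a b (el x).w = x := fun x => rfl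
  have hel' : ∀ r, el (em a b r.w) = r := fun r => o2_ext hab rfl
  let g : QuadraticAlgebra F (-b) a → QuadraticAlgebra F (-b) a := fun x => em a b (φ (el x)).w
  have hg : ∀ r, em a b (φ r).w = g (em a b r.w) := fun r => by
    change _ = em a b (φ (el (em a b r.w))).w
    rw [hel']
  have hadd : ∀ x y, g (x + y) = g x + g y := by
    intro x y
    have h1 : el (x + y) = el x * el y := o2_ext hab rfl
    change em a b (φ (el (x + y))).w = _
    rw [h1, map_mul]
    rfl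
  have hsmul : ∀ (c : F) x, g (c • x) = c • g x := by
    intro c x
    have h1 : el (c • x) = (stdO2 F a b hab).sc c (el x) := o2_ext hab rfl
    change em a b (φ (el (c • x))).w = _
    rw [h1, hs]
    rfl
  have hN : ∀ x, norm (g x) = κ * norm x := by
    intro x
    have h1 := h (el x)
    have h2 : (φ (el x)).c = -nf a b (φ (el x)).w := (φ (el x)).ok
    have h3 : (el x).c = -nf a b (el x).w := rfl
    rw [h2, h3] at h1
    rw [← hel x, ← hg, norm_em, norm_em]
    linear_combination -h1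
  have hg1 : g 1 ≠ 0 := by
    intro h0
    have := hN 1
    rw [h0, QuadraticAlgebra.norm_zero, QuadraticAlgebra.norm_one, mul_one] at this
    exact hκ this.symm
  let T : QuadraticAlgebra F (-b) a →ₗ[F] QuadraticAlgebra F (-b) a :=
    { toFun := fun x => (g 1)⁻¹ * g x
      map_add' := fun x y => by rw [hadd, mul_add]
      map_smul' := fun c x => by rw [hsmul, RingHom.id_apply, mul_smul_comm] }
  have hT : ∀ x, T x = (g 1)⁻¹ * g x := fun x => rfl
  have hTn : ∀ x, norm (T x) = norm x := by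
    intro x
    have h1 : norm (g 1) * norm (T x) = κ * norm x := by
      rw [← map_mul, hT, ← mul_assoc, mul_inv_cancel₀ hg1, one_mul, hN]
    rw [hN, QuadraticAlgebra.norm_one, mul_one] at h1
    exact mul_left_cancel₀ hκ h1
  have hT1 : T 1 = 1 := by rw [hT, inv_mul_cancel₀ hg1]
  have hgT : ∀ x, g x = g 1 * T x := fun x => by
    rw [hT, ← mul_assoc, mul_inv_cancel₀ hg1, one_mul]
  rcases eq_of_fix_one hab T hTn hT1 with h4 | h4
  · refine ⟨false, g 1, hg1, fun r => ?_⟩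
    rw [hg, hgT, h4]; rfl
  · refine ⟨true, g 1, hg1, fun r => ?_⟩
    rw [hg, hgT, h4]; rfl

theorem solvable_o2 : Group.IsSolvable (SimG (stdO2 F a b hab)) := by
  apply solvable_of_commutators _ (Q2 hab) (Q2_comm hab)
  intro x hx y hy
  obtain ⟨s, hs⟩ := hasType_of_sim hab hx
  obtain ⟨t, ht⟩ := hasType_of_sim hab hy
  have h1 : HasType hab false ⁅x, y⁆ := by
    rw [commutatorElement_def]
    have := ((hs.mul hab ht).mul hab (hs.inv hab)).mul hab (ht.inv hab)
    have e : xor (xor (xor s t) s) t = false := by cases s <;> cases t <;> rfl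
    rwa [e] at this
  obtain ⟨m, hm, h⟩ := h1
  exact ⟨m, hm, h⟩

theorem em_refl (p : (stdO2 F a b hab).T) (hp : p.c ≠ 0) (r : (stdO2 F a b hab).T) :
    em a b ((stdO2 F a b hab).refl p hp r).w * star (em a b p.w) =
      -(em a b p.w * star (em a b r.w)) := by
  have hpc : p.c = -nf a b p.w := p.ok
  have h1 : nf a b p.w ≠ 0 := fun h => hp (by rw [hpc, h, neg_zero])
  rw [PQDatum.refl_w, em_add, em_smul, add_mul, smul_mul_assoc, ← algebraMap_norm_eq_mul_star,
    norm_em, Algebra.smul_def, ← map_mul, hpc]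
  have h2 : ((-nf a b p.w)⁻¹ * (stdO2 F a b hab).h r.w p.w) * nf a b p.w =
      -(stdO2 F a b hab).h r.w p.w := by
    rw [inv_neg]; field_simp
  rw [h2]
  change em a b r.w * star (em a b p.w) + algebraMap F _ (-(2 * r.w.1 * p.w.1 + a * (r.w.1 * p.w.2 +
    r.w.2 * p.w.1) + 2 * b * r.w.2 * p.w.2)) = _
  ext
  · simp [em]; ring
  · simp [em]; ring

theorem TorG_le_Q2 : TorG (stdO2 F a b hab) ≤ Q2 hab := by
  have := fact_of_aniso hab
  have hem : ∀ p : (stdO2 F a b hab).T, p.c ≠ 0 → em a b p.w ≠ 0 := by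
    intro p hp h
    apply hp
    have hpc : p.c = -nf a b p.w := p.ok
    rw [hpc, ← norm_em, h, QuadraticAlgebra.norm_zero, neg_zero]
  have hF : ∀ x : F, x ≠ 0 → (algebraMap F (QuadraticAlgebra F (-b) a) x) ≠ 0 := fun x hx h => by
    apply hx
    apply (algebraMap F (QuadraticAlgebra F (-b) a)).injective
    rw [h, map_zero]
  rw [TorG, Subgroup.closure_le]
  rintro φ (⟨x, hx, h⟩ | ⟨x, p, q, hp, hq, hx, h⟩)
  · refine ⟨algebraMap F _ x, hF x hx, fun r => ?_⟩
    rw [h r, PQDatum.sc_w]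
    change em a b (x • r.w) = _
    rw [em_smul, Algebra.smul_def]
  · set P := em a b p.w with hP
    set Q := em a b q.w with hQ
    have hP0 : P ≠ 0 := hem p hp
    have hQ0 : Q ≠ 0 := hem q hq
    have hP1 := star_ne hP0
    have hQ1 := star_ne hQ0
    refine ⟨algebraMap F _ x * (P * star Q / (star P * Q)),
      mul_ne_zero (hF x hx) (div_ne_zero (mul_ne_zero hP0 hQ1) (mul_ne_zero hP1 hQ0)),
      fun r => ?_⟩
    have e1 := em_refl hab q hq r
    have e2 := em_refl hab p hp ((stdO2 F a b hab).refl q hq r)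
    rw [← hQ] at e1
    rw [← hP] at e2
    have e3 := congrArg star e1
    simp only [star_mul', star_star, star_neg] at e3
    rw [h r, PQDatum.sc_w]
    change em a b (x • _) = _
    rw [em_smul, Algebra.smul_def, mul_assoc]
    congr 1
    rw [div_mul_eq_mul_div, eq_div_iff (mul_ne_zero hP1 hQ0)]
    linear_combination Q * e2 - P * e3

theorem Q2_not_dvd [Finite F] (p : ℕ) [Fact p.Prime] [CharP F p] :
    ¬ p ∣ Nat.card (Q2 hab) := by
  have := fact_of_aniso hab
  have hfin : Finite (stdO2 F a b hab).T := by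
    apply Finite.of_injective (fun r : (stdO2 F a b hab).T => r.w)
    intro r r' h
    exact o2_ext hab h
  have : Finite (MulAut (stdO2 F a b hab).T) :=
    Finite.of_injective (fun φ : MulAut (stdO2 F a b hab).T => (φ : _ → _)) DFunLike.coe_injective
  have : CharP (QuadraticAlgebra F (-b) a) p :=
    charP_of_injective_algebraMap (algebraMap F (QuadraticAlgebra F (-b) a)).injective p
  apply not_dvd_card
  rintro φ ⟨m, hm, h⟩ hφ
  have hpow : ∀ n : ℕ, ∀ r, em a b ((φ ^ n) r).w = m ^ n * em a b r.w := by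
    intro n
    induction n with
    | zero => intro r; simp
    | succ n ih =>
      intro r
      rw [pow_succ, MulAut.mul_apply, ih, h, pow_succ, mul_assoc]
  have hm1 : m = 1 := by
    apply pow_eq_one_of_char p
    have := hpow p ⟨(1, 0), -nf a b (1, 0), rfl⟩
    rw [hφ, MulAut.one_apply] at this
    have e : em a b ((1, 0) : F × F) = 1 := rfl
    simp only [e, mul_one] at this
    exact this.symm
  apply MulEquiv.ext
  intro r
  apply o2_ext
  apply em_inj (a := a) (b := b)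
  rw [h, hm1, one_mul, MulAut.one_apply]

end quad

end Cfsg.Agent.TitsThree.TorusII
end

-- part: TitsThree/EndII
section
/-!
S1143, END: the type II node.

* `Good D` : the similitudes of `D` form a solvable group, the torus has order prime to the
  characteristic; the five standard systems are good;
* `SolNode` : the image of `A_{c,d}` on a node is solvable; `solNode_of_field`, `solNode_II`,
  `tor_solvable_of_solNode`;
* `LinII` : elements acting on the type II root group through the torus; `commute_of_mem_LinII`.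
-/

set_option autoImplicit false

namespace Cfsg.Agent.TitsThree.EndII

open Cfsg.Agent.Tits.Core Cfsg.Agent.Tits.Core.Bldg Cfsg.Agent.Tits.Exchange
open Cfsg.Agent.Tits
open Cfsg.Agent.Tits.MouDefs (rt)
open Cfsg.Agent.Tits.MouOut
open Cfsg.Agent.TitsThree.Hua
open Cfsg.Agent.TitsThree.B2Pkg Cfsg.Agent.TitsThree.StdData Cfsg.Agent.TitsThree.TorusII
open Cfsg.Agent.TitsThree.EndGen Cfsg.Agent.TitsThree.EndPerm
open scoped commutatorElement
open MulAction

/-! ### Good parameter systems -/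

section Good

variable {F : Type*} [Field F] {V : Type*} [AddCommGroup V] [Module F V]

/-- The similitudes are solvable, the torus has order prime to the characteristic. -/
structure Good (D : PQDatum F V) : Prop where
  solv : Group.IsSolvable (SimG D)
  coprime : ∀ (p : ℕ) [Fact p.Prime] [CharP F p], ¬ p ∣ Nat.card (TorG D)

theorem finite_T (D : PQDatum F V) [Finite F] [Finite V] : Finite D.T :=
  Finite.of_injective (fun p : D.T => (p.w, p.c)) fun p q h => by
    ext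
    · exact congrArg Prod.fst h
    · exact congrArg Prod.snd h

theorem finite_mulAut {X : Type*} [Group X] [Finite X] : Finite (MulAut X) :=
  Finite.of_injective (fun φ : MulAut X => (φ : X → X)) DFunLike.coe_injective

theorem good_of_Q1 (D : PQDatum F V) [Finite F] [Finite V] (hs : Group.IsSolvable (SimG D))
    (hV : ∀ w w' : V, D.h w' w • w = D.h w w • w') (hne : ∃ r : D.T, r.c ≠ 0) : Good D := by
  have := finite_T D
  have : Finite (MulAut D.T) := finite_mulAut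
  exact ⟨hs, fun p _ _ => not_dvd_card_mono (TorG_le_Q1 D hV) (Q1_not_dvd D p hne)⟩

theorem good_sp [Finite F] : Good (stdSp F) :=
  good_of_Q1 _ solvable_sp (fun _ _ => rfl) ⟨⟨(), 1, trivial⟩, one_ne_zero⟩

theorem good_u0 [Finite F] (σ : F ≃+* F) (hσ : ∀ x, σ (σ x) = x) (hne : ∃ x, σ x ≠ x) :
    Good (stdU0 F σ hσ) := by
  obtain ⟨x, hx⟩ := hne
  refine good_of_Q1 _ (solvable_u0 σ hσ) (fun _ _ => rfl) ⟨⟨(), x - σ x, ?_⟩, ?_⟩
  · change x - σ x + σ (x - σ x) = 0
    rw [map_sub, hσ]; ring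
  · exact sub_ne_zero.2 (Ne.symm hx)

theorem good_o1 [Finite F] : Good (stdO1 F) := by
  refine good_of_Q1 _ solvable_o1 (fun w w' => ?_) ⟨⟨1, -1 ^ 2, rfl⟩, ?_⟩
  · change 2 * w' * w * w = 2 * w * w * w'
    ring
  · change -(1 : F) ^ 2 ≠ 0
    rw [one_pow]
    exact neg_ne_zero.2 one_ne_zero

theorem good_u1 [Finite F] (σ : F ≃+* F) (hσ : ∀ x, σ (σ x) = x) (hne : ∃ x, σ x ≠ x) :
    Good (stdU1 F σ hσ) := by
  have hex : ∃ c, c + σ c = -(1 : F) := by
    obtain ⟨t, ht⟩ := PQClass.exists_trace_ne σ hne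
    refine ⟨-(t / (t + σ t)), ?_⟩
    have h1 : σ (t + σ t) = t + σ t := by rw [map_add, hσ, add_comm]
    rw [map_neg, map_div₀, h1, ← neg_add, ← add_div, div_self ht]
  refine good_of_Q1 _ (solvable_u1 σ hσ hex) (fun w w' => ?_) ?_
  · change w' * σ w * w = w * σ w * w'
    ring
  · obtain ⟨c, hc⟩ := hex
    refine ⟨⟨1, c, ?_⟩, ?_⟩
    · change c + σ c = -(1 * σ 1)
      rw [hc, map_one, one_mul]
    · rintro (h : c = 0)
      rw [h, map_zero, add_zero] at hc
      exact one_ne_zero (neg_eq_zero.1 hc.symm)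

theorem good_o2 [Finite F] {a b : F}
    (hab : ∀ z₁ z₂ : F, z₁ ^ 2 + a * z₁ * z₂ + b * z₂ ^ 2 = 0 → z₁ = 0 ∧ z₂ = 0) :
    Good (stdO2 F a b hab) := by
  have := finite_T (stdO2 F a b hab)
  have : Finite (MulAut (stdO2 F a b hab).T) := finite_mulAut
  exact ⟨solvable_o2 hab, fun p _ _ => not_dvd_card_mono (TorG_le_Q2 hab) (Q2_not_dvd hab p)⟩

end Good

/-! ### Similitudes from automorphisms -/

section Sim

variable {F : Type*} [Field F] {V : Type*} [AddCommGroup V] [Module F V] {D : PQDatum F V}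
variable {A : Type*} [Group A] {m : B2Maps D A}

/-- An element of the torus commuting with the type I root groups acts on the type II root group
as a similitude. -/
theorem simG_of_commute (rel : B2Rel m) {g : A} (hx : ∀ a, g * m.x a = m.x a * g)
    (hx' : ∀ a, g * m.x' a = m.x' a * g) (φ : MulAut D.T)
    (hφ : ∀ p, m.z₂ (φ p) = g * m.z₂ p * g⁻¹) (hy : ∀ b, ∃ b', g * m.y b * g⁻¹ = m.y b')
    (uniq : ∀ p p' b b', m.z₁ p * m.y b = m.z₁ p' * m.y b' → p = p' ∧ b = b')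
    {p₀ : D.T} (hp₀ : p₀.c ≠ 0) : φ ∈ SimG D := by
  choose ψ hψ using hy
  have hcx : ∀ a, g * m.x a * g⁻¹ = m.x a := fun a => by rw [hx, mul_inv_cancel_right]
  have hcx' : ∀ a, g * m.x' a * g⁻¹ = m.x' a := fun a => by rw [hx', mul_inv_cancel_right]
  have hn : g * m.nI * g⁻¹ = m.nI := by
    have e : g * m.nI * g⁻¹ =
        (g * m.x 1 * g⁻¹) * (g * m.x' (-1) * g⁻¹) * (g * m.x 1 * g⁻¹) := by
      rw [B2Maps.nI]; group
    rw [e, hcx, hcx']
    rfl
  have hz₁ : ∀ p, g * m.z₁ p * g⁻¹ = m.z₁ (φ p) := by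
    intro p
    rw [← rel.nI_z₂ p, ← rel.nI_z₂ (φ p), hφ]
    have e : g * (m.nI * m.z₂ p * m.nI⁻¹) * g⁻¹ =
        (g * m.nI * g⁻¹) * (g * m.z₂ p * g⁻¹) * (g * m.nI * g⁻¹)⁻¹ := by group
    rw [e, hn]
  have key : ∀ a p, φ (D.sc a p) = D.sc a (φ p) ∧
      ψ (-(D.ε * a * D.σ p.c)) = -(D.ε * a * D.σ (φ p).c) := by
    intro a p
    have h1 := rel.x_z₂ a p
    have h2 := rel.x_z₂ a (φ p)
    have e : g * ⁅m.x a, m.z₂ p⁆ * g⁻¹ = ⁅g * m.x a * g⁻¹, g * m.z₂ p * g⁻¹⁆ := by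
      simp only [commutatorElement_def]; group
    have e' : g * (m.z₁ (D.sc a p) * m.y (-(D.ε * a * D.σ p.c))) * g⁻¹ =
        (g * m.z₁ (D.sc a p) * g⁻¹) * (g * m.y (-(D.ε * a * D.σ p.c)) * g⁻¹) := by group
    rw [h1, hcx, ← hφ, h2, e', hz₁, hψ] at e
    exact uniq _ _ _ _ e
  have hσ0 : ∀ {x : F}, x ≠ 0 → D.σ x ≠ 0 := fun hx => by simpa using hx
  have hφ0 : (φ p₀).c ≠ 0 := by
    intro h0
    rw [PQDatum.T.c_eq_zero_iff] at h0
    rw [ne_eq, PQDatum.T.c_eq_zero_iff] at hp₀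
    exact hp₀ (φ.injective (h0.trans (map_one φ).symm))
  set κ' : F := D.σ (φ p₀).c / D.σ p₀.c with hκ'
  have hψ' : ∀ b, ψ b = κ' * b := by
    intro b
    have h1 := (key (-((D.ε * D.σ p₀.c)⁻¹ * b)) p₀).2
    have hne : D.ε * D.σ p₀.c ≠ 0 := mul_ne_zero D.ε_ne (hσ0 hp₀)
    have e1 : -(D.ε * -((D.ε * D.σ p₀.c)⁻¹ * b) * D.σ p₀.c) = b := by
      have h2 : -(D.ε * -((D.ε * D.σ p₀.c)⁻¹ * b) * D.σ p₀.c) =
        (D.ε * D.σ p₀.c) * (D.ε * D.σ p₀.c)⁻¹ * b := by ring
      rw [h2, mul_inv_cancel₀ hne, one_mul]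
    rw [e1] at h1
    rw [h1, hκ']
    have h3 := D.ε_ne
    have h4 := hσ0 hp₀
    field_simp
  refine ⟨fun a p => (key a p).1, D.σ κ', ?_, fun p => ?_⟩
  · exact hσ0 (div_ne_zero (hσ0 hφ0) (hσ0 hp₀))
  · have h1 := (key 1 p).2
    rw [hψ', mul_one] at h1
    have h2 : D.σ (φ p).c = κ' * D.σ p.c := by
      have h3 : D.ε * D.σ (φ p).c = D.ε * (κ' * D.σ p.c) := by linear_combination h1
      exact mul_left_cancel₀ D.ε_ne h3
    have h3 := congrArg D.σ h2
    rwa [D.σσ, map_mul, D.σσ] at h3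

end Sim

/-! ### Automorphisms of the parameter group -/

/-- The action of a subgroup normalising the image of an injective homomorphism. -/
theorem exists_autHom {X A : Type*} [Group X] [Group A] {z : X → A}
    (zmul : ∀ p q, z (p * q) = z p * z q) (inj : Function.Injective z) (S : Subgroup A)
    (hS : ∀ h ∈ S, ∀ p, ∃ q, h * z p * h⁻¹ = z q) :
    ∃ ρ : ↥S →* MulAut X, ∀ h p, z (ρ h p) = (h : A) * z p * (h : A)⁻¹ := by
  have h1 : ∀ (h : ↥S) p, ∃ q, (h : A) * z p * (h : A)⁻¹ = z q := fun h p => hS h h.2 p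
  choose φ hφ using h1
  have hinv : ∀ (h : ↥S) p, φ h (φ h⁻¹ p) = p := by
    intro h p
    apply inj
    rw [← hφ, ← hφ]
    simp only [Subgroup.coe_inv]
    group
  let f : ↥S → MulAut X := fun h =>
    { toFun := φ h
      invFun := φ h⁻¹
      left_inv := fun p => by
        have := hinv h⁻¹ p
        rwa [inv_inv] at this
      right_inv := hinv h
      map_mul' := fun p q => by
        apply inj
        rw [← hφ, zmul, zmul, ← hφ, ← hφ]
        group }
  have hf : ∀ h p, z (f h p) = (h : A) * z p * (h : A)⁻¹ := fun h p => (hφ h p).symm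
  refine ⟨MonoidHom.mk' f fun a b => ?_, hf⟩
  apply MulEquiv.ext
  intro p
  apply inj
  rw [MulAut.mul_apply, hf, hf, hf]
  simp only [Subgroup.coe_mul]
  group

section Sys

variable {I : Type*} {M : CoxeterMatrix I} {W : Type*} [Group W] {cs : CoxeterSystem M W}
variable {C A : Type*} [Group A] [MulAction A C] {Δ : Bldg cs C}
variable {σ : W → C} {U : Set W → Subgroup A}

/-! ### Solvability -/

/-- The image of `A_{c,d}` on the node `i` is solvable. -/
def SolNode (cs : CoxeterSystem M W) (A : Type*) [Group A] [MulAction A C] (σ : W → C)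
    (U : Set W → Subgroup A) (i : I) : Prop :=
  ∃ N : Subgroup ↥(Tor cs A σ), ∃ _ : N.Normal, Group.IsSolvable (↥(Tor cs A σ) ⧸ N) ∧
    ∀ h ∈ N, ∀ u ∈ U (rt cs 1 i), (h : A) * u = u * h

theorem solNode_of_hom {i : I} {Q : Type*} [Group Q] (hQ : Group.IsSolvable Q)
    (f : ↥(Tor cs A σ) →* Q)
    (hf : ∀ h, f h = 1 → ∀ u ∈ U (rt cs 1 i), (h : A) * u = u * h) : SolNode cs A σ U i := by
  refine ⟨f.ker, inferInstance, ?_, fun h hh => hf h hh⟩
  exact Group.isSolvable_of_isSolvable_injective (QuotientGroup.kerLift_injective f)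

variable (H : Sys Δ A σ U)

include H

/-- **Solvability of `A_{c,d}`.** -/
theorem tor_solvable_of_solNode [Finite I] [Finite W] (h : ∀ i, SolNode cs A σ U i) :
    Group.IsSolvable ↥(Tor cs A σ) := by
  choose N hN hs hc using h
  exact tor_solvable H (Q := fun i => ↥(Tor cs A σ) ⧸ N i) hs
    (fun i => QuotientGroup.mk' (N i))
    fun i g hg u hu => hc i g ((QuotientGroup.eq_one_iff g).1 hg) u hu

theorem solNode_of_field [Finite W] {F : Type*} [Field F] [Finite F] {i : I} {xp xm : F → A}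
    (par : SL2Par xp xm) (hp : Set.range xp = U (rt cs 1 i))
    (hm : Set.range xm = U (rt cs (cs.simple i) i)) : SolNode cs A σ U i := by
  obtain ⟨f, hf⟩ := exists_hom_solvable H par hp hm
  exact solNode_of_hom isSolvable_GL1 f hf

variable {F : Type*} [Field F] {V : Type*} [AddCommGroup V] [Module F V] {D : PQDatum F V}
variable {m : B2Maps D A} (rel : B2Rel m) {i j : I}
variable (hx : Set.range m.x = U (rt cs 1 i)) (hx' : Set.range m.x' = U (rt cs (cs.simple i) i))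
variable (hz : Set.range m.z₂ = U (rt cs 1 j)) (hz' : Set.range m.z₂' = U (rt cs (cs.simple j) j))

include rel

include hx hx' in
/-- `n_I(t)` acts on the apartment as `s_i`. -/
theorem nn_perm [Finite W] {p₀ : D.T} (hp₀ : p₀.c ≠ 0) {t : F} (ht : t ≠ 0) (v : W) :
    CoreB2.nt m t • σ v = σ (cs.simple i * v) := by
  have mx : ∀ a, m.x a ∈ U (rt cs 1 i) := fun a => (hx ▸ ⟨a, rfl⟩ : m.x a ∈ (U (rt cs 1 i) : Set A))
  have mx' : ∀ a, m.x' a ∈ U (rt cs (cs.simple i) i) := fun a =>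
    (hx' ▸ ⟨a, rfl⟩ : m.x' a ∈ (U (rt cs (cs.simple i) i) : Set A))
  have hL : CoreB2.nt m t ∈ Lg cs U i :=
    mul_mem (mul_mem (Subgroup.mem_sup_left (mx _)) (Subgroup.mem_sup_right (mx' _)))
      (Subgroup.mem_sup_left (mx _))
  refine perm_of_conj H hL ?_ ?_ v
  · intro u hu
    have hu' : u ∈ Set.range m.x' := hx' ▸ hu
    obtain ⟨r, rfl⟩ := hu'
    have h1 := rel.nn_x' hp₀ (neg_ne_zero.2 ht) r
    rw [← rel.nn_inv, inv_inv] at h1
    change (CoreB2.nt m t)⁻¹ * m.x' r * CoreB2.nt m t = _ at h1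
    rw [h1]
    exact mx _
  · intro u hu
    have hu' : u ∈ Set.range m.x := hx ▸ hu
    obtain ⟨r, rfl⟩ := hu'
    have h1 := rel.nn_x hp₀ (neg_ne_zero.2 ht) r
    rw [← rel.nn_inv, inv_inv] at h1
    change (CoreB2.nt m t)⁻¹ * m.x r * CoreB2.nt m t = _ at h1
    rw [h1]
    exact mx' _

include hz hz' in
/-- `n_II(p)` acts on the apartment as `s_j`. -/
theorem nII_perm [Finite W] {p : D.T} (hp : p.c ≠ 0) (v : W) :
    m.nII p • σ v = σ (cs.simple j * v) := by
  have mz : ∀ a, m.z₂ a ∈ U (rt cs 1 j) := fun a => (hz ▸ ⟨a, rfl⟩ : m.z₂ a ∈ (U (rt cs 1 j) : Set A))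
  have mz' : ∀ a, m.z₂' a ∈ U (rt cs (cs.simple j) j) := fun a =>
    (hz' ▸ ⟨a, rfl⟩ : m.z₂' a ∈ (U (rt cs (cs.simple j) j) : Set A))
  have hL : m.nII p ∈ Lg cs U j :=
    mul_mem (mul_mem (Subgroup.mem_sup_right (mz' _)) (Subgroup.mem_sup_left (mz _)))
      (Subgroup.mem_sup_right (mz' _))
  refine perm_of_conj H hL ?_ ?_ v
  · intro u hu
    have hu' : u ∈ Set.range m.z₂' := hz' ▸ hu
    obtain ⟨r, rfl⟩ := hu'
    have h1 := rel.nII_z₂' p⁻¹ (D.inv_c_ne hp) r
    rw [← rel.nII_inv, inv_inv] at h1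
    rw [h1]
    exact mz _
  · intro u hu
    have hu' : u ∈ Set.range m.z₂ := hz ▸ hu
    obtain ⟨r, rfl⟩ := hu'
    have h1 := rel.nII_z₂ p⁻¹ (D.inv_c_ne hp) r
    rw [← rel.nII_inv, inv_inv] at h1
    rw [h1]
    exact mz' _

include hx hz hz' in
theorem y_mem_U [Finite W] {p₀ : D.T} (hp₀ : p₀.c ≠ 0) (b : F) :
    m.y b ∈ U (rt cs (cs.simple j) i) := by
  have h1 := rel.nII_x p₀ hp₀ ((D.ε * D.σ p₀.c)⁻¹ * b)
  have hne : D.ε * D.σ p₀.c ≠ 0 := mul_ne_zero D.ε_ne (by simpa using hp₀)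
  rw [mul_inv_cancel_left₀ hne] at h1
  rw [← h1]
  have h2 := H.conj (u := cs.simple j) (nII_perm H rel hz hz' hp₀) (w := 1) (i := i)
    (g := m.x ((D.ε * D.σ p₀.c)⁻¹ * b)) (hx ▸ ⟨_, rfl⟩ : m.x _ ∈ (U (rt cs 1 i) : Set A))
  rwa [mul_one] at h2

include hx hz hz' in
theorem exists_y [Finite W] {p₀ : D.T} (hp₀ : p₀.c ≠ 0) {g : A}
    (hg : g ∈ U (rt cs (cs.simple j) i)) : ∃ b, g = m.y b := by
  have hn : ∀ v, (m.nII p₀)⁻¹ • σ v = σ (cs.simple j * v) := fun v => by
    rw [inv_smul_eq_iff, nII_perm H rel hz hz' hp₀, ← mul_assoc, cs.simple_mul_simple_self,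
      one_mul]
  have h2 := H.conj hn hg
  rw [cs.simple_mul_simple_self] at h2
  have h3 : (m.nII p₀)⁻¹ * g * (m.nII p₀)⁻¹⁻¹ ∈ Set.range m.x := hx ▸ h2
  obtain ⟨a, ha⟩ := h3
  refine ⟨D.ε * D.σ p₀.c * a, ?_⟩
  rw [← rel.nII_x p₀ hp₀ a, ha]
  group

include hx hx' hz in
theorem z₁_mem_U [Finite W] {p₀ : D.T} (hp₀ : p₀.c ≠ 0) (p : D.T) :
    m.z₁ p ∈ U (rt cs (cs.simple i) j) := by
  have h1 := rel.nI_z₂ p
  rw [← CoreB2.nt_one] at h1
  rw [← h1]
  have h2 := H.conj (u := cs.simple i) (nn_perm H rel hx hx' hp₀ one_ne_zero) (w := 1) (i := j)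
    (g := m.z₂ p) (hz ▸ ⟨_, rfl⟩ : m.z₂ _ ∈ (U (rt cs 1 j) : Set A))
  rwa [mul_one] at h2

include hx hz' in
theorem z₂_eq_y [Finite W] {p₀ : D.T} (hp₀ : p₀.c ≠ 0) (injx : Function.Injective m.x)
    (injz : Function.Injective m.z₂) {r : D.T} {c : F} (h : m.z₂ r = m.y c) : r = 1 ∧ c = 0 := by
  have h1 := rel.nII_z₂ p₀ hp₀ r
  have h2 := rel.nII_y p₀ hp₀ c
  rw [h, h2] at h1
  have e1 : m.x (p₀.c⁻¹ * c) = 1 := by
    refine eq_one_of_mem_two H (w := cs.simple j) (i := j) (w' := 1) (i' := i) (v := 1) ?_ ?_ ?_ ?_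
    · rw [h1, ← SetLike.mem_coe, ← hz']
      exact ⟨_, rfl⟩
    · rw [← SetLike.mem_coe, ← hx]
      exact ⟨_, rfl⟩
    · have := mul_simple_notMem_rt (cs := cs) (cs.simple j) j
      rwa [cs.simple_mul_simple_self] at this
    · exact self_mem_rt 1 i
  have e2 : m.x 0 = 1 := CoreB2.x_zero rel
  have e3 : c = 0 := by
    have := injx (e1.trans e2.symm)
    exact (mul_eq_zero.1 this).resolve_left (inv_ne_zero hp₀)
  refine ⟨injz ?_, e3⟩
  rw [h, e3, CoreB2.y_zero rel, CoreB2.z₂_one rel]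

include hx hz' in
theorem z₁_eq_y [Finite W] {p₀ : D.T} (hp₀ : p₀.c ≠ 0) (injx : Function.Injective m.x)
    (injz : Function.Injective m.z₂) {p : D.T} {b : F} (h : m.z₁ p = m.y b) : p = 1 ∧ b = 0 := by
  have h1 := rel.nI_z₁ p
  have h2 := rel.nI_y b
  rw [h, h2] at h1
  obtain ⟨h3, h4⟩ := z₂_eq_y H rel hx hz' hp₀ injx injz h1.symm
  constructor
  · have h5 := congrArg (D.sc (-1)) h3
    rw [TorusII.sc_sc, neg_mul_neg, one_mul, TorusII.sc_one, D.sc_T_one] at h5
    exact h5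
  · have := (mul_eq_zero.1 h4).resolve_left D.ε_ne
    simpa using this

include hx hz' in
/-- Uniqueness of the decomposition of `Z₁ Y`. -/
theorem zy_unique [Finite W] {p₀ : D.T} (hp₀ : p₀.c ≠ 0) (injx : Function.Injective m.x)
    (injz : Function.Injective m.z₂) (p p' : D.T) (b b' : F)
    (h : m.z₁ p * m.y b = m.z₁ p' * m.y b') : p = p' ∧ b = b' := by
  have h1 : m.z₁ (p'⁻¹ * p) = m.y (b' + -b) := by
    rw [rel.z₁_mul, rel.y_add, CoreB2.y_neg rel, CoreB2.z₁_inv rel, inv_mul_eq_iff_eq_mul,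
      ← mul_assoc, ← h, mul_inv_cancel_right]
  obtain ⟨h2, h3⟩ := z₁_eq_y H rel hx hz' hp₀ injx injz h1
  exact ⟨(inv_mul_eq_one.1 h2).symm, by linear_combination -h3⟩

omit rel in
theorem commute_neg [Finite W] [Finite F] {xp xm : F → A} (par : SL2Par xp xm)
    (hp : Set.range xp = U (rt cs 1 i)) (hm : Set.range xm = U (rt cs (cs.simple i) i)) {h : A}
    (hh : h ∈ Tor cs A σ) (hc : ∀ t, h * xp t = xp t * h) (t : F) : h * xm t = xm t * h := by
  have hi : h⁻¹ ∈ Tor cs A σ := inv_mem hh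
  have key : ∀ (y : F → A) (w : W), Set.range y = U (rt cs w i) →
      Set.range (fun t => h * y t * h⁻¹) = Set.range y := by
    intro y w hy
    rw [hy]
    ext g
    constructor
    · rintro ⟨t, rfl⟩
      exact tor_conj H hh (hy ▸ ⟨t, rfl⟩ : y t ∈ (U (rt cs w i) : Set A))
    · intro hg
      have h1 : h⁻¹ * g * h⁻¹⁻¹ ∈ (U (rt cs w i) : Set A) := tor_conj H hi hg
      rw [← hy] at h1
      obtain ⟨t, ht⟩ := h1
      exact ⟨t, by change h * y t * h⁻¹ = g; rw [ht]; group⟩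
  obtain ⟨τ, c, hc0, h1, h2⟩ := GlueA.compare par (par.conj h) (key xp 1 hp)
    (key xm (cs.simple i) hm)
  have h3 : ∀ t, c * τ t = t := fun t => by
    apply par.injp
    rw [← h1, hc, mul_inv_cancel_right]
  have h4 : c = 1 := by
    have := h3 1
    rwa [map_one, mul_one] at this
  have h5 := h2 t
  have h6 := h3 t
  rw [h4, one_mul] at h6
  rw [h4, inv_one, one_mul, h6, mul_inv_eq_iff_eq_mul] at h5
  exact h5

include hx hx' hz hz' in
/-- **The image of `A_{c,d}` on the type II node is solvable.** -/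
theorem solNode_II [Finite W] [Finite F] (good : Good D) (par : SL2Par m.x m.x')
    (injz : Function.Injective m.z₂) {p₀ : D.T} (hp₀ : p₀.c ≠ 0) : SolNode cs A σ U j := by
  obtain ⟨f₁, hf₁⟩ := exists_torHom H par hx hx'
  obtain ⟨ρ, hρ⟩ := exists_autHom rel.z₂_mul injz (Tor cs A σ) (fun h hh p => by
    have h1 : h * m.z₂ p * h⁻¹ ∈ (U (rt cs 1 j) : Set A) :=
      tor_conj H hh (hz ▸ ⟨p, rfl⟩ : m.z₂ p ∈ (U (rt cs 1 j) : Set A))
    rw [← hz] at h1
    obtain ⟨q, hq⟩ := h1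
    exact ⟨q, hq.symm⟩)
  have hsim : ∀ h, f₁ h = 1 → ρ h ∈ SimG D := by
    intro h hh
    have hc : ∀ t, (h : A) * m.x t = m.x t * (h : A) := fun t => by
      have h1 := hf₁ h t
      rw [hh] at h1
      rw [eq_mul_inv_iff_mul_eq] at h1
      exact h1.symm
    refine simG_of_commute rel hc (commute_neg H par hx hx' h.2 hc) (ρ h) (hρ h) (fun b => ?_)
      (zy_unique H rel hx hz' hp₀ par.injp injz) hp₀
    exact exists_y H rel hx hz hz' hp₀ (tor_conj H h.2 (y_mem_U H rel hx hz hz' hp₀ b))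
  let f : ↥(Tor cs A σ) →* GL1 F × MulAut D.T := f₁.prod ρ
  let π : f.range →* GL1 F := (MonoidHom.fst _ _).comp f.range.subtype
  let ι : π.ker →* MulAut D.T := ((MonoidHom.snd _ _).comp f.range.subtype).comp π.ker.subtype
  have hι : ∀ x, ι x ∈ SimG D := by
    rintro ⟨⟨x, ⟨h, rfl⟩⟩, hx⟩
    exact hsim h hx
  let κ : π.ker →* SimG D := ι.codRestrict (SimG D) hι
  have hκ : Function.Injective κ := by
    rintro ⟨⟨x, hx1⟩, hx2⟩ ⟨⟨y, hy1⟩, hy2⟩ hxy
    have h1 : x.2 = y.2 := congrArg Subtype.val hxy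
    have h2 : x.1 = 1 := hx2
    have h3 : y.1 = 1 := hy2
    apply Subtype.ext
    apply Subtype.ext
    exact Prod.ext (h2.trans h3.symm) h1
  have := good.solv
  have s1 : Group.IsSolvable π.ker := Group.isSolvable_of_isSolvable_injective hκ
  have s2 : Group.IsSolvable (GL1 F) := isSolvable_GL1
  have s3 : Group.IsSolvable f.range :=
    Group.isSolvable_of_ker_le_range π.ker.subtype π (by rw [Subgroup.range_subtype])
  refine solNode_of_hom s3 f.rangeRestrict fun h hh u hu => ?_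
  have h1 : f h = 1 := congrArg Subtype.val hh
  have h2 : ρ h = 1 := congrArg Prod.snd h1
  have hu' : u ∈ Set.range m.z₂ := hz ▸ hu
  obtain ⟨p, rfl⟩ := hu'
  have h3 := hρ h p
  rw [h2, MulAut.one_apply, eq_mul_inv_iff_mul_eq] at h3
  exact h3.symm

end Sys

/-! ### The torus on the type II root group -/

section LinII

variable {F : Type*} [Field F] {V : Type*} [AddCommGroup V] [Module F V] {D : PQDatum F V}
variable {A : Type*} [Group A] {m : B2Maps D A}

/-- Elements acting on the type II root group through the torus. -/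
def LinII (m : B2Maps D A) : Subgroup A where
  carrier := {h | ∃ φ ∈ TorG D, ∀ p, h * m.z₂ p * h⁻¹ = m.z₂ (φ p)}
  one_mem' := ⟨1, one_mem _, fun p => by rw [one_mul, inv_one, mul_one, MulAut.one_apply]⟩
  mul_mem' := by
    rintro h k ⟨φ, hφ, h1⟩ ⟨ψ, hψ, h2⟩
    refine ⟨φ * ψ, mul_mem hφ hψ, fun p => ?_⟩
    have e : h * k * m.z₂ p * (h * k)⁻¹ = h * (k * m.z₂ p * k⁻¹) * h⁻¹ := by group
    rw [e, h2, h1, MulAut.mul_apply]
  inv_mem' := by
    rintro h ⟨φ, hφ, h1⟩
    refine ⟨φ⁻¹, inv_mem hφ, fun p => ?_⟩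
    have h2 := h1 (φ⁻¹ p)
    rw [MulAut.apply_inv_self] at h2
    rw [← h2]
    group

theorem mem_LinII {h : A} :
    h ∈ LinII m ↔ ∃ φ ∈ TorG D, ∀ p, h * m.z₂ p * h⁻¹ = m.z₂ (φ p) := Iff.rfl

theorem mem_LinII_of_commute {h : A} (hc : ∀ p, h * m.z₂ p = m.z₂ p * h) : h ∈ LinII m :=
  ⟨1, one_mem _, fun p => by rw [hc, mul_inv_cancel_right, MulAut.one_apply]⟩

/-- An element of order `p` acting through the torus centralises the type II root group. -/
theorem commute_of_mem_LinII (good : Good D) {p : ℕ} [hp : Fact p.Prime] [CharP F p]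
    (inj : Function.Injective m.z₂) {h : A} (hh : h ∈ LinII m) (ho : orderOf h = p) (r : D.T) :
    h * m.z₂ r = m.z₂ r * h := by
  obtain ⟨φ, hφ, h1⟩ := hh
  have h2 : ∀ k : ℕ, ∀ r, h ^ k * m.z₂ r * (h ^ k)⁻¹ = m.z₂ ((φ ^ k) r) := by
    intro k
    induction k with
    | zero => intro r; simp
    | succ k ih =>
      intro r
      have e : h ^ (k + 1) * m.z₂ r * (h ^ (k + 1))⁻¹ = h * (h ^ k * m.z₂ r * (h ^ k)⁻¹) * h⁻¹ := by
        rw [pow_succ']; group
      rw [e, ih, h1, pow_succ', MulAut.mul_apply]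
  have h3 : φ ^ p = 1 := by
    apply MulEquiv.ext
    intro r
    apply inj
    rw [← h2, ← ho, pow_orderOf_eq_one, one_mul, inv_one, mul_one, MulAut.one_apply]
  have h4 : φ = 1 := by
    by_contra hne
    have h5 : orderOf φ = p := orderOf_eq_prime h3 hne
    have h6 : orderOf (⟨φ, hφ⟩ : TorG D) = p := by rw [← h5, ← Subgroup.orderOf_coe]
    exact good.coprime p (h6 ▸ orderOf_dvd_natCard _)
  have h7 := h1 r
  rw [h4, MulAut.one_apply, mul_inv_eq_iff_eq_mul] at h7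
  exact h7

variable (rel : B2Rel m)

include rel

/-- `h_I(t)` acts through the torus. -/
theorem nt_mem_LinII {s t : F} (hs : s ≠ 0) (ht : t ≠ 0) :
    CoreB2.nt m s * (CoreB2.nt m t)⁻¹ ∈ LinII m := by
  have ha : s⁻¹ * t ≠ 0 := mul_ne_zero (inv_ne_zero hs) ht
  let φ : MulAut D.T :=
    { toFun := D.sc (s⁻¹ * t)
      invFun := D.sc (s⁻¹ * t)⁻¹
      left_inv := fun r => by rw [TorusII.sc_sc, inv_mul_cancel₀ ha, TorusII.sc_one]
      right_inv := fun r => by rw [TorusII.sc_sc, mul_inv_cancel₀ ha, TorusII.sc_one]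
      map_mul' := D.sc_mul _ }
  refine ⟨φ, Subgroup.subset_closure (Or.inl ⟨_, ha, fun r => rfl⟩), fun r => ?_⟩
  change _ = m.z₂ (D.sc (s⁻¹ * t) r)
  have h1 := rel.nn_z₂ (neg_ne_zero.2 ht) r
  rw [← rel.nn_inv, inv_inv] at h1
  have e : CoreB2.nt m s * (CoreB2.nt m t)⁻¹ * m.z₂ r * (CoreB2.nt m s * (CoreB2.nt m t)⁻¹)⁻¹ =
      CoreB2.nt m s * ((CoreB2.nt m t)⁻¹ * m.z₂ r * CoreB2.nt m t) * (CoreB2.nt m s)⁻¹ := by group
  change (CoreB2.nt m t)⁻¹ * m.z₂ r * CoreB2.nt m t = _ at h1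
  rw [e, h1]
  have h2 := rel.nn_z₁ hs (D.sc (-t) r)
  change CoreB2.nt m s * m.z₁ (D.sc (-t) r) * (CoreB2.nt m s)⁻¹ = _ at h2
  rw [h2, TorusII.sc_sc, neg_mul_neg]

/-- `h_I(t)` acts through the torus. -/
theorem hh_mem_LinII {t : F} (ht : t ≠ 0) : hh m.x m.x' t ∈ LinII m :=
  nt_mem_LinII rel ht one_ne_zero

/-- The type II torus elements act through the torus. -/
theorem nII_mem_LinII [Finite D.T] {p q : D.T} (hp : p.c ≠ 0) (hq : q.c ≠ 0) :
    m.nII p * (m.nII q)⁻¹ ∈ LinII m := by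
  have hq' := D.inv_c_ne hq
  have hσ0 : ∀ {x : F}, x ≠ 0 → D.σ x ≠ 0 := fun hx => by simpa using hx
  set a : F := D.ε⁻¹ * p.c * (D.σ (q⁻¹).c)⁻¹ with ha
  have ha0 : a ≠ 0 := mul_ne_zero (mul_ne_zero (inv_ne_zero D.ε_ne) hp) (inv_ne_zero (hσ0 hq'))
  let g : D.T → D.T := fun r => D.sc a (D.refl p hp (D.refl q⁻¹ hq' r))
  have gmul : ∀ r r', g (r * r') = g r * g r' := fun r r' => by
    simp only [g]
    rw [D.refl_mul, D.refl_mul, D.sc_mul]
  have ginj : Function.Injective g := by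
    intro r r' h
    have h1 := congrArg (D.sc a⁻¹) h
    simp only [g] at h1
    rw [TorusII.sc_sc, TorusII.sc_sc, inv_mul_cancel₀ ha0, TorusII.sc_one, TorusII.sc_one] at h1
    exact D.refl_injective _ _ (D.refl_injective _ _ h1)
  let φ : MulAut D.T := MulEquiv.ofBijective (MonoidHom.mk' g gmul)
    ((Finite.injective_iff_bijective (f := g)).1 ginj)
  refine ⟨φ, Subgroup.subset_closure (Or.inr ⟨a, p, q⁻¹, hp, hq', ha0, fun r => rfl⟩),
    fun r => ?_⟩
  change _ = m.z₂ (D.sc a (D.refl p hp (D.refl q⁻¹ hq' r)))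
  have h1 := rel.nII_z₂ q⁻¹ hq' r
  have e : m.nII p * (m.nII q)⁻¹ * m.z₂ r * (m.nII p * (m.nII q)⁻¹)⁻¹ =
      m.nII p * ((m.nII q)⁻¹ * m.z₂ r * (m.nII q)⁻¹⁻¹) * (m.nII p)⁻¹ := by group
  rw [e, rel.nII_inv, h1, rel.nII_z₂' p hp, D.refl_sc, TorusII.sc_sc]

/-- The type II torus elements act linearly on the type I root group. -/
theorem nII_mem_Lin {p q : D.T} (hp : p.c ≠ 0) (hq : q.c ≠ 0) :
    m.nII p * (m.nII q)⁻¹ ∈ Lin m.x :=
  ⟨p.c⁻¹ * q.c, mul_ne_zero (inv_ne_zero hp) hq, fun t => rel.hII_x hp hq t⟩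

end LinII

end Cfsg.Agent.TitsThree.EndII
end

-- part: TitsThree/EndRefl
section
/-!
# Elements of `L_i` acting as the reflection `s_i` (S1143)

An element of `L_i` which, together with its inverse, maps `σ 1` to `σ s_i` acts on the apartment as
`s_i`; quotients of two such elements lie in `A_{c,d}`.
-/

set_option autoImplicit false

namespace Cfsg.Agent.TitsThree.EndRefl

open Cfsg.Agent.Tits.Core Cfsg.Agent.Tits.Core.Bldg Cfsg.Agent.Tits.Exchange
open Cfsg.Agent.Tits Cfsg.Agent.Tits.MouTrans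
open Cfsg.Agent.Tits.MouDefs (rt)
open Cfsg.Agent.Tits.MouOut
open Cfsg.Agent.TitsThree.EndGen

variable {I : Type*} {M : CoxeterMatrix I} {W : Type*} [Group W] {cs : CoxeterSystem M W}
variable {C A : Type*} [Group A] [MulAction A C] {Δ : Bldg cs C}
variable {σ : W → C} {U : Set W → Subgroup A} (H : Sys Δ A σ U)

theorem length_two [Finite I] [Finite W] {i j : I} (hij : i ≠ j) : cs.length (cs.simple i * cs.simple j) = 2 := by
  have h1 := cs.length_simple_mul (cs.simple j) i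
  rw [cs.length_simple] at h1
  rcases h1 with h1 | h1
  · omega
  · have h2 : cs.simple i * cs.simple j = 1 := (cs.length_eq_zero_iff).1 (by omega)
    have h3 : cs.simple i = cs.simple j := by
      rw [← cs.inv_simple j]
      exact eq_inv_of_mul_eq_one_left h2
    exact absurd (Cfsg.Agent.Tits.Ext.simple_injective h3) hij

/-- `1 ∈ rt s_i j` for `i ≠ j`. -/
theorem one_mem_rt [Finite I] [Finite W] {i j : I} (hij : i ≠ j) : (1 : W) ∈ rt cs (cs.simple i) j := by
  rw [mem_rt, mul_one, cs.inv_simple, cs.length_simple, length_two (Ne.symm hij)]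
  exact Nat.one_lt_two

include H

/-- `L_i` acts on the panel of `σ w₀` opposite to the panel of type `i` of `σ 1`. -/
theorem pan_opp [Finite W] {i : I} {g : A} (hg : g ∈ Lg cs U i) :
    g • σ (w0 cs) ∈ Δ.Pan (op cs i) (σ (w0 cs)) := by
  have hl : cs.length (cs.simple i * w0 cs) < cs.length (w0 cs) := by
    have h1 := length_mul_w0 cs (cs.simple i)
    rw [cs.length_simple] at h1
    omega
  have hs : σ (cs.simple i * w0 cs) ∈ Δ.Pan (op cs i) (σ (w0 cs)) := by
    right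
    rw [H.chart, ← w0_mul_simple_op, inv_mul_cancel_left]
  let S : Subgroup A :=
    { carrier := {g | g • σ (w0 cs) ∈ Δ.Pan (op cs i) (σ (w0 cs))}
      one_mem' := by
        change (1 : A) • σ (w0 cs) ∈ Δ.Pan (op cs i) (σ (w0 cs))
        rw [one_smul]; exact Δ.self_mem_Pan _ _
      mul_mem' := by
        intro a b ha hb
        change (a * b) • σ (w0 cs) ∈ Δ.Pan (op cs i) (σ (w0 cs))
        rw [mul_smul]
        exact Δ.mem_Pan_trans ha (pan_smul H.iso a hb)
      inv_mem' := by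
        intro a ha
        change a⁻¹ • σ (w0 cs) ∈ Δ.Pan (op cs i) (σ (w0 cs))
        have := pan_smul H.iso a⁻¹ ha
        rw [inv_smul_smul] at this
        exact Δ.mem_Pan_symm this }
  have h1 : U (rt cs 1 i) ≤ S := fun g hg => by
    change g • σ (w0 cs) ∈ Δ.Pan (op cs i) (σ (w0 cs))
    have h3 := pan_smul H.iso g (Δ.mem_Pan_symm hs)
    rw [H.fix hg (v := cs.simple i * w0 cs)] at h3
    · exact Δ.mem_Pan_trans hs h3
    · rw [mem_rt, inv_one, one_mul, cs.simple_mul_simple_cancel_left]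
      exact hl
  have h2 : U (rt cs (cs.simple i) i) ≤ S := fun g hg => by
    change g • σ (w0 cs) ∈ Δ.Pan (op cs i) (σ (w0 cs))
    rw [H.fix hg (v := w0 cs)]
    · exact Δ.self_mem_Pan _ _
    · rw [mem_rt, cs.inv_simple, cs.simple_mul_simple_cancel_left]
      exact hl
  exact (sup_le h1 h2) hg

/-- **An element of `L_i` exchanging `σ 1` and `σ s_i` acts on `σ` as `s_i`.** -/
theorem refl_of [Finite W] {i : I} {n : A} (hn : n ∈ Lg cs U i) (h1 : n • σ 1 = σ (cs.simple i))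
    (h2 : n⁻¹ • σ 1 = σ (cs.simple i)) (v : W) : n • σ v = σ (cs.simple i * v) := by
  obtain ⟨m, hm, hm'⟩ := H.weyl i
  have hl : cs.length (cs.simple i * w0 cs) < cs.length (w0 cs) := by
    have h1 := length_mul_w0 cs (cs.simple i)
    rw [cs.length_simple] at h1
    omega
  -- the image of `σ w₀`
  have hw : n • σ (w0 cs) = σ (cs.simple i * w0 cs) := by
    have e1 : Δ.δ (σ 1) (n • σ (w0 cs)) = cs.simple i * w0 cs := by
      have e0 : Δ.δ (n • n⁻¹ • σ 1) (n • σ (w0 cs)) = cs.simple i * w0 cs := by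
        rw [H.iso, h2, H.chart, cs.inv_simple]
      rwa [smul_inv_smul] at e0
    have e2 : σ (cs.simple i * w0 cs) ∈ Δ.Pan (op cs i) (σ (w0 cs)) := by
      right
      rw [H.chart, ← w0_mul_simple_op, inv_mul_cancel_left]
    have e3 : n • σ (w0 cs) ∈ Δ.Pan (op cs i) (σ (cs.simple i * w0 cs)) :=
      Δ.mem_Pan_trans (Δ.mem_Pan_symm e2) (pan_opp H hn)
    rcases e3 with e3 | e3
    · exact e3
    · exfalso
      have e4 : Δ.δ (σ 1) (σ (cs.simple i * w0 cs)) = cs.simple i * w0 cs := by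
        rw [H.chart, inv_one, one_mul]
      have e5 : cs.simple i * w0 cs * cs.simple (op cs i) = w0 cs := by
        rw [mul_assoc, w0_mul_simple_op, cs.simple_mul_simple_cancel_left]
      have e6 := Δ.δ_mul (x := σ 1) (y := σ (cs.simple i * w0 cs)) (z := n • σ (w0 cs)) (by
        rw [e4, e3, e5, cs.length_simple]
        have h3 := length_mul_w0 cs (cs.simple i)
        rw [cs.length_simple] at h3
        omega)
      rw [e1, e4, e3, e5] at e6
      rw [e6] at hl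
      exact lt_irrefl _ hl
  have hmi : ∀ v, m⁻¹ • σ v = σ (cs.simple i * v) := fun v => by
    rw [inv_smul_eq_iff, hm', cs.simple_mul_simple_cancel_left]
  have hfix : (m⁻¹ * n) • σ v = σ v := by
    refine H.fix_of_fix ?_ ?_ v
    · rw [mul_smul, h1, hmi, cs.simple_mul_simple_self]
    · rw [mul_smul, hw, hmi, cs.simple_mul_simple_cancel_left]
  rw [mul_smul, inv_smul_eq_iff, hm'] at hfix
  exact hfix

omit H in
/-- The quotient of two elements acting as `s_i` lies in `A_{c,d}`. -/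
theorem div_mem_tor {i : I} {n n' : A} (hn : ∀ v, n • σ v = σ (cs.simple i * v))
    (hn' : ∀ v, n' • σ v = σ (cs.simple i * v)) : n * n'⁻¹ ∈ Tor cs A σ := by
  refine mem_tor_of_fix fun v => ?_
  have h1 : n'⁻¹ • σ v = σ (cs.simple i * v) := by
    rw [inv_smul_eq_iff, hn', cs.simple_mul_simple_cancel_left]
  rw [mul_smul, h1, hn, cs.simple_mul_simple_cancel_left]

/-- Conjugates of the elements of `U (rt 1 j)` under an element acting as `s_i`, `i ≠ j`. -/
theorem conj_mem_Up [Finite I] [Finite W] {i j : I} (hij : i ≠ j) {n g : A} (hn : ∀ v, n • σ v = σ (cs.simple i * v))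
    (hg : g ∈ U (rt cs 1 j)) : n * g * n⁻¹ ∈ Up cs U := by
  have h1 := H.conj hn hg
  rw [mul_one] at h1
  exact H.rt_le_Up (one_mem_rt hij) h1

/-! ### Nodes of a package in `G'` -/

section Node

open Cfsg.Agent.TitsThree.EndRange Cfsg.Agent.TitsThree.Pack Cfsg.Agent.TitsThree.B2Pkg
open Cfsg.Agent.TitsThree.AssembleBase Cfsg.Agent.TitsThree.AssembleEdge

variable {i j : I}

theorem nodeAct {X : Type*} {xp xm : X → ↥(Gg cs U)} (hr : NodeRange U i xp xm) :
    NodeAct Δ (σ 1) i (σ (cs.simple i)) xp xm :=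
  H.nodeAct hr.mem (fun _ hg => hr.exists_eq hg) hr.mem' (fun _ hg => hr.exists_eq' hg)

omit H in
theorem node_le {X : Type*} {xp xm : X → ↥(Gg cs U)} (hr : NodeRange U i xp xm) (t : X) :
    (xp t : A) ∈ Lg cs U i ∧ (xm t : A) ∈ Lg cs U i :=
  ⟨le_sup_left (a := U (rt cs 1 i)) (hr.mem t), le_sup_right (a := U (rt cs 1 i)) (hr.mem' t)⟩

variable {F : Type*} [Field F] {xp xm yp ym : F → ↥(Gg cs U)}

omit H in
theorem nn_mem_Lg (hr : NodeRange U i xp xm) (t : F) : ((nn xp xm t : ↥(Gg cs U)) : A) ∈ Lg cs U i :=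
  mul_mem (mul_mem (node_le hr t).1 (node_le hr _).2) (node_le hr t).1

/-- `n(t)` for the first node of an edge acts as a reflection. -/
theorem refl_nn [Finite W] (e : Edge3 xp xm yp ym) (hr : NodeRange U i xp xm) {t : F} (ht : t ≠ 0)
    (v : W) : ((nn xp xm t : ↥(Gg cs U)) : A) • σ v = σ (cs.simple i * v) := by
  have iso : ∀ (a : ↥(Gg cs U)) x y, Δ.δ (a • x) (a • y) = Δ.δ x y := fun a x y => H.iso (a : A) x y
  have key : ∀ t : F, t ≠ 0 → ((nn xp xm t : ↥(Gg cs U)) : A) • σ 1 = σ (cs.simple i) := fun t ht =>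
    nn_smul_left iso H.thick (nodeAct H hr) (e.prod e) t ht
  refine refl_of H (nn_mem_Lg hr t) (key t ht) ?_ v
  have h1 : (nn xp xm t)⁻¹ = nn xp xm (-t) := by
    obtain ⟨x, hx, rfl, rfl, rfl, rfl⟩ := e
    exact RankTwoA2.n_inv hx (by decide) t
  have h2 := key (-t) (neg_ne_zero.2 ht)
  rw [← h1] at h2
  exact h2

/-- `h(t)` lies in `A_{c,d}`. -/
theorem hh_mem_tor [Finite W] (e : Edge3 xp xm yp ym) (hr : NodeRange U i xp xm) {t : F} (ht : t ≠ 0) :
    ((hh xp xm t : ↥(Gg cs U)) : A) ∈ Tor cs A σ :=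
  div_mem_tor (refl_nn H e hr ht) (refl_nn H e hr one_ne_zero)

variable {V : Type*} [AddCommGroup V] [Module F V] {D : PQDatum F V} {m : B2Maps D ↥(Gg cs U)}

/-- `n_II(p)` acts as a reflection. -/
theorem refl_nII [Finite W] (h : B2Rel m) (hr : NodeRange U i m.z₂ m.z₂') {p : D.T} (hp : p.c ≠ 0)
    (v : W) : ((m.nII p : ↥(Gg cs U)) : A) • σ v = σ (cs.simple i * v) := by
  have iso : ∀ (a : ↥(Gg cs U)) x y, Δ.δ (a • x) (a • y) = Δ.δ x y := fun a x y => H.iso (a : A) x y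
  have key : ∀ p : D.T, p.c ≠ 0 → ((m.nII p : ↥(Gg cs U)) : A) • σ 1 = σ (cs.simple i) :=
    fun p hp => AssembleB2.nII_smul iso H.thick (nodeAct H hr) (B2Rel.prod h h) p hp
  refine refl_of H (mul_mem (mul_mem (node_le hr _).2 (node_le hr _).1) (node_le hr _).2)
    (key p hp) ?_ v
  have h2 := key p⁻¹ (CoreB2.inv_c_ne hp)
  rw [← CoreB2.nII_inv h] at h2
  exact h2

theorem nII_mem_tor [Finite W] (h : B2Rel m) (hr : NodeRange U i m.z₂ m.z₂') {p q : D.T}
    (hp : p.c ≠ 0) (hq : q.c ≠ 0) : ((m.nII p * (m.nII q)⁻¹ : ↥(Gg cs U)) : A) ∈ Tor cs A σ :=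
  div_mem_tor (refl_nII H h hr hp) (refl_nII H h hr hq)

/-- `y b` lies in `U_+`. -/
theorem y_mem_Up [Finite I] [Finite W] (hij : i ≠ j) (h : B2Rel m) (hx : NodeRange U j m.x m.x')
    (hr : NodeRange U i m.z₂ m.z₂') {p : D.T} (hp : p.c ≠ 0) (b : F) :
    ((m.y b : ↥(Gg cs U)) : A) ∈ Up cs U := by
  have h1 := h.nII_x p hp (D.ε⁻¹ * (D.σ p.c)⁻¹ * b)
  have h2 : D.σ p.c ≠ 0 := fun h0 => hp ((map_eq_zero_iff D.σ D.σ.injective).1 h0)
  have h3 : D.ε * D.σ p.c * (D.ε⁻¹ * (D.σ p.c)⁻¹ * b) = b := by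
    have := D.ε_ne
    field_simp
  rw [h3] at h1
  rw [← h1]
  exact conj_mem_Up H hij (refl_nII H h hr hp) (hx.mem _)

end Node

end Cfsg.Agent.TitsThree.EndRefl
end

-- part: TitsThree/EndCNTor
section
/-!
# The torus of a package of type `C_{n+1}` in `G'` (S1143)

Self-application of `AssembleCN.stab_le'`: `A_{c,d} ⊓ G'` is the group generated by the elements
`h_i(t)` and `n_II(p) n_II(q)⁻¹`.
-/

set_option autoImplicit false

namespace Cfsg.Agent.TitsThree.EndCNTor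

open Cfsg.Agent.Tits.Core Cfsg.Agent.Tits.Core.Bldg Cfsg.Agent.Tits.Exchange
open Cfsg.Agent.Tits
open Cfsg.Agent.Tits.MouDefs (rt)
open Cfsg.Agent.Tits.MouOut Cfsg.Agent.AGraded
open Cfsg.Agent.TitsThree.EndGen Cfsg.Agent.TitsThree.EndRange Cfsg.Agent.TitsThree.EndRefl
open Cfsg.Agent.TitsThree.Pack Cfsg.Agent.TitsThree.B2Pkg Cfsg.Agent.TitsThree.TorusAct
open Cfsg.Agent.TitsThree.AssembleCN

variable {F : Type*} [Field F] {V : Type*} [AddCommGroup V] [Module F V] {D : PQDatum F V}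
variable {n : ℕ} {M : CoxeterMatrix (Fin (n + 1))} {W : Type*} [Group W] {cs : CoxeterSystem M W}
variable {C A : Type*} [Group A] [MulAction A C] {Δ : Bldg cs C}
variable {σ : W → C} {U : Set W → Subgroup A} (H : Sys Δ A σ U)
variable (P : CN ↥(Gg cs U) D n)

/-- The torus of the package as a subgroup of `A`. -/
def TA : Subgroup A := (torusCN P).map (Gg cs U).subtype

variable (hn : 2 ≤ n) (hr : ∀ i : Fin n, NodeRange U i.castSucc (P.xp i) (P.xm i))
  (hz : NodeRange U (Fin.last n) P.b2.z₂ P.b2.z₂')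

include H hn hr hz

/-- **`T ≤ A_{c,d}`.** -/
theorem TA_le [Finite W] : TA P ≤ Tor cs A σ := by
  have key : torusCN P ≤ (Tor cs A σ).comap (Gg cs U).subtype := by
    rw [torusCN, Subgroup.closure_le]
    rintro g (⟨i, t, ht, rfl⟩ | ⟨p, q, hp, hq, rfl⟩)
    · rcases Nat.lt_or_ge (i.1 + 1) n with h1 | h1
      · exact hh_mem_tor H (P.st3 i ⟨i.1 + 1, h1⟩ rfl) (hr i) ht
      · have h2 : 1 ≤ i.1 := by omega
        exact hh_mem_tor H (edge_symm (P.st3 ⟨i.1 - 1, by omega⟩ i (by simp; omega))) (hr i) ht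
    · exact nII_mem_tor H P.rel hz hp hq
  exact Subgroup.map_le_iff_le_comap.2 key

/-- **The stabiliser of `c` in `G'` is contained in `U_+ T`.** -/
theorem stab_le_sup [Finite W] (ex : ∃ p : D.T, p.c ≠ 0) {g : A} (hg : g ∈ Gg cs U)
    (hgc : g • σ 1 = σ 1) : g ∈ Up cs U ⊔ TA P := by
  have iso : ∀ (a : ↥(Gg cs U)) x y, Δ.δ (a • x) (a • y) = Δ.δ x y := fun a x y => H.iso (a : A) x y
  obtain ⟨r, hr0⟩ := ex
  -- the last type I node
  let l : Fin n := ⟨n - 1, by omega⟩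
  have hl : l.1 + 1 = n := by show n - 1 + 1 = n; omega
  have gl := P.last l hl
  have hy : ∀ b, ((P.b2.y b : ↥(Gg cs U)) : A) ∈ Up cs U := by
    intro b
    refine y_mem_Up H (i := Fin.last n) (j := l.castSucc) (Fin.castSucc_lt_last l).ne' P.rel ?_ hz
      hr0 b
    rw [gl.1, gl.2]
    exact hr l
  set Bor : Subgroup ↥(Gg cs U) := (Up cs U ⊔ TA P).comap (Gg cs U).subtype with hBor
  have hU : ∀ g : ↥(Gg cs U), (g : A) ∈ Up cs U → g ∈ Bor := fun g hg =>
    le_sup_left (a := Up cs U) (b := TA P) hg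
  have hT : ∀ g : ↥(Gg cs U), g ∈ torusCN P → g ∈ Bor := fun g hg =>
    le_sup_right (a := Up cs U) (b := TA P) (Subgroup.mem_map_of_mem _ hg)
  have hmem : Mem P Bor :=
    { xp_mem := fun i t => hU _ (H.rt_le_Up (self_mem_rt 1 i.castSucc) ((hr i).mem t))
      y_mem := fun b => hU _ (hy b)
      z₂_mem := fun p => hU _ (H.rt_le_Up (self_mem_rt 1 (Fin.last n)) (hz.mem p))
      hh_mem := fun i t ht => hT _ (hh_mem_torusCN P i ht)
      nII_mem := fun p q hp hq => hT _ (nII_mem_torusCN P hp hq) }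
  -- generation
  have hgen : Subgroup.closure {g : ↥(Gg cs U) | (∃ i t, g = P.xp i t ∨ g = P.xm i t) ∨
      ∃ p, g = P.b2.z₂ p ∨ g = P.b2.z₂' p} = ⊤ := by
    refine H.closure_eq_top ?_ ?_
    · refine Fin.lastCases ?_ ?_
      · intro g hg
        obtain ⟨p, hp⟩ := hz.exists_eq hg
        exact ⟨_, Or.inr ⟨p, Or.inl rfl⟩, hp⟩
      · intro i g hg
        obtain ⟨t, ht⟩ := (hr i).exists_eq hg
        exact ⟨_, Or.inl ⟨i, t, Or.inl rfl⟩, ht⟩
    · refine Fin.lastCases ?_ ?_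
      · intro g hg
        obtain ⟨p, hp⟩ := hz.exists_eq' hg
        exact ⟨_, Or.inr ⟨p, Or.inr rfl⟩, hp⟩
      · intro i g hg
        obtain ⟨t, ht⟩ := (hr i).exists_eq' hg
        exact ⟨_, Or.inl ⟨i, t, Or.inr rfl⟩, ht⟩
  have hdiag : ∀ g : ↥(Gg cs U), (g, g) ∈ graph P P := by
    have h1 : Subgroup.closure {g : ↥(Gg cs U) | (∃ i t, g = P.xp i t ∨ g = P.xm i t) ∨
        ∃ p, g = P.b2.z₂ p ∨ g = P.b2.z₂' p} ≤
        (graph P P).comap ((MonoidHom.id _).prod (MonoidHom.id _)) := by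
      rw [Subgroup.closure_le]
      rintro _ (⟨i, t, rfl | rfl⟩ | ⟨t, rfl | rfl⟩)
      · exact Subgroup.subset_closure (Or.inl ⟨i, t, Or.inl rfl⟩)
      · exact Subgroup.subset_closure (Or.inl ⟨i, t, Or.inr rfl⟩)
      · exact Subgroup.subset_closure (Or.inr ⟨t, Or.inl rfl⟩)
      · exact Subgroup.subset_closure (Or.inr ⟨t, Or.inr rfl⟩)
    intro g
    have h2 : g ∈ (⊤ : Subgroup ↥(Gg cs U)) := Subgroup.mem_top _
    rw [← hgen] at h2
    exact h1 h2
  exact AssembleCN.stab_le' (p := ((⟨g, hg⟩ : ↥(Gg cs U)), (⟨g, hg⟩ : ↥(Gg cs U)))) H.thick iso hn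
    ⟨r, hr0⟩ P (c := σ 1) (ci := fun i => σ (cs.simple i)) (fun i => nodeAct H (hr i))
    (nodeAct H hz) (fun b => H.Up_fix (hy b)) P hmem (hdiag _) hgc

/-- **`A_{c,d} ⊓ G' = T`.** -/
theorem tor_inf_eq [Finite W] (ex : ∃ p : D.T, p.c ≠ 0) : Tor cs A σ ⊓ Gg cs U = TA P := by
  apply le_antisymm
  · exact tor_inf_le H (TA_le H P hn hr hz) fun g hg hgc => stab_le_sup H P hn hr hz ex hg hgc
  · refine le_inf (TA_le H P hn hr hz) ?_
    rw [TA, Subgroup.map_le_iff_le_comap]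
    intro g _
    exact g.2

end Cfsg.Agent.TitsThree.EndCNTor
end

-- part: TitsThree/EndCN
section
/-!
# The hypotheses of END for type `C_{n+1}` (S1143)

`RangesCN`: the root elements of a package `CN` in `G' = Gg cs U` exhaust the fundamental root groups.
From this: `A_{c,d}` is solvable, `A_{c,d} ⊓ G'` is a `p'`-group, the root groups are `p`-groups.
-/

set_option autoImplicit false

namespace Cfsg.Agent.TitsThree.EndCN

open Cfsg.Agent.Tits.Core Cfsg.Agent.Tits.Core.Bldg Cfsg.Agent.Tits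
open Cfsg.Agent.Tits.MouDefs (rt Aut)
open Cfsg.Agent.Tits.MouOut
open Cfsg.Agent.TitsThree Cfsg.Agent.TitsThree.Pack Cfsg.Agent.TitsThree.B2Pkg
open Cfsg.Agent.TitsThree.Hua Cfsg.Agent.TitsThree.EndGen Cfsg.Agent.TitsThree.TorusAct
open Cfsg.Agent.TitsThree.EndRange Cfsg.Agent.TitsThree.EndII Cfsg.Agent.TitsThree.EndCNTor

variable {n : ℕ} {M : CoxeterMatrix (Fin (n + 1))} {W : Type*} [Group W] {cs : CoxeterSystem M W}
variable {C A : Type*} [Group A] [MulAction A C] {Δ : Bldg cs C}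
variable {σ : W → C} {U : Set W → Subgroup A}
variable {F : Type*} [Field F] {V : Type*} [AddCommGroup V] [Module F V] {D : PQDatum F V}

/-- The package exhausts the fundamental root groups. -/
structure RangesCN (P : CN ↥(Gg cs U) D n) : Prop where
  r : ∀ i : Fin n, NodeRange U i.castSucc (P.xp i) (P.xm i)
  rT : NodeRange U (Fin.last n) P.b2.z₂ P.b2.z₂'
  sl : ∀ i, SL2Par (P.xp i) (P.xm i)
  injT : Function.Injective P.b2.z₂

variable {P : CN ↥(Gg cs U) D n}

/-- The group of parameters is a `p`-group. -/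
theorem isPGroup_T {p : ℕ} [Fact p.Prime] [CharP F p] : IsPGroup p D.T := by
  have hw : ∀ (q : D.T) (k : ℕ), (q ^ k).w = k • q.w := by
    intro q k
    induction k with
    | zero => simp
    | succ k ih => rw [pow_succ, PQDatum.T.mul_w, ih, succ_nsmul]
  have hc : ∀ (q : D.T), q.w = 0 → ∀ k : ℕ, (q ^ k).c = k • q.c := by
    intro q hq k
    induction k with
    | zero => simp
    | succ k ih => rw [pow_succ, PQDatum.T.mul_c, ih, succ_nsmul, hq, D.zero_left, sub_zero]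
  have hp : ∀ v : V, p • v = 0 := fun v => by
    rw [← Nat.cast_smul_eq_nsmul F, CharP.cast_eq_zero, zero_smul]
  intro q
  refine ⟨2, ?_⟩
  rw [pow_two, pow_mul]
  have h1 : (q ^ p).w = 0 := by rw [hw, hp]
  rw [← PQDatum.T.c_eq_zero_iff, hc _ h1, ← Nat.cast_smul_eq_nsmul F, CharP.cast_eq_zero, zero_smul]

/-- The fundamental root groups are `p`-groups. -/
theorem isPGroup {p : ℕ} [Fact p.Prime] [CharP F p] (R : RangesCN P) (i : Fin (n + 1)) :
    IsPGroup p ↥(U (rt cs 1 i)) := by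
  revert i
  refine Fin.lastCases ?_ ?_
  · rintro ⟨u, hu⟩
    obtain ⟨t, rfl⟩ := R.rT.exists_eq hu
    obtain ⟨k, hk⟩ := isPGroup_T (D := D) (p := p) t
    refine ⟨k, Subtype.ext ?_⟩
    have h1 : ∀ j : ℕ, P.b2.z₂ t ^ j = P.b2.z₂ (t ^ j) := by
      intro j
      induction j with
      | zero => rw [pow_zero, pow_zero, CoreB2.z₂_one P.rel]
      | succ j ih => rw [pow_succ, pow_succ, ih, P.rel.z₂_mul]
    change (P.b2.z₂ t : A) ^ p ^ k = 1
    rw [← Subgroup.coe_pow, h1, hk, CoreB2.z₂_one P.rel]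
    rfl
  · intro i
    exact EndFF.isPGroup_of_node (R.r i) (R.sl i)

/-- `A_{c,d}` is solvable. -/
theorem solvable [Finite W] [Finite F] (H : Sys Δ A σ U) (hn : 1 ≤ n) (R : RangesCN P)
    (good : Good D) (ex : ∃ p : D.T, p.c ≠ 0) : Group.IsSolvable ↥(Tor cs A σ) := by
  refine tor_solvable_of_solNode H ?_
  have inj : Function.Injective (Gg cs U).subtype := Subgroup.subtype_injective _
  refine Fin.lastCases ?_ ?_
  · obtain ⟨p₀, hp₀⟩ := ex
    let l : Fin n := ⟨n - 1, by omega⟩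
    have hl : l.1 + 1 = n := by show n - 1 + 1 = n; omega
    obtain ⟨e1, e2⟩ := P.last l hl
    have hr := R.r l
    have hs := R.sl l
    rw [← e1, ← e2] at hr hs
    exact solNode_II H (m := P.b2.map (Gg cs U).subtype) (P.rel.map _) (i := l.castSucc)
      (j := Fin.last n) hr.1 hr.2 R.rT.1 R.rT.2 good (sl2_map inj hs) (inj.comp R.injT) hp₀
  · intro i
    exact solNode_of_field H (sl2_map inj (R.sl i)) (R.r i).1 (R.r i).2

/-- The torus acts on the type II root group through `TorG D`. -/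
theorem torusCN_le_LinII [Finite F] [Finite V] (P : CN ↥(Gg cs U) D n) :
    torusCN P ≤ LinII P.b2 := by
  have : Finite D.T := finite_T D
  rw [torusCN, Subgroup.closure_le]
  rintro g (⟨i, t, ht, rfl⟩ | ⟨p, q, hp, hq, rfl⟩)
  · rcases Nat.lt_or_ge (i.1 + 1) n with h1 | h1
    · exact mem_LinII_of_commute fun p => (comm_hh (P.commT i h1) t p).1
    · have h2 := P.last i (by have := i.2; omega)
      rw [← h2.1, ← h2.2]
      exact hh_mem_LinII P.rel ht
  · exact nII_mem_LinII P.rel hp hq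

/-- `A_{c,d} ⊓ G'` is a `p'`-group. -/
theorem coprime [Finite W] [Finite A] [Finite F] [Finite V] (H : Sys Δ A σ U) (hn : 2 ≤ n) {p : ℕ}
    [Fact p.Prime] [CharP F p] (R : RangesCN P) (good : Good D) (ex : ∃ p : D.T, p.c ≠ 0) :
    (Nat.card ↥(Tor cs A σ ⊓ Gg cs U)).Coprime p := by
  refine tor_coprime H inf_le_left ?_
  intro s hs ho
  rw [tor_inf_eq H P hn R.r R.rT ex] at hs
  obtain ⟨g, hg, rfl⟩ := hs
  have ho' : orderOf g = p := by
    rw [← ho]
    exact (orderOf_injective _ (Subgroup.subtype_injective (Gg cs U)) g).symm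
  have hp : g ^ p = 1 := by rw [← ho', pow_orderOf_eq_one]
  refine Fin.lastCases ?_ ?_
  · intro u hu
    obtain ⟨r, rfl⟩ := R.rT.exists_eq hu
    exact congrArg (Subgroup.subtype _) (commute_of_mem_LinII good R.injT (torusCN_le_LinII P hg) ho' r)
  · intro i
    exact comm_of_scal (R.r i) (R.sl i).injp (scalCN hn P i hg) hp

/-- **END for `C_{n+1}`**: `Solved Δ` from a package with ranges and the identification of `G'`. -/
theorem solved [Finite W] {C : Type*} [Finite C] {Δ : Bldg cs C} {σ : W → C}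
    (H : Sys Δ (Aut Δ) σ (UU Δ σ)) (hn : 2 ≤ n) {p : ℕ} [Fact p.Prime] [Finite F] [Finite V] [CharP F p]
    {P : CN ↥(Gg cs (UU Δ σ)) D n} (R : RangesCN P) (good : Good D) (ex : ∃ p : D.T, p.c ≠ 0)
    (hK : IsSimpleGroup ↥(Gg cs (UU Δ σ)) → Top.LieConcl ↥(Gg cs (UU Δ σ))) : Top.Solved Δ := by
  have : Finite (Aut Δ) := by
    refine Finite.of_injective (fun a : Aut Δ => (MulAction.toPerm a : Equiv.Perm C)) fun a b hab => ?_
    have h1 : b⁻¹ * a = 1 := H.faith _ fun x => by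
      rw [mul_smul, inv_smul_eq_iff]
      exact congrFun (congrArg DFunLike.coe hab) x
    exact (inv_mul_eq_one.1 h1).symm
  exact EndHyp.solved H (p := p) (isPGroup R) (solvable H (by omega) R good ex)
    (coprime H hn R good ex) hK

end Cfsg.Agent.TitsThree.EndCN
end

-- part: TitsThree/SolvedCN
section
/-!
# S1143, type `C_n`: the buildings of type `cC n` are solved
-/

set_option autoImplicit false

namespace Cfsg.Agent.TitsThree.SolvedCN

open Cfsg.Agent.Tits.Core Cfsg.Agent.Tits.Core.Bldg Cfsg.Agent.Tits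
open Cfsg.Agent.LieRecognition.BNCox Cfsg.Agent.LieRecognition.CoxClass
open Cfsg.Agent.TitsThree.B2Pkg Cfsg.Agent.TitsThree.Pack Cfsg.Agent.TitsThree.StdData
  Cfsg.Agent.TitsThree.Top Cfsg.Agent.TitsThree.CnModel

/-- A path is connected. -/
theorem conn_of_path {n : ℕ} {M : CoxeterMatrix (Fin n)}
    (h : ∀ i j : Fin n, i.1 + 1 = j.1 → M i j ≠ 2) : NormalTrans.Conn M := by
  intro J hJ hJ'
  by_contra hcon
  push Not at hcon
  obtain ⟨a, ha⟩ := hJ
  obtain ⟨b, hb⟩ := hJ'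
  have up : ∀ (k : ℕ) (i j : Fin n), i ∈ J → i.1 + k = j.1 → j ∈ J := by
    intro k
    induction k with
    | zero =>
      intro i j hi hij
      have : i = j := Fin.ext (by simpa using hij)
      rwa [← this]
    | succ k ih =>
      intro i j hi hij
      have hj := j.2
      have h1 : (⟨i.1 + k, by omega⟩ : Fin n) ∈ J := ih i _ hi rfl
      by_contra hjJ
      exact h _ j (by simp only; omega) (hcon _ h1 j hjJ)
  have dn : ∀ (k : ℕ) (i j : Fin n), i ∈ J → j.1 + k = i.1 → j ∈ J := by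
    intro k
    induction k with
    | zero =>
      intro i j hi hij
      have : i = j := Fin.ext (by simpa using hij.symm)
      rwa [← this]
    | succ k ih =>
      intro i j hi hij
      have hi' := i.2
      have h1 : (⟨j.1 + 1, by omega⟩ : Fin n) ∈ J := ih i _ hi (by simp only; omega)
      by_contra hjJ
      have h2 := hcon _ h1 j hjJ
      rw [M.symmetric] at h2
      exact h j _ rfl h2
  apply hb
  rcases le_total a.1 b.1 with hab | hab
  · exact up (b.1 - a.1) a b ha (by omega)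
  · exact dn (a.1 - b.1) a b ha (by omega)

theorem conn_cC (n : ℕ) : NormalTrans.Conn (cC n) := by
  apply conn_of_path
  intro i j hij
  have hj := j.2
  rw [cC_apply, mC, if_neg (by omega), if_pos hij]
  split_ifs <;> omega

/-- **Identification**: a group with a strongly transitive action on a thick building of type
`C_{n+2}`, `n ≥ 1`, with root elements over a datum which has a model. -/
theorem lieConcl_of_gcn {W : Type*} [Group W] [Finite W] {C : Type*} {n : ℕ} (hn : 1 ≤ n)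
    {cs : CoxeterSystem (cC (n + 2)) W} {Δ : Bldg cs C} (hth : Δ.Thick) {G : Type*} [Group G]
    [MulAction G C] (hA : Δ.StrongAct G) {F : Type*} [Field F] {V : Type*} [AddCommGroup V]
    [Module F V] {D : PQDatum F V} (ex : ∃ p : D.T, p.c ≠ 0) (g : GCN (n := n + 1) Δ G D)
    (h : HasModel D n) : LieConcl G := by
  obtain ⟨K, i1, i2, h1, ⟨k⟩⟩ := h
  obtain ⟨e⟩ := AssembleCN.nonempty_mulEquiv' hth hA (conn_cC (n + 2)) (by omega) ex g k
  exact h1.of_equiv e

/-! ### The output of the G side -/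

open Cfsg.Agent.Tits.MouOut Cfsg.Agent.TitsThree.GCNOfSys
open Cfsg.Agent.Tits.MouDefs (rt Aut Chart)

/-- The identification of `G'`. -/
theorem lieConcl_of_out {W : Type*} [Group W] [Finite W] {C : Type*} [Finite C] {k : ℕ}
    {cs : CoxeterSystem (cC (k + 3)) W} {Δ : Bldg cs C} (hth : Δ.Thick) {σ : W → C}
    (H : Sys Δ (Aut Δ) σ (UU Δ σ)) {F : Type*} [Field F] {V : Type*} [AddCommGroup V] [Module F V]
    {D : PQDatum F V} (ex : ∃ p : D.T, p.c ≠ 0) (h : Out (k := k + 1) Δ σ D)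
    (hm : HasModel D (k + 1)) : LieConcl ↥(Gg cs (UU Δ σ)) := by
  obtain ⟨P, -⟩ := h
  exact lieConcl_of_gcn (n := k + 1) (by omega) hth H.Gg_strongAct ex P hm

theorem ex_sp (F : Type*) [Field F] : ∃ p : (stdSp F).T, p.c ≠ 0 :=
  ⟨⟨(), 1, trivial⟩, one_ne_zero⟩

theorem ex_o1 (F : Type*) [Field F] : ∃ p : (stdO1 F).T, p.c ≠ 0 :=
  ⟨⟨1, -1 ^ 2, rfl⟩, by simp⟩

theorem ex_o2 (F : Type*) [Field F] (a b : F) (hab) : ∃ p : (stdO2 F a b hab).T, p.c ≠ 0 :=
  ⟨⟨(1, 0), -nf a b (1, 0), rfl⟩, by simp [nf]⟩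

theorem ex_u0 {F : Type*} [Field F] (τ : F ≃+* F) (hτ : ∀ x, τ (τ x) = x) (hne : ∃ x, τ x ≠ x) :
    ∃ p : (stdU0 F τ hτ).T, p.c ≠ 0 := by
  obtain ⟨x, hx⟩ := hne
  refine ⟨⟨(), x - τ x, ?_⟩, sub_ne_zero.2 (Ne.symm hx)⟩
  change x - τ x + τ (x - τ x) = 0
  rw [map_sub, hτ]
  ring

theorem ex_u1 {F : Type*} [Field F] (τ : F ≃+* F) (hτ : ∀ x, τ (τ x) = x) (hne : ∃ x, τ x ≠ x) :
    ∃ p : (stdU1 F τ hτ).T, p.c ≠ 0 := by
  obtain ⟨x, hx⟩ := hne
  refine ⟨⟨0, x - τ x, ?_⟩, sub_ne_zero.2 (Ne.symm hx)⟩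
  change x - τ x + τ (x - τ x) = -(0 * τ 0)
  rw [map_sub, hτ]
  ring

/-! ### END -/

open Cfsg.Agent.TitsThree.EndII in
/-- `Solved Δ` from the G side over a good datum with a model. -/
theorem solved_of_out {W : Type*} [Group W] [Finite W] {C : Type*} [Finite C] {k : ℕ}
    {cs : CoxeterSystem (cC (k + 3)) W} {Δ : Bldg cs C} (hth : Δ.Thick) {σ : W → C}
    (H : Sys Δ (Aut Δ) σ (UU Δ σ)) {F : Type*} [Field F] [Finite F] {V : Type*} [AddCommGroup V]
    [Module F V] [Finite V] {D : PQDatum F V} (good : Good D) (ex : ∃ p : D.T, p.c ≠ 0)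
    (h : Out (k := k + 1) Δ σ D) (hm : HasModel D (k + 1)) : Solved Δ := by
  obtain ⟨P, -, -, r, rT, sl, injT⟩ := id h
  obtain ⟨p, hp⟩ := CharP.exists F
  have : Fact p.Prime := ⟨CharP.char_is_prime F p⟩
  exact EndCN.solved H (by omega) (p := p) (P := P.toCN) ⟨r, rT, sl, injT⟩ good ex
    fun _ => lieConcl_of_out hth H ex h hm

open Cfsg.Agent.TitsThree.EndII in
/-- Every finite thick building of type `C_{k+3}` is solved. -/
theorem solved {W : Type*} [Group W] [Finite W] {C : Type*} [Finite C] [Nonempty C] {k : ℕ}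
    {cs : CoxeterSystem (cC (k + 3)) W} {Δ : Bldg cs C} (hth : Δ.Thick) : Solved Δ := by
  obtain ⟨x⟩ := (inferInstance : Nonempty C)
  obtain ⟨y, hxy⟩ : ∃ y, Δ.Opp x y := Δ.exists_δ x (w0 cs)
  obtain ⟨σ, hσ, -⟩ := MouDefs.exists_chart hxy (1 : W)
  have H := MouAll.sys (MouAll.lab_C (k + 3)) (CombInst.diag_C (by omega)) hth hσ
  obtain ⟨F, i1, i2, h⟩ := GCNMain.exists_out hth hσ
  have : Fintype F := Fintype.ofFinite F
  rcases h with h | ⟨h2, h⟩ | ⟨a, b, hab, h⟩ | ⟨τ, hτ, hne, h⟩ | ⟨τ, hτ, hne, h⟩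
  · exact solved_of_out hth H good_sp (ex_sp F) h (hasModel_Sp (k + 1) (by omega))
  · exact solved_of_out hth H good_o1 (ex_o1 F) h (hasModel_O1 h2 (k + 1))
  · exact solved_of_out hth H (good_o2 hab) (ex_o2 F a b hab) h (hasModel_O2 a b hab (k + 1))
  · exact solved_of_out hth H (good_u0 τ hτ hne) (ex_u0 τ hτ hne) h (hasModel_U0 τ hτ hne (k + 1))
  · exact solved_of_out hth H (good_u1 τ hτ hne) (ex_u1 τ hτ hne) h (hasModel_U1 τ hτ hne (k + 1))

universe u

/-- **Type `C_n`, `n ≥ 3`.** -/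
theorem allSolved (n : ℕ) (hn : 3 ≤ n) : AllSolved.{u} (cC n) := by
  obtain ⟨k, rfl⟩ : ∃ k, n = k + 3 := ⟨n - 3, by omega⟩
  intro W C _ _ _ _ cs Δ hth
  exact solved hth

end Cfsg.Agent.TitsThree.SolvedCN
end
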