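import Cfsg.Agent.TitsThree.KExcTab
import Cfsg.Agent.TitsThree.Pack
set_option linter.all false

/-!
# Steinberg systems of type `A_{n-1}` in Chevalley groups from a table check; products; subgroups (S1143, K side)

`stein`: a table of roots `r a b` and signs `s a b` passing the checks `RTa`–`RTd` gives a Steinberg system.
`stein_mul`: the product of two commuting Steinberg systems, the second one twisted by a field endomorphism.
`edge3_sub`: an edge of type `A₂` inside a subgroup.
-/

set_option autoImplicit false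

namespace Cfsg.Agent.TitsThree.KExcRT

open Cfsg.Lie Cfsg.Agent.ChevalleyStructure.Elts Cfsg.Agent.AGraded Cfsg.Agent.TitsThree
open Cfsg.Agent.TitsThree.KExcBase
open scoped commutatorElement

universe u

section Tab

variable {F : Type u} [Field F] {D : ChevalleyDatum} {n : ℕ}

/-- First part of the table check. -/
def RTa (D : ChevalleyDatum) (r : Fin n → Fin n → ℕ) : Prop := ∀ a b, a ≠ b → r a b < D.nroots

/-- Second part of the table check. -/
def RTb (D : ChevalleyDatum) (r : Fin n → Fin n → ℕ) (s : Fin n → Fin n → ℤ) : Prop :=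
  ∀ a b c, a ≠ b ∧ b ≠ c ∧ a ≠ c → r b c ≠ r a b ∧ r b c ≠ D.neg (r a b) ∧
    D.commTerms (r a b) (r b c) = [(r a c, s a b * s b c * s a c, 1, 1)]

/-- Third part of the table check. -/
def RTc (D : ChevalleyDatum) (r : Fin n → Fin n → ℕ) : Prop :=
  ∀ a b c d, a ≠ b ∧ c ≠ d ∧ b ≠ c ∧ a ≠ d ∧ ¬ (a = c ∧ b = d) →
    r c d ≠ r a b ∧ r c d ≠ D.neg (r a b) ∧ D.commTerms (r a b) (r c d) = []

/-- Fourth part of the table check. -/
def RTd (s : Fin n → Fin n → ℤ) : Prop := ∀ a b, s a b * s a b = 1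

instance (D : ChevalleyDatum) (r : Fin n → Fin n → ℕ) : Decidable (RTa D r) := by
  unfold RTa; infer_instance
instance (D : ChevalleyDatum) (r : Fin n → Fin n → ℕ) (s : Fin n → Fin n → ℤ) : Decidable (RTb D r s) := by
  unfold RTb; infer_instance
instance (D : ChevalleyDatum) (r : Fin n → Fin n → ℕ) : Decidable (RTc D r) := by
  unfold RTc; infer_instance
instance (s : Fin n → Fin n → ℤ) : Decidable (RTd s) := by
  unfold RTd; infer_instance

/-- The root elements of a table. -/
noncomputable def xr (hD : InList D) (r : Fin n → Fin n → ℕ) (s : Fin n → Fin n → ℤ) (a b : Fin n) (t : F) :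
    GL D.Idx F := xG hD (r a b) ((s a b : F) * t)

theorem stein (hD : InList D) {r : Fin n → Fin n → ℕ} {s : Fin n → Fin n → ℤ} (ha : RTa D r) (hb : RTb D r s)
    (hc : RTc D r) (hd : RTd s) : SteinRel (xr (F := F) hD r s) where
  add a b _ t u := by
    show xG _ _ _ = xG _ _ _ * xG _ _ _
    rw [xG_add, mul_add]
  comm a b c d hab hcd hbc had t u := by
    by_cases h : a = c ∧ b = d
    · obtain ⟨rfl, rfl⟩ := h
      exact comm_self hD _ _ _
    · obtain ⟨h1, h2, h3⟩ := hc a b c d ⟨hab, hcd, hbc, had, h⟩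
      exact comm_nil hD (ha a b hab) (ha c d hcd) h1 h2 h3 _ _
  br a b c hab hbc hac t u := by
    obtain ⟨h1, h2, h3⟩ := hb a b c ⟨hab, hbc, hac⟩
    show ⁅xG _ _ _, xG _ _ _⁆ = xG _ _ _
    have hsq : ∀ a b : Fin n, ((s a b : ℤ) : F) * (s a b : F) = 1 := by
      intro a b
      rw [← Int.cast_mul, hd, Int.cast_one]
    have c1 : ∀ t u : F, xG hD (r a b) t * xG hD (r a c) u = xG hD (r a c) u * xG hD (r a b) t := by
      intro t u
      obtain ⟨g1, g2, g3⟩ := hc a b a c ⟨hab, hac, Ne.symm hab, hac, fun h => hbc h.2⟩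
      exact comm_nil hD (ha a b hab) (ha a c hac) g1 g2 g3 _ _
    have c2 : ∀ t u : F, xG hD (r b c) t * xG hD (r a c) u = xG hD (r a c) u * xG hD (r b c) t := by
      intro t u
      obtain ⟨g1, g2, g3⟩ := hc b c a c ⟨hbc, hac, Ne.symm hac, hbc, fun h => hab h.1.symm⟩
      exact comm_nil hD (ha b c hbc) (ha a c hac) g1 g2 g3 _ _
    rw [comm_one hD (ha a b hab) (ha b c hbc) h1 h2 h3 c1 c2]
    congr 1
    rw [Int.cast_mul, Int.cast_mul]
    calc ((s a b : F) * (s b c : F) * (s a c : F)) * ((s a b : F) * t) * ((s b c : F) * u)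
        = ((s a b : F) * (s a b : F)) * ((s b c : F) * (s b c : F)) * ((s a c : F) * (t * u)) := by ring
      _ = (s a c : F) * (t * u) := by rw [hsq, hsq]; ring

end Tab

section Mul

variable {ι : Type*} [Fintype ι] [DecidableEq ι] {E K Y : Type*} [Field E] [Field K] [Group Y]

/-- The restriction of a Steinberg system to a subfield. -/
theorem stein_res {x : ι → ι → E → Y} (h : SteinRel x) (σ : K →+* E) :
    SteinRel fun i j t => x i j (σ t) where
  add i j hij a b := by
    simp only [map_add]; exact h.add i j hij _ _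
  comm i j k l hij hkl hjk hil a b := h.comm i j k l hij hkl hjk hil _ _
  br i j k hij hjk hik a b := by
    simp only [map_mul]; exact h.br i j k hij hjk hik _ _

/-- The product of two commuting Steinberg systems. -/
theorem stein_mul {x x' : ι → ι → E → Y} (h : SteinRel x) (h' : SteinRel x')
    (hc : ∀ i j k l, i ≠ j → k ≠ l → ∀ s t, Commute (x i j s) (x' k l t)) :
    SteinRel fun i j t => x i j t * x' i j t where
  add i j hij a b := by
    have c := (hc i j i j hij hij b a).eq
    show x i j (a + b) * x' i j (a + b) = _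
    rw [h.add i j hij, h'.add i j hij, mul_assoc, ← mul_assoc (x i j b), c]
    simp only [mul_assoc]
  comm i j k l hij hkl hjk hil a b := by
    have c1 : Commute (x i j a) (x k l b) := h.comm i j k l hij hkl hjk hil a b
    have c2 : Commute (x' i j a) (x' k l b) := h'.comm i j k l hij hkl hjk hil a b
    have c3 := hc i j k l hij hkl a b
    have c4 := (hc k l i j hkl hij b a).symm
    exact ((c1.mul_right c3).mul_left (c4.mul_right c2)).eq
  br i j k hij hjk hik a b := by
    have c1 := (hc j k i j hjk hij b a).eq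
    have c2 := (hc i j j k hij hjk a b).eq
    have c3 := hc i j i j hij hij a a
    have c4 := hc j k j k hjk hjk b b
    have d1 := (hc i k i j hik hij (a * b) a).eq
    have d2 := (hc i k j k hik hjk (a * b) b).eq
    rw [← h.br i j k hij hjk hik, ← h'.br i j k hij hjk hik] 
    have e1 := (hc i j j k hij hjk a b)
    have e2 := (hc j k i j hjk hij b a)
    generalize x i j a = A at *
    generalize x j k b = B at *
    generalize x' i j a = A' at *
    generalize x' j k b = B' at *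
    have f1 : Commute A⁻¹ A' := c3.inv_left
    have f2 : Commute A⁻¹ B' := e1.inv_left
    have f3 : Commute B⁻¹ A' := e2.inv_left
    have f4 : Commute B⁻¹ B' := c4.inv_left
    have f5 : Commute B⁻¹ A'⁻¹ := f3.inv_right
    simp only [commutatorElement_def]
    calc A * A' * (B * B') * (A * A')⁻¹ * (B * B')⁻¹
        = A * (A' * B) * B' * (A'⁻¹ * A⁻¹) * (B'⁻¹ * B⁻¹) := by group
      _ = A * B * A' * B' * (A⁻¹ * A'⁻¹) * (B⁻¹ * B'⁻¹) := by
        rw [← e2.eq, ← (f1.inv_right).eq, ← (f4.inv_right).eq]; group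
      _ = A * B * A' * (B' * A⁻¹) * (A'⁻¹ * B⁻¹) * B'⁻¹ := by group
      _ = A * B * (A' * A⁻¹) * B' * (B⁻¹ * A'⁻¹) * B'⁻¹ := by rw [← f2.eq, ← f5.eq]; group
      _ = A * B * A⁻¹ * A' * (B' * B⁻¹) * A'⁻¹ * B'⁻¹ := by rw [← f1.eq]; group
      _ = A * B * A⁻¹ * (A' * B⁻¹) * B' * A'⁻¹ * B'⁻¹ := by rw [← f4.eq]; group
      _ = A * B * A⁻¹ * B⁻¹ * (A' * B' * A'⁻¹ * B'⁻¹) := by rw [← f3.eq]; group

/-- The product of two commuting Steinberg systems, the second one twisted by a field endomorphism. -/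
theorem stein_mul_twist {x x' : ι → ι → E → Y} (h : SteinRel x) (h' : SteinRel x')
    (hc : ∀ i j k l, i ≠ j → k ≠ l → ∀ s t, Commute (x i j s) (x' k l t)) (σ : E →+* E) :
    SteinRel fun i j t => x i j t * x' i j (σ t) :=
  stein_mul h (stein_res h' σ) fun i j k l hij hkl s t => hc i j k l hij hkl s _

end Mul

section Sub

variable {E Y : Type*} [Field E] [Group Y]

theorem ne3 : ∀ i j : Fin 3, i ≠ j → (i = 0 ∧ j = 1) ∨ (i = 1 ∧ j = 0) ∨ (i = 1 ∧ j = 2) ∨ (i = 2 ∧ j = 1) ∨
    (i = 0 ∧ j = 2) ∨ (i = 2 ∧ j = 0) := by decide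

/-- An edge of type `A₂` inside a subgroup. -/
theorem edge3_sub {x : Fin 3 → Fin 3 → E → Y} (h : SteinRel x) {H : Subgroup Y}
    (h01 : ∀ t, x 0 1 t ∈ H) (h10 : ∀ t, x 1 0 t ∈ H) (h12 : ∀ t, x 1 2 t ∈ H) (h21 : ∀ t, x 2 1 t ∈ H) :
    Pack.Edge3 (fun t => (⟨x 0 1 t, h01 t⟩ : ↥H)) (fun t => ⟨x 1 0 t, h10 t⟩) (fun t => ⟨x 1 2 t, h12 t⟩)
      (fun t => ⟨x 2 1 t, h21 t⟩) := by
  classical
  have h02 : ∀ t, x 0 2 t ∈ H := fun t => by
    have e := h.br 0 1 2 (by decide) (by decide) (by decide) t 1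
    rw [mul_one, commutatorElement_def] at e
    rw [← e]
    exact H.mul_mem (H.mul_mem (H.mul_mem (h01 _) (h12 _)) (H.inv_mem (h01 _))) (H.inv_mem (h12 _))
  have h20 : ∀ t, x 2 0 t ∈ H := fun t => by
    have e := h.br 2 1 0 (by decide) (by decide) (by decide) t 1
    rw [mul_one, commutatorElement_def] at e
    rw [← e]
    exact H.mul_mem (H.mul_mem (H.mul_mem (h21 _) (h10 _)) (H.inv_mem (h21 _))) (H.inv_mem (h10 _))
  have hall : ∀ i j, i ≠ j → ∀ t, x i j t ∈ H := by
    intro i j hij t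
    rcases ne3 i j hij with ⟨rfl, rfl⟩ | ⟨rfl, rfl⟩ | ⟨rfl, rfl⟩ | ⟨rfl, rfl⟩ | ⟨rfl, rfl⟩ | ⟨rfl, rfl⟩
    exacts [h01 t, h10 t, h12 t, h21 t, h02 t, h20 t]
  refine ⟨fun i j t => if hij : i = j then 1 else ⟨x i j t, hall i j hij t⟩, ?_, ?_, ?_, ?_, ?_⟩
  · refine ⟨?_, ?_, ?_⟩
    · intro i j hij a b
      simp only [dif_neg hij]
      exact Subtype.ext (h.add i j hij a b)
    · intro i j k l hij hkl hjk hil a b
      simp only [dif_neg hij, dif_neg hkl]
      exact Subtype.ext (h.comm i j k l hij hkl hjk hil a b)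
    · intro i j k hij hjk hik a b
      simp only [dif_neg hij, dif_neg hjk, dif_neg hik]
      exact Subtype.ext (h.br i j k hij hjk hik a b)
  all_goals rfl

end Sub

end Cfsg.Agent.TitsThree.KExcRT
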