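import Cfsg.Agent.TitsThree.EndSL_mg
import Cfsg.Agent.TitsThree.EndHyp
import Cfsg.Agent.TitsThree.Tree
import Cfsg.Agent.Tits.RGOut_mg
import Cfsg.Agent.Tits.Opp
import Cfsg.Agent.TitsThree.KSideInstA
import Cfsg.Agent.TitsThree.KSideInstD
import Cfsg.Agent.TitsThree.KExcTab
import Cfsg.Agent.S0249
import Cfsg.Agent.S0296
import Cfsg.Agent.TitsThree.Pack
import Cfsg.Agent.TitsThree.KExcRT
import Cfsg.Agent.TitsThree.B2Transport
import Cfsg.Agent.TitsThree.Top
set_option linter.all false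

-- part: TitsThree/SolvedSL
section
/-!
S1143: the simply laced types are solved: `AllSolved (cA n)`, `(cD n)`, `(cE 6)`, `(cE 7)`, `(cE 8)`.
-/

set_option autoImplicit false

namespace Cfsg.Agent.TitsThree.SolvedSL

open Cfsg.Agent.Tits.Core Cfsg.Agent.Tits.Core.Bldg Cfsg.Agent.Tits.Exchange
open Cfsg.Agent.Tits
open Cfsg.Agent.Tits.MouDefs (rt Chart Aut)
open Cfsg.Agent.Tits.MouOut Cfsg.Agent.Tits.MouAll Cfsg.Agent.Tits.RGOut
open Cfsg.Agent.Tits.RootComb (Diag)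
open Cfsg.Agent.TitsThree Cfsg.Agent.TitsThree.Hua Cfsg.Agent.TitsThree.Pack
open Cfsg.Agent.TitsThree.KSideDefs
open Cfsg.Agent.TitsThree.Tree Cfsg.Agent.AGraded
open Cfsg.Agent.TitsThree.Top
open Cfsg.Agent.LieRecognition.BNCox Cfsg.Agent.LieRecognition.CoxClass
open MulAction

universe u

/-! ### Images of packages -/

section Map

variable {Y Z : Type*} [Group Y] [Group Z] {F : Type*} [Field F]

theorem SteinRel.map (f : Y →* Z) {ι : Type*} [Fintype ι] [DecidableEq ι] {x : ι → ι → F → Y}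
    (h : SteinRel x) : SteinRel fun a b t => f (x a b t) where
  add i j hij a b := by rw [h.add i j hij, map_mul]
  comm i j k l hij hkl hjk hil a b := by
    rw [← map_mul, h.comm i j k l hij hkl hjk hil, map_mul]
  br i j k hij hjk hik a b := by rw [← map_commutatorElement, h.br i j k hij hjk hik]

/-- The image of a package. -/
def mapSL (f : Y →* Z) {n : ℕ} {adj : Fin n → Fin n → Prop} (P : SL Y F n adj) :
    SL Z F n adj where
  xp i t := f (P.xp i t)
  xm i t := f (P.xm i t)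
  st3 i j hij := by
    obtain ⟨x, hx, h1, h2, h3, h4⟩ := P.st3 i j hij
    refine ⟨_, SteinRel.map f hx, ?_, ?_, ?_, ?_⟩
    · funext t; rw [h1]
    · funext t; rw [h2]
    · funext t; rw [h3]
    · funext t; rw [h4]
  comm i j hij h1 h2 s t := by
    obtain ⟨a1, a2, a3, a4⟩ := P.comm i j hij h1 h2 s t
    exact ⟨a1.map f, a2.map f, a3.map f, a4.map f⟩

theorem SL2Par.map (f : Y →* Z) (hf : Function.Injective f) {xp xm : F → Y} (h : SL2Par xp xm) :
    SL2Par (fun t => f (xp t)) (fun t => f (xm t)) where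
  addp s t := by rw [h.addp, map_mul]
  addm s t := by rw [h.addm, map_mul]
  injp := hf.comp h.injp
  injm := hf.comp h.injm
  conjp t ht s := by
    have e : nn (fun t => f (xp t)) (fun t => f (xm t)) t = f (nn xp xm t) := by
      simp only [nn, map_mul]
    rw [e, ← h.conjp t ht s, map_mul, map_mul, map_inv]
  conjm t ht s := by
    have e : nn (fun t => f (xp t)) (fun t => f (xm t)) t = f (nn xp xm t) := by
      simp only [nn, map_mul]
    rw [e, ← h.conjm t ht s, map_mul, map_mul, map_inv]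
  norm s hs := by
    refine h.norm s fun r => ?_
    obtain ⟨r', hr'⟩ := hs r
    refine ⟨r', hf ?_⟩
    rw [← hr', map_mul, map_mul, map_inv]

/-- Relabelling of the nodes of a model. -/
def relabel {n : ℕ} {adj adj' : Fin n → Fin n → Prop} (Q : SLData Y F n adj) (e : Fin n ≃ Fin n)
    (h : ∀ i j, adj' i j → adj (e i) (e j) ∨ adj (e j) (e i))
    (h' : ∀ i j, adj (e i) (e j) → adj' i j ∨ adj' j i) : SLData Y F n adj' where
  xp i := Q.xp (e i)
  xm i := Q.xm (e i)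
  st3 i j hij := Q.st3' (e i) (e j) (h i j hij)
  comm i j hij h1 h2 := Q.comm (e i) (e j) (e.injective.ne hij)
    (fun h3 => (h' i j h3).elim h1 h2) (fun h3 => (h' j i h3).elim h2 h1)
  gen := by
    rw [← Q.gen]
    congr 1
    ext g
    constructor
    · rintro ⟨i, t, h⟩
      exact ⟨e i, t, h⟩
    · rintro ⟨i, t, h⟩
      exact ⟨e.symm i, t, by rwa [Equiv.apply_symm_apply]⟩
  Bor := Q.Bor
  Bor_ne := Q.Bor_ne
  xp_mem i := Q.xp_mem (e i)
  hh_mem i := Q.hh_mem (e i)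

end Map

/-! ### The general simply laced case -/

section General

variable {n : ℕ}

/-- Adjacency in the diagram. -/
def adj (M : CoxeterMatrix (Fin n)) (i j : Fin n) : Prop := M i j = 3

theorem adj_symm {M : CoxeterMatrix (Fin n)} {i j : Fin n} (h : adj M i j) : adj M j i := by
  unfold adj
  rw [M.symmetric]
  exact h

/-- The diagram as a tree. -/
def rootedOf (hn : 0 < n) (M : CoxeterMatrix (Fin n)) (par : Fin n → Fin n)
    (h1 : ∀ i, 0 < i.1 → (par i).1 < i.1 ∧ M (par i) i = 3)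
    (h2 : ∀ i j : Fin n, i.1 < j.1 → M i j = 3 → par j = i) : Rooted (adj M) ⟨0, hn⟩ where
  par := par
  rk i := i.1
  rk_par i hi := (h1 i (Nat.pos_of_ne_zero fun h => hi (Fin.ext h))).1
  adj_par i hi := Or.inl (h1 i (Nat.pos_of_ne_zero fun h => hi (Fin.ext h))).2
  edge i j hij := by
    rcases Nat.lt_trichotomy i.1 j.1 with h | h | h
    · refine Or.inl ⟨fun h3 => ?_, h2 i j h hij⟩
      rw [h3] at h
      exact absurd h (Nat.not_lt_zero _)
    · have : i = j := Fin.ext h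
      subst this
      have h3 : M i i = 3 := hij
      rw [M.diagonal] at h3
      omega
    · refine Or.inr ⟨fun h3 => ?_, h2 j i h (adj_symm hij)⟩
      rw [h3] at h
      exact absurd h (Nat.not_lt_zero _)

variable {M : CoxeterMatrix (Fin n)} {W : Type*} [Group W] {cs : CoxeterSystem M W}
  {C : Type*} {Δ : Bldg cs C} {σ : W → C}

theorem exists_adj (hD : Diag M) (hsl : ∀ i j, i ≠ j → M i j = 2 ∨ M i j = 3) (i : Fin n) :
    ∃ j, adj M i j := by
  obtain ⟨a, ha, k, hk, hak⟩ := hD.conn {i} ⟨i, rfl⟩ (by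
    intro hu
    obtain ⟨k, h1, _⟩ := hD.three i i
    have : k ∈ ({i} : Set (Fin n)) := by rw [hu]; exact Set.mem_univ k
    exact h1 this)
  rw [Set.mem_singleton_iff] at ha hk
  subst ha
  exact ⟨k, (hsl a k (Ne.symm hk)).resolve_left hak⟩

theorem conn_of_diag (hD : Diag M) : NormalTrans.Conn M := by
  intro J hJ hJc
  obtain ⟨a, ha, b, hb, hab⟩ := hD.conn J hJ (fun h => by
    obtain ⟨x, hx⟩ := hJc
    rw [h] at hx
    exact hx (Set.mem_univ x))
  exact ⟨a, ha, b, hb, hab⟩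

variable [Finite W] [Finite C]

/-- The parametrised root groups, in `G'`. -/
theorem exists_par (hM : Lab234 M) (hD : Diag M) (hsl : ∀ i j, i ≠ j → M i j = 2 ∨ M i j = 3)
    {r : Fin n} (T : Rooted (adj M) r) (hth : Δ.Thick) (hσ : Chart Δ σ) :
    ∃ (F : Type) (_ : Field F) (_ : Finite F) (P : SL ↥(Gg cs (UU Δ σ)) F n (adj M)),
      (∀ i, SL2Par (P.xp i) (P.xm i)) ∧
      (∀ i, Set.range (P.xp i) = (RX Δ σ (rt cs 1 i) : Set ↥(Gg cs (UU Δ σ)))) ∧
      (∀ i, Set.range (P.xm i) = (RX Δ σ (rt cs (cs.simple i) i) : Set ↥(Gg cs (UU Δ σ)))) := by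
  have hE : ∀ i j, adj M i j → EdgeA2 (RX Δ σ (rt cs 1 i) : Set ↥(Gg cs (UU Δ σ)))
      (RX Δ σ (rt cs (cs.simple i) i)) (RX Δ σ (rt cs 1 j)) (RX Δ σ (rt cs (cs.simple j) j)) :=
    fun i j hij => edgeA2 hM hD hth hσ hij
  obtain ⟨k, hk⟩ := exists_adj hD hsl r
  obtain ⟨F, i1, i2, ⟨p0⟩⟩ := (hE r k hk).exists_par
  obtain ⟨xp, xm, -, -, hpar, hrp, hrm, hst⟩ := glueTree' T
    (fun i => (RX Δ σ (rt cs 1 i) : Set ↥(Gg cs (UU Δ σ))))
    (fun i => (RX Δ σ (rt cs (cs.simple i) i) : Set ↥(Gg cs (UU Δ σ)))) hE p0.par p0.rp p0.rm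
  refine ⟨F, i1, i2, ⟨xp, xm, fun i j hij => ?_, fun i j hij h1 _ s t => ?_⟩, hpar, hrp, hrm⟩
  · obtain ⟨x, hx, -, h1, h2, h3, h4⟩ := hst i j (Or.inl hij)
    exact ⟨x, hx, h1, h2, h3, h4⟩
  · have h2 : M i j = 2 := (hsl i j hij).resolve_right h1
    have mp : ∀ i t, xp i t ∈ RX Δ σ (rt cs 1 i) := fun i t => by
      have : xp i t ∈ (RX Δ σ (rt cs 1 i) : Set ↥(Gg cs (UU Δ σ))) := hrp i ▸ ⟨t, rfl⟩
      exact this
    have mm : ∀ i t, xm i t ∈ RX Δ σ (rt cs (cs.simple i) i) := fun i t => by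
      have : xm i t ∈ (RX Δ σ (rt cs (cs.simple i) i) : Set ↥(Gg cs (UU Δ σ))) := hrm i ▸ ⟨t, rfl⟩
      exact this
    exact ⟨comm_two hM hD hth hσ h2 (Or.inl rfl) (Or.inl rfl) (mp i s) (mp j t),
      comm_two hM hD hth hσ h2 (Or.inl rfl) (Or.inr rfl) (mp i s) (mm j t),
      comm_two hM hD hth hσ h2 (Or.inr rfl) (Or.inl rfl) (mm i s) (mp j t),
      comm_two hM hD hth hσ h2 (Or.inr rfl) (Or.inr rfl) (mm i s) (mm j t)⟩

omit [Finite W] [Finite C] in
theorem range_coe {X : Type*} {x : X → ↥(Gg cs (UU Δ σ))} {R : Set W}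
    (hle : UU Δ σ R ≤ Gg cs (UU Δ σ))
    (h : Set.range x = (RX Δ σ R : Set ↥(Gg cs (UU Δ σ)))) :
    Set.range (fun t => (Gg cs (UU Δ σ)).subtype (x t)) = (UU Δ σ R : Set (Aut Δ)) := by
  ext g
  constructor
  · rintro ⟨t, rfl⟩
    have : x t ∈ (RX Δ σ R : Set ↥(Gg cs (UU Δ σ))) := h ▸ ⟨t, rfl⟩
    exact this
  · intro hg
    have : (⟨g, hle hg⟩ : ↥(Gg cs (UU Δ σ))) ∈ (RX Δ σ R : Set ↥(Gg cs (UU Δ σ))) := hg
    rw [← h] at this
    obtain ⟨t, ht⟩ := this
    exact ⟨t, congrArg Subtype.val ht⟩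

/-- The `G` side package. -/
noncomputable def gsl (H : Sys Δ (Aut Δ) σ (UU Δ σ)) {F : Type*} [Field F]
    (P : SL ↥(Gg cs (UU Δ σ)) F n (adj M))
    (hp : ∀ i, Set.range (P.xp i) = (RX Δ σ (rt cs 1 i) : Set ↥(Gg cs (UU Δ σ))))
    (hm : ∀ i, Set.range (P.xm i) = (RX Δ σ (rt cs (cs.simple i) i) : Set ↥(Gg cs (UU Δ σ)))) :
    GSL Δ ↥(Gg cs (UU Δ σ)) F (adj M) where
  toSL := P
  c := σ 1
  ci i := σ (cs.simple i)
  act i := by
    have mp : ∀ t, P.xp i t ∈ (RX Δ σ (rt cs 1 i) : Set ↥(Gg cs (UU Δ σ))) := fun t =>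
      hp i ▸ ⟨t, rfl⟩
    have mm : ∀ t, P.xm i t ∈ (RX Δ σ (rt cs (cs.simple i) i) : Set ↥(Gg cs (UU Δ σ))) :=
      fun t => hm i ▸ ⟨t, rfl⟩
    refine H.nodeAct (fun t => mp t) (fun g hg => ?_) (fun t => mm t) (fun g hg => ?_)
    · have : (⟨g, H.rt_le _ _ hg⟩ : ↥(Gg cs (UU Δ σ))) ∈
          (RX Δ σ (rt cs 1 i) : Set ↥(Gg cs (UU Δ σ))) := hg
      rw [← hp i] at this
      obtain ⟨t, ht⟩ := this
      exact ⟨t, congrArg Subtype.val ht⟩
    · have : (⟨g, H.rt_le _ _ hg⟩ : ↥(Gg cs (UU Δ σ))) ∈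
          (RX Δ σ (rt cs (cs.simple i) i) : Set ↥(Gg cs (UU Δ σ))) := hg
      rw [← hm i] at this
      obtain ⟨t, ht⟩ := this
      exact ⟨t, congrArg Subtype.val ht⟩
  gen := by
    refine H.closure_eq_top (fun i g hg => ?_) (fun i g hg => ?_)
    · have : (⟨g, H.rt_le _ _ hg⟩ : ↥(Gg cs (UU Δ σ))) ∈
          (RX Δ σ (rt cs 1 i) : Set ↥(Gg cs (UU Δ σ))) := hg
      rw [← hp i] at this
      obtain ⟨t, ht⟩ := this
      exact ⟨_, ⟨i, t, Or.inl rfl⟩, congrArg Subtype.val ht⟩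
    · have : (⟨g, H.rt_le _ _ hg⟩ : ↥(Gg cs (UU Δ σ))) ∈
          (RX Δ σ (rt cs (cs.simple i) i) : Set ↥(Gg cs (UU Δ σ))) := hg
      rw [← hm i] at this
      obtain ⟨t, ht⟩ := this
      exact ⟨_, ⟨i, t, Or.inr rfl⟩, congrArg Subtype.val ht⟩

end General

/-- There is a model over every finite field. -/
def HasModel {n : ℕ} (M : CoxeterMatrix (Fin n)) : Prop :=
  ∀ (F : Type) [Field F] [Finite F], ∃ (K : Type) (_ : Group K), IsSimpleGroup K ∧ LieConcl K ∧
    Nonempty (SLData K F n (adj M))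

/-- **Simply laced types are solved.** -/
theorem allSolved {n : ℕ} {M : CoxeterMatrix (Fin n)} (hM : Lab234 M) (hD : Diag M)
    (hsl : ∀ i j, i ≠ j → M i j = 2 ∨ M i j = 3) {r : Fin n} (T : Rooted (adj M) r)
    (hK : HasModel M) : AllSolved.{u} M := by
  intro W C _ _ _ _ cs Δ hth
  obtain ⟨c⟩ := (inferInstance : Nonempty C)
  obtain ⟨d, hd⟩ := Opp.exists_opp Δ c
  obtain ⟨σ, hσ, -, -⟩ := MouDefs.exists_chart hd 1
  have H := MouAll.sys hM hD hth hσ
  obtain ⟨F, i1, i2, P, hpar, hp, hm⟩ := exists_par hM hD hsl T hth hσ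
  have hnb : ∀ i, ∃ j, adj M i j ∨ adj M j i := fun i => by
    obtain ⟨j, hj⟩ := exists_adj hD hsl i
    exact ⟨j, Or.inl hj⟩
  have hpr : Fact (ringChar F).Prime := ⟨CharP.char_is_prime F (ringChar F)⟩
  obtain ⟨h1, h2, h3⟩ := EndSL.main H (mapSL (Gg cs (UU Δ σ)).subtype P)
    (fun i => SL2Par.map _ (Subgroup.subtype_injective _) (hpar i))
    (fun i => range_coe (H.rt_le 1 i) (hp i)) (fun i => range_coe (H.rt_le _ i) (hm i))
    (p := ringChar F) hnb
  refine EndHyp.solved H (p := ringChar F) h3 h1 h2 fun _ => ?_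
  obtain ⟨K, i3, i4, hK1, ⟨Q⟩⟩ := hK F
  obtain ⟨e⟩ := AssembleSL.nonempty_mulEquiv hth H.Gg_strongAct (conn_of_diag hD) hnb
    (gsl H P hp hm) Q
  exact hK1.of_equiv e

/-! ### The models -/

theorem model_A {n : ℕ} (hn : 3 ≤ n) : HasModel (cA n) := by
  intro F _ _
  have := Fintype.ofFinite F
  refine ⟨Matrix.ProjectiveSpecialLinearGroup (Fin (n + 1)) F, inferInstance,
    Cfsg.Agent.S0249.result (n + 1) (by omega),
    Or.inl ⟨F, inferInstance, inferInstance, n + 1, by omega, fun h => by omega,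
      ⟨MulEquiv.refl _⟩⟩,
    ⟨relabel (KSideInstA.data n (by omega) F) (Equiv.refl _) (fun i j h => ?_) (fun i j h => ?_)⟩⟩
  · have h1 : mA i j = 3 := h
    unfold mA at h1
    unfold KSideInstA.adjA
    simp only [Equiv.refl_apply]
    split_ifs at h1 with h2 h3
    · omega
    · exact h3
    · omega
  · have h1 : (i : ℕ) + 1 = j := h
    left
    change mA i j = 3
    unfold mA
    rw [if_neg (by omega), if_pos (Or.inl h1)]

theorem model_D {n : ℕ} (hn : 4 ≤ n) : HasModel (cD n) := by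
  intro F _ _
  have := Fintype.ofFinite F
  refine ⟨Cfsg.POmega F (Cfsg.quadFormPlus n F), inferInstance,
    Cfsg.Agent.S0296.result n hn,
    Or.inr (Or.inr (Or.inr (Or.inr (Or.inl ⟨F, inferInstance, inferInstance, n, hn,
      ⟨MulEquiv.refl _⟩⟩)))),
    ⟨relabel (KSideInstD.data (by omega) F) (Equiv.refl _) (fun i j h => ?_) (fun i j h => ?_)⟩⟩
  · have h1 : mD n i j = 3 := h
    unfold mD at h1
    unfold KSideInstD.adjD
    simp only [Equiv.refl_apply]
    split_ifs at h1 with h2 h3 <;> omega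
  · have h1 : ((i : ℕ) + 1 = j ∧ (j : ℕ) + 1 < n) ∨ ((i : ℕ) + 3 = n ∧ (j : ℕ) + 1 = n) := h
    left
    change mD n i j = 3
    unfold mD
    rw [if_neg (by omega), if_pos (by omega)]

theorem rooted_A {n : ℕ} (hn : 3 ≤ n) : ∃ r, Nonempty (Rooted (adj (cA n)) r) := by
  refine ⟨⟨0, by omega⟩, ⟨rootedOf (by omega) (cA n) (fun i => ⟨i.1 - 1, by omega⟩)
    (fun i hi => ⟨?_, ?_⟩) (fun i j hij h => ?_)⟩⟩
  · simp only; omega
  · rw [cA_apply]; unfold mA; simp only
    rw [if_neg (by omega), if_pos (by omega)]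
  · rw [cA_apply] at h; unfold mA at h
    apply Fin.ext
    simp only
    split_ifs at h with h1 h2 <;> omega

theorem rooted_D {n : ℕ} (hn : 4 ≤ n) : ∃ r, Nonempty (Rooted (adj (cD n)) r) := by
  refine ⟨⟨0, by omega⟩, ⟨rootedOf (by omega) (cD n)
    (fun i => ⟨if i.1 + 1 = n then n - 3 else i.1 - 1, by split_ifs <;> omega⟩)
    (fun i hi => ⟨?_, ?_⟩) (fun i j hij h => ?_)⟩⟩
  · simp only; split_ifs <;> omega
  · rw [cD_apply]; unfold mD; simp only
    split_ifs <;> omega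
  · rw [cD_apply] at h; unfold mD at h
    apply Fin.ext
    simp only
    split_ifs at h ⊢ <;> omega

theorem rooted_E {n : ℕ} (hn : 4 ≤ n) : ∃ r, Nonempty (Rooted (adj (cE n)) r) := by
  refine ⟨⟨0, by omega⟩, ⟨rootedOf (by omega) (cE n)
    (fun i => ⟨if i.1 + 1 = n then 2 else i.1 - 1, by split_ifs <;> omega⟩)
    (fun i hi => ⟨?_, ?_⟩) (fun i j hij h => ?_)⟩⟩
  · simp only; split_ifs <;> omega
  · rw [cE_apply]; unfold mE; simp only
    split_ifs <;> omega
  · rw [cE_apply] at h; unfold mE at h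
    apply Fin.ext
    simp only
    split_ifs at h ⊢ <;> omega

theorem sl_A (n : ℕ) (i j : Fin n) (hij : i ≠ j) : cA n i j = 2 ∨ cA n i j = 3 := by
  rw [cA_apply]; unfold mA
  have : (i : ℕ) ≠ j := fun h => hij (Fin.ext h)
  split_ifs <;> simp_all

theorem sl_D (n : ℕ) (i j : Fin n) (hij : i ≠ j) : cD n i j = 2 ∨ cD n i j = 3 := by
  rw [cD_apply]; unfold mD
  have : (i : ℕ) ≠ j := fun h => hij (Fin.ext h)
  split_ifs <;> simp_all

theorem sl_E (n : ℕ) (i j : Fin n) (hij : i ≠ j) : cE n i j = 2 ∨ cE n i j = 3 := by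
  rw [cE_apply]; unfold mE
  have : (i : ℕ) ≠ j := fun h => hij (Fin.ext h)
  split_ifs <;> simp_all

/-- Type `A_n`. -/
theorem allSolved_A {n : ℕ} (hn : 3 ≤ n) : AllSolved.{u} (cA n) := by
  obtain ⟨r, ⟨T⟩⟩ := rooted_A hn
  exact allSolved (lab_A n) (CombInst.diag_A hn) (sl_A n) T (model_A hn)

/-- Type `D_n`. -/
theorem allSolved_D {n : ℕ} (hn : 4 ≤ n) : AllSolved.{u} (cD n) := by
  obtain ⟨r, ⟨T⟩⟩ := rooted_D hn
  exact allSolved (lab_D n) (CombInst.diag_D hn) (sl_D n) T (model_D hn)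

/-! ### The exceptional types -/

open Cfsg.Agent.TitsThree.KExcBase (adjE dataE6 dataE7 dataE8 simpleE6 simpleE7 simpleE8)

/-- From the path `0, …, n-2` with `n-1` attached to `2` to Bourbaki's numbering, `n = 6`. -/
def e6 : Fin 6 ≃ Fin 6 where
  toFun := ![0, 2, 3, 4, 5, 1]
  invFun := ![0, 5, 1, 2, 3, 4]
  left_inv := by decide
  right_inv := by decide

/-- The same for `n = 7`. -/
def e7 : Fin 7 ≃ Fin 7 where
  toFun := ![0, 2, 3, 4, 5, 6, 1]
  invFun := ![0, 6, 1, 2, 3, 4, 5]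
  left_inv := by decide
  right_inv := by decide

/-- The same for `n = 8`. -/
def e8 : Fin 8 ≃ Fin 8 where
  toFun := ![0, 2, 3, 4, 5, 6, 7, 1]
  invFun := ![0, 7, 1, 2, 3, 4, 5, 6]
  left_inv := by decide
  right_inv := by decide

theorem adj_e6 : ∀ i j : Fin 6, (mE 6 i j = 3 → adjE 6 (e6 i) (e6 j) ∨ adjE 6 (e6 j) (e6 i)) ∧
    (adjE 6 (e6 i) (e6 j) → mE 6 i j = 3) := by
  decide

theorem adj_e7 : ∀ i j : Fin 7, (mE 7 i j = 3 → adjE 7 (e7 i) (e7 j) ∨ adjE 7 (e7 j) (e7 i)) ∧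
    (adjE 7 (e7 i) (e7 j) → mE 7 i j = 3) := by
  decide

theorem adj_e8 : ∀ i j : Fin 8, (mE 8 i j = 3 → adjE 8 (e8 i) (e8 j) ∨ adjE 8 (e8 j) (e8 i)) ∧
    (adjE 8 (e8 i) (e8 j) → mE 8 i j = 3) := by
  decide

theorem model_E6 : HasModel (cE 6) := by
  intro F _ _
  have := Fintype.ofFinite F
  exact ⟨↥(Cfsg.Lie.chevE6.group F), inferInstance, simpleE6 F,
    Or.inr (Or.inr (Or.inr (Or.inr (Or.inr (Or.inr (Or.inr (Or.inr (Or.inl
      ⟨F, inferInstance, inferInstance, ⟨MulEquiv.refl _⟩⟩)))))))),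
    ⟨relabel (dataE6 F) e6 (fun i j h => (adj_e6 i j).1 h)
      (fun i j h => Or.inl ((adj_e6 i j).2 h))⟩⟩

theorem model_E7 : HasModel (cE 7) := by
  intro F _ _
  have := Fintype.ofFinite F
  exact ⟨↥(Cfsg.Lie.chevE7.group F), inferInstance, simpleE7 F,
    Or.inr (Or.inr (Or.inr (Or.inr (Or.inr (Or.inr (Or.inr (Or.inr (Or.inr (Or.inl
      ⟨F, inferInstance, inferInstance, ⟨MulEquiv.refl _⟩⟩))))))))),
    ⟨relabel (dataE7 F) e7 (fun i j h => (adj_e7 i j).1 h)
      (fun i j h => Or.inl ((adj_e7 i j).2 h))⟩⟩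

theorem model_E8 : HasModel (cE 8) := by
  intro F _ _
  have := Fintype.ofFinite F
  exact ⟨↥(Cfsg.Lie.chevE8.group F), inferInstance, simpleE8 F,
    Or.inr (Or.inr (Or.inr (Or.inr (Or.inr (Or.inr (Or.inr (Or.inr (Or.inr (Or.inr (Or.inl
      ⟨F, inferInstance, inferInstance, ⟨MulEquiv.refl _⟩⟩)))))))))),
    ⟨relabel (dataE8 F) e8 (fun i j h => (adj_e8 i j).1 h)
      (fun i j h => Or.inl ((adj_e8 i j).2 h))⟩⟩

/-- Type `E₆`. -/
theorem allSolved_E6 : AllSolved.{u} (cE 6) := by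
  obtain ⟨r, ⟨T⟩⟩ := rooted_E (n := 6) (by omega)
  exact allSolved (lab_E 6) (CombInst.diag_E (by omega)) (sl_E 6) T model_E6

/-- Type `E₇`. -/
theorem allSolved_E7 : AllSolved.{u} (cE 7) := by
  obtain ⟨r, ⟨T⟩⟩ := rooted_E (n := 7) (by omega)
  exact allSolved (lab_E 7) (CombInst.diag_E (by omega)) (sl_E 7) T model_E7

/-- Type `E₈`. -/
theorem allSolved_E8 : AllSolved.{u} (cE 8) := by
  obtain ⟨r, ⟨T⟩⟩ := rooted_E (n := 8) (by omega)
  exact allSolved (lab_E 8) (CombInst.diag_E (by omega)) (sl_E 8) T model_E8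

end Cfsg.Agent.TitsThree.SolvedSL
end

-- part: TitsThree/SubPkg
section
/-!
# Restriction of relation packages to a subgroup (S1143)

`edge3_sub`, `comm4_sub`, `b2_sub` : a package in `Y` whose simple root elements lie in `H ≤ Y` is a package in `H`.
`y_mem`, `z₁_mem` : the positive root elements lie in every subgroup containing `x`, `z₂`.
-/

set_option autoImplicit false

namespace Cfsg.Agent.TitsThree.SubPkg

open Cfsg.Agent.AGraded Cfsg.Agent.TitsThree.B2Pkg Cfsg.Agent.TitsThree.Pack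
open scoped commutatorElement

variable {Y : Type*} [Group Y] {H : Subgroup Y}

theorem commutator_mem {a b : Y} (ha : a ∈ H) (hb : b ∈ H) : ⁅a, b⁆ ∈ H := by
  rw [commutatorElement_def]
  exact mul_mem (mul_mem (mul_mem ha hb) (inv_mem ha)) (inv_mem hb)

theorem stein3_mem {F : Type*} [Field F] {x : Fin 3 → Fin 3 → F → Y} (hx : SteinRel x)
    (h01 : ∀ t, x 0 1 t ∈ H) (h10 : ∀ t, x 1 0 t ∈ H) (h12 : ∀ t, x 1 2 t ∈ H)
    (h21 : ∀ t, x 2 1 t ∈ H) (i j : Fin 3) (hij : i ≠ j) (t : F) : x i j t ∈ H := by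
  have h02 : ∀ t, x 0 2 t ∈ H := fun t => by
    have h := hx.br 0 1 2 (by decide) (by decide) (by decide) t 1
    rw [mul_one] at h
    rw [← h]
    exact commutator_mem (h01 t) (h12 1)
  have h20 : ∀ t, x 2 0 t ∈ H := fun t => by
    have h := hx.br 2 1 0 (by decide) (by decide) (by decide) t 1
    rw [mul_one] at h
    rw [← h]
    exact commutator_mem (h21 t) (h10 1)
  fin_cases i <;> fin_cases j
  · exact absurd rfl hij
  · exact h01 t
  · exact h02 t
  · exact h10 t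
  · exact absurd rfl hij
  · exact h12 t
  · exact h20 t
  · exact h21 t
  · exact absurd rfl hij

open Classical in
/-- Restriction of an edge package to a subgroup. -/
theorem edge3_sub {F : Type*} [Field F] {xp xm yp ym : F → Y} (h : Edge3 xp xm yp ym)
    {xp' xm' yp' ym' : F → ↥H} (h1 : ∀ t, (xp' t : Y) = xp t) (h2 : ∀ t, (xm' t : Y) = xm t)
    (h3 : ∀ t, (yp' t : Y) = yp t) (h4 : ∀ t, (ym' t : Y) = ym t) : Edge3 xp' xm' yp' ym' := by
  obtain ⟨x, hx, e1, e2, e3, e4⟩ := h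
  have hm := stein3_mem (H := H) hx (fun t => by rw [e1, ← h1]; exact (xp' t).2)
    (fun t => by rw [e2, ← h2]; exact (xm' t).2) (fun t => by rw [e3, ← h3]; exact (yp' t).2)
    (fun t => by rw [e4, ← h4]; exact (ym' t).2)
  obtain ⟨z, hz⟩ : ∃ z : Fin 3 → Fin 3 → F → ↥H, ∀ i j, i ≠ j → ∀ t, (z i j t : Y) = x i j t := by
    refine ⟨fun i j t => if hij : i ≠ j then ⟨x i j t, hm i j hij t⟩ else 1, ?_⟩
    intro i j hij t
    dsimp only
    rw [dif_pos hij]
  refine ⟨z, ⟨?_, ?_, ?_⟩, ?_, ?_, ?_, ?_⟩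
  · intro i j hij a b
    apply Subtype.ext
    rw [Subgroup.coe_mul, hz i j hij, hz i j hij, hz i j hij]
    exact hx.add i j hij a b
  · intro i j k l hij hkl hjk hil a b
    apply Subtype.ext
    rw [Subgroup.coe_mul, Subgroup.coe_mul, hz i j hij, hz k l hkl]
    exact hx.comm i j k l hij hkl hjk hil a b
  · intro i j k hij hjk hik a b
    apply Subtype.ext
    rw [hz i k hik, ← hx.br i j k hij hjk hik a b, ← hz i j hij, ← hz j k hjk]
    rfl
  · funext t
    exact Subtype.ext (by rw [hz 0 1 (by decide), h1, ← e1])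
  · funext t
    exact Subtype.ext (by rw [hz 1 0 (by decide), h2, ← e2])
  · funext t
    exact Subtype.ext (by rw [hz 1 2 (by decide), h3, ← e3])
  · funext t
    exact Subtype.ext (by rw [hz 2 1 (by decide), h4, ← e4])

theorem comm4_sub {X X' : Type*} {xp xm : X → Y} {yp ym : X' → Y} (h : Comm4 xp xm yp ym)
    {xp' xm' : X → ↥H} {yp' ym' : X' → ↥H} (h1 : ∀ t, (xp' t : Y) = xp t)
    (h2 : ∀ t, (xm' t : Y) = xm t) (h3 : ∀ t, (yp' t : Y) = yp t) (h4 : ∀ t, (ym' t : Y) = ym t) :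
    Comm4 xp' xm' yp' ym' := by
  intro s t
  obtain ⟨a, b, c, d⟩ := h s t
  refine ⟨Subtype.ext ?_, Subtype.ext ?_, Subtype.ext ?_, Subtype.ext ?_⟩
  · show (xp' s : Y) * yp' t = yp' t * xp' s
    rw [h1, h3]; exact a
  · show (xp' s : Y) * ym' t = ym' t * xp' s
    rw [h1, h4]; exact b
  · show (xm' s : Y) * yp' t = yp' t * xm' s
    rw [h2, h3]; exact c
  · show (xm' s : Y) * ym' t = ym' t * xm' s
    rw [h2, h4]; exact d

section B2

variable {F : Type*} [Field F] {V : Type*} [AddCommGroup V] [Module F V] {D : PQDatum F V}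
variable {m : B2Maps D Y}

theorem nI_mem (hx : ∀ a, m.x a ∈ H) (hx' : ∀ a, m.x' a ∈ H) : m.nI ∈ H :=
  mul_mem (mul_mem (hx _) (hx' _)) (hx _)

theorem nII_mem (hz : ∀ p, m.z₂ p ∈ H) (hz' : ∀ p, m.z₂' p ∈ H) (p : D.T) : m.nII p ∈ H :=
  mul_mem (mul_mem (hz' _) (hz _)) (hz' _)

theorem y_mem_of (h : B2Rel m) (hx : ∀ a, m.x a ∈ H) (hz : ∀ p, m.z₂ p ∈ H)
    (hz' : ∀ p, m.z₂' p ∈ H) {p : D.T} (hp : p.c ≠ 0) (b : F) : m.y b ∈ H := by
  have h1 := h.nII_x p hp (b / (D.ε * D.σ p.c))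
  have h2 : D.ε * D.σ p.c ≠ 0 := by
    refine mul_ne_zero ?_ ?_
    · intro h0
      have := D.ε_mul
      rw [h0, zero_mul] at this
      exact zero_ne_one this
    · exact (map_ne_zero D.σ).2 hp
  rw [mul_div_cancel₀ _ h2] at h1
  rw [← h1]
  exact mul_mem (mul_mem (nII_mem hz hz' p) (hx _)) (inv_mem (nII_mem hz hz' p))

theorem y'_mem_of (h : B2Rel m) (hx' : ∀ a, m.x' a ∈ H) (hz : ∀ p, m.z₂ p ∈ H)
    (hz' : ∀ p, m.z₂' p ∈ H) {p : D.T} (hp : p.c ≠ 0) (b : F) : m.y' b ∈ H := by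
  have h1 := h.nII_x' p hp (D.σ (-(p.c * b)))
  have h2 : -(p.c⁻¹ * D.σ (D.σ (-(p.c * b)))) = b := by
    rw [D.σσ]; field_simp
  rw [h2] at h1
  rw [← h1]
  exact mul_mem (mul_mem (nII_mem hz hz' p) (hx' _)) (inv_mem (nII_mem hz hz' p))

theorem z₁_mem_of (h : B2Rel m) (hx : ∀ a, m.x a ∈ H) (hx' : ∀ a, m.x' a ∈ H)
    (hz : ∀ p, m.z₂ p ∈ H) (p : D.T) : m.z₁ p ∈ H := by
  rw [← h.nI_z₂]
  exact mul_mem (mul_mem (nI_mem hx hx') (hz _)) (inv_mem (nI_mem hx hx'))

theorem z₁'_mem_of (h : B2Rel m) (hx : ∀ a, m.x a ∈ H) (hx' : ∀ a, m.x' a ∈ H)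
    (hz' : ∀ p, m.z₂' p ∈ H) (p : D.T) : m.z₁' p ∈ H := by
  rw [← h.nI_z₂']
  exact mul_mem (mul_mem (nI_mem hx hx') (hz' _)) (inv_mem (nI_mem hx hx'))

/-- Restriction of a package of type `B₂` to a subgroup. -/
theorem b2_sub (h : B2Rel m) (hx : ∀ a, m.x a ∈ H) (hx' : ∀ a, m.x' a ∈ H)
    (hz : ∀ p, m.z₂ p ∈ H) (hz' : ∀ p, m.z₂' p ∈ H) (hne : ∃ p : D.T, p.c ≠ 0) :
    ∃ k : B2Maps D ↥H, B2Rel k ∧ k.map H.subtype = m := by
  obtain ⟨p₀, hp₀⟩ := hne
  let k : B2Maps D ↥H :=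
    { x := fun a => ⟨m.x a, hx a⟩
      x' := fun a => ⟨m.x' a, hx' a⟩
      y := fun b => ⟨m.y b, y_mem_of h hx hz hz' hp₀ b⟩
      y' := fun b => ⟨m.y' b, y'_mem_of h hx' hz hz' hp₀ b⟩
      z₁ := fun p => ⟨m.z₁ p, z₁_mem_of h hx hx' hz p⟩
      z₂ := fun p => ⟨m.z₂ p, hz p⟩
      z₁' := fun p => ⟨m.z₁' p, z₁'_mem_of h hx hx' hz' p⟩
      z₂' := fun p => ⟨m.z₂' p, hz' p⟩ }
  have hk : k.map H.subtype = m := rfl
  exact ⟨k, B2Rel.of_map (f := H.subtype) H.subtype_injective (hk ▸ h), hk⟩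

/-- The positive root elements `y` lie in every subgroup containing `x`, `z₂` (the form is not zero). -/
theorem y_mem (h : B2Rel m) (hx : ∀ a, m.x a ∈ H) (hz : ∀ p, m.z₂ p ∈ H)
    (hne : ∃ p q : D.T, D.h q.w p.w ≠ 0) (b : F) : m.y b ∈ H := by
  obtain ⟨p, q, hpq⟩ := hne
  have key : ∀ a : F, m.y (-D.h q.w (D.sc a p).w) ∈ H := by
    intro a
    have h1 : ⁅m.z₁ (D.sc a p) * m.y (-(D.ε * a * D.σ p.c)), m.z₂ q⁆ ∈ H := by
      rw [← h.x_z₂]
      exact commutator_mem (commutator_mem (hx a) (hz p)) (hz q)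
    have h2 : ⁅m.z₁ (D.sc a p) * m.y (-(D.ε * a * D.σ p.c)), m.z₂ q⁆ =
        ⁅m.z₁ (D.sc a p), m.z₂ q⁆ := by
      have hc : m.y (-(D.ε * a * D.σ p.c)) * m.z₂ q = m.z₂ q * m.y (-(D.ε * a * D.σ p.c)) :=
        h.y_z₂ _ _
      rw [commutatorElement_def, commutatorElement_def, mul_inv_rev]
      set Yb := m.y (-(D.ε * a * D.σ p.c))
      calc m.z₁ (D.sc a p) * Yb * m.z₂ q * (Yb⁻¹ * (m.z₁ (D.sc a p))⁻¹) * (m.z₂ q)⁻¹
          = m.z₁ (D.sc a p) * (Yb * m.z₂ q) * Yb⁻¹ * (m.z₁ (D.sc a p))⁻¹ * (m.z₂ q)⁻¹ := by group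
        _ = m.z₁ (D.sc a p) * (m.z₂ q * Yb) * Yb⁻¹ * (m.z₁ (D.sc a p))⁻¹ * (m.z₂ q)⁻¹ := by rw [hc]
        _ = _ := by group
    rw [h2, h.z₁_z₂] at h1
    exact h1
  have h3 := key (-(b / D.h q.w p.w))
  have h4 : -D.h q.w (D.sc (-(b / D.h q.w p.w)) p).w = b := by
    rw [PQDatum.sc_w, D.smul_right, D.σσ]
    field_simp
  rwa [h4] at h3

/-- The positive root elements `z₁` lie in every subgroup containing `x`, `z₂` (the form is not zero). -/
theorem z₁_mem (h : B2Rel m) (hx : ∀ a, m.x a ∈ H) (hz : ∀ p, m.z₂ p ∈ H)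
    (hne : ∃ p q : D.T, D.h q.w p.w ≠ 0) (p : D.T) : m.z₁ p ∈ H := by
  have h1 := h.x_z₂ 1 p
  have h2 : D.sc 1 p = p := by
    ext
    · rw [PQDatum.sc_w, map_one, one_smul]
    · rw [PQDatum.sc_c, map_one, one_mul, one_mul]
  rw [h2] at h1
  have h3 : m.z₁ p = ⁅m.x 1, m.z₂ p⁆ * (m.y (-(D.ε * 1 * D.σ p.c)))⁻¹ := by
    rw [h1, mul_inv_cancel_right]
  rw [h3]
  exact mul_mem (commutator_mem (hx 1) (hz p)) (inv_mem (y_mem h hx hz hne _))

end B2

end Cfsg.Agent.TitsThree.SubPkg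
end

-- part: TitsThree/KExcF4
section
/-!
# The Chevalley group `F₄(F)` as `KFF` (S1143, K side)

The nodes `0, 1` are the long fundamental roots (indices `24`, `25`), the nodes `2, 3` the short ones (`27`, `33`).
The subsystem of type `B₃` containing the nodes `0, 1, 2` gives the signed relations `Sgn`.
-/

set_option autoImplicit false
set_option linter.unusedSectionVars false

namespace Cfsg.Agent.TitsThree.KExcF4

open Cfsg.Lie Cfsg.Agent.ChevalleyStructure.Elts Cfsg.Agent.ChevalleyStructure Cfsg.Agent.AGraded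
open Cfsg.Agent.TitsThree Cfsg.Agent.TitsThree.KExcBase Cfsg.Agent.TitsThree.Pack
open Cfsg.Agent.TitsThree.B2Pkg Cfsg.Agent.TitsThree.FFData Cfsg.Agent.TitsThree.StdData
open Cfsg.Agent.TitsThree.C3Grp Cfsg.Agent.TitsThree.PQAbs Cfsg.Agent.TitsThree.C3Sgn
open scoped commutatorElement

universe u

section Two

variable {F : Type u} [Field F] {D : ChevalleyDatum}

/-- Chevalley's commutator formula with two terms `r + s`, `r + 2 s`. -/
theorem comm_two (hD : InList D) {r s k l : ℕ} {N M K : ℤ} (hr : r < D.nroots) (hs : s < D.nroots)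
    (hk : k < D.nroots) (hrs : s ≠ r) (hneg : s ≠ D.neg r)
    (h : D.commTerms r s = [(k, N, 1, 1), (l, M, 1, 2)])
    (hsk : k ≠ s) (hsk' : k ≠ D.neg s) (h' : D.commTerms s k = [(l, K, 1, 1)])
    (c1 : NilTab D r k) (c2 : NilTab D r l) (c3 : NilTab D s l) (c4 : NilTab D k l) (t u : F) :
    X hD r t * X hD s u = X hD k ((N : F) * (t * u)) *
      (X hD l (((M + K * N : ℤ) : F) * (t * (u * u))) * (X hD s u * X hD r t)) := by
  have e1 : X hD s u * X hD r t = X hD r t * X hD s u *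
      (X hD k (-((N : F) * (t * u))) * X hD l (-((M : F) * (t * (u * u))))) := by
    have h1 := Cfsg.Agent.S1025.result (F := F) D hD r s hr hs hrs hneg t u
    have h2 : D.commWord F r s t u = [(k, (N : F) * (-t) ^ 1 * u ^ 1), (l, (M : F) * (-t) ^ 1 * u ^ 2)] := by
      show (D.commTerms r s).map _ = _
      rw [h]; rfl
    rw [h2, wordMat_cons, wordMat_cons, wordMat_nil, mul_one] at h1
    apply Subtype.ext
    apply Units.ext
    show (xG hD s u * xG hD r t : GL D.Idx F).1 = (xG hD r t * xG hD s u *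
      (xG hD k (-((N : F) * (t * u))) * xG hD l (-((M : F) * (t * (u * u)))))).1
    rw [Units.val_mul, Units.val_mul, Units.val_mul, Units.val_mul, coe_xG, coe_xG, coe_xG, coe_xG, h1]
    congr 3
    · ring
    · ring
  have e2 : ∀ v : F, X hD k v * X hD s u = X hD s u * X hD k v * X hD l (-((K : F) * (u * v))) := by
    intro v
    have h1 := Cfsg.Agent.S1025.result (F := F) D hD s k hs hk hsk hsk' u v
    have h2 : D.commWord F s k u v = [(l, (K : F) * (-u) ^ 1 * v ^ 1)] := by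
      show (D.commTerms s k).map _ = _
      rw [h']; rfl
    rw [h2, wordMat_cons, wordMat_nil, mul_one] at h1
    apply Subtype.ext
    apply Units.ext
    show (xG hD k v * xG hD s u : GL D.Idx F).1 = (xG hD s u * xG hD k v *
      xG hD l (-((K : F) * (u * v)))).1
    rw [Units.val_mul, Units.val_mul, Units.val_mul, coe_xG, coe_xG, coe_xG, h1]
    congr 2
    ring
  have f1 := X_commute (F := F) hD c1 t ((N : F) * (t * u))
  have f2 := X_commute (F := F) hD c2 t ((M : F) * (t * (u * u)))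
  have f3 := X_commute (F := F) hD c3 u ((M : F) * (t * (u * u)))
  have f3' := X_commute (F := F) hD c3 u ((K : F) * (u * ((N : F) * (t * u))))
  have f4 := X_commute (F := F) hD c4 ((N : F) * (t * u)) ((M : F) * (t * (u * u)))
  have e3 := e2 ((N : F) * (t * u))
  rw [X_neg, X_neg] at e1
  rw [X_neg] at e3
  have e4 : X hD l (((M + K * N : ℤ) : F) * (t * (u * u))) =
      X hD l ((M : F) * (t * (u * u))) * X hD l ((K : F) * (u * ((N : F) * (t * u)))) := by
    rw [← X_add]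
    congr 1
    push_cast
    ring
  rw [e4]
  generalize X hD r t = A at *
  generalize X hD s u = B at *
  generalize X hD k ((N : F) * (t * u)) = P at *
  generalize X hD l ((M : F) * (t * (u * u))) = Q at *
  generalize X hD l ((K : F) * (u * ((N : F) * (t * u)))) = R at *
  have g1 : A * B = B * A * (Q * P) := by
    rw [e1]; group
  have g2 : B * P = P * B * R := by
    rw [e3]; group
  calc A * B = B * (A * Q) * P := by rw [g1]; group
    _ = B * Q * (A * P) := by rw [f2.eq]; group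
    _ = (B * Q) * P * A := by rw [f1.eq]; group
    _ = Q * (B * P) * A := by rw [f3.eq]; group
    _ = Q * P * (B * R) * A := by rw [g2]; group
    _ = (Q * P) * R * B * A := by rw [f3'.eq]; group
    _ = P * (Q * R * (B * A)) := by rw [← f4.eq]; group

end Two

/-- Table check: `[x_r, x_s]` has the single term `r + s = k`, coefficient `N`. -/
def OneTab (D : ChevalleyDatum) (r s k : ℕ) (N : ℤ) : Prop :=
  r < D.nroots ∧ s < D.nroots ∧ s ≠ r ∧ s ≠ D.neg r ∧ D.commTerms r s = [(k, N, 1, 1)]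

instance (D : ChevalleyDatum) (r s k : ℕ) (N : ℤ) : Decidable (OneTab D r s k N) := by
  unfold OneTab; infer_instance

/-- Table check: `[x_r, x_s]` has the two terms `r + s = k`, `r + 2 s = l`. -/
def TwoTab (D : ChevalleyDatum) (r s k l : ℕ) (N M : ℤ) : Prop :=
  r < D.nroots ∧ s < D.nroots ∧ s ≠ r ∧ s ≠ D.neg r ∧ D.commTerms r s = [(k, N, 1, 1), (l, M, 1, 2)]

instance (D : ChevalleyDatum) (r s k l : ℕ) (N M : ℤ) : Decidable (TwoTab D r s k l N M) := by
  unfold TwoTab; infer_instance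

/-! ### The tables of the subsystem of type `B₃` -/

/-- The code of a signed index. -/
def cd (x : S) : ℕ := 2 * x.1.val + (if x.2 then 1 else 0)

/-- The index of the root `b_x - b_y`. -/
def rE (x y : S) : ℕ :=
  (([[0, 0, 23, 15, 21, 16], [0, 0, 32, 24, 31, 26], [24, 15, 0, 0, 22, 17], [32, 23, 0, 0, 30, 25],
    [26, 16, 25, 17, 0, 0], [31, 21, 30, 22, 0, 0]] : List (List ℕ)).getD (cd x) []).getD (cd y) 0

/-- The sign of `E x y`. -/
def sE (x y : S) : ℤ :=
  (([[1, 1, -1, -1, -1, -1], [1, 1, 1, 1, 1, 1], [-1, 1, 1, 1, -1, -1], [-1, 1, 1, 1, 1, 1],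
    [-1, 1, -1, 1, 1, 1], [-1, 1, -1, 1, 1, 1]] : List (List ℤ)).getD (cd x) []).getD (cd y) 0

/-- The index of the root `b_x`. -/
def rZ (x : S) : ℕ := ([18, 29, 19, 28, 20, 27] : List ℕ).getD (cd x) 0

/-- The sign of `Z x`. -/
def sZ (x : S) : ℤ := ([1, -1, 1, -1, 1, -1] : List ℤ).getD (cd x) 0

/-- The coefficient of the first term of `[E x y, Z y]`. -/
def cN (x y : S) : ℤ := ((chevF4.commTerms (rE x y) (rZ y)).getD 0 (0, 0, 0, 0)).2.1

/-- The coefficient of the second term of `[E x y, Z y]`. -/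
def cM (x y : S) : ℤ := ((chevF4.commTerms (rE x y) (rZ y)).getD 1 (0, 0, 0, 0)).2.1

/-- The coefficient of `[Z x, Z y]`. -/
def cK (x y : S) : ℤ := ((chevF4.commTerms (rZ x) (rZ y)).getD 0 (0, 0, 0, 0)).2.1

theorem tE_comm : ∀ x y z : S, x.1 ≠ y.1 → x.1 ≠ z.1 → y.1 ≠ z.1 →
    NilTab chevF4 (rE x y) (rE x z) := by decide +kernel

theorem tE_E : ∀ x y z : S, x.1 ≠ y.1 → x.1 ≠ z.1 → y.1 ≠ z.1 →
    OneTab chevF4 (rE x y) (rE y z) (rE x z) (sE x y * sE y z * sE x z) := by decide +kernel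

theorem tE_comm' : ∀ x y z : S, x.1 ≠ y.1 → x.1 ≠ z.1 → y.1 ≠ z.1 →
    NilTab chevF4 (rE y z) (rE x z) := by decide +kernel

theorem tE_swap : ∀ x y : S, x.1 ≠ y.1 → rE x y = rE (op y) (op x) ∧ sE x y = - sE (op y) (op x) := by
  decide +kernel

theorem tZ_E : ∀ x y : S, x.1 ≠ y.1 → NilTab chevF4 (rZ x) (rE x y) := by decide +kernel

theorem tZ_E3 : ∀ x y z : S, x.1 ≠ y.1 → x.1 ≠ z.1 → y.1 ≠ z.1 → NilTab chevF4 (rZ x) (rE y z) := by
  decide +kernel

theorem tE_same : ∀ x y : S, x.1 ≠ y.1 → NilTab chevF4 (rE x (op y)) (rE x y) := by decide +kernel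

theorem tE_Z : ∀ x y : S, x.1 ≠ y.1 →
    TwoTab chevF4 (rE x y) (rZ y) (rZ x) (rE x (op y)) (cN x y) (cM x y) := by decide +kernel

theorem tE_Z1 : ∀ x y : S, x.1 ≠ y.1 → OneTab chevF4 (rZ y) (rZ x) (rE x (op y)) (cK y x) := by decide +kernel

theorem tE_Z2 : ∀ x y : S, x.1 ≠ y.1 → NilTab chevF4 (rE x y) (rZ x) := by decide +kernel

theorem tE_Z3 : ∀ x y : S, x.1 ≠ y.1 → NilTab chevF4 (rE x y) (rE x (op y)) := by decide +kernel

theorem tE_Z4 : ∀ x y : S, x.1 ≠ y.1 → NilTab chevF4 (rZ y) (rE x (op y)) := by decide +kernel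

theorem tE_Z5 : ∀ x y : S, x.1 ≠ y.1 → NilTab chevF4 (rZ x) (rE x (op y)) := by decide +kernel

theorem tsE : ∀ x y : S, sE x y * sE x y = 1 := by decide +kernel

theorem tsZ : ∀ x : S, sZ x * sZ x = 1 := by decide +kernel

theorem tcN : ∀ x y : S, x.1 ≠ y.1 → cN x y * (sE x y * sZ y) = sZ x := by decide +kernel

theorem tcM : ∀ x y : S, x.1 ≠ y.1 → (cM x y + cK y x * cN x y) * sE x y = sE x (op y) := by decide +kernel

theorem tcK : ∀ x y : S, x.1 ≠ y.1 → cK x y * (sZ x * sZ y) = -2 * sE x (op y) := by decide +kernel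

theorem mem : InList chevF4 := by simp [InList]

variable (F : Type u) [Field F]

/-- The parameter system in the format `Sys`. -/
noncomputable def sys : Sys F (ConjPair.triv F).datum.T where
  σ := RingEquiv.refl F
  σσ _ := rfl
  ε := 1
  ε_mul := by simp
  c p := p.c
  h p q := 2 * (p.w * q.w)
  smul a p := (ConjPair.triv F).τ (a * p.w)
  tr _ := 1
  h_mul p q r := by
    rw [PQDatum.T.mul_w]; ring
  h_swap p q := by
    rw [RingEquiv.refl_apply]; ring
  c_mul p q := by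
    rw [PQDatum.T.mul_c]
    show _ - (q.w * p.w + q.w * p.w) = _
    ring
  c_herm p := by
    have h : p.c = -(p.w * p.w) := p.ok
    rw [RingEquiv.refl_apply, h]; ring
  h_smul a p q := by
    rw [ConjPair.τ_w]; ring
  c_smul a p := by
    have h : p.c = -(p.w * p.w) := p.ok
    show -(a * p.w * (a * p.w)) = a * a * p.c
    rw [h]; ring
  h_tr m p := by
    rw [PQDatum.T.one_w]; ring
  c_tr m := by
    rw [PQDatum.T.one_c, RingEquiv.refl_apply]; ring
  eq_one p hp := by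
    apply (ConjPair.triv F).T_ext
    have h : p.c = -(p.w * p.w) := p.ok
    rw [hp] at h
    have h1 : p.w * p.w = 0 := by
      linear_combination h
    rw [PQDatum.T.one_w]
    exact mul_self_eq_zero.1 h1

/-- Long root elements. -/
noncomputable def E (x y : S) (t : F) : ↥(chevF4.group F) := X mem (rE x y) ((sE x y : F) * t)

/-- Short root elements. -/
noncomputable def Z (x : S) (p : (ConjPair.triv F).datum.T) : ↥(chevF4.group F) :=
  X mem (rZ x) ((sZ x : F) * p.w)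

theorem gg_one (x : S) : C3Grp.gg (1 : F) x = 1 := by
  unfold C3Grp.gg
  split_ifs <;> rfl

theorem comm_one' {r s k : ℕ} {N : ℤ} (h : OneTab chevF4 r s k N) (h1 : NilTab chevF4 r k)
    (h2 : NilTab chevF4 s k) (t u : F) : ⁅X mem r t, X mem s u⁆ = X mem k ((N : F) * t * u) := by
  apply Subtype.ext
  have := comm_one (F := F) mem h.1 h.2.1 h.2.2.1 h.2.2.2.1 h.2.2.2.2
    (fun t u => comm_nil mem h1.1 h1.2.1 h1.2.2.1 h1.2.2.2.1 h1.2.2.2.2 t u)
    (fun t u => comm_nil mem h2.1 h2.2.1 h2.2.2.1 h2.2.2.2.1 h2.2.2.2.2 t u) t u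
  rw [commutatorElement_def] at this ⊢
  exact this

theorem csq (x y : S) : ((sE x y : ℤ) : F) * (sE x y : F) = 1 := by
  rw [← Int.cast_mul, tsE, Int.cast_one]

theorem csqZ (x : S) : ((sZ x : ℤ) : F) * (sZ x : F) = 1 := by
  rw [← Int.cast_mul, tsZ, Int.cast_one]

/-- The signed relations. -/
noncomputable def sgn : Sgn (sys F) ↥(chevF4.group F) where
  E := E F
  Z := Z F
  E_add x y _ s t := by
    show X mem _ _ = X mem _ _ * X mem _ _
    rw [← X_add, mul_add]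
  E_comm x y z h1 h2 h3 s t := (X_commute mem (tE_comm x y z h1 h2 h3) _ _).eq
  E_E x y z h1 h2 h3 s t := by
    show ⁅X mem _ _, X mem _ _⁆ = X mem _ _
    rw [comm_one' F (tE_E x y z h1 h2 h3) (tE_comm x y z h1 h2 h3) (tE_comm' x y z h1 h2 h3)]
    congr 1
    have e1 := csq F x y
    have e2 := csq F y z
    push_cast
    linear_combination (sE y z : F) * (sE y z : F) * (sE x z : F) * s * t * e1 + (sE x z : F) * s * t * e2
  E_swap x y h t := by
    show X mem _ _ = X mem _ _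
    obtain ⟨h1, h2⟩ := tE_swap x y h
    rw [h1, h2]
    congr 1
    show _ = _ * -((C3Grp.gg (1 : F) x) * (C3Grp.gg (1 : F) y)⁻¹ * t)
    rw [gg_one, gg_one]
    push_cast
    ring
  Z_mul x p q := by
    show X mem _ _ = X mem _ _ * X mem _ _
    rw [← X_add, ← mul_add, PQDatum.T.mul_w]
  Z_E x y h p t := (X_commute mem (tZ_E x y h) _ _).eq
  Z_E3 x y z h1 h2 h3 p t := (X_commute mem (tZ_E3 x y z h1 h2 h3) _ _).eq
  E_same x y h a b := by
    have h0 : Z F x ((sys F).tr ((sys F).σ a * b * gg (sys F).ε y)) = 1 := by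
      show X mem _ ((sZ x : F) * 0) = 1
      rw [mul_zero, X_zero]
    rw [h0, one_mul]
    exact (X_commute mem (tE_same x y h) _ _).eq
  E_Z x y h a p := by
    show X mem _ _ * X mem _ _ = X mem _ ((sZ x : F) * (a * p.w)) *
      (X mem _ ((sE x (op y) : F) * -(a * C3Grp.gg (1 : F) y * p.c)) * (X mem _ _ * X mem _ _))
    have t0 := tE_Z x y h
    have t1 := tE_Z1 x y h
    rw [comm_two mem t0.1 t0.2.1 t1.2.1 t0.2.2.1 t0.2.2.2.1 t0.2.2.2.2 t1.2.2.1 t1.2.2.2.1 t1.2.2.2.2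
      (tE_Z2 x y h) (tE_Z3 x y h) (tE_Z4 x y h) (tE_Z5 x y h)]
    have hc : p.c = -(p.w * p.w) := p.ok
    have e1 : (cN x y : F) * ((sE x y : F) * (sZ y : F)) = (sZ x : F) := by
      exact_mod_cast congrArg (Int.cast : ℤ → F) (tcN x y h)
    have e2 : ((cM x y + cK y x * cN x y : ℤ) : F) * (sE x y : F) = (sE x (op y) : F) := by
      rw [← Int.cast_mul, tcM x y h]
    have e3 := csqZ F y
    congr 2
    · linear_combination a * p.w * e1
    · congr 1
      rw [gg_one, hc]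
      linear_combination (cM x y + cK y x * cN x y : ℤ) * (sE x y : F) * a * (p.w * p.w) * e3 +
        a * (p.w * p.w) * e2
  Z_Z x y h p q := by
    show X mem _ _ * X mem _ _ = X mem _ ((sE x (op y) : F) *
      -(C3Grp.gg (1 : F) y * (1 : F)⁻¹ * (2 * (q.w * p.w)))) * (X mem _ _ * X mem _ _)
    have t1 := tE_Z1 y x (Ne.symm h)
    have hr : rE y (op x) = rE x (op y) := by
      rw [(tE_swap x (op y) h).1, op_op]
    rw [hr] at t1
    have hcomm := comm_one' F t1 (tE_Z5 x y h) (tE_Z4 x y h) ((sZ x : F) * p.w) ((sZ y : F) * q.w)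
    have e1 : (cK x y : F) * ((sZ x : F) * (sZ y : F)) = -2 * (sE x (op y) : F) := by
      exact_mod_cast congrArg (Int.cast : ℤ → F) (tcK x y h)
    have e2 : (cK x y : F) * ((sZ x : F) * p.w) * ((sZ y : F) * q.w) =
        (sE x (op y) : F) * -(C3Grp.gg (1 : F) y * (1 : F)⁻¹ * (2 * (q.w * p.w))) := by
      rw [gg_one]
      linear_combination (p.w * q.w) * e1
    rw [← e2, ← hcomm, commutatorElement_def]
    group

/-! ### The package over `(triv F).datum` -/

/-- `(triv F).datum` and the datum of `sys F` are similar. -/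
noncomputable def lin : F →ₗ[F] (sys F).V where
  toFun t := (sys F).cl ((ConjPair.triv F).τ t)
  map_add' s t := by
    rw [← (sys F).cl_mul, ConjPair.τ_add]
  map_smul' a t := by
    rw [RingHom.id_apply, (sys F).smul_cl]
    rfl

theorem lin_bij : Function.Bijective (lin F) := by
  constructor
  · intro s t h
    obtain ⟨m, hm⟩ := (sys F).cl_eq.1 h
    have h1 : (ConjPair.triv F).τ t = (ConjPair.triv F).τ s := by
      rw [hm]
      exact mul_one _
    exact ((ConjPair.triv F).τ_inj h1).symm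
  · intro v
    obtain ⟨p, rfl⟩ := (sys F).cl_surj v
    obtain ⟨t, rfl⟩ := (ConjPair.triv F).τ_surj p
    exact ⟨t, rfl⟩

/-- The similarity. -/
noncomputable def sim : Sim (sys F).datum (ConjPair.triv F).datum where
  l := 1
  l_ne := one_ne_zero
  e := (LinearEquiv.ofBijective (lin F) (lin_bij F)).symm
  σ_eq _ := rfl
  ε_eq := by
    show (1 : F) = 1 * 1 * (1 : F)⁻¹
    simp
  h_eq v w := by
    obtain ⟨s, rfl⟩ := (LinearEquiv.ofBijective (lin F) (lin_bij F)).surjective v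
    obtain ⟨t, rfl⟩ := (LinearEquiv.ofBijective (lin F) (lin_bij F)).surjective w
    rw [LinearEquiv.symm_apply_apply, LinearEquiv.symm_apply_apply, one_mul]
    show s * t + s * t = (sys F).hV ((sys F).cl _) ((sys F).cl _)
    rw [(sys F).hV_cl]
    show _ = 2 * (s * t)
    ring
  ok_iff w c := by
    obtain ⟨s, rfl⟩ := (LinearEquiv.ofBijective (lin F) (lin_bij F)).surjective w
    rw [LinearEquiv.symm_apply_apply, one_mul]
    constructor
    · intro h
      exact ⟨(ConjPair.triv F).τ s, rfl, h.symm⟩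
    · rintro ⟨p, h1, h2⟩
      obtain ⟨t, rfl⟩ := (ConjPair.triv F).τ_surj p
      have h3 : t = s := (lin_bij F).1 h1
      subst h3
      exact h2.symm

/-- The package of the double bond. -/
noncomputable def b2 : B2Maps (ConjPair.triv F).datum ↥(chevF4.group F) :=
  B2Transport.maps (sim F) (C3B2.maps (sgn F) 1 2)

theorem b2_rel : B2Rel (b2 F) := B2Transport.rel (sim F) (C3B2.b2Rel (sgn F) (by decide))

theorem equiv_symm_τ (p : (ConjPair.triv F).datum.T) :
    (sys F).equiv.symm (B2Transport.τ (sim F) p) = p := by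
  rw [MulEquiv.symm_apply_eq]
  obtain ⟨t, rfl⟩ := (ConjPair.triv F).τ_surj p
  ext
  · rfl
  · rw [B2Transport.τ_c]
    show (1 : F)⁻¹ * _ = _
    rw [inv_one, one_mul]
    rfl

theorem b2_x (a : F) : (b2 F).x a = X mem 25 a := by
  show X mem 25 (((1 : ℤ) : F) * a) = _
  rw [Int.cast_one, one_mul]

theorem b2_x' (a : F) : (b2 F).x' a = X mem 22 a := by
  show X mem 22 (((1 : ℤ) : F) * a) = _
  rw [Int.cast_one, one_mul]

theorem b2_y (a : F) : (b2 F).y a = X mem 30 a := by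
  show X mem 30 (((1 : ℤ) : F) * ((1 : F)⁻¹ * a)) = _
  rw [Int.cast_one, one_mul, inv_one, one_mul]

theorem b2_z₁ (p : (ConjPair.triv F).datum.T) : (b2 F).z₁ p = X mem 28 (-p.w) := by
  show Z F (1, true) ((sys F).equiv.symm (B2Transport.τ (sim F) p)) = _
  rw [equiv_symm_τ]
  show X mem 28 (((-1 : ℤ) : F) * p.w) = _
  rw [Int.cast_neg, Int.cast_one, neg_one_mul]

theorem b2_z₂ (p : (ConjPair.triv F).datum.T) : (b2 F).z₂ p = X mem 27 (-p.w) := by
  show Z F (2, true) ((sys F).equiv.symm (B2Transport.τ (sim F) p)) = _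
  rw [equiv_symm_τ]
  show X mem 27 (((-1 : ℤ) : F) * p.w) = _
  rw [Int.cast_neg, Int.cast_one, neg_one_mul]

theorem b2_z₂' (p : (ConjPair.triv F).datum.T) : (b2 F).z₂' p = X mem 20 p.w := by
  show Z F (2, false) ((sys F).smul (1 : F) ((sys F).equiv.symm
    ((sys F).datum.sc ((sys F).datum.σ 1) (B2Transport.τ (sim F) p)))) = _
  rw [map_one, PQDatum.sc_one, equiv_symm_τ, (sys F).one_smul]
  show X mem 20 (((1 : ℤ) : F) * p.w) = _
  rw [Int.cast_one, one_mul]

/-! ### The other edges -/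

/-- The roots of the subsystem of type `A₂` of the nodes `2`, `3`. -/
def r2 (a b : Fin 3) : ℕ := (![![0, 27, 34], ![20, 0, 33], ![13, 14, 0]] : Fin 3 → Fin 3 → ℕ) a b

/-- The signs of the subsystem of type `A₂` of the nodes `2`, `3`. -/
def s2 (a b : Fin 3) : ℤ := (![![1, -1, -1], ![-1, 1, 1], ![-1, 1, 1]] : Fin 3 → Fin 3 → ℤ) a b

theorem t2a : KExcRT.RTa chevF4 r2 := by decide +kernel
theorem t2b : KExcRT.RTb chevF4 r2 s2 := by decide +kernel
theorem t2c : KExcRT.RTc chevF4 r2 := by decide +kernel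
theorem t2d : KExcRT.RTd s2 := by decide +kernel

theorem e23 : Edge3 (fun t : F => X mem 27 (-t)) (fun t : F => X mem 20 (-t)) (fun t : F => X mem 33 t)
    (fun t : F => X mem 14 t) := by
  refine SubPkg.edge3_sub (Y := GL chevF4.Idx F) (H := chevF4.group F)
    ⟨_, KExcRT.stein (F := F) mem t2a t2b t2c t2d, rfl, rfl, rfl, rfl⟩ ?_ ?_ ?_ ?_
  · intro t
    show xG mem 27 (-t) = xG mem 27 (((-1 : ℤ) : F) * t)
    rw [Int.cast_neg, Int.cast_one, neg_one_mul]
  · intro t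
    show xG mem 20 (-t) = xG mem 20 (((-1 : ℤ) : F) * t)
    rw [Int.cast_neg, Int.cast_one, neg_one_mul]
  · intro t
    show xG mem 33 t = xG mem 33 (((1 : ℤ) : F) * t)
    rw [Int.cast_one, one_mul]
  · intro t
    show xG mem 14 t = xG mem 14 (((1 : ℤ) : F) * t)
    rw [Int.cast_one, one_mul]

theorem tA : ∀ a b c d : Fin 3, a ≠ b → c ≠ d → b ≠ c → a ≠ d →
    rE (a, true) (b, true) = rE (c, true) (d, true) ∨
      NilTab chevF4 (rE (a, true) (b, true)) (rE (c, true) (d, true)) := by decide +kernel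

theorem e01 : Edge3 (fun t : F => X mem 24 t) (fun t : F => X mem 23 t) (fun t : F => X mem 25 t)
    (fun t : F => X mem 22 t) := by
  have hf : ∀ r : ℕ, (fun t : F => X mem r (((1 : ℤ) : F) * t)) = fun t : F => X (D := chevF4) mem r t := by
    intro r
    funext t
    rw [Int.cast_one, one_mul]
  refine ⟨fun a b t => E F (a, true) (b, true) t, ⟨?_, ?_, ?_⟩, hf 24, hf 23, hf 25, hf 22⟩
  · intro a b hab s t
    exact (sgn F).E_add (a, true) (b, true) hab s t
  · intro a b c d hab hcd hbc had s t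
    rcases tA a b c d hab hcd hbc had with h | h
    · have h1 : E F (a, true) (b, true) s = X mem (rE (c, true) (d, true)) ((sE (a, true) (b, true) : F) * s) := by
        rw [← h]; rfl
      show E F (a, true) (b, true) s * E F (c, true) (d, true) t = E F (c, true) (d, true) t * E F (a, true) (b, true) s
      rw [h1]
      exact Subtype.ext (comm_self mem _ _ _)
    · exact (X_commute mem h _ _).eq
  · intro a b c hab hbc hac s t
    exact (sgn F).E_E (a, true) (b, true) (c, true) hab hac hbc s t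

theorem tnil : (∀ r ∈ [24, 23], ∀ s ∈ [27, 20, 33, 14], NilTab chevF4 r s) ∧
    ∀ r ∈ [25, 22], ∀ s ∈ [33, 14], NilTab chevF4 r s := by decide +kernel

theorem comm_of {r s : ℕ} (h : NilTab chevF4 r s) (t u : F) : Commute (X mem r t) (X mem s u) :=
  X_commute mem h t u

theorem pos_mem {r : ℕ} (h : chevF4.IsPosRoot r) (t : F) : X mem r t ∈ B F chevF4 := by
  rw [B, Subgroup.mem_subgroupOf]
  exact (le_sup_left : chevF4.posUnipotent F ≤ chevF4.borelSubgroup F) (xG_mem_posUnipotent mem h t)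

theorem pos28 : chevF4.IsPosRoot 28 := by decide +kernel
theorem pos30 : chevF4.IsPosRoot 30 := by decide +kernel

theorem nII_eq {p : (ConjPair.triv F).datum.T} (hp : p.c ≠ 0) :
    (b2 F).nII p = X mem 20 (p.w)⁻¹ * X mem 27 (-((p.w)⁻¹)⁻¹) * X mem 20 (p.w)⁻¹ := by
  obtain ⟨t, rfl⟩ := (ConjPair.triv F).τ_surj p
  have ht : t ≠ 0 := by
    rintro rfl
    exact hp (by rw [ConjPair.τ_c, ConjPair.N_zero, neg_zero])
  rw [ConjPair.nII_τ _ _ ht, b2_z₂', b2_z₂, ConjPair.τ_w, ConjPair.τ'_w, inv_inv]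
  have h : -(ConjPair.triv F).conj (-t⁻¹) = t⁻¹ := by
    show - (-t⁻¹) = t⁻¹
    rw [neg_neg]
  rw [h]

/-- **`F₄(F)` as a model.** -/
noncomputable def kff : KFF ↥(chevF4.group F) (ConjPair.triv F).datum (ConjPair.triv F).τ (ConjPair.triv F).τ' where
  x0 t := X mem 24 t
  y0 t := X mem 23 t
  x1 t := X mem 25 t
  y1 t := X mem 22 t
  x2 t := X mem 27 (-t)
  y2 t := X mem 20 (-t)
  x3 t := X mem 33 t
  y3 t := X mem 14 t
  b2 := b2 F
  rel := b2_rel F
  e01 := e01 F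
  e23 := e23 F
  hx := funext (b2_x F)
  hx' := funext (b2_x' F)
  hz t := b2_z₂ F _
  hz' t := b2_z₂' F _
  c02 s t := ⟨comm_of F (tnil.1 24 (by simp) 27 (by simp)) _ _, comm_of F (tnil.1 24 (by simp) 20 (by simp)) _ _,
    comm_of F (tnil.1 23 (by simp) 27 (by simp)) _ _, comm_of F (tnil.1 23 (by simp) 20 (by simp)) _ _⟩
  c03 s t := ⟨comm_of F (tnil.1 24 (by simp) 33 (by simp)) _ _, comm_of F (tnil.1 24 (by simp) 14 (by simp)) _ _,
    comm_of F (tnil.1 23 (by simp) 33 (by simp)) _ _, comm_of F (tnil.1 23 (by simp) 14 (by simp)) _ _⟩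
  c13 s t := ⟨comm_of F (tnil.2 25 (by simp) 33 (by simp)) _ _, comm_of F (tnil.2 25 (by simp) 14 (by simp)) _ _,
    comm_of F (tnil.2 22 (by simp) 33 (by simp)) _ _, comm_of F (tnil.2 22 (by simp) 14 (by simp)) _ _⟩
  gen := by
    apply closure_simple mem
    · intro i hi t
      apply Subgroup.subset_closure
      have hi' : i < 4 := hi
      interval_cases i
      · exact Or.inl (Or.inr ⟨t, rfl⟩)
      · exact Or.inl (Or.inl (Or.inl (Or.inr ⟨-t, congrArg (X mem 27) (neg_neg t)⟩)))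
      · exact Or.inl (Or.inl (Or.inl (Or.inl (Or.inl (Or.inr ⟨t, rfl⟩)))))
      · exact Or.inl (Or.inl (Or.inl (Or.inl (Or.inl (Or.inl (Or.inl ⟨t, rfl⟩))))))
    · intro i hi t
      apply Subgroup.subset_closure
      have hi' : i < 4 := hi
      interval_cases i
      · exact Or.inr ⟨t, rfl⟩
      · exact Or.inl (Or.inl (Or.inr ⟨-t, congrArg (X mem 20) (neg_neg t)⟩))
      · exact Or.inl (Or.inl (Or.inl (Or.inl (Or.inr ⟨t, rfl⟩))))
      · exact Or.inl (Or.inl (Or.inl (Or.inl (Or.inl (Or.inl (Or.inr ⟨t, rfl⟩))))))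
  Bor := B F chevF4
  Bor_ne := B_ne_top mem (by decide)
  x0_mem t := X_simple_mem mem (i := 3) (by decide) t
  x1_mem t := X_simple_mem mem (i := 2) (by decide) t
  x2_mem t := X_simple_mem mem (i := 1) (by decide) (-t)
  x3_mem t := X_simple_mem mem (i := 0) (by decide) t
  y_mem t := by rw [b2_y]; exact pos_mem F pos30 t
  z₁_mem p := by rw [b2_z₁]; exact pos_mem F pos28 _
  hh0_mem t ht := by
    exact h_mem mem (i := 3) (by decide) ht one_ne_zero
  hh1_mem t ht := by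
    exact h_mem mem (i := 2) (by decide) ht one_ne_zero
  hh3_mem t ht := by
    exact h_mem mem (i := 0) (by decide) ht one_ne_zero
  nII_mem p q hp hq := by
    have hw : ∀ {p : (ConjPair.triv F).datum.T}, p.c ≠ 0 → (p.w)⁻¹ ≠ 0 := by
      intro p hp h
      apply hp
      have h1 : p.c = -(p.w * p.w) := p.ok
      rw [h1, inv_eq_zero.1 h, mul_zero, neg_zero]
    rw [nII_eq F hp, nII_eq F hq, B, Subgroup.mem_subgroupOf]
    have h := MonomialNormal.nG_mul_nG_inv_mem (F := F) mem (r := 20) (by decide) (hw hp) (hw hq)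
    rw [nG_def, nG_def, ← mul_assoc (xG mem 20 _), ← mul_assoc (xG mem 20 _)] at h
    exact (le_sup_right : chevF4.diagonalSubgroup F ≤ chevF4.borelSubgroup F) h

theorem simple : IsSimpleGroup ↥(chevF4.group F) := (Cfsg.Agent.S1054.result chevF4 (by simp)).1

theorem concl (F : Type) [Field F] [Fintype F] : Top.LieConcl ↥(chevF4.group F) := by
  refine Or.inr (Or.inr (Or.inr (Or.inr (Or.inr (Or.inr (Or.inr (Or.inl ?_)))))))
  exact ⟨F, inferInstance, inferInstance, ⟨MulEquiv.refl _⟩⟩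

/-- **The model over a finite field.** -/
theorem model (F : Type) [Field F] [Finite F] : ∃ (K : Type) (_ : Group K), IsSimpleGroup K ∧ Top.LieConcl K ∧
    Nonempty (KFF K (ConjPair.triv F).datum (ConjPair.triv F).τ (ConjPair.triv F).τ') := by
  have := Fintype.ofFinite F
  exact ⟨↥(chevF4.group F), inferInstance, simple F, concl F, ⟨kff F⟩⟩

end Cfsg.Agent.TitsThree.KExcF4
end
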