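import Cfsg.Agent.TitsThree.RankTwoIdent
import Cfsg.Agent.TitsThree.CoreB2
import Cfsg.Agent.Prune
set_option linter.all false
prune_inst 0x7f00000000000000000000000000000000000000000000000000000000000000000000000000000000000000000000000000000000000000000000000000000000000000000000000000000000000000003fffffffffffffffffffffffffffbeffbdffffffff
open scoped Cfsg.Agent.FastGrp

/-!
# Two simple groups generated by `B₂` packages over the same datum are isomorphic (S1144, [ID], `m = 4`)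
-/

set_option autoImplicit false

namespace Cfsg.Agent.TitsThree.RankTwoIdentB2

open Cfsg.Agent.TitsThree.B2Pkg Cfsg.Agent.TitsThree.RankTwoRGD Cfsg.Agent.TitsThree.RankTwoIdx
  Cfsg.Agent.TitsThree.RankTwoIdent Cfsg.Agent.TitsThree.CoreB2

universe u v

variable {F : Type*} [Field F] {V : Type*} [AddCommGroup V] [Module F V] {D : PQDatum F V}

/-- The simple root elements and their opposites. -/
def genSet {Y : Type*} (m : B2Maps D Y) : Set Y :=
  {g | (∃ a, g = m.x a ∨ g = m.x' a) ∨ ∃ p, g = m.z₂ p ∨ g = m.z₂' p}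

/-- The positive root elements. -/
def posSet {Y : Type*} (m : B2Maps D Y) : Set Y :=
  {g | (∃ a, g = m.x a ∨ g = m.y a) ∨ ∃ p, g = m.z₁ p ∨ g = m.z₂ p}

/-- The positive part of the root datum is generated by the positive root elements. -/
theorem U_le {Y : Type u} [Group Y] {m : B2Maps D Y} (h : B2Rel m) (hn : NIRel m) (r : D.T) (hr : r.c ≠ 0) :
    (r2 h hn r hr).U ≤ Subgroup.closure (posSet m) := by
  refine iSup₂_le fun k hk => ?_
  obtain ⟨h1, h2⟩ := hk
  have hk' : k = 1 ∨ k = 2 ∨ k = 3 ∨ k = 4 := by omega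
  rcases hk' with rfl | rfl | rfl | rfl
  · rintro _ ⟨a, rfl⟩
    exact Subgroup.subset_closure (Or.inl ⟨a, Or.inl rfl⟩)
  · rintro _ ⟨a, rfl⟩
    exact Subgroup.subset_closure (Or.inr ⟨a, Or.inl rfl⟩)
  · rintro _ ⟨a, rfl⟩
    exact Subgroup.subset_closure (Or.inl ⟨a, Or.inr rfl⟩)
  · rintro _ ⟨a, rfl⟩
    exact Subgroup.subset_closure (Or.inr ⟨a, Or.inr rfl⟩)

theorem gen_le {Y : Type u} [Group Y] {m : B2Maps D Y} (h : B2Rel m) (hn : NIRel m) (r : D.T) (hr : r.c ≠ 0) :
    Subgroup.closure (genSet m) ≤ (r2 h hn r hr).core.G := by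
  rw [Subgroup.closure_le]
  rintro g (⟨a, rfl | rfl⟩ | ⟨p, rfl | rfl⟩)
  · exact (r2 h hn r hr).core.AI_le ⟨a, rfl⟩
  · exact (r2 h hn r hr).core.AI'_le ⟨a, rfl⟩
  · exact (r2 h hn r hr).core.AJ_le ⟨p, rfl⟩
  · exact (r2 h hn r hr).core.AJ'_le ⟨p, rfl⟩

end Cfsg.Agent.TitsThree.RankTwoIdentB2
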