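import Cfsg.Agent.TitsThree.CnModel
import Cfsg.Agent.TitsThree.KInstSp
import Cfsg.Agent.TitsThree.CharBase
import Cfsg.Agent.TitsThree.SolvedCN
import Cfsg.Agent.Prune
set_option linter.all false
prune_inst 0x7f00000000000000000000000000000000000000000000000000000000000000000000000000000000000000000000000000000000000000000000000000000000000000000000000000000000000000003fffffffffffffffffffffffffffbeffbdffffffff
open scoped Cfsg.Agent.FastGrp

/-!
# S1143 with the characteristic, type `C_n`: models and identification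
-/

set_option autoImplicit false

namespace Cfsg.Agent.TitsThree.CharCN

open Cfsg
open Cfsg.Agent.Tits.Core Cfsg.Agent.Tits.Core.Bldg Cfsg.Agent.Tits
open Cfsg.Agent.LieRecognition.BNCox
open Cfsg.Agent.TitsThree.B2Pkg Cfsg.Agent.TitsThree.Pack Cfsg.Agent.TitsThree.StdData
  Cfsg.Agent.TitsThree.Top Cfsg.Agent.TitsThree.CnModel Cfsg.Agent.TitsThree.KSideO
  Cfsg.Agent.TitsThree.KInstU Cfsg.Agent.TitsThree.KInstSp Cfsg.Agent.TitsThree.CharBase
  Cfsg.Agent.TitsThree.KSideUDesc Cfsg.Agent.TitsThree.KSideU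

universe u v

/-- There is a simple group of Lie type in the characteristic of `F` with a K side package over `D`. -/
def HasModelC {F : Type u} [Field F] {V : Type v} [AddCommGroup V] [Module F V] (D : PQDatum F V)
    (n : ℕ) : Prop :=
  ∃ (K : Type) (_ : Group K), IsSimpleGroup K ∧ (∀ p : ℕ, CharP F p → IsLieTypeChar p K) ∧
    Nonempty (KCN K D (n + 1))

theorem charP_of_sq {F K : Type} [Field F] [Fintype F] [Field K] [Fintype K]
    (h : Fintype.card K = Fintype.card F ^ 2) {p : ℕ} (hp : CharP F p) : CharP K p := by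
  obtain ⟨r, hr⟩ := CharP.exists K
  have hpp : p.Prime := CharP.char_is_prime F p
  have hrp : r.Prime := CharP.char_is_prime K r
  obtain ⟨a, -, ha⟩ := FiniteField.card F p
  obtain ⟨b, -, hb⟩ := FiniteField.card K r
  have h1 : p ∣ r ^ (b : ℕ) := by
    rw [← hb, h, ha, ← pow_mul]
    exact dvd_pow_self p (by have := a.pos; omega)
  have h2 : p = r := (Nat.prime_dvd_prime_iff_eq hpp hrp).1 (hpp.dvd_of_dvd_pow h1)
  rw [h2]; exact hr

theorem hasModelC_Sp {F : Type} [Field F] [Fintype F] (n : ℕ) (h : n = 0 → 3 ≤ Fintype.card F) :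
    HasModelC (stdSp F) n :=
  ⟨PSp (n + 2) F, inferInstance,
    Cfsg.Agent.S0270.result (n + 2) (by omega) fun h2 => h (by omega),
    fun _ hp => Or.inr (Or.inl ⟨F, inferInstance, inferInstance, hp, n + 2, by omega,
      fun h2 => h (by omega), ⟨MulEquiv.refl _⟩⟩),
    ⟨kcnSp F n⟩⟩

/-- Odd dimensional orthogonal groups, odd characteristic. -/
theorem hasModelC_O1 {F : Type} [Field F] [Fintype F] (h2 : (2 : F) ≠ 0) (n : ℕ) :
    HasModelC (stdO1 F) n := by
  have hodd := odd_card_of_two_ne h2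
  have h3 := three_le_card h2
  rcases n with _ | n
  · obtain ⟨e⟩ := Cfsg.Agent.S0301.result (F := F) hodd
    have hs : IsSimpleGroup (Cfsg.PSp 2 F) := Cfsg.Agent.S0270.result 2 le_rfl (fun _ => h3)
    exact ⟨Cfsg.POmega F (Cfsg.quadFormOdd 2 F), inferInstance, simple_of_equiv e hs,
      fun _ hp => Or.inr (Or.inl ⟨F, inferInstance, inferInstance, hp, 2, le_rfl, fun _ => h3, ⟨e⟩⟩),
      exists_KCN_odd F h2 0⟩
  · exact ⟨Cfsg.POmega F (Cfsg.quadFormOdd (n + 3) F), inferInstance,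
      Cfsg.Agent.S0295.result hodd (n + 3) (by omega),
      fun _ hp => Or.inr (Or.inr (Or.inr (Or.inl ⟨F, inferInstance, inferInstance, hp, n + 3,
        by omega, hodd, ⟨MulEquiv.refl _⟩⟩))),
      exists_KCN_odd F h2 (n + 1)⟩

/-- Even dimensional orthogonal groups of minus type. -/
theorem hasModelC_O2 {F : Type} [Field F] [Fintype F] (a b : F)
    (hab : ∀ z₁ z₂ : F, z₁ ^ 2 + a * z₁ * z₂ + b * z₂ ^ 2 = 0 → z₁ = 0 ∧ z₂ = 0) (n : ℕ) :
    HasModelC (stdO2 F a b hab) n := by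
  rcases n with _ | n
  · obtain ⟨K, i1, i2, hK⟩ := exists_sq_field F
    obtain ⟨e⟩ := Cfsg.Agent.S0303.result (F := F) (K := K) (q := Fintype.card F) rfl hK a b hab
    have hs : IsSimpleGroup (Cfsg.PSU 4 K (Fintype.card F)) := KSideUDesc.isSimple hK (by omega)
    exact ⟨Cfsg.POmega F (Cfsg.quadFormMinus 2 F a b), inferInstance, simple_of_equiv e hs,
      fun _ hp => Or.inr (Or.inr (Or.inl ⟨K, i1, i2, charP_of_sq hK hp, 4, Fintype.card F, hK,
        by omega, by omega, ⟨e⟩⟩)),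
      exists_KCN_minus F a b hab 0⟩
  · exact ⟨Cfsg.POmega F (Cfsg.quadFormMinus (n + 3) F a b), inferInstance,
      Cfsg.Agent.S0297.result (n + 4) (by omega) a b hab,
      fun _ hp => Or.inr (Or.inr (Or.inr (Or.inr (Or.inr (Or.inl ⟨F, inferInstance, inferInstance,
        hp, n + 4, a, b, by omega, hab, ⟨MulEquiv.refl _⟩⟩))))),
      exists_KCN_minus F a b hab (n + 1)⟩

/-- Even dimensional unitary groups. -/
theorem hasModelC_U0 {F : Type} [Field F] [Fintype F] (σ : F ≃+* F) (hσ : ∀ x, σ (σ x) = x)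
    (hne : ∃ x, σ x ≠ x) (n : ℕ) : HasModelC (stdU0 F σ hσ) n := by
  obtain ⟨q, hF, rfl⟩ := exists_conj σ hσ hne
  obtain ⟨W, hW⟩ := exists_wframe_even (N := 2 * (n + 2)) hF rfl
  exact ⟨PSU (2 * (n + 2)) F q, inferInstance, KSideUDesc.isSimple hF (by omega),
    fun _ hp => Or.inr (Or.inr (Or.inl ⟨F, inferInstance, inferInstance, hp, 2 * (n + 2), q, hF,
      by omega, by omega, ⟨MulEquiv.refl _⟩⟩)),
    ⟨FrameCN.kcn (KInstU.model hF (by omega) W) (emb0 hF W hσ) (emb0_surj hF W hσ hW)⟩⟩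

/-- Odd dimensional unitary groups. -/
theorem hasModelC_U1 {F : Type} [Field F] [Fintype F] (σ : F ≃+* F) (hσ : ∀ x, σ (σ x) = x)
    (hne : ∃ x, σ x ≠ x) (n : ℕ) : HasModelC (stdU1 F σ hσ) n := by
  obtain ⟨q, hF, rfl⟩ := exists_conj σ hσ hne
  obtain ⟨W, d, hd, hW⟩ := exists_wframe_odd (N := 2 * (n + 2) + 1) hF rfl
  exact ⟨PSU (2 * (n + 2) + 1) F q, inferInstance, KSideUDesc.isSimple hF (by omega),
    fun _ hp => Or.inr (Or.inr (Or.inl ⟨F, inferInstance, inferInstance, hp, 2 * (n + 2) + 1, q, hF,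
      by omega, by omega, ⟨MulEquiv.refl _⟩⟩)),
    ⟨FrameCN.kcn (KInstU.model hF (by omega) W) (emb1 hF W hσ d hd hW)
      (emb1_surj hF W hσ d hd hW)⟩⟩

/-- **Identification** with the characteristic. -/
theorem charConcl_of_gcn {W : Type*} [Group W] [Finite W] {C : Type*} {n : ℕ} (hn : 1 ≤ n)
    {cs : CoxeterSystem (cC (n + 2)) W} {Δ : Bldg cs C} (hth : Δ.Thick) {G : Type*} [Group G]
    [MulAction G C] (hA : Δ.StrongAct G) {F : Type*} [Field F] {V : Type*} [AddCommGroup V]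
    [Module F V] {D : PQDatum F V} (ex : ∃ p : D.T, p.c ≠ 0) (g : GCN (n := n + 1) Δ G D)
    (h : HasModelC D n) {p : ℕ} (hp : CharP F p) : IsLieTypeChar p G := by
  obtain ⟨K, i1, i2, h1, ⟨k⟩⟩ := h
  obtain ⟨e⟩ := AssembleCN.nonempty_mulEquiv' hth hA (SolvedCN.conn_cC (n + 2)) (by omega) ex g k
  exact ofEquiv e (h1 p hp)

open Cfsg.Agent.Tits.MouOut Cfsg.Agent.TitsThree.GCNOfSys
open Cfsg.Agent.Tits.MouDefs (rt Aut Chart)
open Cfsg.Agent.TitsThree.SolvedCN (ex_sp ex_o1 ex_o2 ex_u0 ex_u1)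

open Cfsg.Agent.TitsThree.EndII in
/-- `SolvedC Δ` from the G side over a good datum with a model. -/
theorem solvedC_of_out {W : Type*} [Group W] [Finite W] {C : Type*} [Finite C] {k : ℕ}
    {cs : CoxeterSystem (cC (k + 3)) W} {Δ : Bldg cs C} (hth : Δ.Thick) {σ : W → C}
    (H : Sys Δ (Aut Δ) σ (UU Δ σ)) {F : Type*} [Field F] [Finite F] {V : Type*} [AddCommGroup V]
    [Module F V] [Finite V] {D : PQDatum F V} (good : Good D) (ex : ∃ p : D.T, p.c ≠ 0)
    (h : Out (k := k + 1) Δ σ D) (hm : HasModelC D (k + 1)) : SolvedC Δ := by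
  obtain ⟨P, -, -, r, rT, sl, injT⟩ := id h
  obtain ⟨p, hp⟩ := CharP.exists F
  have : Fact p.Prime := ⟨CharP.char_is_prime F p⟩
  have : Finite (Aut Δ) := by
    refine Finite.of_injective (fun a : Aut Δ => (MulAction.toPerm a : Equiv.Perm C)) fun a b hab => ?_
    have h1 : b⁻¹ * a = 1 := H.faith _ fun x => by
      rw [mul_smul, inv_smul_eq_iff]
      exact congrFun (congrArg DFunLike.coe hab) x
    exact (inv_mul_eq_one.1 h1).symm
  have R : EndCN.RangesCN P.toCN := ⟨r, rT, sl, injT⟩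
  exact CharBase.solvedC H (p := p) (EndCN.isPGroup R) (EndCN.solvable H (by omega) R good ex)
    (EndCN.coprime H (by omega) R good ex)
    fun _ => charConcl_of_gcn (n := k + 1) (by omega) hth H.Gg_strongAct ex P hm hp

open Cfsg.Agent.TitsThree.EndII in
/-- Every finite thick building of type `C_{k+3}` is solved. -/
theorem solvedC {W : Type*} [Group W] [Finite W] {C : Type*} [Finite C] [Nonempty C] {k : ℕ}
    {cs : CoxeterSystem (cC (k + 3)) W} {Δ : Bldg cs C} (hth : Δ.Thick) : SolvedC Δ := by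
  obtain ⟨x⟩ := (inferInstance : Nonempty C)
  obtain ⟨y, hxy⟩ : ∃ y, Δ.Opp x y := Δ.exists_δ x (w0 cs)
  obtain ⟨σ, hσ, -⟩ := MouDefs.exists_chart hxy (1 : W)
  have H := MouAll.sys (MouAll.lab_C (k + 3)) (CombInst.diag_C (by omega)) hth hσ
  obtain ⟨F, i1, i2, h⟩ := GCNMain.exists_out hth hσ
  have : Fintype F := Fintype.ofFinite F
  rcases h with h | ⟨h2, h⟩ | ⟨a, b, hab, h⟩ | ⟨τ, hτ, hne, h⟩ | ⟨τ, hτ, hne, h⟩
  · exact solvedC_of_out hth H good_sp (ex_sp F) h (hasModelC_Sp (k + 1) (by omega))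
  · exact solvedC_of_out hth H good_o1 (ex_o1 F) h (hasModelC_O1 h2 (k + 1))
  · exact solvedC_of_out hth H (good_o2 hab) (ex_o2 F a b hab) h (hasModelC_O2 a b hab (k + 1))
  · exact solvedC_of_out hth H (good_u0 τ hτ hne) (ex_u0 τ hτ hne) h (hasModelC_U0 τ hτ hne (k + 1))
  · exact solvedC_of_out hth H (good_u1 τ hτ hne) (ex_u1 τ hτ hne) h (hasModelC_U1 τ hτ hne (k + 1))

/-- **Type `C_n`, `n ≥ 3`.** -/
theorem allSolvedC (n : ℕ) (hn : 3 ≤ n) : AllSolvedC.{u} (cC n) := by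
  obtain ⟨k, rfl⟩ : ∃ k, n = k + 3 := ⟨n - 3, by omega⟩
  intro W C _ _ _ _ cs Δ hth
  exact solvedC hth

end Cfsg.Agent.TitsThree.CharCN
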