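import Mathlib
import Cfsg.Agent.TitsThree.B2Transport
import Cfsg.Agent.TitsThree.Hua
import Cfsg.Agent.TitsThree.EndSL_mg
import Cfsg.Agent.TitsThree.PQClass
import Cfsg.Agent.TitsThree.AssembleCN_mg
import Cfsg.Agent.Tits.MouOut
import Cfsg.Agent.TitsThree.Top
import Cfsg.Agent.TitsThree.GlueA
import Cfsg.Agent.TitsThree.KExcRT
import Cfsg.Agent.ChevalleyStructure.TwE6BN
import Cfsg.Agent.S1070
set_option linter.all false

-- part: TitsThree/F4Two
section
/-!
# A double bond seen from both sides (S1143, type `F₄`)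

`Two m m'`: two relation packages of type `B₂`, over parameter systems `D` (field `F`) and `D'` (field `E`), on the same
two nodes, the types I and II being interchanged.  `th : E → D.T` is the change of parametrisation of the root group
of the second node, `rho t = Q(t)/Q(1)`, `Q(t) = (th t).c`.
-/

set_option autoImplicit false
set_option linter.unusedSectionVars false

namespace Cfsg.Agent.TitsThree.F4Two

open Cfsg.Agent.TitsThree.Siegel Cfsg.Agent.TitsThree.B2Pkg Cfsg.Agent.TitsThree.Hua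
open scoped commutatorElement

section unique

variable {F G : Type*} [Field F] [Group G] {xp xm : F → G} (h : SL2Par xp xm)

include h

theorem nn_mid {t : F} (ht : t ≠ 0) : xm (-t⁻¹) * xp t * xm (-t⁻¹) = nn xp xm t := by
  have h1 := h.conjp t ht t
  have e : -(t⁻¹ * t⁻¹ * t) = -t⁻¹ := by field_simp
  rw [e] at h1
  have h2 : nn xp xm t = xm (-t⁻¹) * nn xp xm t * (xp t)⁻¹ := by
    rw [← h1]; group
  rw [h2]
  unfold nn
  group

theorem swap_unique {t α β : F} (ht : t ≠ 0)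
    (h1 : ∀ r, ∃ r', (xm α * xp t * xm β) * xp r * (xm α * xp t * xm β)⁻¹ = xm r')
    (h2 : ∀ r, ∃ r', (xm α * xp t * xm β) * xm r * (xm α * xp t * xm β)⁻¹ = xp r') :
    α = -t⁻¹ ∧ β = -t⁻¹ := by
  have hn := nn_mid h ht
  have hg : xm α * xp t * xm β = xm (α + t⁻¹) * nn xp xm t * xm (β + t⁻¹) := by
    rw [← hn, h.addm α, add_comm β, h.addm _ β, h.negm]
    group
  constructor
  · have h3 : α + t⁻¹ = 0 := by
      apply h.norm
      intro s
      obtain ⟨r', hr'⟩ := h2 (-(t⁻¹ * t⁻¹ * s))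
      refine ⟨r', ?_⟩
      have h4 := h.conjm t ht (-(t⁻¹ * t⁻¹ * s))
      have e : -(t * t * -(t⁻¹ * t⁻¹ * s)) = s := by field_simp
      rw [e] at h4
      rw [← hr', hg, ← h4]
      have hc : xm (β + t⁻¹) * xm (-(t⁻¹ * t⁻¹ * s)) * (xm (β + t⁻¹))⁻¹ = xm (-(t⁻¹ * t⁻¹ * s)) := by
        rw [← h.negm, ← h.addm, ← h.addm]
        congr 1
        ring
      have : xm (α + t⁻¹) * nn xp xm t * xm (β + t⁻¹) * xm (-(t⁻¹ * t⁻¹ * s)) *
          (xm (α + t⁻¹) * nn xp xm t * xm (β + t⁻¹))⁻¹ = xm (α + t⁻¹) * (nn xp xm t *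
          (xm (β + t⁻¹) * xm (-(t⁻¹ * t⁻¹ * s)) * (xm (β + t⁻¹))⁻¹) * (nn xp xm t)⁻¹) *
          (xm (α + t⁻¹))⁻¹ := by group
      rw [this, hc]
    exact eq_neg_of_add_eq_zero_left h3
  · have h3 : β + t⁻¹ = 0 := by
      apply h.norm
      intro s
      obtain ⟨r', hr'⟩ := h1 s
      refine ⟨-(t * t * r'), ?_⟩
      have h4 := h.conjp t ht (-(t * t * r'))
      have e : -(t⁻¹ * t⁻¹ * -(t * t * r')) = r' := by field_simp
      rw [e] at h4
      rw [hg] at hr'
      have hc : (xm (α + t⁻¹))⁻¹ * xm r' * xm (α + t⁻¹) = xm r' := by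
        rw [← h.negm, ← h.addm, ← h.addm]
        congr 1
        ring
      have h5 : xp (-(t * t * r')) = (nn xp xm t)⁻¹ * xm r' * nn xp xm t := by rw [← h4]; group
      rw [h5, ← hc, ← hr']
      group
    exact eq_neg_of_add_eq_zero_left h3

end unique

section inj

variable {F : Type*} [Field F] {V : Type*} [AddCommGroup V] [Module F V] {D : PQDatum F V}
  {Y : Type*} [Group Y] {m : B2Maps D Y}

theorem y_inj (h : B2Rel m) (hne : ∃ p : D.T, p.c ≠ 0) (hx : Function.Injective m.x) :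
    Function.Injective m.y := by
  obtain ⟨p, hp⟩ := hne
  intro a b hab
  have h1 := h.nII_y p hp a
  rw [hab, h.nII_y p hp b] at h1
  exact (mul_left_cancel₀ (inv_ne_zero hp) (hx h1)).symm

theorem z₂_one (h : B2Rel m) (hne : ∃ p : D.T, p.c ≠ 0) (hx : Function.Injective m.x) {p : D.T}
    (hp : m.z₂ p = 1) : p = 1 := by
  have h1 := h.x_z₂ 1 p
  rw [hp, commutatorElement_one_right, D.sc_one] at h1
  have h2 := h.nI_z₂ p
  rw [hp, mul_one, mul_inv_cancel] at h2
  rw [← h2, one_mul, ← B2Pkg.add_zero' h.y_add] at h1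
  have h3 := y_inj h hne hx h1
  rw [zero_eq_neg, mul_one] at h3
  have h4 : D.σ p.c = 0 := (mul_eq_zero.1 h3).resolve_left D.ε_ne
  rw [← PQDatum.T.c_eq_zero_iff]
  by_contra h5
  exact D.σ_ne h5 h4

theorem z₂_inj (h : B2Rel m) (hne : ∃ p : D.T, p.c ≠ 0) (hx : Function.Injective m.x) :
    Function.Injective m.z₂ := by
  intro p q hpq
  have h1 : m.z₂ (p * q⁻¹) = 1 := by
    rw [h.z₂_mul, B2Pkg.mul_inv' h.z₂_mul, hpq, mul_inv_cancel]
  exact mul_inv_eq_one.1 (z₂_one h hne hx h1)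

theorem z₂'_inj (h : B2Rel m) (hne : ∃ p : D.T, p.c ≠ 0) (hx : Function.Injective m.x) :
    Function.Injective m.z₂' := by
  obtain ⟨r, hr⟩ := hne
  intro p q hpq
  have h1 := h.nII_z₂' r hr p
  rw [hpq, h.nII_z₂' r hr q] at h1
  have h2 := z₂_inj h ⟨r, hr⟩ hx h1
  have h3 : D.ε⁻¹ * r.c ≠ 0 := mul_ne_zero (inv_ne_zero D.ε_ne) hr
  have h4 := congrArg (D.sc (D.ε⁻¹ * r.c)⁻¹) h2
  rw [D.sc_sc, D.sc_sc, inv_mul_cancel₀ h3, D.sc_one, D.sc_one] at h4
  exact (D.refl_injective r hr h4).symm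

end inj

variable {F : Type*} [Field F] {V : Type*} [AddCommGroup V] [Module F V] {D : PQDatum F V}
  {E : Type*} [Field E] {V' : Type*} [AddCommGroup V'] [Module E V'] {D' : PQDatum E V'}
  {Y : Type*} [Group Y]

/-- A double bond seen from both sides. -/
structure Two (m : B2Maps D Y) (m' : B2Maps D' Y) : Prop where
  rel : B2Rel m
  rel' : B2Rel m'
  ne : ∃ p : D.T, p.c ≠ 0
  ne' : ∃ p : D'.T, p.c ≠ 0
  par : SL2Par m.x m.x'
  par' : SL2Par m'.x m'.x'
  r1 : Set.range m'.z₂ = Set.range m.x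
  r1' : Set.range m'.z₂' = Set.range m.x'
  r2 : Set.range m.z₂ = Set.range m'.x
  r2' : Set.range m.z₂' = Set.range m'.x'

variable {m : B2Maps D Y} {m' : B2Maps D' Y}

theorem Two.symm (T : Two m m') : Two m' m where
  rel := T.rel'
  rel' := T.rel
  ne := T.ne'
  ne' := T.ne
  par := T.par'
  par' := T.par
  r1 := T.r2
  r1' := T.r2'
  r2 := T.r1
  r2' := T.r1'

namespace Two

variable (T : Two m m')

include T

theorem exists_th (t : E) : ∃ p, m.z₂ p = m'.x t := by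
  have h : m'.x t ∈ Set.range m.z₂ := T.r2 ▸ ⟨t, rfl⟩
  exact h

/-- The change of parametrisation. -/
noncomputable def th (t : E) : D.T := (T.exists_th t).choose

theorem z₂_th (t : E) : m.z₂ (T.th t) = m'.x t := (T.exists_th t).choose_spec

theorem z_inj : Function.Injective m.z₂ := z₂_inj T.rel T.ne T.par.injp

theorem z'_inj : Function.Injective m.z₂' := z₂'_inj T.rel T.ne T.par.injp

theorem th_add (s t : E) : T.th (s + t) = T.th s * T.th t := by
  apply T.z_inj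
  rw [T.rel.z₂_mul, T.z₂_th, T.z₂_th, T.z₂_th, T.par'.addp]

theorem th_zero : T.th 0 = 1 := by
  apply T.z_inj
  rw [T.z₂_th, T.par'.zerop, B2Pkg.mul_one' T.rel.z₂_mul]

theorem th_inj : Function.Injective T.th := fun s t h => T.par'.injp (by
  rw [← T.z₂_th, h, T.z₂_th])

theorem th_surj : Function.Surjective T.th := fun p => by
  have h : m.z₂ p ∈ Set.range m'.x := T.r2 ▸ ⟨p, rfl⟩
  obtain ⟨t, ht⟩ := h
  exact ⟨t, T.z_inj (by rw [T.z₂_th, ht])⟩

/-- `T` is abelian. -/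
theorem T_comm (p q : D.T) : p * q = q * p := by
  obtain ⟨s, rfl⟩ := T.th_surj p
  obtain ⟨t, rfl⟩ := T.th_surj q
  rw [← T.th_add, ← T.th_add, add_comm]

/-- `Q(t)` -/
noncomputable def Q (t : E) : F := (T.th t).c

theorem Q_zero : T.Q 0 = 0 := by
  rw [Q, T.th_zero]; rfl

theorem Q_ne {t : E} (ht : t ≠ 0) : T.Q t ≠ 0 := by
  intro h
  have h1 : T.th t = 1 := PQDatum.T.c_eq_zero_iff.1 h
  rw [← T.th_zero] at h1
  exact ht (T.th_inj h1)

theorem Q_eq_zero {t : E} : T.Q t = 0 ↔ t = 0 :=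
  ⟨fun h => by_contra fun h1 => T.Q_ne h1 h, fun h => by rw [h, T.Q_zero]⟩

/-- `n_II` is `n(t)` of the other side. -/
theorem nII_aux {t : E} (ht : t ≠ 0) : m.z₂' (D.sc (-(D.σ (T.th t).c)⁻¹) (T.th t)) = m'.x' (-t⁻¹) ∧
    m.z₂' (D.sc (-(D.ε * (T.th t).c⁻¹)) (T.th t)) = m'.x' (-t⁻¹) := by
  have hc : (T.th t).c ≠ 0 := T.Q_ne ht
  have h1 : m.z₂' (D.sc (-(D.σ (T.th t).c)⁻¹) (T.th t)) ∈ Set.range m'.x' := T.r2' ▸ ⟨_, rfl⟩
  have h2 : m.z₂' (D.sc (-(D.ε * (T.th t).c⁻¹)) (T.th t)) ∈ Set.range m'.x' := T.r2' ▸ ⟨_, rfl⟩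
  obtain ⟨α, hα⟩ := h1
  obtain ⟨β, hβ⟩ := h2
  have hn : m.nII (T.th t) = m'.x' α * m'.x t * m'.x' β := by
    rw [B2Maps.nII, ← hα, ← hβ, T.z₂_th]
  obtain ⟨e1, e2⟩ := swap_unique T.par' ht (α := α) (β := β) (fun r => by
    have h3 : m'.x r ∈ Set.range m.z₂ := T.r2 ▸ ⟨r, rfl⟩
    obtain ⟨q, hq⟩ := h3
    have h4 : m.z₂' (D.sc (D.σ (T.th t).c)⁻¹ (D.refl (T.th t) hc q)) ∈ Set.range m'.x' :=
      T.r2' ▸ ⟨_, rfl⟩
    obtain ⟨r', hr'⟩ := h4
    exact ⟨r', by rw [← hn, ← hq, T.rel.nII_z₂ _ hc, hr']⟩) (fun r => by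
    have h3 : m'.x' r ∈ Set.range m.z₂' := T.r2' ▸ ⟨r, rfl⟩
    obtain ⟨q, hq⟩ := h3
    have h4 : m.z₂ (D.sc (D.ε⁻¹ * (T.th t).c) (D.refl (T.th t) hc q)) ∈ Set.range m'.x :=
      T.r2 ▸ ⟨_, rfl⟩
    obtain ⟨r', hr'⟩ := h4
    exact ⟨r', by rw [← hn, ← hq, T.rel.nII_z₂' _ hc, hr']⟩)
  rw [← hα, ← hβ, e1, e2]
  exact ⟨rfl, rfl⟩

theorem nII_th {t : E} (ht : t ≠ 0) : m.nII (T.th t) = nn m'.x m'.x' t := by
  obtain ⟨h1, h2⟩ := T.nII_aux ht
  rw [B2Maps.nII, h1, h2, T.z₂_th, nn_mid T.par' ht]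

/-- The torus element `h_I(a)` acts on the root group of the second node as the multiplication by a scalar. -/
theorem th_sc {a : F} (ha : a ≠ 0) (t : E) :
    T.th ((T.symm.Q a) * (T.symm.Q 1)⁻¹ * t) = D.sc a (T.th t) := by
  have hQa : T.symm.Q a ≠ 0 := T.symm.Q_ne ha
  have hQ1 : T.symm.Q 1 ≠ 0 := T.symm.Q_ne one_ne_zero
  apply T.z_inj
  rw [T.z₂_th]
  -- `h = n(1) n(a)⁻¹` acts by `sc a` and by `Q'(1)⁻¹ Q'(a)`
  have h1 := T.rel'.hII_x (p := T.symm.th 1) (q := T.symm.th a) hQ1 hQa t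
  rw [T.symm.nII_th one_ne_zero, T.symm.nII_th ha] at h1
  have h2 : (nn m.x m.x' 1 * (nn m.x m.x' a)⁻¹) * m.z₂ (T.th t) *
      (nn m.x m.x' 1 * (nn m.x m.x' a)⁻¹)⁻¹ = m.z₂ (D.sc a (T.th t)) := by
    have e1 : (nn m.x m.x' 1 * (nn m.x m.x' a)⁻¹) * m.z₂ (T.th t) *
        (nn m.x m.x' 1 * (nn m.x m.x' a)⁻¹)⁻¹ = nn m.x m.x' 1 * ((nn m.x m.x' a)⁻¹ *
        m.z₂ (T.th t) * ((nn m.x m.x' a)⁻¹)⁻¹) * (nn m.x m.x' 1)⁻¹ := by group
    rw [e1, T.rel.nn_inv, T.rel.nn_z₂ (neg_ne_zero.2 ha), T.rel.nn_z₁ one_ne_zero, D.sc_sc]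
    congr 2
    simp
  rw [T.z₂_th, h1] at h2
  rw [← h2]
  congr 1
  change T.symm.Q a * (T.symm.Q 1)⁻¹ * t = (T.symm.Q 1)⁻¹ * T.symm.Q a * t
  ring

/-- `ρ(t) = Q(t)/Q(1)` -/
noncomputable def rho (t : E) : F := T.Q t * (T.Q 1)⁻¹

theorem rho_one : T.rho 1 = 1 := mul_inv_cancel₀ (T.Q_ne one_ne_zero)

theorem rho_zero : T.rho 0 = 0 := by rw [rho, T.Q_zero, zero_mul]

theorem Q_eq (t : E) : T.Q t = T.rho t * T.Q 1 := by
  rw [rho, inv_mul_cancel_right₀ (T.Q_ne one_ne_zero)]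

theorem rho_eq_zero {t : E} : T.rho t = 0 ↔ t = 0 := by
  rw [rho, mul_eq_zero, T.Q_eq_zero]
  exact ⟨fun h => h.resolve_right (inv_ne_zero (T.Q_ne one_ne_zero)), Or.inl⟩

/-- `θ(ρ'(a) t) = a · θ(t)` -/
theorem th_rho (a : F) (t : E) : T.th (T.symm.rho a * t) = D.sc a (T.th t) := by
  by_cases ha : a = 0
  · rw [ha, T.symm.rho_zero, zero_mul, T.th_zero, D.sc_zero]
  · exact T.th_sc ha t

/-- `ρ` is multiplicative. -/
theorem rho_mul (s t : E) : T.rho (s * t) = T.rho s * T.rho t := by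
  apply T.symm.th_inj
  have h1 := T.symm.th_rho (s * t) 1
  have h2 := T.symm.th_rho s (T.rho t)
  have h3 := T.symm.th_rho t 1
  rw [mul_one] at h1 h3
  change T.symm.th (T.rho (s * t)) = _ at h1
  change T.symm.th (T.rho s * T.rho t) = _ at h2
  change T.symm.th (T.rho t) = _ at h3
  rw [h1, h2, h3, D'.sc_sc]

/-- `Q(ρ'(a) t) = a σ(a) Q(t)` -/
theorem Q_rho (a : F) (t : E) : T.Q (T.symm.rho a * t) = a * D.σ a * T.Q t := by
  rw [Q, T.th_rho]; rfl

theorem rho_rho (a : F) (t : E) : T.rho (T.symm.rho a * t) = a * D.σ a * T.rho t := by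
  rw [rho, T.Q_rho, rho, mul_assoc]

end Two

end Cfsg.Agent.TitsThree.F4Two
end

-- part: TitsThree/FFComp
section
/-!
# Multiplicative quadratic forms on field extensions (S1143, type `F₄`)

`exists_conj`: a multiplicative quadratic form on an extension `E/F`, with nonzero polar form, is the norm of a
`ConjPair F E`.  `card_eq`, `conj_eq_pow`: for finite fields and `conj ≠ 1`, `|E| = |F|²` and `conj t = t ^ |F|`.
-/

set_option autoImplicit false
set_option linter.unusedSectionVars false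

namespace Cfsg.Agent.TitsThree.FFComp

open Cfsg.Agent.TitsThree.FFData

section comp

variable {F E : Type*} [Field F] [Field E] [Algebra F E]

/-- The conjugation of a multiplicative quadratic form. -/
theorem exists_conj (N : E → F) (B : E → E → F) (hmul : ∀ s t, N (s * t) = N s * N t)
    (hN : ∀ a : F, N (algebraMap F E a) = a * a)
    (hadd : ∀ s t, N (s + t) = N s + N t + B s t) (hB : ∀ s s' t, B (s + s') t = B s t + B s' t)
    (hBs : ∀ (a : F) s t, B (algebraMap F E a * s) t = a * B s t) (hne : ∃ s t, B s t ≠ 0) :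
    ∃ P : ConjPair F E, P.N = N := by
  have hN1 : N 1 = 1 := by
    have := hN 1
    rwa [map_one, mul_one] at this
  have hN0 : N 0 = 0 := by
    have := hN 0
    rwa [map_zero, mul_zero] at this
  have hsymm : ∀ s t, B s t = B t s := by
    intro s t
    have h1 := hadd s t
    have h2 := hadd t s
    rw [add_comm t s] at h2
    linear_combination h2 - h1
  have hB2 : ∀ s t t', B s (t + t') = B s t + B s t' := by
    intro s t t'
    rw [hsymm, hB, hsymm t, hsymm t']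
  have hBs2 : ∀ (a : F) s t, B s (algebraMap F E a * t) = a * B s t := by
    intro a s t
    rw [hsymm, hBs, hsymm]
  have hneg : ∀ s t, B s (-t) = -B s t := by
    intro s t
    have := hBs2 (-1) s t
    rw [map_neg, map_one, neg_one_mul, neg_one_mul] at this
    exact this
  -- `B (us) (ut) = N u B s t`
  have hB3 : ∀ u s t, B (u * s) (u * t) = N u * B s t := by
    intro u s t
    have h1 := hadd (u * s) (u * t)
    rw [← mul_add, hmul, hmul, hmul, hadd s t] at h1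
    linear_combination -h1
  -- polarisation
  have hB4 : ∀ u v s t, B (u * s) (v * t) + B (v * s) (u * t) = B u v * B s t := by
    intro u v s t
    have h1 := hB3 (u + v) s t
    rw [add_mul, add_mul, hB, hB2, hB2, hB3, hB3, hadd] at h1
    linear_combination h1
  set T : E → F := fun t => B t 1 with hT
  have hB5 : ∀ u s t, B (u * s) t = B s ((algebraMap F E (T u) - u) * t) := by
    intro u s t
    have h1 := hB4 u 1 s t
    rw [one_mul, one_mul] at h1
    rw [sub_mul, sub_eq_add_neg, hB2, hneg, hBs2]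
    linear_combination h1
  -- nondegeneracy
  have hnd : ∀ t, (∀ s, B s t = 0) → t = 0 := by
    intro t ht
    by_contra h
    obtain ⟨s₀, t₀, h1⟩ := hne
    apply h1
    by_cases hs : s₀ = 0
    · rw [hs]
      have := hBs 0 0 t₀
      rwa [map_zero, zero_mul, zero_mul] at this
    by_cases ht0 : t₀ = 0
    · rw [ht0, hsymm]
      have := hBs 0 0 s₀
      rwa [map_zero, zero_mul, zero_mul] at this
    have h2 := hB3 (t₀ / t) (s₀ * t / t₀) t
    have e1 : t₀ / t * (s₀ * t / t₀) = s₀ := by field_simp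
    have e2 : t₀ / t * t = t₀ := by field_simp
    rw [e1, e2, ht, mul_zero] at h2
    exact h2
  have hconj : ∀ u, (algebraMap F E (T u) - u) * u = algebraMap F E (N u) := by
    intro u
    have h1 : (algebraMap F E (T u) - u) * u - algebraMap F E (N u) = 0 := by
      apply hnd
      intro s
      rw [sub_eq_add_neg, hB2, hneg]
      have h2 := hB5 u s u
      have h3 := hB3 u s 1
      have h4 := hBs2 (N u) s 1
      rw [mul_one] at h3 h4
      rw [← h2, h3, h4]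
      ring
    exact sub_eq_zero.1 h1
  have hTadd : ∀ s t, T (s + t) = T s + T t := fun s t => hB s t 1
  have hTalg : ∀ a : F, T (algebraMap F E a) = 2 * a := by
    intro a
    have h1 := hBs a 1 1
    have h2 := hadd 1 1
    have h3 := hN 2
    have e : (1 : E) + 1 = algebraMap F E 2 := by rw [map_ofNat]; norm_num
    rw [e, h3, hN1] at h2
    rw [mul_one] at h1
    simp only [hT]
    rw [h1]
    linear_combination (-a) * h2
  have hTT : ∀ t, T (algebraMap F E (T t) - t) = T t := by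
    intro t
    have h1 := hTadd (algebraMap F E (T t) - t) t
    rw [sub_add_cancel, hTalg] at h1
    linear_combination -h1
  have hcadd : ∀ s t, algebraMap F E (T (s + t)) - (s + t) =
      (algebraMap F E (T s) - s) + (algebraMap F E (T t) - t) := by
    intro s t
    rw [hTadd, map_add]; ring
  have hcmul : ∀ s t, algebraMap F E (T (s * t)) - s * t =
      (algebraMap F E (T s) - s) * (algebraMap F E (T t) - t) := by
    intro s t
    by_cases hst : s * t = 0
    · rcases mul_eq_zero.1 hst with h | h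
      · rw [h, zero_mul]
        have : T 0 = 0 := by
          have := hTalg 0
          rwa [map_zero, mul_zero] at this
        rw [this]; simp
      · rw [h, mul_zero]
        have : T 0 = 0 := by
          have := hTalg 0
          rwa [map_zero, mul_zero] at this
        rw [this]; simp
    · apply mul_right_cancel₀ hst
      rw [hconj, hmul, map_mul, ← hconj, ← hconj]
      ring
  let c : E ≃+* E :=
    { toFun := fun t => algebraMap F E (T t) - t
      invFun := fun t => algebraMap F E (T t) - t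
      left_inv := fun t => by simp only [hTT]; ring
      right_inv := fun t => by simp only [hTT]; ring
      map_mul' := hcmul
      map_add' := hcadd }
  have hc : ∀ t, c t = algebraMap F E (T t) - t := fun t => rfl
  refine ⟨⟨c, N, T, fun t => ?_, fun a => ?_, fun t => ?_, fun t => ?_⟩, rfl⟩
  · rw [hc, hc, hTT]; ring
  · rw [hc, hTalg, map_mul, map_ofNat]; ring
  · rw [hc, mul_comm, hconj]
  · rw [hc]; ring

end comp

section finite

variable {F E : Type*} [Field F] [Field E] [Algebra F E] (P : ConjPair F E) [Finite F] [Finite E]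

/-- The elements fixed by the Frobenius map of `F`. -/
theorem mem_of_pow {t : E} (ht : t ^ Nat.card F = t) : ∃ a, algebraMap F E a = t := by
  classical
  have := Fintype.ofFinite F
  by_contra hcon
  push Not at hcon
  have hq : 1 < Nat.card F := Finite.one_lt_card
  let p : Polynomial E := Polynomial.X ^ Nat.card F - Polynomial.X
  have hp0 : p ≠ 0 := FiniteField.X_pow_card_sub_X_ne_zero E hq
  have hdeg : p.natDegree = Nat.card F := FiniteField.X_pow_card_sub_X_natDegree_eq E hq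
  let S : Finset E := insert t (Finset.univ.map ⟨algebraMap F E, (algebraMap F E).injective⟩)
  have hS : S.card = Nat.card F + 1 := by
    rw [Finset.card_insert_of_notMem, Finset.card_map, Finset.card_univ, Nat.card_eq_fintype_card]
    intro h
    rw [Finset.mem_map] at h
    obtain ⟨a, -, ha⟩ := h
    exact hcon a ha
  have hroot : ∀ s ∈ S, p.IsRoot s := by
    intro s hs
    have h1 : s ^ Nat.card F = s := by
      rcases Finset.mem_insert.1 hs with h | h
      · rw [h]; exact ht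
      · rw [Finset.mem_map] at h
        obtain ⟨a, -, rfl⟩ := h
        change algebraMap F E a ^ Nat.card F = algebraMap F E a
        rw [← map_pow, Nat.card_eq_fintype_card, FiniteField.pow_card]
    rw [Polynomial.IsRoot.def, Polynomial.eval_sub, Polynomial.eval_pow, Polynomial.eval_X, h1, sub_self]
  have h2 := Polynomial.card_le_degree_of_subset_roots (p := p) (Z := S) (fun s hs => by
    rw [Polynomial.mem_roots hp0]
    exact hroot s hs)
  omega

/-- `conj` is the Frobenius map. -/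
theorem conj_eq_pow (t : E) : P.conj t = t ^ Nat.card F := by
  classical
  have := Fintype.ofFinite F
  by_cases hmem : ∃ a, algebraMap F E a = t
  · obtain ⟨a, rfl⟩ := hmem
    rw [P.conj_alg, ← map_pow, Nat.card_eq_fintype_card, FiniteField.pow_card]
  · have h1 : t ^ Nat.card F ≠ t := fun h => hmem (mem_of_pow h)
    have hφ : ∀ s : E, FiniteField.frobeniusAlgHom F E s = s ^ Nat.card F := fun s => by
      rw [FiniteField.coe_frobeniusAlgHom, Nat.card_eq_fintype_card]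
    -- `t ^ q` is a root of `X² - T X + N`
    have h2 : t * t - algebraMap F E (P.T t) * t + algebraMap F E (P.N t) = 0 := by
      rw [P.hT, P.hN]; ring
    have h3 := congrArg (FiniteField.frobeniusAlgHom F E) h2
    rw [map_add, map_sub, map_mul, map_mul, AlgHom.commutes, AlgHom.commutes, map_zero, hφ] at h3
    have h4 : (t ^ Nat.card F - t) * (t ^ Nat.card F + t - algebraMap F E (P.T t)) = 0 := by
      linear_combination h3 - h2
    have h5 := (mul_eq_zero.1 h4).resolve_left (sub_ne_zero.2 h1)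
    rw [P.hT] at h5
    linear_combination -h5

theorem card_eq (h : ∃ t, P.conj t ≠ t) : Nat.card E = Nat.card F ^ 2 := by
  classical
  have := Fintype.ofFinite F
  have := Fintype.ofFinite E
  have hq : 1 < Nat.card F := Finite.one_lt_card
  have hpow : ∀ t : E, t ^ (Nat.card F ^ 2) = t := by
    intro t
    rw [pow_two, pow_mul, ← conj_eq_pow P, ← conj_eq_pow P, P.conj_conj]
  have hle : Nat.card E ≤ Nat.card F ^ 2 := by
    have hq2 : 1 < Nat.card F ^ 2 := Nat.one_lt_pow (by norm_num) hq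
    have hp0 := FiniteField.X_pow_card_sub_X_ne_zero E hq2
    have hdeg := FiniteField.X_pow_card_sub_X_natDegree_eq E hq2
    have h2 := Polynomial.card_le_degree_of_subset_roots
      (p := (Polynomial.X ^ Nat.card F ^ 2 - Polynomial.X : Polynomial E)) (Z := Finset.univ)
      (fun s _ => by
        rw [Polynomial.mem_roots hp0, Polynomial.IsRoot.def, Polynomial.eval_sub, Polynomial.eval_pow,
          Polynomial.eval_X, hpow, sub_self])
    rw [hdeg, Finset.card_univ, ← Nat.card_eq_fintype_card] at h2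
    exact h2
  have hE : Nat.card E = Nat.card F ^ Module.finrank F E := Module.natCard_eq_pow_finrank
  rw [hE] at hle ⊢
  have h1 : Module.finrank F E ≤ 2 := (Nat.pow_le_pow_iff_right hq).1 hle
  have h2 : 0 < Module.finrank F E := Module.finrank_pos
  have h3 : Module.finrank F E ≠ 1 := by
    intro h3
    obtain ⟨t, ht⟩ := h
    apply ht
    have h4 : Nat.card F = Nat.card E := by rw [hE, h3, pow_one]
    have h5 : Function.Bijective (algebraMap F E) :=
      (Nat.bijective_iff_injective_and_card _).2 ⟨(algebraMap F E).injective, h4⟩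
    obtain ⟨a, rfl⟩ := h5.2 t
    exact P.conj_alg a
  congr 1
  omega

end finite

end Cfsg.Agent.TitsThree.FFComp
end

-- part: TitsThree/F4Orth
section
/-!
# The middle part of the package of type `F₄` (S1143)

`orth_or`: for a double bond seen from both sides one of the two parameter systems is orthogonal.
`Two.mid`: if `D` is orthogonal, the package can be rewritten over `P.datum` for a `ConjPair P`, either with `E = F` or
with `E/F` quadratic, such that the root group of the second node is parametrised through `τ`, `τ'`.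
-/

set_option autoImplicit false
set_option linter.unusedSectionVars false

namespace Cfsg.Agent.TitsThree.F4Orth

open Cfsg.Agent.TitsThree.Siegel Cfsg.Agent.TitsThree.B2Pkg Cfsg.Agent.TitsThree.Hua
  Cfsg.Agent.TitsThree.StdData Cfsg.Agent.TitsThree.F4Two Cfsg.Agent.TitsThree.FFData
open scoped commutatorElement

/-- Orthogonal parameter systems. -/
def Orth {F : Type*} [Field F] {V : Type*} [AddCommGroup V] [Module F V] (D : PQDatum F V) : Prop :=
  (∀ x, D.σ x = x) ∧ D.ε = 1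

section or

variable {F : Type*} [Field F] {V : Type*} [AddCommGroup V] [Module F V] {D : PQDatum F V}
  {E : Type*} [Field E] {V' : Type*} [AddCommGroup V'] [Module E V'] {D' : PQDatum E V'}
  {Y : Type*} [Group Y] {m : B2Maps D Y} {m' : B2Maps D' Y}

/-- A non trivial commutator of type I root elements. -/
theorem exists_tr (h : ¬ Orth D) : ∃ b, D.tr 1 b ≠ 1 := by
  by_contra hcon
  push Not at hcon
  apply h
  have h1 : ∀ b, b = D.ε * D.σ b := by
    intro b
    have h2 := congrArg PQDatum.T.c (hcon b)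
    rw [PQDatum.tr_c, PQDatum.T.one_c, map_one, one_mul, mul_one] at h2
    exact sub_eq_zero.1 h2
  have hε : D.ε = 1 := by
    have := h1 1
    rw [map_one, mul_one] at this
    exact this.symm
  exact ⟨fun x => by
    have := h1 x
    rw [hε, one_mul] at this
    exact this.symm, hε⟩

theorem h_ne (T : Two m m') (h : ¬ Orth D) : ∃ p q : D'.T, D'.h p.w q.w ≠ 0 := by
  obtain ⟨b, hb⟩ := exists_tr h
  by_contra hcon
  push Not at hcon
  apply hb
  have h1 := T.rel.x_y 1 b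
  -- `y b = n x(a) n⁻¹`
  have hc := T.Q_ne (one_ne_zero : (1 : E) ≠ 0)
  have hc' : D.ε * D.σ (T.th 1).c ≠ 0 := mul_ne_zero D.ε_ne (D.σ_ne hc)
  have h2 := T.rel.nII_x (T.th 1) hc ((D.ε * D.σ (T.th 1).c)⁻¹ * b)
  rw [mul_inv_cancel_left₀ hc', T.nII_th one_ne_zero, B2Rel.nn_one] at h2
  rw [← T.symm.z₂_th 1, ← h2, ← T.symm.z₂_th, T.rel'.nI_z₂, ← commutatorElement_inv,
    T.rel'.z₁_z₂, hcon, neg_zero, add_zero' T.rel'.y_add, inv_one] at h1
  have h3 : m.z₁ (D.tr 1 b) = 1 := h1.symm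
  rw [← T.rel.nI_z₂, mul_inv_eq_one, mul_eq_left] at h3
  exact z₂_one T.rel T.ne T.par.injp h3

theorem orth_or (T : Two m m') : Orth D ∨ Orth D' := by
  by_contra hcon
  push Not at hcon
  obtain ⟨h1, h2⟩ := hcon
  apply h2
  obtain ⟨p, q, hpq⟩ := h_ne T h1
  have hsymm : ∀ p q : D'.T, D'.h p.w q.w = D'.h q.w p.w := by
    intro p q
    have h3 := congrArg PQDatum.T.c (T.symm.T_comm p q)
    rw [PQDatum.T.mul_c, PQDatum.T.mul_c] at h3
    linear_combination h3
  have hσ : ∀ x, D'.σ x = x := by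
    intro x
    have h3 := hsymm p (D'.sc (D'.σ x) q)
    rw [PQDatum.sc_w, D'.σσ, D'.smul_right, D'.smul_left, hsymm q p] at h3
    exact mul_right_cancel₀ hpq h3
  refine ⟨hσ, ?_⟩
  have h3 := D'.swap p.w q.w
  rw [hσ, ← hsymm p q] at h3
  exact (mul_right_cancel₀ hpq ((one_mul _).trans h3)).symm

end or

/-- The middle part of the package of type `F₄`. -/
def Mid {F E : Type*} [Field F] [Field E] [Algebra F E] (P : ConjPair F E) {Y : Type*} [Group Y]
    (X1 X1' X2 X2' Bc : Set Y) : Prop :=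
  ∃ m : B2Maps P.datum Y, B2Rel m ∧ SL2Par m.x m.x' ∧
    SL2Par (fun t => m.z₂ (P.τ t)) (fun t => m.z₂' (P.τ' t)) ∧ Set.range m.x = X1 ∧
    Set.range m.x' = X1' ∧ Set.range (fun t => m.z₂ (P.τ t)) = X2 ∧
    Set.range (fun t => m.z₂' (P.τ' t)) = X2' ∧ ∀ b, m.y b ∈ Bc

section general

variable {F : Type*} [Field F] {V : Type*} [AddCommGroup V] [Module F V] {D : PQDatum F V}
  {E : Type*} [Field E] {V' : Type*} [AddCommGroup V'] [Module E V'] {D' : PQDatum E V'}
  {Y : Type*} [Group Y] {m : B2Maps D Y} {m' : B2Maps D' Y}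

theorem sl2Par_comp {E₀ G : Type*} [Field E₀] [Group G] {xp xm : E → G} (h : SL2Par xp xm)
    (ψ : E₀ ≃+* E) : SL2Par (fun t => xp (ψ t)) (fun t => xm (ψ t)) := by
  have hn : ∀ t, nn (fun t => xp (ψ t)) (fun t => xm (ψ t)) t = nn xp xm (ψ t) := by
    intro t
    simp only [nn, map_neg, map_inv₀]
  refine ⟨fun s t => ?_, fun s t => ?_, fun s t hst => ψ.injective (h.injp hst),
    fun s t hst => ψ.injective (h.injm hst), fun t ht s => ?_, fun t ht s => ?_, fun s hs => ?_⟩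
  · simp only [map_add]; exact h.addp _ _
  · simp only [map_add]; exact h.addm _ _
  · rw [hn]
    have := h.conjp (ψ t) ((map_ne_zero ψ).2 ht) (ψ s)
    simp only [map_neg, map_mul, map_inv₀]
    exact this
  · rw [hn]
    have := h.conjm (ψ t) ((map_ne_zero ψ).2 ht) (ψ s)
    simp only [map_neg, map_mul]
    exact this
  · have h1 : ψ s = 0 := by
      apply h.norm
      intro r
      obtain ⟨r', hr'⟩ := hs (ψ.symm r)
      refine ⟨ψ r', ?_⟩
      simpa using hr'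
    exact (map_eq_zero ψ).1 h1

/-- The first coordinate of the parametrisation. -/
theorem th_w_add (T : Two m m') (s t : E) : (T.th (s + t)).w = (T.th s).w + (T.th t).w := by
  rw [T.th_add]; rfl

theorem th_w_smul (T : Two m m') (ho : Orth D) (a : F) (t : E) :
    (T.th (T.symm.rho a * t)).w = a • (T.th t).w := by
  rw [T.th_rho, PQDatum.sc_w, ho.1]

theorem rho_add (T : Two m m') (s t : E) : T.rho (s + t) = T.rho s + T.rho t -
    D.h (T.th t).w (T.th s).w * (T.Q 1)⁻¹ := by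
  rw [Two.rho, Two.Q, T.th_add, PQDatum.T.mul_c]
  change ((T.Q s) + (T.Q t) - _) * _ = T.Q s * _ + T.Q t * _ - _
  ring

theorem ok_unique (ho : Orth D) (h0 : ∀ c, D.ok 0 c → c = 0) {w : V} {c c' : F} (h : D.ok w c)
    (h' : D.ok w c') : c = c' := by
  have h3 := D.ok_mul (D.ok_inv h) h'
  rw [neg_add_cancel, ho.2, ho.1, one_mul, D.neg_right] at h3
  have h4 := h0 _ h3
  have h5 := D.ok_rel h
  rw [ho.2, ho.1, one_mul] at h5
  linear_combination h5 - h4

theorem ok_ext (ho : Orth D) (h0 : ∀ c, D.ok 0 c → c = 0) {p q : D.T} (h : p.w = q.w) : p = q := by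
  ext
  · exact h
  · have h3 := p.ok
    rw [h] at h3
    exact ok_unique ho h0 h3 q.ok

/-- The general rewriting lemma. -/
theorem mid_of (T : Two m m') (ho : Orth D) (h0 : ∀ c, D.ok 0 c → c = 0)
    (hs : ∀ w, ∃ c, D.ok w c) {E₀ : Type*} [Field E₀] [Algebra F E₀] (P : ConjPair F E₀)
    (ψ : E₀ ≃+* E) (h1 : ∀ a, ψ (algebraMap F E₀ a) = T.symm.rho a)
    (h2 : ∀ t, T.rho (ψ t) = P.N t) :
    Mid P (Set.range m.x) (Set.range m.x') (Set.range m'.x) (Set.range m'.x') (Set.range m.y) := by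
  have hσ := ho.1
  have hε := ho.2
  have hQ1 : T.Q 1 ≠ 0 := T.Q_ne one_ne_zero
  have huniq : ∀ {w : V} {c c' : F}, D.ok w c → D.ok w c' → c = c' := ok_unique ho h0
  -- the linear equivalence
  let f : E₀ →ₗ[F] V :=
    { toFun := fun t => (T.th (ψ t)).w
      map_add' := fun s t => by rw [map_add, th_w_add]
      map_smul' := fun a t => by
        rw [Algebra.smul_def, map_mul, h1, th_w_smul T ho, RingHom.id_apply] }
  have hf : ∀ t, f t = (T.th (ψ t)).w := fun t => rfl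
  have hfinj : Function.Injective f := by
    intro s t hst
    rw [hf, hf] at hst
    apply ψ.injective
    apply T.th_inj
    ext
    · exact hst
    · have h3 := (T.th (ψ s)).ok
      rw [hst] at h3
      exact huniq h3 (T.th (ψ t)).ok
  have hfsurj : Function.Surjective f := by
    intro w
    obtain ⟨c, hc⟩ := hs w
    obtain ⟨t, ht⟩ := T.th_surj ⟨w, c, hc⟩
    exact ⟨ψ.symm t, by rw [hf, ψ.apply_symm_apply, ht]⟩
  let e : E₀ ≃ₗ[F] V := LinearEquiv.ofBijective f ⟨hfinj, hfsurj⟩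
  have he : ∀ t, e t = (T.th (ψ t)).w := fun t => rfl
  have hl : -(T.Q 1)⁻¹ ≠ 0 := neg_ne_zero.2 (inv_ne_zero hQ1)
  have hQ : ∀ t, T.Q (ψ t) = P.N t * T.Q 1 := fun t => by rw [← h2, T.Q_eq]
  let s : Sim D P.datum :=
    { l := -(T.Q 1)⁻¹
      l_ne := hl
      e := e.symm
      σ_eq := fun x => (hσ x).symm
      ε_eq := by
        rw [hσ, hε, one_mul, mul_inv_cancel₀ hl]
        rfl
      h_eq := fun v w => by
        obtain ⟨x, rfl⟩ := e.surjective v
        obtain ⟨y, rfl⟩ := e.surjective w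
        rw [e.symm_apply_apply, e.symm_apply_apply, P.datum_h, he, he]
        have h3 := P.N_add x y
        have h4 := rho_add T (ψ x) (ψ y)
        rw [← map_add, h2, h2, h2] at h4
        have h5 : D.h (T.th (ψ y)).w (T.th (ψ x)).w = D.h (T.th (ψ x)).w (T.th (ψ y)).w := by
          rw [D.swap, hε, hσ, one_mul]
        rw [h5] at h4
        linear_combination h4 - h3
      ok_iff := fun w c => by
        obtain ⟨x, rfl⟩ := e.surjective w
        rw [e.symm_apply_apply, P.datum_ok, he]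
        constructor
        · intro h3
          have h4 : c = (T.th (ψ x)).c := by
            change c = T.Q (ψ x)
            rw [hQ]
            field_simp at h3
            linear_combination -h3
          rw [h4]
          exact (T.th (ψ x)).ok
        · intro h3
          have h4 : c = T.Q (ψ x) := huniq h3 (T.th (ψ x)).ok
          rw [h4, hQ]
          field_simp }
  have hz : ∀ t, (B2Transport.maps s m).z₂ (P.τ t) = m'.x (ψ t) := by
    intro t
    rw [B2Transport.maps_z₂, ← T.z₂_th]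
    congr 1
    ext
    · rw [B2Transport.τ_w]
      change e.symm.symm (P.τ t).w = _
      rw [LinearEquiv.symm_symm, he, P.τ_w]
    · rw [B2Transport.τ_c]
      change (-(T.Q 1)⁻¹)⁻¹ * (P.τ t).c = T.Q (ψ t)
      rw [P.τ_c, hQ]
      field_simp
  have hsub : Set.range (B2Transport.maps s m).z₂' = Set.range m'.x' := by
    rw [B2Transport.range_z₂', T.r2']
  have T'' : Two (B2Transport.maps s m) m' :=
    { rel := B2Transport.rel s T.rel
      rel' := T.rel'
      ne := B2Transport.exists_c_ne s T.ne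
      ne' := T.ne'
      par := T.par
      par' := T.par'
      r1 := T.r1
      r1' := T.r1'
      r2 := by rw [B2Transport.range_z₂, T.r2]
      r2' := hsub }
  have hth : ∀ t, T''.th (ψ t) = P.τ t := fun t => T''.z_inj (by rw [T''.z₂_th, hz])
  have hz' : ∀ t, (B2Transport.maps s m).z₂' (P.τ' t) = m'.x' (ψ t) := by
    intro t
    by_cases ht : t = 0
    · have h3 : P.τ' 0 = 1 := P.T_ext (by rw [P.τ'_w, map_zero, neg_zero]; rfl)
      rw [ht, h3, mul_one' T''.rel.z₂'_mul, map_zero, T.par'.zerom]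
    · have hu : -t⁻¹ ≠ 0 := neg_ne_zero.2 (inv_ne_zero ht)
      have h3 := (T''.nII_aux (t := ψ (-t⁻¹)) ((map_ne_zero ψ).2 hu)).1
      rw [hth] at h3
      have h4 : P.datum.sc (-(P.datum.σ (P.τ (-t⁻¹)).c)⁻¹) (P.τ (-t⁻¹)) = P.τ' t := by
        apply P.T_ext
        rw [PQDatum.sc_w, P.datum_σ, P.datum_σ, P.τ_c, P.τ_w, P.τ'_w, inv_neg, neg_neg, P.N_neg, P.N_inv,
          inv_inv, Algebra.smul_def, P.hN]
        field_simp
      rw [h4] at h3
      rw [h3, ← map_inv₀, ← map_neg]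
      congr 2
      rw [inv_neg, inv_inv, neg_neg]
  have e1 : (fun t => (B2Transport.maps s m).z₂ (P.τ t)) = fun t => m'.x (ψ t) := funext hz
  have e2 : (fun t => (B2Transport.maps s m).z₂' (P.τ' t)) = fun t => m'.x' (ψ t) := funext hz'
  refine ⟨B2Transport.maps s m, T''.rel, T.par, ?_, rfl, rfl, ?_, ?_, fun b => ⟨_, rfl⟩⟩
  · rw [e1, e2]
    exact sl2Par_comp T.par' ψ
  · rw [e1]
    exact ψ.surjective.range_comp m'.x
  · rw [e2]
    exact ψ.surjective.range_comp m'.x'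

end general

section final

variable {F : Type} [Field F] [Finite F] {V : Type*} [AddCommGroup V] [Module F V]
  {D : PQDatum F V} {E : Type} [Field E] [Finite E] {V' : Type*} [AddCommGroup V'] [Module E V']
  {D' : PQDatum E V'} {Y : Type*} [Group Y] {m : B2Maps D Y} {m' : B2Maps D' Y}

/-- The embedding of `F` into `E`. -/
noncomputable def lam (T : Two m m') (ho : Orth D) (h0 : ∀ c, D.ok 0 c → c = 0) : F →+* E where
  toFun := T.symm.rho
  map_one' := T.symm.rho_one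
  map_zero' := T.symm.rho_zero
  map_mul' := T.symm.rho_mul
  map_add' a b := by
    have h1 : (T.th (T.symm.rho (a + b) * 1)).w = (T.th ((T.symm.rho a + T.symm.rho b) * 1)).w := by
      rw [add_mul, th_w_add, th_w_smul T ho, th_w_smul T ho, th_w_smul T ho, add_smul]
    rw [mul_one, mul_one] at h1
    apply T.th_inj
    apply ok_ext ho h0 h1

/-- **The middle part.** -/
theorem mid (T : Two m m') (ho : Orth D) (h0 : ∀ c, D.ok 0 c → c = 0)
    (hs : ∀ w, ∃ c, D.ok w c) :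
    Mid (ConjPair.triv F) (Set.range m.x) (Set.range m.x') (Set.range m'.x) (Set.range m'.x')
      (Set.range m.y) ∨
    ∃ (_ : Algebra F E) (P : ConjPair F E), (∃ t, P.conj t ≠ t) ∧
      Mid P (Set.range m.x) (Set.range m.x') (Set.range m'.x) (Set.range m'.x') (Set.range m.y) := by
  have hQ1 : T.Q 1 ≠ 0 := T.Q_ne one_ne_zero
  have hrr : ∀ a, T.rho (lam T ho h0 a) = a * a := by
    intro a
    have h1 := T.rho_rho a 1
    rw [mul_one, T.rho_one, mul_one, ho.1] at h1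
    exact h1
  by_cases hsurj : Function.Surjective (lam T ho h0)
  · left
    have hbij : Function.Bijective (lam T ho h0) := ⟨(lam T ho h0).injective, hsurj⟩
    refine mid_of T ho h0 hs (ConjPair.triv F) (RingEquiv.ofBijective (lam T ho h0) hbij)
      (fun a => rfl) (fun t => ?_)
    exact hrr t
  · right
    letI := (lam T ho h0).toAlgebra
    have halg : ∀ a, algebraMap F E a = T.symm.rho a := fun a => rfl
    let B : E → E → F := fun s t => -(D.h (T.th t).w (T.th s).w * (T.Q 1)⁻¹)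
    have hBdef : ∀ s t, B s t = -(D.h (T.th t).w (T.th s).w * (T.Q 1)⁻¹) := fun s t => rfl
    have hadd : ∀ s t, T.rho (s + t) = T.rho s + T.rho t + B s t := by
      intro s t
      rw [rho_add, hBdef]; ring
    have hB : ∀ s s' t, B (s + s') t = B s t + B s' t := by
      intro s s' t
      rw [hBdef, hBdef, hBdef, th_w_add, D.add_right]; ring
    have hBs : ∀ (a : F) s t, B (algebraMap F E a * s) t = a * B s t := by
      intro a s t
      rw [hBdef, hBdef, halg, th_w_smul T ho, D.smul_right, ho.1]; ring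
    have hne : ∃ s t, B s t ≠ 0 := by
      by_contra hcon
      push Not at hcon
      apply hsurj
      have hinj : Function.Injective T.rho := by
        intro s t hst
        have h1 := hadd (s - t) t
        rw [sub_add_cancel, hcon, add_zero, hst] at h1
        have h2 : T.rho (s - t) = 0 := by linear_combination -h1
        exact sub_eq_zero.1 (T.rho_eq_zero.1 h2)
      have hcard : Nat.card F = Nat.card E := by
        apply le_antisymm
        · exact Nat.card_le_card_of_injective _ (lam T ho h0).injective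
        · exact Nat.card_le_card_of_injective _ hinj
      exact ((Nat.bijective_iff_injective_and_card _).2 ⟨(lam T ho h0).injective, hcard⟩).2
    obtain ⟨P, hP⟩ := FFComp.exists_conj T.rho B T.rho_mul (fun a => hrr a) hadd hB hBs hne
    refine ⟨inferInstance, P, ?_, mid_of T ho h0 hs P (RingEquiv.refl E) (fun a => rfl)
      (fun t => by rw [hP]; rfl)⟩
    by_contra hcon
    push Not at hcon
    by_cases h2 : (2 : E) = 0
    · obtain ⟨s, t, hst⟩ := hne
      apply hst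
      have h3 := hadd s t
      rw [← hP, P.N_add] at h3
      have h4 : P.T (s * P.conj t) = 0 := by
        apply (algebraMap F E).injective
        rw [P.hT, hcon, hcon, map_zero, ← two_mul, h2, zero_mul]
      linear_combination h4 - h3
    · apply hsurj
      intro t
      have h3 := P.hT t
      rw [hcon, ← two_mul] at h3
      refine ⟨P.T t / 2, ?_⟩
      change algebraMap F E (P.T t / 2) = t
      rw [map_div₀, h3, map_ofNat, mul_div_cancel_left₀ _ h2]

end final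

end Cfsg.Agent.TitsThree.F4Orth
end

-- part: TitsThree/F4Bond
section
/-!
# The package of type `F₄` of a building (S1143, piece G7)

`exists_mid`: for a building of type `F₄`, the double bond `1 = 2`, or the double bond `2 = 1`, carries a package over
`P.datum`, `P` a `ConjPair` (`MidStd`).  `exists_ff`: in the first case the whole package `FF` in `G'`, with ranges.
-/

set_option autoImplicit false
set_option linter.unusedSectionVars false

namespace Cfsg.Agent.TitsThree.F4Bond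

open CoxeterSystem Cfsg.Agent.ChevalleyStructure.CoxeterGeom Cfsg.Agent.Tits.Roots
open Cfsg.Agent.Tits.C3Roots Cfsg.Agent.Tits.RGSys Cfsg.Agent.Tits.RGC3 Cfsg.Agent.Tits.RGBond
open Cfsg.Agent.TitsThree Cfsg.Agent.TitsThree.B2Pkg Cfsg.Agent.TitsThree.GSideMou
open Cfsg.Agent.TitsThree.StdData Cfsg.Agent.TitsThree.F4Two Cfsg.Agent.TitsThree.F4Orth
open Cfsg.Agent.TitsThree.FFData Cfsg.Agent.TitsThree.Pack Cfsg.Agent.TitsThree.Hua
open Cfsg.Agent.Tits.Core Cfsg.Agent.Tits.Core.Bldg Cfsg.Agent.Tits.MouOut Cfsg.Agent.Tits.MouAll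
open Cfsg.Agent.Tits.RGOut Cfsg.Agent.Tits.MouRG
open Cfsg.Agent.Tits.MouDefs (rt Aut Chart)
open Cfsg.Agent.Tits.RootComb (Diag)
open Cfsg.Agent.LieRecognition.BNCox (cF)
open scoped commutatorElement

/-- A double bond over an unclassified parameter system. -/
def GenBond.{u} {Y : Type u} [Group Y] (a b c d e : Set Y) : Prop :=
  ∃ (F : Type) (_ : Field F) (_ : Finite F) (V : Type u) (_ : AddCommGroup V) (_ : Module F V)
    (D : PQDatum F V), (∀ c, D.ok 0 c → ∃ m, c = m - D.ε * D.σ m) ∧ (∀ w, ∃ c, D.ok w c) ∧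
      (∃ p : D.T, p.c ≠ 0) ∧ Bond D a b c d e

section RG

universe u

variable {I W : Type*} [Fintype I] [DecidableEq I] [Group W] {M : CoxeterMatrix I}
  {cs : CoxeterSystem M W} {A : I → I → ℤ} {h : IsCartan M A} {Y : Type u} [Group Y]
  {n : Fin 3 → I} (hn : Tri A n) {X : (I → ℤ) → Subgroup Y} {St : W → Subgroup Y}
  (hX : RG cs h X St) (h01 : M (n 0) (n 1) = 3) (h12 : M (n 1) (n 2) = 4) (h02 : M (n 0) (n 2) = 2)

include hn hX h01 h12 h02 in
theorem gen_bond [Finite Y] : GenBond (X (sr (n 1)) : Set Y) (X (-sr (n 1))) (X (sr (n 2)))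
    (X (-sr (n 2))) (St 1) := by
  obtain ⟨F, i1, i2, x, hx⟩ := exists_crd hn hX h01 h12 h02
  obtain ⟨P, M, hE, hrE, hiE, hrZ, hiZ, -, hne⟩ := C3Out.exists_sgn hx
  have hB : ∃ m : B2Maps P.datum Y, B2Rel m ∧ m.x = M.E (1, true) (2, true) ∧
      m.x' = M.E (2, true) (1, true) ∧ Set.range m.z₂ = Set.range (M.Z (2, true)) ∧
      Set.range m.z₂' = Set.range (M.Z (2, false)) ∧
      ∀ b, m.y b ∈ Set.range (M.E (1, true) (2, false)) :=
    ⟨C3B2.maps M 1 2, C3B2.b2Rel M (by decide), rfl, rfl, C3B2.range_z₂ M 1 2, C3B2.range_z₂' M 1 2,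
      fun b => ⟨b, rfl⟩⟩
  obtain ⟨m, hm, ex, ex', r3, r4, hy⟩ := hB
  have hbond := bond_of_b2 hn hX h01 h12 h02 hx m hm (by rw [ex]; exact funext (hE 1 2 (by decide)))
    (by rw [ex']; exact funext (hE 2 1 (by decide))) (by rw [r3, hrZ]) (by rw [r4, hrZ])
    (fun b => by
      have := hy b
      rw [hrE (1, true) (2, false) (by decide)] at this
      exact this)
  refine ⟨F, i1, Finite.of_fintype F, P.V, inferInstance, inferInstance, P.datum,
    fun c hc => P.datum_ok_zero hc, P.datum_surj, ?_, hbond⟩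
  obtain ⟨p, hp⟩ := hne
  exact ⟨P.equiv p, by rw [P.equiv_c]; exact hp⟩

end RG

/-- The middle part, over one of the two kinds of data. -/
def MidStd {Y : Type*} [Group Y] (a b c d e : Set Y) : Prop :=
  (∃ (F : Type) (_ : Field F) (_ : Finite F), Mid (ConjPair.triv F) a b c d e) ∨
  ∃ (F E : Type) (_ : Field F) (_ : Finite F) (_ : Field E) (_ : Finite E) (_ : Algebra F E)
    (P : ConjPair F E), (∃ t, P.conj t ≠ t) ∧ Mid P a b c d e

theorem Mid.mono {F E : Type*} [Field F] [Field E] [Algebra F E] {P : ConjPair F E} {Y : Type*}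
    [Group Y] {a b c d e e' : Set Y} (h : Mid P a b c d e) (he : e ⊆ e') : Mid P a b c d e' := by
  obtain ⟨m, h1, h2, h3, h4, h5, h6, h7, h8⟩ := h
  exact ⟨m, h1, h2, h3, h4, h5, h6, h7, fun b => he (h8 b)⟩

theorem midStd_of_two {F : Type} [Field F] [Finite F] {V : Type*} [AddCommGroup V] [Module F V]
    {D : PQDatum F V} {E : Type} [Field E] [Finite E] {V' : Type*} [AddCommGroup V'] [Module E V']
    {D' : PQDatum E V'} {Y : Type*} [Group Y] {m : B2Maps D Y} {m' : B2Maps D' Y}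
    (T : Two m m') (ho : Orth D) (h0 : ∀ c, D.ok 0 c → ∃ m, c = m - D.ε * D.σ m)
    (hs : ∀ w, ∃ c, D.ok w c) {a b c d e : Set Y} (r1 : Set.range m.x = a)
    (r2 : Set.range m.x' = b) (r3 : Set.range m'.x = c) (r4 : Set.range m'.x' = d)
    (r5 : ∀ t, m.y t ∈ e) : MidStd a b c d e := by
  have h0' : ∀ c, D.ok 0 c → c = 0 := by
    intro c hc
    obtain ⟨m, hm⟩ := h0 c hc
    rw [hm, ho.2, ho.1, one_mul, sub_self]
  have he : Set.range m.y ⊆ e := by
    rintro _ ⟨t, rfl⟩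
    exact r5 t
  rcases mid T ho h0' hs with h | ⟨i, P, hP, h⟩
  · rw [r1, r2, r3, r4] at h
    exact Or.inl ⟨F, inferInstance, inferInstance, Mid.mono h he⟩
  · rw [r1, r2, r3, r4] at h
    exact Or.inr ⟨F, E, inferInstance, inferInstance, inferInstance, inferInstance, i, P, hP,
      Mid.mono h he⟩

theorem midStd_or {Y : Type*} [Group Y] {a b c d e : Set Y} (h : GenBond a b c d e)
    (h' : GenBond c d a b e) : MidStd a b c d e ∨ MidStd c d a b e := by
  obtain ⟨F, i1, i2, V, i3, i4, D, h0, hs, hne, m, hm, hp, r1, r1', r2, r2', hy⟩ := h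
  obtain ⟨E, j1, j2, V', j3, j4, D', h0', hs', hne', m', hm', hp', s1, s1', s2, s2', hy'⟩ := h'
  have T : Two m m' :=
    { rel := hm
      rel' := hm'
      ne := hne
      ne' := hne'
      par := hp
      par' := hp'
      r1 := by rw [s2, r1]
      r1' := by rw [s2', r1']
      r2 := by rw [s1, r2]
      r2' := by rw [s1', r2'] }
  rcases orth_or T with ho | ho
  · exact Or.inl (midStd_of_two T ho h0 hs r1 r1' s1 s1' hy)
  · exact Or.inr (midStd_of_two T.symm ho h0' hs' s1 s1' r1 r1' hy')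

section Bldg

variable {W C : Type*} [Group W] [Finite W] [Finite C] {M : CoxeterMatrix (Fin 4)}
  {cs : CoxeterSystem M W} {Δ : Bldg cs C} {σ : W → C} (hM : Lab234 M) (hD : Diag M)
  (hth : Δ.Thick) (hσ : Chart Δ σ)

include hM hD hth hσ

theorem genBond {i j k : Fin 4} (hij : M i j = 3) (hjk : M j k = 4) (hik : M i k = 2) :
    GenBond (RX Δ σ (rt cs 1 j) : Set ↥(Gg cs (UU Δ σ))) (RX Δ σ (rt cs (cs.simple j) j))
      (RX Δ σ (rt cs 1 k)) (RX Δ σ (rt cs (cs.simple k) k)) {g | g • σ 1 = σ 1} := by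
  have hcart := exists_cartan' hM hD hth hσ
  obtain ⟨A, h, hn⟩ := exists_tri hcart ![i, j, k] hij hjk hik
  have hX := rgG hM hD hth hσ h
  have := gen_bond hn hX hij hjk hik
  have e : ((Subgroup.comap (inc Δ σ) (stab σ 1) : Subgroup _) : Set ↥(Gg cs (UU Δ σ))) =
      {g | g • σ 1 = σ 1} := rfl
  rw [e] at this
  change GenBond (RX Δ σ (Rt cs h (sr j)) : Set ↥(Gg cs (UU Δ σ))) (RX Δ σ (Rt cs h (-sr j)))
    (RX Δ σ (Rt cs h (sr k))) (RX Δ σ (Rt cs h (-sr k))) _ at this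
  rwa [RX_sr hM hD hth hσ, RX_sr hM hD hth hσ, RX_neg_sr hM hD hth hσ,
    RX_neg_sr hM hD hth hσ] at this

/-- The package of type `F₄` of `G'` over `P.datum`. -/
def OutP {F E : Type*} [Field F] [Field E] [Algebra F E] (Δ : Bldg cs C) (σ : W → C)
    (Q : ConjPair F E) : Prop :=
  ∃ P : FF ↥(Gg cs (UU Δ σ)) Q.datum Q.τ Q.τ', EndFF.RangesFF P

/-- **The middle part extends to the whole package.** -/
theorem outP (h01 : M 0 1 = 3) (h23 : M 2 3 = 3) (h02 : M 0 2 = 2) (h03 : M 0 3 = 2)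
    (h13 : M 1 3 = 2) {F E : Type} [Field F] [Field E] [Algebra F E] {Q : ConjPair F E}
    (h : Mid Q (RX Δ σ (rt cs 1 1) : Set ↥(Gg cs (UU Δ σ))) (RX Δ σ (rt cs (cs.simple 1) 1))
      (RX Δ σ (rt cs 1 2)) (RX Δ σ (rt cs (cs.simple 2) 2)) {g | g • σ 1 = σ 1}) :
    OutP Δ σ Q := by
  have H := Cfsg.Agent.Tits.MouAll.sys hM hD hth hσ
  obtain ⟨m, hm, p1, p2, r1, r1', r2, r2', -⟩ := h
  have e01 := edgeA2 hM hD hth hσ h01
  have e23 := edgeA2 hM hD hth hσ h23
  obtain ⟨q0, hq0⟩ := e01.symm.step ⟨m.x, m.x', p1, r1, r1'⟩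
  obtain ⟨q3, hq3⟩ := e23.step ⟨_, _, p2, r2, r2'⟩
  obtain ⟨x, hx, hxi, e1, e2, e3, e4⟩ := hq0.symm
  obtain ⟨y, hy, hyi, f1, f2, f3, f4⟩ := hq3
  have hcomm : ∀ {i j : Fin 4}, M i j = 2 → ∀ {X X' : Type} {xp xm : X → ↥(Gg cs (UU Δ σ))}
      {yp ym : X' → ↥(Gg cs (UU Δ σ))}, Set.range xp = RX Δ σ (rt cs 1 i) →
      Set.range xm = RX Δ σ (rt cs (cs.simple i) i) → Set.range yp = RX Δ σ (rt cs 1 j) →
      Set.range ym = RX Δ σ (rt cs (cs.simple j) j) → Comm4 xp xm yp ym := by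
    intro i j hij X X' xp xm yp ym g1 g2 g3 g4 s t
    have k1 : xp s ∈ (RX Δ σ (rt cs 1 i) : Set ↥(Gg cs (UU Δ σ))) := g1 ▸ ⟨s, rfl⟩
    have k2 : xm s ∈ (RX Δ σ (rt cs (cs.simple i) i) : Set ↥(Gg cs (UU Δ σ))) := g2 ▸ ⟨s, rfl⟩
    have k3 : yp t ∈ (RX Δ σ (rt cs 1 j) : Set ↥(Gg cs (UU Δ σ))) := g3 ▸ ⟨t, rfl⟩
    have k4 : ym t ∈ (RX Δ σ (rt cs (cs.simple j) j) : Set ↥(Gg cs (UU Δ σ))) := g4 ▸ ⟨t, rfl⟩
    exact ⟨comm_two hM hD hth hσ hij (Or.inl rfl) (Or.inl rfl) k1 k3,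
      comm_two hM hD hth hσ hij (Or.inl rfl) (Or.inr rfl) k1 k4,
      comm_two hM hD hth hσ hij (Or.inr rfl) (Or.inl rfl) k2 k3,
      comm_two hM hD hth hσ hij (Or.inr rfl) (Or.inr rfl) k2 k4⟩
  refine ⟨{ x0 := q0.xp, y0 := q0.xm, x1 := m.x, y1 := m.x', x2 := fun t => m.z₂ (Q.τ t)
            y2 := fun t => m.z₂' (Q.τ' t), x3 := q3.xp, y3 := q3.xm, b2 := m, rel := hm
            e01 := ⟨x, hx, e1, e2, e3, e4⟩, e23 := ⟨y, hy, f1, f2, f3, f4⟩, hx := rfl, hx' := rfl
            hz := fun _ => rfl, hz' := fun _ => rfl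
            c02 := hcomm h02 q0.rp q0.rm r2 r2'
            c03 := hcomm h03 q0.rp q0.rm q3.rp q3.rm
            c13 := hcomm h13 r1 r1' q3.rp q3.rm }, ?_⟩
  exact { r0 := GCNOfSys.nodeRange H q0.rp q0.rm
          r1 := GCNOfSys.nodeRange H r1 r1'
          r2 := GCNOfSys.nodeRange H r2 r2'
          r3 := GCNOfSys.nodeRange H q3.rp q3.rm
          inj0 := q0.par.injp
          inj2 := p2.injp }

end Bldg

/-- The output of the G side of type `F₄`. -/
def Out {W C : Type*} [Group W] {M : CoxeterMatrix (Fin 4)} {cs : CoxeterSystem M W}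
    (Δ : Bldg cs C) (σ : W → C) : Prop :=
  (∃ (F : Type) (_ : Field F) (_ : Finite F), OutP Δ σ (ConjPair.triv F)) ∨
  ∃ (F E : Type) (_ : Field F) (_ : Finite F) (_ : Field E) (_ : Finite E) (_ : Algebra F E)
    (P : ConjPair F E), (∃ t, P.conj t ≠ t) ∧ OutP Δ σ P

section F4

variable {W C : Type*} [Group W] [Finite W] [Finite C] {cs : CoxeterSystem cF W} {Δ : Bldg cs C}
  {σ : W → C} (hth : Δ.Thick) (hσ : Chart Δ σ)

include hth hσ

/-- The orientation of the diagram. -/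
theorem orient : MidStd (RX Δ σ (rt cs 1 1) : Set ↥(Gg cs (UU Δ σ)))
      (RX Δ σ (rt cs (cs.simple 1) 1)) (RX Δ σ (rt cs 1 2)) (RX Δ σ (rt cs (cs.simple 2) 2))
      {g | g • σ 1 = σ 1} ∨
    MidStd (RX Δ σ (rt cs 1 2) : Set ↥(Gg cs (UU Δ σ)))
      (RX Δ σ (rt cs (cs.simple 2) 2)) (RX Δ σ (rt cs 1 1)) (RX Δ σ (rt cs (cs.simple 1) 1))
      {g | g • σ 1 = σ 1} :=
  midStd_or (genBond lab_F Cfsg.Agent.Tits.CombInst.diag_F hth hσ (i := 0) (j := 1) (k := 2) (by decide)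
    (by decide) (by decide)) (genBond lab_F Cfsg.Agent.Tits.CombInst.diag_F hth hσ (i := 3) (j := 2) (k := 1)
    (by decide) (by decide) (by decide))

theorem out_of_midStd (h : MidStd (RX Δ σ (rt cs 1 1) : Set ↥(Gg cs (UU Δ σ)))
      (RX Δ σ (rt cs (cs.simple 1) 1)) (RX Δ σ (rt cs 1 2)) (RX Δ σ (rt cs (cs.simple 2) 2))
      {g | g • σ 1 = σ 1}) : Out Δ σ := by
  rcases h with ⟨F, i1, i2, h⟩ | ⟨F, E, i1, i2, i3, i4, i5, P, hP, h⟩
  · exact Or.inl ⟨F, i1, i2, outP lab_F Cfsg.Agent.Tits.CombInst.diag_F hth hσ (by decide) (by decide) (by decide)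
      (by decide) (by decide) h⟩
  · exact Or.inr ⟨F, E, i1, i2, i3, i4, i5, P, hP, outP lab_F Cfsg.Agent.Tits.CombInst.diag_F hth hσ (by decide)
      (by decide) (by decide) (by decide) (by decide) h⟩

end F4

end Cfsg.Agent.TitsThree.F4Bond
end

-- part: TitsThree/Reindex
section
/-!
# Reversal of the diagram of type `F₄` (S1143)

`cs'` and `cs` are two Coxeter systems on the same group `W` with `cs'.simple i = cs.simple (e i)`.
`re Δ`: the building `Δ` regarded as a building of type `cs'`.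
`allSolved_F`: it is enough to solve the buildings of type `F₄` with `F4Bond.Out`.
-/

set_option autoImplicit false
set_option linter.unusedSectionVars false

namespace Cfsg.Agent.TitsThree.Reindex

open Cfsg.Agent.Tits.Core Cfsg.Agent.Tits.Core.Bldg Cfsg.Agent.Tits.MouOut
open Cfsg.Agent.Tits.MouDefs (rt Aut Chart)
open Cfsg.Agent.Tits.RGOut (RX)
open Cfsg.Agent.TitsThree.F4Bond
open Cfsg.Agent.LieRecognition.BNCox (cF)

variable {I I' W C : Type*} [Group W] {M : CoxeterMatrix I} {M' : CoxeterMatrix I'}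

section cs

variable (cs : CoxeterSystem M W) (cs' : CoxeterSystem M' W) (e : I' ≃ I)
  (hs : ∀ i, cs'.simple i = cs.simple (e i))

include hs

theorem wordProd_map (ω : List I') : cs.wordProd (ω.map e) = cs'.wordProd ω := by
  induction ω with
  | nil => simp
  | cons i ω ih => rw [List.map_cons, cs.wordProd_cons, cs'.wordProd_cons, ih, hs]

theorem length_le (w : W) : cs.length w ≤ cs'.length w := by
  obtain ⟨ω, h1, rfl⟩ := cs'.exists_isReduced w
  have h3 := cs.length_wordProd_le (ω.map e)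
  rw [wordProd_map cs cs' e hs, List.length_map] at h3
  rw [h1.eq]
  exact h3

theorem length_eq (w : W) : cs'.length w = cs.length w :=
  le_antisymm (length_le cs' cs e.symm (fun i => by rw [hs, e.apply_symm_apply]) w)
    (length_le cs cs' e hs w)

theorem WJ_univ : WJ cs' Set.univ = WJ cs Set.univ := by
  unfold WJ
  congr 1
  ext w
  constructor
  · rintro ⟨i, -, rfl⟩
    exact ⟨e i, Set.mem_univ _, (hs i).symm⟩
  · rintro ⟨i, -, rfl⟩
    exact ⟨e.symm i, Set.mem_univ _, by rw [hs, e.apply_symm_apply]⟩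

theorem w0_eq : w0 cs' = w0 cs := by
  have h : IsLongest cs' Set.univ = IsLongest cs Set.univ := by
    funext w
    unfold IsLongest
    rw [WJ_univ cs cs' e hs]
    simp only [length_eq cs cs' e hs]
  have key : ∀ p q : W → Prop, p = q →
      (open Classical in if h : ∃ w, p w then h.choose else 1) =
        (open Classical in if h : ∃ w, q w then h.choose else 1) := by
    rintro p q rfl
    rfl
  exact key _ _ h

theorem rt_eq (w : W) (i : I') : rt cs' w i = rt cs w (e i) := by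
  unfold rt
  simp only [length_eq cs cs' e hs, hs]

end cs

section Bldg

variable {cs : CoxeterSystem M W} {cs' : CoxeterSystem M' W} {e : I' ≃ I}
  (hs : ∀ i, cs'.simple i = cs.simple (e i))

/-- The building as a building of the reindexed type. -/
def re (Δ : Bldg cs C) : Bldg cs' C where
  δ := Δ.δ
  eq_one := Δ.eq_one
  symm := Δ.symm
  step x y z i h := by
    rw [hs] at h ⊢
    exact Δ.step x y z (e i) h
  step_lt x y z i h1 h2 := by
    rw [hs] at h1 h2 ⊢
    rw [length_eq cs cs' e hs, length_eq cs cs' e hs] at h2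
    exact Δ.step_lt x y z (e i) h1 h2
  exists_step x y i := by
    rw [hs]
    exact Δ.exists_step x y (e i)

variable {Δ : Bldg cs C}

theorem re_thick (h : Δ.Thick) : (re hs Δ).Thick := by
  intro x i
  obtain ⟨y, z, h1, h2, h3⟩ := h x (e i)
  exact ⟨y, z, h1, by rw [hs]; exact h2, by rw [hs]; exact h3⟩

theorem re_chart {σ : W → C} (h : Chart Δ σ) : Chart (re hs Δ) σ := h

theorem re_pan (i : I') (x : C) : (re hs Δ).Pan i x = Δ.Pan (e i) x := by
  unfold Bldg.Pan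
  rw [hs]
  rfl

theorem re_opp (x y : C) : (re hs Δ).Opp x y ↔ Δ.Opp x y := by
  unfold Bldg.Opp
  rw [w0_eq cs cs' e hs]
  rfl

/-- `Solved` does not depend on the names of the nodes. -/
theorem solved_of_re (h : Top.Solved (re hs Δ)) : Top.Solved Δ := by
  obtain ⟨p, hp, c, d, U, h1, h2, h3, h4, h5, h6, h7, h8, h9, h10⟩ := h.out
  exact ⟨p, hp, c, d, U, (re_opp hs c d).1 h1, h2, h3, h4,
    fun x hx => h5 x ((re_opp hs c x).2 hx), h6, h7, h8, h9, h10⟩

variable {σ : W → C}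

theorem re_UU (R : Set W) : UU (re hs Δ) σ R = UU Δ σ R := by
  ext g
  change ((g : Equiv.Perm C) ∈ Aut Δ ∧ (∀ v ∈ R, (g : Equiv.Perm C) (σ v) = σ v) ∧
    ∀ v i, v ∈ R → v * cs'.simple i ∈ R → ∀ y ∈ (re hs Δ).Pan i (σ v), (g : Equiv.Perm C) y = y) ↔
    ((g : Equiv.Perm C) ∈ Aut Δ ∧ (∀ v ∈ R, (g : Equiv.Perm C) (σ v) = σ v) ∧
    ∀ v i, v ∈ R → v * cs.simple i ∈ R → ∀ y ∈ Δ.Pan i (σ v), (g : Equiv.Perm C) y = y)
  refine and_congr_right fun _ => and_congr_right fun _ => ⟨fun h v i hv hvi y hy => ?_,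
    fun h v i hv hvi y hy => ?_⟩
  · refine h v (e.symm i) hv ?_ y ?_
    · rw [hs, e.apply_symm_apply]
      exact hvi
    · rw [re_pan, e.apply_symm_apply]
      exact hy
  · rw [hs] at hvi
    rw [re_pan] at hy
    exact h v (e i) hv hvi y hy

theorem re_Gg : Gg cs' (UU (re hs Δ) σ) = Gg cs (UU Δ σ) := by
  unfold Gg Lg
  have h : ∀ i, UU (re hs Δ) σ (rt cs' 1 i) ⊔ UU (re hs Δ) σ (rt cs' (cs'.simple i) i) =
      UU Δ σ (rt cs 1 (e i)) ⊔ UU Δ σ (rt cs (cs.simple (e i)) (e i)) := by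
    intro i
    rw [re_UU, re_UU, rt_eq cs cs' e hs, rt_eq cs cs' e hs, hs]
    rfl
  simp only [h]
  exact e.iSup_comp (g := fun i => UU Δ σ (rt cs 1 i) ⊔ UU Δ σ (rt cs (cs.simple i) i))

end Bldg

section F4

variable {cs cs' : CoxeterSystem cF W} {e : Fin 4 ≃ Fin 4}
  (hs : ∀ i, cs'.simple i = cs.simple (e i)) {Δ : Bldg cs C} {σ : W → C}

/-- The middle part, in the group `H`. -/
def MidIn (Δ : Bldg cs C) (σ : W → C) (H : Subgroup (Aut Δ)) (a b c d : Set W) : Prop :=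
  MidStd ((UU Δ σ a).subgroupOf H : Set ↥H) ((UU Δ σ b).subgroupOf H) ((UU Δ σ c).subgroupOf H)
    ((UU Δ σ d).subgroupOf H) {g | g • σ 1 = σ 1}

theorem midIn_re (H : Subgroup (Aut Δ)) (a b c d : Set W) (h : MidIn Δ σ H a b c d) :
    MidIn (re hs Δ) σ (H : Subgroup (Aut (re hs Δ))) a b c d := by
  unfold MidIn
  rw [re_UU, re_UU, re_UU, re_UU]
  exact h

theorem mid_re (he1 : e 1 = 2) (he2 : e 2 = 1)
    (h : MidStd (RX Δ σ (rt cs 1 2) : Set ↥(Gg cs (UU Δ σ)))
      (RX Δ σ (rt cs (cs.simple 2) 2)) (RX Δ σ (rt cs 1 1)) (RX Δ σ (rt cs (cs.simple 1) 1))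
      {g | g • σ 1 = σ 1}) :
    MidStd (RX (re hs Δ) σ (rt cs' 1 1) : Set ↥(Gg cs' (UU (re hs Δ) σ)))
      (RX (re hs Δ) σ (rt cs' (cs'.simple 1) 1)) (RX (re hs Δ) σ (rt cs' 1 2))
      (RX (re hs Δ) σ (rt cs' (cs'.simple 2) 2)) {g | g • σ 1 = σ 1} := by
  have h1 : MidIn Δ σ (Gg cs (UU Δ σ)) (rt cs 1 2) (rt cs (cs.simple 2) 2) (rt cs 1 1)
    (rt cs (cs.simple 1) 1) := h
  have h2 := midIn_re hs _ _ _ _ _ h1
  have h3 : MidIn (re hs Δ) σ (Gg cs' (UU (re hs Δ) σ)) (rt cs 1 2) (rt cs (cs.simple 2) 2)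
      (rt cs 1 1) (rt cs (cs.simple 1) 1) := by
    rw [re_Gg]
    exact h2
  have e1 : rt cs 1 2 = rt cs' 1 1 := by rw [rt_eq cs cs' e hs, he1]
  have e2 : rt cs (cs.simple 2) 2 = rt cs' (cs'.simple 1) 1 := by
    rw [rt_eq cs cs' e hs, hs, he1]
  have e3 : rt cs 1 1 = rt cs' 1 2 := by rw [rt_eq cs cs' e hs, he2]
  have e4 : rt cs (cs.simple 1) 1 = rt cs' (cs'.simple 2) 2 := by
    rw [rt_eq cs cs' e hs, hs, he2]
  rw [e1, e2, e3, e4] at h3
  exact h3

/-- The diagram `F₄` is symmetric. -/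
theorem reindex_cF : cF.reindex (Fin.revPerm : Equiv.Perm (Fin 4)) = cF := by
  ext i j
  fin_cases i <;> fin_cases j <;> rfl

theorem cast_simple {N N' : CoxeterMatrix I} (h : N = N') (cs : CoxeterSystem N W) (i : I) :
    (h ▸ cs : CoxeterSystem N' W).simple i = cs.simple i := by
  subst h
  rfl

/-- The reversed Coxeter system. -/
def revSys (cs : CoxeterSystem cF W) : CoxeterSystem cF W :=
  reindex_cF ▸ cs.reindex (Fin.revPerm : Equiv.Perm (Fin 4))

theorem revSys_simple (cs : CoxeterSystem cF W) (i : Fin 4) :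
    (revSys cs).simple i = cs.simple ((Fin.revPerm : Equiv.Perm (Fin 4)) i) := by
  unfold revSys
  rw [cast_simple]
  rfl

/-- **It is enough to treat the oriented buildings.** -/
theorem solved_F [Finite W] [Finite C] {σ : W → C}
    (h : ∀ (cs : CoxeterSystem cF W) (Δ : Bldg cs C), Δ.Thick → Chart Δ σ → Out Δ σ →
      Top.Solved Δ) {cs : CoxeterSystem cF W} {Δ : Bldg cs C} (hth : Δ.Thick) (hσ : Chart Δ σ) :
    Top.Solved Δ := by
  rcases orient hth hσ with h1 | h1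
  · exact h cs Δ hth hσ (out_of_midStd hth hσ h1)
  · have hs := revSys_simple cs
    refine solved_of_re hs (h _ _ (re_thick hs hth) (re_chart hs hσ) ?_)
    exact out_of_midStd (re_thick hs hth) (re_chart hs hσ) (mid_re hs rfl rfl h1)

end F4

end Cfsg.Agent.TitsThree.Reindex
end

-- part: TitsThree/AssembleFF
section
/-!
# GU assembly for type `F₄` (S1143)

Nodes `0, 1` (long, parametrised by `F`), `2, 3` (short, parametrised by `E`), double bond `1 = 2`
(package `b2`).  `stab_le` (L1): for a package in `A` with its action on the building and a package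
in `K`, the stabiliser of `c` in the group generated by the pairs has second components in `Bor`.
`nonempty_mulEquiv` (L2).
-/

set_option autoImplicit false
set_option linter.unusedSectionVars false

namespace Cfsg.Agent.TitsThree.AssembleFF

open Cfsg.Agent.Tits.Core Cfsg.Agent.Tits.Core.Bldg Cfsg.Agent.AGraded
open Cfsg.Agent.TitsThree.B2Pkg Cfsg.Agent.TitsThree.Pack Cfsg.Agent.TitsThree.AssembleBase
open Cfsg.Agent.TitsThree.AssembleEdge Cfsg.Agent.TitsThree.CoreB2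
open scoped commutatorElement

/-! ### Elements which behave well with respect to one node -/

section GenAt

variable {I : Type*} {M : CoxeterMatrix I} {W : Type*} [Group W] {cs : CoxeterSystem M W}
variable {C A K : Type*} [Group A] [Group K] [MulAction A C]
variable {Δ : Bldg cs C} {c : C} {Γi : I → Subgroup (A × K)}

/-- The property `GenP` for one node. -/
def GenAt (Γi : I → Subgroup (A × K)) (c : C) (k : I) (g : A × K) : Prop :=
  ∀ h ∈ Γi k, ∃ h' ∈ Γi k, h'⁻¹ * g * h ∈ GUProd.Bt Γi c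

theorem GenAt.mul {k : I} {x y : A × K} (hx : GenAt Γi c k x) (hy : GenAt Γi c k y) :
    GenAt Γi c k (x * y) := by
  intro h hh
  obtain ⟨h1, hh1, e1⟩ := hy h hh
  obtain ⟨h2, hh2, e2⟩ := hx h1 hh1
  refine ⟨h2, hh2, ?_⟩
  have : h2⁻¹ * (x * y) * h = (h2⁻¹ * x * h1) * (h1⁻¹ * y * h) := by group
  rw [this]
  exact mul_mem e2 e1

theorem GenAt.inv (iso : ∀ (a : A) x y, Δ.δ (a • x) (a • y) = Δ.δ x y)
    (pan : ∀ i, ∀ g ∈ Γi i, g.1 • c ∈ Δ.Pan i c)
    (trans : ∀ i, ∀ y ∈ Δ.Pan i c, ∃ g ∈ Γi i, g.1 • c = y)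
    {k : I} {x : A × K} (hxc' : x.1 • c = c) (hx : GenAt Γi c k x) : GenAt Γi c k x⁻¹ := by
  have hxc : x⁻¹.1 • c = c := by rw [Prod.fst_inv, inv_smul_eq_iff, hxc']
  intro h'' hh''
  obtain ⟨h, hh, e0⟩ := exists_fix iso pan trans hxc k hh''
  obtain ⟨h', hh', e1⟩ := hx h hh
  refine ⟨h, hh, ?_⟩
  have e3 := Bt_fix e1
  have e6 : h''⁻¹ * h' ∈ GUProd.Bt Γi c := by
    refine Subgroup.subset_closure
      ⟨k, k, mul_mem (inv_mem (Subgroup.mem_sup_left hh'')) (Subgroup.mem_sup_left hh'), ?_⟩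
    have e4 : h'.1 • c = x.1 • (h.1 • c) := by
      have e3' : (h'.1⁻¹ * x.1 * h.1) • c = c := e3
      rw [mul_smul, mul_smul, inv_smul_eq_iff] at e3'
      exact e3'.symm
    have e5 : x.1 • (h.1 • c) = h''.1 • c := by
      have e0' : (h.1⁻¹ * x.1⁻¹ * h''.1) • c = c := e0
      rw [mul_smul, mul_smul, inv_smul_eq_iff, inv_smul_eq_iff] at e0'
      exact e0'.symm
    show (h''.1⁻¹ * h'.1) • c = c
    rw [mul_smul, e4, e5, inv_smul_smul]
  have : h⁻¹ * x⁻¹ * h'' = ((h''⁻¹ * h') * (h'⁻¹ * x * h))⁻¹ := by group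
  rw [this]
  exact inv_mem (mul_mem e6 e1)

theorem genAt_of_commute {k : I} {g : A × K} (hg : g ∈ GUProd.Bt Γi c)
    (h : ∀ x ∈ Γi k, g * x = x * g) : GenAt Γi c k g := by
  intro x hx
  refine ⟨x, hx, ?_⟩
  have e : x⁻¹ * g * x = g := by rw [mul_assoc, h x hx, inv_mul_cancel_left]
  rwa [e]

/-- The conjugation trick. -/
theorem genAt_conj (iso : ∀ (a : A) x y, Δ.δ (a • x) (a • y) = Δ.δ x y)
    (pan : ∀ i, ∀ g ∈ Γi i, g.1 • c ∈ Δ.Pan i c)
    (trans : ∀ i, ∀ y ∈ Δ.Pan i c, ∃ g ∈ Γi i, g.1 • c = y)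
    {k l : I} {n x : A × K} (hn : ∀ h ∈ Γi k, n * h = h * n) (hx : x ∈ Γi l)
    (hxc : x.1 • c = c)
    (hB : ∀ e ∈ Γi k ⊔ Γi l, e.1 • c = c → n * e * n⁻¹ ∈ GUProd.Bt Γi c) :
    GenAt Γi c k (n * x * n⁻¹) := by
  intro h hh
  obtain ⟨h', hh', e⟩ := exists_fix iso pan trans hxc k hh
  refine ⟨h', hh', ?_⟩
  have e1 : h'⁻¹ * (n * x * n⁻¹) * h = n * (h'⁻¹ * x * h) * n⁻¹ := by
    have c1 : n * h'⁻¹ = h'⁻¹ * n := hn _ (inv_mem hh')
    have c2 : n⁻¹ * h = h * n⁻¹ := by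
      rw [inv_mul_eq_iff_eq_mul, ← mul_assoc, hn h hh, mul_assoc, mul_inv_cancel, mul_one]
    calc h'⁻¹ * (n * x * n⁻¹) * h = (h'⁻¹ * n) * x * (n⁻¹ * h) := by group
      _ = (n * h'⁻¹) * x * (h * n⁻¹) := by rw [c1, c2]
      _ = _ := by group
  rw [e1]
  exact hB _ (mul_mem (mul_mem (inv_mem (Subgroup.mem_sup_left hh')) (Subgroup.mem_sup_right hx))
    (Subgroup.mem_sup_left hh)) e

end GenAt

/-! ### Generators of the stabiliser for a simple bond -/

section Edge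

variable {I : Type*} {M : CoxeterMatrix I} {W : Type*} [Group W] {cs : CoxeterSystem M W}
variable {C A K : Type*} [Group A] [Group K] [MulAction A C] {F : Type*} [Field F]
variable {Δ : Bldg cs C} {c : C} {i j : I} {ci cj : C}
variable {xp xm yp ym : F → A} {xp' xm' yp' ym' : F → K}

/-- generators of the stabiliser in the rank two group of a simple bond -/
def edgeGens {Y F : Type*} [Group Y] [Field F] (xp xm yp ym : F → Y) : Set Y :=
  {g | (∃ t, g = xp t) ∨ (∃ t, g = yp t) ∨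
    (∃ s t, s ≠ 0 ∧ t ≠ 0 ∧ g = nn xp xm s * (nn xp xm t)⁻¹) ∨
    ∃ s t, s ≠ 0 ∧ t ≠ 0 ∧ g = nn yp ym s * (nn yp ym t)⁻¹}

theorem nn_swap_id {Y F : Type*} [Group Y] [Field F] {xp xm yp ym : F → Y}
    (he : Edge3 xp xm yp ym) {t : F} (ht : t ≠ 0) : nn xp xm t = nn xm xp (-t⁻¹) := by
  obtain ⟨x, hx, h1, h2, -, -⟩ := he
  have e := RankTwoA2.n_ab hx (a := 0) (b := 1) (c := 2) (by decide) (by decide) (by decide) ht t
  have e1 : -(t⁻¹ * t * t⁻¹) = -t⁻¹ := by field_simp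
  rw [e1] at e
  unfold RankTwoA2.n at e
  rw [h1, h2] at e
  unfold nn
  have e2 : (-(-t⁻¹)⁻¹ : F) = t := by rw [inv_neg, neg_neg, inv_inv]
  rw [e2]
  rw [mul_inv_eq_iff_eq_mul] at e
  have e3 : xp t * xm (-t⁻¹) * xp t * xp t = xm (-t⁻¹) * xp t * xm (-t⁻¹) * xp t := by
    rw [e]; group
  exact mul_right_cancel e3

theorem nn_swap_id' {Y F : Type*} [Group Y] [Field F] {xp xm yp ym : F → Y}
    (he : Edge3 xp xm yp ym) (t : F) (ht : t ≠ 0) : nn yp ym t = nn ym yp (-t⁻¹) := by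
  obtain ⟨x, hx, -, -, h1, h2⟩ := he
  have e := RankTwoA2.n_ab hx (a := 1) (b := 2) (c := 0) (by decide) (by decide) (by decide) ht t
  have e1 : -(t⁻¹ * t * t⁻¹) = -t⁻¹ := by field_simp
  rw [e1] at e
  unfold RankTwoA2.n at e
  rw [h1, h2] at e
  unfold nn
  have e2 : (-(-t⁻¹)⁻¹ : F) = t := by rw [inv_neg, neg_neg, inv_inv]
  rw [e2]
  rw [mul_inv_eq_iff_eq_mul] at e
  have e3 : yp t * ym (-t⁻¹) * yp t * yp t = ym (-t⁻¹) * yp t * ym (-t⁻¹) * yp t := by
    rw [e]; group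
  exact mul_right_cancel e3

variable (iso : ∀ (a : A) x y, Δ.δ (a • x) (a • y) = Δ.δ x y) (hth : Δ.Thick)
  (hi : NodeAct Δ c i ci xp xm) (hj : NodeAct Δ c j cj yp ym)
  (he : Edge3 (pr xp xp') (pr xm xm') (pr yp yp') (pr ym ym'))

include iso hth he hi hj

/-- **The stabiliser of `c` for a simple bond**, generators. -/
theorem stab_gens {g : A × K} (hg : g ∈ Gam xp xm xp' xm' ⊔ Gam yp ym yp' ym')
    (hgc : g.1 • c = c) :
    g ∈ Subgroup.closure (edgeGens (pr xp xp') (pr xm xm') (pr yp yp') (pr ym ym')) := by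
  have n1 := nn_smul_left iso hth hi he
  have n2 := nn_smul_right iso hth hj he
  obtain ⟨x, hx, e1, e2, e3, e4⟩ := he
  set T : Subgroup (A × K) := (MulAction.stabilizer A c).comap (MonoidHom.fst A K) with hT
  have memT : ∀ g : A × K, g ∈ T ↔ g.1 • c = c := fun g => Iff.rfl
  have en : ∀ t, RankTwoA2.n x 0 1 t = nn (pr xp xp') (pr xm xm') t := by
    intro t; unfold RankTwoA2.n nn; rw [e1, e2]
  have en' : ∀ t, RankTwoA2.n x 1 2 t = nn (pr yp yp') (pr ym ym') t := by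
    intro t; unfold RankTwoA2.n nn; rw [e3, e4]
  have k1 : ∀ s t : F, s ≠ 0 → t ≠ 0 → RankTwoA2.n x 0 1 s * (RankTwoA2.n x 0 1 t)⁻¹ ∈ T := by
    intro s t hs ht
    rw [memT, en, en, Prod.fst_mul, Prod.fst_inv, mul_smul]
    have h6 : ∀ t, t ≠ 0 → (nn (pr xp xp') (pr xm xm') t).1⁻¹ • c = ci := by
      intro t ht
      have h7 := n1 (-t) (neg_ne_zero.2 ht)
      rw [← en, ← RankTwoA2.n_inv hx (by decide) t, en, Prod.fst_inv] at h7
      exact h7
    rw [h6 t ht, ← h6 s hs, smul_inv_smul]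
  have k2 : ∀ s t : F, s ≠ 0 → t ≠ 0 → RankTwoA2.n x 1 2 s * (RankTwoA2.n x 1 2 t)⁻¹ ∈ T := by
    intro s t hs ht
    rw [memT, en', en', Prod.fst_mul, Prod.fst_inv, mul_smul]
    have h6 : ∀ t, t ≠ 0 → (nn (pr yp yp') (pr ym ym') t).1⁻¹ • c = cj := by
      intro t ht
      have h7 := n2 (-t) (neg_ne_zero.2 ht)
      rw [← en', ← RankTwoA2.n_inv hx (by decide) t, en', Prod.fst_inv] at h7
      exact h7
    rw [h6 t ht, ← h6 s hs, smul_inv_smul]
  have hle1 : Gam xp xm xp' xm' ≤ Gam xp xm xp' xm' ⊔ Gam yp ym yp' ym' := le_sup_left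
  have hle2 : Gam yp ym yp' ym' ≤ Gam xp xm xp' xm' ⊔ Gam yp ym yp' ym' := le_sup_right
  have key : (Gam xp xm xp' xm' ⊔ Gam yp ym yp' ym') ⊓ T =
      Subgroup.closure (RankTwoA2.gensB x) := by
    apply RankTwoA2.stab_eq hx
    · refine le_trans inf_le_left (sup_le ?_ ?_)
      · refine (Subgroup.closure_le _).2 ?_
        rintro g (⟨t, rfl⟩ | ⟨t, rfl⟩)
        · exact Subgroup.subset_closure ⟨0, 1, t, by decide, (congrFun e1 t).symm⟩
        · exact Subgroup.subset_closure ⟨1, 0, t, by decide, (congrFun e2 t).symm⟩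
      · refine (Subgroup.closure_le _).2 ?_
        rintro g (⟨t, rfl⟩ | ⟨t, rfl⟩)
        · exact Subgroup.subset_closure ⟨1, 2, t, by decide, (congrFun e3 t).symm⟩
        · exact Subgroup.subset_closure ⟨2, 1, t, by decide, (congrFun e4 t).symm⟩
    · intro t
      refine ⟨?_, ?_⟩
      · rw [e1]; exact hle1 (Gam.pos t)
      · show x 0 1 t ∈ T
        rw [e1]; exact hi.fix t
    · intro t
      refine ⟨?_, ?_⟩
      · rw [e3]; exact hle2 (Gam.pos t)
      · show x 1 2 t ∈ T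
        rw [e3]; exact hj.fix t
    · intro s t hs ht
      refine ⟨?_, k1 s t hs ht⟩
      rw [en, en]
      exact hle1 (mul_mem (nn_mem s) (inv_mem (nn_mem t)))
    · intro s t hs ht
      refine ⟨?_, k2 s t hs ht⟩
      rw [en', en']
      exact hle2 (mul_mem (nn_mem s) (inv_mem (nn_mem t)))
    · intro h
      have h5 : (RankTwoA2.n x 0 1 1).1 • c = c := h.2
      rw [en, n1 1 one_ne_zero] at h5
      exact hi.ne h5
    · intro h
      have h5 : (RankTwoA2.n x 1 2 1).1 • c = c := h.2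
      rw [en', n2 1 one_ne_zero] at h5
      exact hj.ne h5
  have hg' : g ∈ Subgroup.closure (RankTwoA2.gensB x) := by
    rw [← key]; exact ⟨hg, hgc⟩
  refine Subgroup.closure_mono ?_ hg'
  rintro h ((⟨t, rfl⟩ | ⟨t, rfl⟩) | (⟨s, t, hs, ht, rfl⟩ | ⟨s, t, hs, ht, rfl⟩))
  · exact Or.inl ⟨t, congrFun e1 t⟩
  · exact Or.inr (Or.inl ⟨t, congrFun e3 t⟩)
  · exact Or.inr (Or.inr (Or.inl ⟨s, t, hs, ht, by rw [en, en]⟩))
  · exact Or.inr (Or.inr (Or.inr ⟨s, t, hs, ht, by rw [en', en']⟩))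

end Edge

/-- twin of `AssembleB2.conj_y` -/
theorem conj_z {Y F : Type*} [Group Y] [Field F]
    {x : Fin 3 → Fin 3 → F → Y} (hx : SteinRel x) {ν : Y} {B : Subgroup Y}
    (c12 : ∀ t, Commute (x 1 2 t) ν) (hz : ∀ t, ν * x 0 1 t * ν⁻¹ ∈ B) (hx12 : ∀ t, x 1 2 t ∈ B)
    {g : Y} (hgν : Commute g ν) (hg : g ∈ Subgroup.closure (Set.range (x 1 2) ∪ Set.range (x 2 1)))
    (t : F) : g⁻¹ * (ν * x 0 1 t * ν⁻¹) * g ∈ B := by
  set N : Subgroup Y := Subgroup.closure (Set.range (x 0 1) ∪ Set.range (x 0 2)) with hN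
  have a1 : ∀ t, x 0 1 t ∈ N := fun t => Subgroup.subset_closure (Or.inl ⟨t, rfl⟩)
  have a2 : ∀ t, x 0 2 t ∈ N := fun t => Subgroup.subset_closure (Or.inr ⟨t, rfl⟩)
  have gen_conj : ∀ {g : Y}, (∀ b, g * x 0 1 b * g⁻¹ ∈ N) → (∀ s, g * x 0 2 s * g⁻¹ ∈ N) →
      ∀ y ∈ N, g * y * g⁻¹ ∈ N := by
    intro g h1 h2 y hy
    have : N ≤ N.comap (MulAut.conj g).toMonoidHom := by
      conv_lhs => rw [hN]
      refine (Subgroup.closure_le _).2 ?_
      rintro _ (⟨b, rfl⟩ | ⟨s, rfl⟩)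
      · exact h1 b
      · exact h2 s
    exact this hy
  have n12 : ∀ t, x 1 2 t ∈ Subgroup.normalizer (N : Set Y) := by
    apply AssembleB2.mem_normalizer_of (fun t => hx.neg (by decide) t)
    intro t
    apply gen_conj
    · intro b
      have h1 := hx.br 0 1 2 (by decide) (by decide) (by decide) b t
      have h2 : x 1 2 t * x 0 1 b * (x 1 2 t)⁻¹ = (⁅x 0 1 b, x 1 2 t⁆)⁻¹ * x 0 1 b := by
        rw [commutatorElement_inv, commutatorElement_def]; group
      rw [h2, h1]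
      exact mul_mem (inv_mem (a2 _)) (a1 _)
    · intro s
      have h1 := hx.comm 1 2 0 2 (by decide) (by decide) (by decide) (by decide) t s
      rw [h1, mul_inv_cancel_right]
      exact a2 s
  have n21 : ∀ t, x 2 1 t ∈ Subgroup.normalizer (N : Set Y) := by
    apply AssembleB2.mem_normalizer_of (fun t => hx.neg (by decide) t)
    intro t
    apply gen_conj
    · intro s
      have h1 := hx.comm 2 1 0 1 (by decide) (by decide) (by decide) (by decide) t s
      rw [h1, mul_inv_cancel_right]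
      exact a1 s
    · intro b
      have h1 := hx.br 0 2 1 (by decide) (by decide) (by decide) b t
      have h2 : x 2 1 t * x 0 2 b * (x 2 1 t)⁻¹ = (⁅x 0 2 b, x 2 1 t⁆)⁻¹ * x 0 2 b := by
        rw [commutatorElement_inv, commutatorElement_def]; group
      rw [h2, h1]
      exact mul_mem (inv_mem (a1 _)) (a2 _)
  have hgn : g⁻¹ ∈ Subgroup.normalizer (N : Set Y) := by
    refine inv_mem ((Subgroup.closure_le _).2 ?_ hg)
    rintro _ (⟨t, rfl⟩ | ⟨t, rfl⟩)
    · exact n12 t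
    · exact n21 t
  have h1 : g⁻¹ * x 0 1 t * g⁻¹⁻¹ ∈ N := (Subgroup.mem_normalizer_iff.1 hgn _).1 (a1 t)
  rw [inv_inv] at h1
  have h2 : g⁻¹ * (ν * x 0 1 t * ν⁻¹) * g = ν * (g⁻¹ * x 0 1 t * g) * ν⁻¹ := by
    have e1 : g⁻¹ * ν = ν * g⁻¹ := (hgν.inv_left).eq
    have e2 : ν⁻¹ * g = g * ν⁻¹ := (hgν.inv_right).eq.symm
    calc g⁻¹ * (ν * x 0 1 t * ν⁻¹) * g = (g⁻¹ * ν) * x 0 1 t * (ν⁻¹ * g) := by group
      _ = (ν * g⁻¹) * x 0 1 t * (g * ν⁻¹) := by rw [e1, e2]
      _ = _ := by group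
  rw [h2]
  have h3 : N ≤ B.comap (MulAut.conj ν).toMonoidHom := by
    refine (Subgroup.closure_le _).2 ?_
    rintro _ (⟨s, rfl⟩ | ⟨s, rfl⟩)
    · exact hz s
    · have h4 := hx.br 0 1 2 (by decide) (by decide) (by decide) s 1
      rw [mul_one] at h4
      show ν * x 0 2 s * ν⁻¹ ∈ B
      have h5 : ν * x 1 2 1 * ν⁻¹ = x 1 2 1 := by
        rw [← (c12 1).eq, mul_inv_cancel_right]
      have h6 : ν * x 0 2 s * ν⁻¹ = ⁅ν * x 0 1 s * ν⁻¹, x 1 2 1⁆ := by
        have h7 : ⁅ν * x 0 1 s * ν⁻¹, x 1 2 1⁆ = ⁅ν * x 0 1 s * ν⁻¹, ν * x 1 2 1 * ν⁻¹⁆ := by rw [h5]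
        rw [h7, ← h4]
        simp only [commutatorElement_def]
        group
      rw [h6, commutatorElement_def]
      exact mul_mem (mul_mem (mul_mem (hz s) (hx12 1)) (inv_mem (hz s))) (inv_mem (hx12 1))
  exact h3 h1

/-! ### The package in the product -/

section Main

variable {M : CoxeterMatrix (Fin 4)} {W : Type*} [Group W] {cs : CoxeterSystem M W}
variable {C A K : Type*} [Group A] [Group K] [MulAction A C]
variable {F : Type*} [Field F] {V : Type*} [AddCommGroup V] [Module F V] {D : PQDatum F V}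
variable {E : Type*} [Field E] {τ τ' : E → D.T}

/-- the product package -/
def prodFF (G : FF A D τ τ') (k : FF K D τ τ') : FF (A × K) D τ τ' where
  x0 := pr G.x0 k.x0
  y0 := pr G.y0 k.y0
  x1 := pr G.x1 k.x1
  y1 := pr G.y1 k.y1
  x2 := pr G.x2 k.x2
  y2 := pr G.y2 k.y2
  x3 := pr G.x3 k.x3
  y3 := pr G.y3 k.y3
  b2 := G.b2.prod k.b2
  rel := G.rel.prod k.rel
  e01 := G.e01.prod k.e01
  e23 := G.e23.prod k.e23
  hx := funext fun t => Prod.ext (congrFun G.hx t) (congrFun k.hx t)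
  hx' := funext fun t => Prod.ext (congrFun G.hx' t) (congrFun k.hx' t)
  hz t := Prod.ext (G.hz t) (k.hz t)
  hz' t := Prod.ext (G.hz' t) (k.hz' t)
  c02 := G.c02.prod k.c02
  c03 := G.c03.prod k.c03
  c13 := G.c13.prod k.c13

/-- the rank one subgroups of the product -/
def Gm (G : FF A D τ τ') (k : FF K D τ τ') : Fin 4 → Subgroup (A × K)
  | 0 => Gam G.x0 G.y0 k.x0 k.y0
  | 1 => Gam G.x1 G.y1 k.x1 k.y1
  | 2 => Gam G.x2 G.y2 k.x2 k.y2
  | 3 => Gam G.x3 G.y3 k.x3 k.y3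

/-- All hypotheses of the assembly. -/
structure Setup (Δ : Bldg cs C) (G : FF A D τ τ') (k : FF K D τ τ') (c : C) (ci : Fin 4 → C) :
    Prop where
  iso : ∀ (a : A) x y, Δ.δ (a • x) (a • y) = Δ.δ x y
  hth : Δ.Thick
  a0 : NodeAct Δ c 0 (ci 0) G.x0 G.y0
  a1 : NodeAct Δ c 1 (ci 1) G.x1 G.y1
  a2 : NodeAct Δ c 2 (ci 2) G.x2 G.y2
  a3 : NodeAct Δ c 3 (ci 3) G.x3 G.y3
  y_fix : ∀ b, G.b2.y b • c = c
  hτ : Function.Surjective τ
  hτ' : Function.Surjective τ'

namespace Setup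

variable {Δ : Bldg cs C} {G : FF A D τ τ'} {k : FF K D τ τ'} {c : C} {ci : Fin 4 → C}
variable (H : Setup Δ G k c ci)

/-- the stabiliser of `c` -/
def T (c : C) : Subgroup (A × K) := (MulAction.stabilizer A c).comap (MonoidHom.fst A K)

theorem mem_T {g : A × K} : g ∈ (T c : Subgroup (A × K)) ↔ g.1 • c = c := Iff.rfl

include H

theorem pan : ∀ i, ∀ g ∈ Gm G k i, g.1 • c ∈ Δ.Pan i c := by
  intro i
  fin_cases i
  · exact pan_Gam H.iso H.a0 _ _
  · exact pan_Gam H.iso H.a1 _ _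
  · exact pan_Gam H.iso H.a2 _ _
  · exact pan_Gam H.iso H.a3 _ _

theorem n0 (t : F) (ht : t ≠ 0) : (nn (prodFF G k).x0 (prodFF G k).y0 t).1 • c = ci 0 :=
  nn_smul_left H.iso H.hth H.a0 (prodFF G k).e01 t ht

theorem n1 (t : F) (ht : t ≠ 0) : (nn (prodFF G k).x1 (prodFF G k).y1 t).1 • c = ci 1 :=
  nn_smul_right H.iso H.hth H.a1 (prodFF G k).e01 t ht

theorem n2 (t : E) (ht : t ≠ 0) : (nn (prodFF G k).x2 (prodFF G k).y2 t).1 • c = ci 2 :=
  nn_smul_left H.iso H.hth H.a2 (prodFF G k).e23 t ht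

theorem n3 (t : E) (ht : t ≠ 0) : (nn (prodFF G k).x3 (prodFF G k).y3 t).1 • c = ci 3 :=
  nn_smul_right H.iso H.hth H.a3 (prodFF G k).e23 t ht

theorem trans : ∀ i, ∀ y ∈ Δ.Pan i c, ∃ g ∈ Gm G k i, g.1 • c = y := by
  intro i
  fin_cases i
  · exact trans_Gam H.a0 _ _ (nn_mem 1) (H.n0 1 one_ne_zero)
  · exact trans_Gam H.a1 _ _ (nn_mem 1) (H.n1 1 one_ne_zero)
  · exact trans_Gam H.a2 _ _ (nn_mem 1) (H.n2 1 one_ne_zero)
  · exact trans_Gam H.a3 _ _ (nn_mem 1) (H.n3 1 one_ne_zero)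

/-- The package at the node 2. -/
theorem az : NodeAct Δ c 2 (ci 2) G.b2.z₂ G.b2.z₂' where
  mem := H.a2.mem
  ne := H.a2.ne
  fix p := by
    obtain ⟨t, rfl⟩ := H.hτ p
    rw [G.hz]; exact H.a2.fix t
  fix' p := by
    obtain ⟨t, rfl⟩ := H.hτ' p
    rw [G.hz']; exact H.a2.fix' t
  trans y hy hne := by
    obtain ⟨t, ht⟩ := H.a2.trans y hy hne
    exact ⟨τ t, by rw [G.hz]; exact ht⟩
  trans' y hy hne := by
    obtain ⟨t, ht⟩ := H.a2.trans' y hy hne
    exact ⟨τ' t, by rw [G.hz']; exact ht⟩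

theorem z₂_mem (p : D.T) : (prodFF G k).b2.z₂ p ∈ Gm G k 2 := by
  obtain ⟨t, rfl⟩ := H.hτ p
  rw [(prodFF G k).hz]
  exact Gam.pos t

theorem z₂'_mem (p : D.T) : (prodFF G k).b2.z₂' p ∈ Gm G k 2 := by
  obtain ⟨t, rfl⟩ := H.hτ' p
  rw [(prodFF G k).hz']
  exact Gam.neg t

omit H in
theorem x_mem (a : F) : (prodFF G k).b2.x a ∈ Gm G k 1 := by
  rw [(prodFF G k).hx]
  exact Gam.pos a

omit H in
theorem x'_mem (a : F) : (prodFF G k).b2.x' a ∈ Gm G k 1 := by
  rw [(prodFF G k).hx']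
  exact Gam.neg a

theorem nII_mem (p : D.T) : (prodFF G k).b2.nII p ∈ Gm G k 2 :=
  mul_mem (mul_mem (H.z₂'_mem _) (H.z₂_mem _)) (H.z₂'_mem _)

theorem nII_smul {p : D.T} (hp : p.c ≠ 0) : ((prodFF G k).b2.nII p).1 • c = ci 2 := by
  apply swap_smul H.hth H.az (H.pan 2 _ (H.nII_mem p))
  intro r
  have h1 := G.rel.nII_z₂' p⁻¹ (inv_c_ne hp) r
  rw [← nII_inv G.rel, inv_inv] at h1
  refine ⟨D.sc (D.ε⁻¹ * p⁻¹.c) (D.refl p⁻¹ (inv_c_ne hp) r), ?_⟩
  rw [← h1]
  show G.b2.nII p * ((G.b2.nII p)⁻¹ * G.b2.z₂' r * G.b2.nII p) * (G.b2.nII p)⁻¹ = _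
  group

theorem nII_inv_smul {p : D.T} (hp : p.c ≠ 0) : ((prodFF G k).b2.nII p)⁻¹.1 • c = ci 2 := by
  rw [nII_inv (prodFF G k).rel]
  exact H.nII_smul (inv_c_ne hp)

theorem nII_ci {p : D.T} (hp : p.c ≠ 0) : ((prodFF G k).b2.nII p).1 • ci 2 = c := by
  rw [← H.nII_inv_smul hp, Prod.fst_inv, smul_inv_smul]

theorem z₂_free {p : D.T} (h : ((prodFF G k).b2.z₂ p).1 • ci 2 = ci 2) : p = 1 := by
  by_contra hp1
  have hp : p.c ≠ 0 := fun h0 => hp1 (PQDatum.T.c_eq_zero_iff.1 h0)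
  have h1 := H.nII_ci hp
  have h2 : ((prodFF G k).b2.nII p).1 • ci 2 = ci 2 := by
    show (G.b2.z₂' _ * G.b2.z₂ p * G.b2.z₂' _) • ci 2 = ci 2
    rw [mul_smul, mul_smul, H.az.fix']
    have h3 : G.b2.z₂ p • ci 2 = ci 2 := h
    rw [h3, H.az.fix']
  exact H.a2.ne (h2.symm.trans h1)

theorem z₂'_free {q : D.T} (h : ((prodFF G k).b2.z₂' q).1 • c = c) : q = 1 := by
  by_contra hq1
  have hq : q.c ≠ 0 := fun h0 => hq1 (PQDatum.T.c_eq_zero_iff.1 h0)
  have h1 := (prodFF G k).rel.nII_z₂' q hq q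
  have h2 : (((prodFF G k).b2.nII q * (prodFF G k).b2.z₂' q * ((prodFF G k).b2.nII q)⁻¹)).1 • ci 2 =
      ci 2 := by
    have h3 : ((prodFF G k).b2.nII q)⁻¹.1 • ci 2 = c := by
      rw [Prod.fst_inv, inv_smul_eq_iff, H.nII_smul hq]
    rw [Prod.fst_mul, Prod.fst_mul, mul_smul, mul_smul, h3, h, H.nII_smul hq]
  rw [h1] at h2
  have h4 := H.z₂_free h2
  have h5 : (D.sc (D.ε⁻¹ * q.c) (D.refl q hq q)).c = 0 := by rw [h4]; rfl
  rw [PQDatum.sc_c, PQDatum.refl_c] at h5
  have h6 : D.ε⁻¹ * q.c ≠ 0 := mul_ne_zero (inv_ne_zero D.ε_ne) hq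
  exact mul_ne_zero (mul_ne_zero h6 (by simpa using h6)) hq h5

theorem n2_ci {t : E} (ht : t ≠ 0) : (nn (prodFF G k).x2 (prodFF G k).y2 t).1 • ci 2 = c := by
  have h1 : (nn (prodFF G k).x2 (prodFF G k).y2 t)⁻¹ = nn (prodFF G k).x2 (prodFF G k).y2 (-t) := by
    obtain ⟨x, hx, e1, e2, -, -⟩ := (prodFF G k).e23
    have e := RankTwoA2.n_inv hx (a := 0) (b := 1) (by decide) t
    unfold RankTwoA2.n at e
    rw [e1, e2] at e
    exact e
  have h2 := H.n2 (-t) (neg_ne_zero.2 ht)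
  rw [← h1, Prod.fst_inv, inv_smul_eq_iff] at h2
  exact h2.symm

/-- `n₂(t)` in terms of `z₂`, `z₂'`. -/
theorem n2_eq' {t : E} (ht : t ≠ 0) : nn (prodFF G k).x2 (prodFF G k).y2 t =
    (prodFF G k).b2.z₂' (τ' (-t⁻¹)) * (prodFF G k).b2.z₂ (τ t) * (prodFF G k).b2.z₂' (τ' (-t⁻¹)) := by
  rw [nn_swap_id (prodFF G k).e23 ht, (prodFF G k).hz, (prodFF G k).hz']
  unfold nn
  rw [inv_neg, neg_neg, inv_inv]

theorem τ_ne {t : E} (ht : t ≠ 0) : (τ t).c ≠ 0 := by
  intro h0
  have h1 : τ t = 1 := PQDatum.T.c_eq_zero_iff.1 h0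
  have h2 := H.n2 t ht
  rw [H.n2_eq' ht, h1, z₂_one (prodFF G k).rel, mul_one, Prod.fst_mul, mul_smul] at h2
  have h3 : ∀ p, ((prodFF G k).b2.z₂' p).1 • ci 2 = ci 2 := fun p => H.az.fix' p
  have h4 : ((prodFF G k).b2.z₂' (τ' (-t⁻¹))).1 • c = ci 2 := by
    have := smul_left_cancel _ (h2.trans (h3 (τ' (-t⁻¹))).symm)
    exact this
  have h5 := smul_left_cancel _ (h4.trans (h3 (τ' (-t⁻¹))).symm)
  exact H.a2.ne h5.symm

/-- `n₂(t) = n_II(τ t)` -/
theorem n2_eq {t : E} (ht : t ≠ 0) :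
    nn (prodFF G k).x2 (prodFF G k).y2 t = (prodFF G k).b2.nII (τ t) := by
  have hc := H.τ_ne ht
  have h3 : ∀ p, ((prodFF G k).b2.z₂' p).1 • ci 2 = ci 2 := fun p => H.az.fix' p
  set m := (prodFF G k).b2 with hm
  have hrel : B2Rel m := (prodFF G k).rel
  set q := τ' (-t⁻¹) with hq
  set a := D.sc (-(D.σ (τ t).c)⁻¹) (τ t) with ha
  set b := D.sc (-(D.ε * (τ t).c⁻¹)) (τ t) with hb
  have e1 : nn (prodFF G k).x2 (prodFF G k).y2 t = m.z₂' q * m.z₂ (τ t) * m.z₂' q := H.n2_eq' ht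
  have e2 : m.nII (τ t) = m.z₂' a * m.z₂ (τ t) * m.z₂' b := rfl
  -- images of `ci 2`
  have f1 : (m.z₂' q).1 • (m.z₂ (τ t)).1 • ci 2 = c := by
    have := H.n2_ci ht
    rwa [e1, Prod.fst_mul, Prod.fst_mul, mul_smul, mul_smul, h3] at this
  have f2 : (m.z₂' a).1 • (m.z₂ (τ t)).1 • ci 2 = c := by
    have := H.nII_ci hc
    rwa [← hm, e2, Prod.fst_mul, Prod.fst_mul, mul_smul, mul_smul, h3] at this
  have g1 : a = q := by
    have : a * q⁻¹ = 1 := by
      apply H.z₂'_free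
      rw [← hm, hrel.z₂'_mul, z₂'_inv hrel, Prod.fst_mul, Prod.fst_inv, mul_smul]
      have f5 : (m.z₂' q).1⁻¹ • c = (m.z₂ (τ t)).1 • ci 2 := by rw [inv_smul_eq_iff, f1]
      rw [f5, f2]
    exact mul_inv_eq_one.1 this
  -- images of `c`
  have f3 : (m.z₂ (τ t)).1 • (m.z₂' q).1 • c = ci 2 := by
    have := H.n2 t ht
    rw [e1, Prod.fst_mul, Prod.fst_mul, mul_smul, mul_smul] at this
    exact smul_left_cancel _ (this.trans (h3 q).symm)
  have f4 : (m.z₂ (τ t)).1 • (m.z₂' b).1 • c = ci 2 := by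
    have := H.nII_smul hc
    rw [← hm, e2, Prod.fst_mul, Prod.fst_mul, mul_smul, mul_smul] at this
    exact smul_left_cancel _ (this.trans (h3 a).symm)
  have g2 : b = q := by
    have : q⁻¹ * b = 1 := by
      apply H.z₂'_free
      rw [← hm, hrel.z₂'_mul, z₂'_inv hrel, Prod.fst_mul, Prod.fst_inv, mul_smul, inv_smul_eq_iff]
      exact smul_left_cancel _ (f4.trans f3.symm)
    exact (inv_mul_eq_one.1 this).symm
  rw [e1, e2, g1, g2]

/-- There is an element of norm `≠ 0`. -/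
theorem exists_c : ∃ r : D.T, r.c ≠ 0 := ⟨τ 1, H.τ_ne one_ne_zero⟩

theorem nir : NIRel (prodFF G k).b2 := B2NI.nirel (prodFF G k).rel (H.τ_ne one_ne_zero)

/-! ### Rank two stabilisers -/

theorem y_mem (b : F) : (prodFF G k).b2.y b ∈ Gm G k 1 ⊔ Gm G k 2 := by
  obtain ⟨r, hr⟩ := H.exists_c
  have h1 := (prodFF G k).rel.nII_x r hr ((D.ε * D.σ r.c)⁻¹ * b)
  have h2 : D.ε * D.σ r.c ≠ 0 := mul_ne_zero D.ε_ne (by simpa using hr)
  rw [mul_inv_cancel_left₀ h2] at h1
  rw [← h1]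
  exact mul_mem (mul_mem (Subgroup.mem_sup_right (H.nII_mem r)) (Subgroup.mem_sup_left (x_mem _)))
    (inv_mem (Subgroup.mem_sup_right (H.nII_mem r)))

theorem nt_inv_smul {t : F} (ht : t ≠ 0) : (nt (prodFF G k).b2 t)⁻¹.1 • c = ci 1 := by
  rw [← nt_neg (prodFF G k).rel]
  have := H.n1 (-t) (neg_ne_zero.2 ht)
  rw [nt, (prodFF G k).hx, (prodFF G k).hx']
  exact this

theorem nt_smul {t : F} (ht : t ≠ 0) : (nt (prodFF G k).b2 t).1 • c = ci 1 := by
  have := H.n1 t ht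
  rw [nt, (prodFF G k).hx, (prodFF G k).hx']
  exact this

omit H in
theorem nt_mem (t : F) : nt (prodFF G k).b2 t ∈ Gm G k 1 := by
  rw [nt, (prodFF G k).hx, (prodFF G k).hx']
  exact nn_mem t

theorem S_x (a : F) : (prodFF G k).b2.x a ∈ (Gm G k 1 ⊔ Gm G k 2) ⊓ T c := by
  refine ⟨Subgroup.mem_sup_left (x_mem _), ?_⟩
  show ((prodFF G k).b2.x a).1 • c = c
  rw [(prodFF G k).hx]
  exact H.a1.fix a

theorem S_z (p : D.T) : (prodFF G k).b2.z₂ p ∈ (Gm G k 1 ⊔ Gm G k 2) ⊓ T c :=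
  ⟨Subgroup.mem_sup_right (H.z₂_mem _), H.az.fix p⟩

theorem S_y (b : F) : (prodFF G k).b2.y b ∈ (Gm G k 1 ⊔ Gm G k 2) ⊓ T c :=
  ⟨H.y_mem b, H.y_fix b⟩

theorem S_z₁ (p : D.T) : (prodFF G k).b2.z₁ p ∈ (Gm G k 1 ⊔ Gm G k 2) ⊓ T c :=
  z₁_mem (prodFF G k).rel H.S_x H.S_z H.S_y p

theorem hI_T {s t : F} (hs : s ≠ 0) (ht : t ≠ 0) :
    (nt (prodFF G k).b2 s * (nt (prodFF G k).b2 t)⁻¹).1 • c = c := by
  rw [Prod.fst_mul, mul_smul, H.nt_inv_smul ht, ← H.nt_inv_smul hs, Prod.fst_inv, smul_inv_smul]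

theorem hII_T {p q : D.T} (hp : p.c ≠ 0) (hq : q.c ≠ 0) :
    ((prodFF G k).b2.nII p * ((prodFF G k).b2.nII q)⁻¹).1 • c = c := by
  rw [Prod.fst_mul, mul_smul, H.nII_inv_smul hq, ← H.nII_inv_smul hp, Prod.fst_inv, smul_inv_smul]

theorem S_hI {s t : F} (hs : s ≠ 0) (ht : t ≠ 0) :
    nt (prodFF G k).b2 s * (nt (prodFF G k).b2 t)⁻¹ ∈ (Gm G k 1 ⊔ Gm G k 2) ⊓ T c :=
  ⟨Subgroup.mem_sup_left (mul_mem (nt_mem s) (inv_mem (nt_mem t))), H.hI_T hs ht⟩

theorem S_hII {p q : D.T} (hp : p.c ≠ 0) (hq : q.c ≠ 0) :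
    (prodFF G k).b2.nII p * ((prodFF G k).b2.nII q)⁻¹ ∈ (Gm G k 1 ⊔ Gm G k 2) ⊓ T c :=
  ⟨Subgroup.mem_sup_right (mul_mem (H.nII_mem p) (inv_mem (H.nII_mem q))), H.hII_T hp hq⟩

theorem Hg_le : Hg (prodFF G k).b2 ≤ (Gm G k 1 ⊔ Gm G k 2) ⊓ T c := by
  rw [Hg, Subgroup.closure_le]
  rintro g (⟨s, t, hs, ht, rfl⟩ | ⟨p, q, hp, hq, rfl⟩)
  · exact H.S_hI hs ht
  · exact H.S_hII hp hq

/-- **The stabiliser of `c` for the double bond.** -/
theorem stab12 {g : A × K} (hg : g ∈ Gm G k 1 ⊔ Gm G k 2) (hgc : g.1 • c = c) :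
    g ∈ Subgroup.closure (stabSet (prodFF G k).b2) := by
  have h1 := b2_stab (prodFF G k).rel H.nir ((Gm G k 1 ⊔ Gm G k 2) ⊓ T c) ?_ H.S_x H.S_z H.S_y
    (fun s t hs ht => H.S_hI hs ht) (fun p q hp hq => H.S_hII hp hq) ?_ ?_ H.exists_c
  · exact h1 ⟨hg, hgc⟩
  · refine inf_le_left.trans (sup_le ?_ ?_)
    · refine (Subgroup.closure_le _).2 ?_
      rintro _ (⟨t, rfl⟩ | ⟨t, rfl⟩)
      · refine Subgroup.subset_closure (Or.inl ⟨t, Or.inl ?_⟩)
        rw [(prodFF G k).hx]; rfl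
      · refine Subgroup.subset_closure (Or.inl ⟨t, Or.inr ?_⟩)
        rw [(prodFF G k).hx']; rfl
    · refine (Subgroup.closure_le _).2 ?_
      rintro _ (⟨t, rfl⟩ | ⟨t, rfl⟩)
      · exact Subgroup.subset_closure (Or.inr ⟨τ t, Or.inl ((prodFF G k).hz t).symm⟩)
      · exact Subgroup.subset_closure (Or.inr ⟨τ' t, Or.inr ((prodFF G k).hz' t).symm⟩)
  · intro h
    have h2 : (nt (prodFF G k).b2 1).1 • c = c := h.2
    rw [H.nt_smul one_ne_zero] at h2
    exact H.a1.ne h2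
  · intro p hp h
    have h2 : ((prodFF G k).b2.nII p).1 • c = c := h.2
    rw [H.nII_smul hp] at h2
    exact H.a2.ne h2

theorem stab01 {g : A × K} (hg : g ∈ Gm G k 0 ⊔ Gm G k 1) (hgc : g.1 • c = c) :
    g ∈ Subgroup.closure (edgeGens (prodFF G k).x0 (prodFF G k).y0 (prodFF G k).x1
      (prodFF G k).y1) :=
  stab_gens H.iso H.hth H.a0 H.a1 (prodFF G k).e01 hg hgc

theorem stab23 {g : A × K} (hg : g ∈ Gm G k 2 ⊔ Gm G k 3) (hgc : g.1 • c = c) :
    g ∈ Subgroup.closure (edgeGens (prodFF G k).x2 (prodFF G k).y2 (prodFF G k).x3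
      (prodFF G k).y3) :=
  stab_gens H.iso H.hth H.a2 H.a3 (prodFF G k).e23 hg hgc

theorem n0_T {s t : F} (hs : s ≠ 0) (ht : t ≠ 0) :
    (nn (prodFF G k).x0 (prodFF G k).y0 s * (nn (prodFF G k).x0 (prodFF G k).y0 t)⁻¹).1 • c = c := by
  have hinv : ∀ t : F, (nn (prodFF G k).x0 (prodFF G k).y0 t)⁻¹ =
      nn (prodFF G k).x0 (prodFF G k).y0 (-t) := by
    intro t
    obtain ⟨x, hx, e1, e2, -, -⟩ := (prodFF G k).e01
    have e := RankTwoA2.n_inv hx (a := 0) (b := 1) (by decide) t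
    unfold RankTwoA2.n at e
    rw [e1, e2] at e
    exact e
  have h1 : ∀ t : F, t ≠ 0 → (nn (prodFF G k).x0 (prodFF G k).y0 t)⁻¹.1 • c = ci 0 := by
    intro t ht
    rw [hinv]
    exact H.n0 _ (neg_ne_zero.2 ht)
  rw [Prod.fst_mul, mul_smul, h1 t ht, ← h1 s hs, Prod.fst_inv, smul_inv_smul]

theorem n3_T {s t : E} (hs : s ≠ 0) (ht : t ≠ 0) :
    (nn (prodFF G k).x3 (prodFF G k).y3 s * (nn (prodFF G k).x3 (prodFF G k).y3 t)⁻¹).1 • c = c := by
  have hinv : ∀ t : E, (nn (prodFF G k).x3 (prodFF G k).y3 t)⁻¹ =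
      nn (prodFF G k).x3 (prodFF G k).y3 (-t) := by
    intro t
    obtain ⟨x, hx, -, -, e1, e2⟩ := (prodFF G k).e23
    have e := RankTwoA2.n_inv hx (a := 1) (b := 2) (by decide) t
    unfold RankTwoA2.n at e
    rw [e1, e2] at e
    exact e
  have h1 : ∀ t : E, t ≠ 0 → (nn (prodFF G k).x3 (prodFF G k).y3 t)⁻¹.1 • c = ci 3 := by
    intro t ht
    rw [hinv]
    exact H.n3 _ (neg_ne_zero.2 ht)
  rw [Prod.fst_mul, mul_smul, h1 t ht, ← h1 s hs, Prod.fst_inv, smul_inv_smul]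

/-! ### `GenP` for `y b` -/

omit H in
theorem comm02 : ∀ x ∈ Gm G k 0, ∀ y ∈ Gm G k 2, x * y = y * x :=
  AssembleCN.comm_of_Comm4 G.c02 k.c02

omit H in
theorem comm03 : ∀ x ∈ Gm G k 0, ∀ y ∈ Gm G k 3, x * y = y * x :=
  AssembleCN.comm_of_Comm4 G.c03 k.c03

omit H in
theorem comm13 : ∀ x ∈ Gm G k 1, ∀ y ∈ Gm G k 3, x * y = y * x :=
  AssembleCN.comm_of_Comm4 G.c13 k.c13

omit H in
theorem mem_Bt {i j : Fin 4} {g : A × K} (hg : g ∈ Gm G k i ⊔ Gm G k j) (hgc : g.1 • c = c) :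
    g ∈ GUProd.Bt (Gm G k) c :=
  Subgroup.subset_closure ⟨i, j, hg, hgc⟩

theorem gen_y0 (b : F) : GenAt (Gm G k) c 0 ((prodFF G k).b2.y b) := by
  intro h hh
  obtain ⟨x, hx, e01, e10, e12, -⟩ := (prodFF G k).e01
  obtain ⟨r, hr⟩ := H.exists_c
  refine ⟨h, hh, ?_⟩
  refine AssembleB2.conj_y (m := (prodFF G k).b2) (prodFF G k).rel hx ?_ r hr ?_ ?_ ?_ ?_ ?_ b
  · rw [e12, (prodFF G k).hx]
  · intro t
    rw [e01]
    exact comm02 _ (Gam.pos t) _ (H.nII_mem r)
  · intro t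
    rw [e10]
    exact comm02 _ (Gam.neg t) _ (H.nII_mem r)
  · intro b
    exact mem_Bt (H.y_mem b) (H.y_fix b)
  · intro t
    refine mem_Bt (i := 0) (j := 0) (Subgroup.mem_sup_left ?_) ?_
    · rw [e01]; exact Gam.pos t
    · rw [e01]; exact H.a0.fix t
  · rw [e01, e10]; exact hh

theorem gen_z₁3 (p : D.T) : GenAt (Gm G k) c 3 ((prodFF G k).b2.z₁ p) := by
  intro h hh
  obtain ⟨x, hx, e01, -, e12, e21⟩ := (prodFF G k).e23
  refine ⟨h, hh, ?_⟩
  obtain ⟨t, rfl⟩ := H.hτ p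
  have hν : ∀ q, (prodFF G k).b2.z₁ q =
      (prodFF G k).b2.nI * (prodFF G k).b2.z₂ q * ((prodFF G k).b2.nI)⁻¹ := fun q =>
    ((prodFF G k).rel.nI_z₂ q).symm
  have hνm : (prodFF G k).b2.nI ∈ Gm G k 1 := by
    rw [← nt_one]; exact nt_mem 1
  have e : ∀ t, (prodFF G k).b2.z₁ (τ t) =
      (prodFF G k).b2.nI * x 0 1 t * ((prodFF G k).b2.nI)⁻¹ := by
    intro t
    rw [hν, (prodFF G k).hz, e01]
  rw [e]
  refine conj_z hx ?_ ?_ ?_ ?_ ?_ t
  · intro s
    rw [e12]
    exact (comm13 _ hνm _ (Gam.pos s)).symm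
  · intro s
    rw [← e]
    exact mem_Bt (H.S_z₁ _).1 (H.S_z₁ _).2
  · intro s
    rw [e12]
    exact mem_Bt (i := 3) (j := 3) (Subgroup.mem_sup_left (Gam.pos s)) (H.a3.fix s)
  · exact (comm13 _ hνm _ hh).symm
  · rw [e12, e21]; exact hh

theorem gen_y3 (b : F) : GenAt (Gm G k) c 3 ((prodFF G k).b2.y b) := by
  obtain ⟨r, hr⟩ := H.exists_c
  set m := (prodFF G k).b2 with hm
  have hrel : B2Rel m := (prodFF G k).rel
  have hσ : D.σ r.c ≠ 0 := by simpa using hr
  have hε := D.ε_ne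
  set a := -((D.ε * D.σ r.c)⁻¹ * b) with ha
  have h1 := hrel.x_z₂ a r
  have h2 : -(D.ε * a * D.σ r.c) = b := by
    rw [ha]; field_simp
  rw [h2] at h1
  have h3 : m.y b = (m.z₁ (D.sc a r))⁻¹ * (m.x a * m.z₂ r * (m.x a)⁻¹ * (m.z₂ r)⁻¹) := by
    rw [← commutatorElement_def, h1]; group
  rw [h3]
  have gx : GenAt (Gm G k) c 3 (m.x a) :=
    genAt_of_commute (mem_Bt (H.S_x a).1 (H.S_x a).2) (comm13 _ (x_mem a))
  have gz : GenAt (Gm G k) c 3 (m.z₂ r) := by
    intro h hh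
    exact genP_self H.iso H.pan H.trans (i := 2) (j := 3) (Subgroup.mem_sup_left (H.z₂_mem r))
      (H.S_z r).2 (Or.inr rfl) hh
  have gz₁ := (H.gen_z₁3 (D.sc a r)).inv H.iso H.pan H.trans (H.S_z₁ _).2
  exact gz₁.mul (((gx.mul gz).mul (gx.inv H.iso H.pan H.trans (H.S_x a).2)).mul
    (gz.inv H.iso H.pan H.trans (H.S_z r).2))

theorem genP_y (b : F) : GenP (Gm G k) c ((prodFF G k).b2.y b) := by
  intro i
  fin_cases i
  · exact H.gen_y0 b
  · intro h hh
    exact genP_self H.iso H.pan H.trans (H.y_mem b) (H.y_fix b) (Or.inl rfl) hh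
  · intro h hh
    exact genP_self H.iso H.pan H.trans (H.y_mem b) (H.y_fix b) (Or.inr rfl) hh
  · exact H.gen_y3 b

end Setup

/-- The memberships on the `K` side. -/
structure Mem (k : FF K D τ τ') (Bor : Subgroup K) : Prop where
  x0_mem : ∀ t, k.x0 t ∈ Bor
  x1_mem : ∀ t, k.x1 t ∈ Bor
  x2_mem : ∀ t, k.x2 t ∈ Bor
  x3_mem : ∀ t, k.x3 t ∈ Bor
  y_mem : ∀ t, k.b2.y t ∈ Bor
  hh0_mem : ∀ t, t ≠ 0 → hh k.x0 k.y0 t ∈ Bor
  hh1_mem : ∀ t, t ≠ 0 → hh k.x1 k.y1 t ∈ Bor
  hh3_mem : ∀ t, t ≠ 0 → hh k.x3 k.y3 t ∈ Bor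
  nII_mem : ∀ p q, p.c ≠ 0 → q.c ≠ 0 → k.b2.nII p * (k.b2.nII q)⁻¹ ∈ Bor

namespace Setup

variable {Δ : Bldg cs C} {G : FF A D τ τ'} {k : FF K D τ τ'} {c : C} {ci : Fin 4 → C}
variable (H : Setup Δ G k c ci)

include H

theorem s01 {Bor : Subgroup K} (hk : Mem k Bor) {g : A × K} (hg : g ∈ Gm G k 0 ⊔ Gm G k 1)
    (hgc : g.1 • c = c) : g.2 ∈ Bor ∧ g ∈ Subgroup.closure
      {h : A × K | (h ∈ Gm G k 0 ∨ h ∈ Gm G k 1) ∧ h.1 • c = c} :=
  AssembleEdge.stab H.iso H.hth H.a0 H.a1 (prodFF G k).e01 hk.x0_mem hk.x1_mem hk.hh0_mem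
    hk.hh1_mem hg hgc

theorem s23 {Bor : Subgroup K} (hk : Mem k Bor) {g : A × K} (hg : g ∈ Gm G k 2 ⊔ Gm G k 3)
    (hgc : g.1 • c = c) : g.2 ∈ Bor ∧ g ∈ Subgroup.closure
      {h : A × K | (h ∈ Gm G k 2 ∨ h ∈ Gm G k 3) ∧ h.1 • c = c} := by
  refine AssembleEdge.stab H.iso H.hth H.a2 H.a3 (prodFF G k).e23 hk.x2_mem hk.x3_mem ?_
    hk.hh3_mem hg hgc
  intro t ht
  have h1 : ∀ t : E, t ≠ 0 → nn k.x2 k.y2 t = k.b2.nII (τ t) := fun t ht =>
    congrArg Prod.snd (H.n2_eq ht)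
  unfold hh
  rw [h1 t ht, h1 1 one_ne_zero]
  exact hk.nII_mem _ _ (H.τ_ne ht) (H.τ_ne one_ne_zero)

theorem s12 {Bor : Subgroup K} (hk : Mem k Bor) {g : A × K} (hg : g ∈ Gm G k 1 ⊔ Gm G k 2)
    (hgc : g.1 • c = c) : g.2 ∈ Bor ∧ g ∈ Subgroup.closure
      ({h : A × K | (h ∈ Gm G k 1 ∨ h ∈ Gm G k 2) ∧ h.1 • c = c} ∪
        Set.range (prodFF G k).b2.y) := by
  have h0 := H.stab12 hg hgc
  constructor
  · have h5 : Subgroup.closure (stabSet (prodFF G k).b2) ≤ Bor.comap (MonoidHom.snd A K) := by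
      refine (Subgroup.closure_le _).2 ?_
      rintro h' ((⟨t, rfl⟩ | ⟨t, rfl⟩ | ⟨t, rfl⟩) | (⟨s, t, hs, ht, rfl⟩ | ⟨s, t, hs, ht, rfl⟩))
      · show k.b2.x t ∈ Bor
        rw [k.hx]; exact hk.x1_mem t
      · show k.b2.z₂ t ∈ Bor
        obtain ⟨s, rfl⟩ := H.hτ t
        rw [k.hz]; exact hk.x2_mem s
      · exact hk.y_mem t
      · have h6 := mul_mem (hk.hh1_mem s hs) (inv_mem (hk.hh1_mem t ht))
        have e : (nt (prodFF G k).b2 s * (nt (prodFF G k).b2 t)⁻¹).2 =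
            hh k.x1 k.y1 s * (hh k.x1 k.y1 t)⁻¹ := by
          show nn k.b2.x k.b2.x' s * (nn k.b2.x k.b2.x' t)⁻¹ = _
          rw [k.hx, k.hx']
          unfold hh
          group
        show (nt (prodFF G k).b2 s * (nt (prodFF G k).b2 t)⁻¹).2 ∈ Bor
        rw [e]; exact h6
      · exact hk.nII_mem _ _ hs ht
    exact h5 h0
  · refine Subgroup.closure_le _ |>.2 ?_ h0
    rintro h' ((⟨t, rfl⟩ | ⟨t, rfl⟩ | ⟨t, rfl⟩) | (⟨s, t, hs, ht, rfl⟩ | ⟨s, t, hs, ht, rfl⟩))
    · exact Subgroup.subset_closure (Or.inl ⟨Or.inl (x_mem t), (H.S_x t).2⟩)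
    · exact Subgroup.subset_closure (Or.inl ⟨Or.inr (H.z₂_mem t), (H.S_z t).2⟩)
    · exact Subgroup.subset_closure (Or.inr ⟨t, rfl⟩)
    · exact Subgroup.subset_closure (Or.inl
        ⟨Or.inl (mul_mem (nt_mem s) (inv_mem (nt_mem t))), H.hI_T hs ht⟩)
    · exact Subgroup.subset_closure (Or.inl
        ⟨Or.inr (mul_mem (H.nII_mem s) (inv_mem (H.nII_mem t))), H.hII_T hs ht⟩)

/-- **(L1)**, form of `GUProd`. -/
theorem stab_iSup [Finite W] {Bor : Subgroup K} (hk : Mem k Bor) :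
    ∀ g ∈ ⨆ i, Gm G k i, g.1 • c = c → g.2 ∈ Bor := by
  have sinj : Function.Injective cs.simple := Cfsg.Agent.Tits.Ext.simple_injective
  refine gu_extra Δ c H.iso Bor (Gm G k) H.pan H.trans (Set.range (prodFF G k).b2.y) ?_ ?_ ?_
  · rintro _ ⟨b, rfl⟩
    exact ⟨H.y_fix b, hk.y_mem b, H.genP_y b⟩
  · intro i
    fin_cases i
    · intro g hg hgc
      exact (H.s01 hk (Subgroup.mem_sup_left hg) hgc).1
    · intro g hg hgc
      exact (H.s01 hk (Subgroup.mem_sup_right hg) hgc).1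
    · intro g hg hgc
      exact (H.s23 hk (Subgroup.mem_sup_left hg) hgc).1
    · intro g hg hgc
      exact (H.s23 hk (Subgroup.mem_sup_right hg) hgc).1
  · set S : Set (A × K) := {h : A × K | ∃ i, h ∈ Gm G k i ∧ h.1 • c = c} ∪
      Set.range (prodFF G k).b2.y with hS
    have hRle : Subgroup.closure {h : A × K | ∃ i, h ∈ Gm G k i ∧ h.1 • c = c} ≤
        Subgroup.closure S := Subgroup.closure_mono Set.subset_union_left
    have r01 : ∀ g ∈ Gm G k 0 ⊔ Gm G k 1, g.1 • c = c → g ∈ Subgroup.closure S := by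
      intro g hg hgc
      refine Subgroup.closure_mono ?_ (H.s01 hk hg hgc).2
      rintro h ⟨h2 | h2, h3⟩
      · exact Or.inl ⟨_, h2, h3⟩
      · exact Or.inl ⟨_, h2, h3⟩
    have r23 : ∀ g ∈ Gm G k 2 ⊔ Gm G k 3, g.1 • c = c → g ∈ Subgroup.closure S := by
      intro g hg hgc
      refine Subgroup.closure_mono ?_ (H.s23 hk hg hgc).2
      rintro h ⟨h2 | h2, h3⟩
      · exact Or.inl ⟨_, h2, h3⟩
      · exact Or.inl ⟨_, h2, h3⟩
    have r12 : ∀ g ∈ Gm G k 1 ⊔ Gm G k 2, g.1 • c = c → g ∈ Subgroup.closure S := by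
      intro g hg hgc
      refine Subgroup.closure_mono ?_ (H.s12 hk hg hgc).2
      rintro h (⟨h2 | h2, h3⟩ | h4)
      · exact Or.inl ⟨_, h2, h3⟩
      · exact Or.inl ⟨_, h2, h3⟩
      · exact Or.inr h4
    have r02 : ∀ g ∈ Gm G k 0 ⊔ Gm G k 2, g.1 • c = c → g ∈ Subgroup.closure S := by
      intro g hg hgc
      exact hRle (comm_stab (Δ := Δ) H.pan (fun h => absurd (sinj h) (by decide)) comm02 hg hgc)
    have r03 : ∀ g ∈ Gm G k 0 ⊔ Gm G k 3, g.1 • c = c → g ∈ Subgroup.closure S := by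
      intro g hg hgc
      exact hRle (comm_stab (Δ := Δ) H.pan (fun h => absurd (sinj h) (by decide)) comm03 hg hgc)
    have r13 : ∀ g ∈ Gm G k 1 ⊔ Gm G k 3, g.1 • c = c → g ∈ Subgroup.closure S := by
      intro g hg hgc
      exact hRle (comm_stab (Δ := Δ) H.pan (fun h => absurd (sinj h) (by decide)) comm13 hg hgc)
    have key : ∀ i j : Fin 4, i < j → ∀ g ∈ Gm G k i ⊔ Gm G k j, g.1 • c = c →
        g ∈ Subgroup.closure S := by
      intro i j hij
      fin_cases i <;> fin_cases j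
      all_goals first
        | exact absurd hij (by decide)
        | exact r01
        | exact r02
        | exact r03
        | exact r12
        | exact r13
        | exact r23
    intro i j hij g hg hgc
    rcases lt_or_gt_of_ne hij with h | h
    · exact key i j h g hg hgc
    · rw [sup_comm] at hg
      exact key j i h g hg hgc

end Setup

/-- The group generated by the pairs of root elements. -/
def graph (G : FF A D τ τ') (k : FF K D τ τ') : Subgroup (A × K) :=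
  Subgroup.closure (Set.range (pr G.x0 k.x0) ∪ Set.range (pr G.y0 k.y0) ∪ Set.range (pr G.x1 k.x1) ∪
    Set.range (pr G.y1 k.y1) ∪ Set.range (pr G.x2 k.x2) ∪ Set.range (pr G.y2 k.y2) ∪
    Set.range (pr G.x3 k.x3) ∪ Set.range (pr G.y3 k.y3))

theorem graph_le (G : FF A D τ τ') (k : FF K D τ τ') : graph G k ≤ ⨆ i, Gm G k i := by
  refine (Subgroup.closure_le _).2 ?_
  rintro g (((((((⟨t, rfl⟩ | ⟨t, rfl⟩) | ⟨t, rfl⟩) | ⟨t, rfl⟩) | ⟨t, rfl⟩) | ⟨t, rfl⟩) | ⟨t, rfl⟩) |
    ⟨t, rfl⟩)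
  · exact le_iSup (Gm G k) 0 (Gam.pos t)
  · exact le_iSup (Gm G k) 0 (Gam.neg t)
  · exact le_iSup (Gm G k) 1 (Gam.pos t)
  · exact le_iSup (Gm G k) 1 (Gam.neg t)
  · exact le_iSup (Gm G k) 2 (Gam.pos t)
  · exact le_iSup (Gm G k) 2 (Gam.neg t)
  · exact le_iSup (Gm G k) 3 (Gam.pos t)
  · exact le_iSup (Gm G k) 3 (Gam.neg t)

/-- **(L1)** The elements of `graph G k` fixing the base chamber have their second component in
`Bor`. -/
theorem stab_le [Finite W] {Δ : Bldg cs C} (hth : Δ.Thick)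
    (iso : ∀ (a : A) x y, Δ.δ (a • x) (a • y) = Δ.δ x y) (hτ : Function.Surjective τ)
    (hτ' : Function.Surjective τ') (G : FF A D τ τ') {c : C} {ci : Fin 4 → C}
    (a0 : NodeAct Δ c 0 (ci 0) G.x0 G.y0) (a1 : NodeAct Δ c 1 (ci 1) G.x1 G.y1)
    (a2 : NodeAct Δ c 2 (ci 2) G.x2 G.y2) (a3 : NodeAct Δ c 3 (ci 3) G.x3 G.y3)
    (y_fix : ∀ b, G.b2.y b • c = c) (k : FF K D τ τ') {Bor : Subgroup K} (hk : Mem k Bor)
    {p : A × K} (hp : p ∈ graph G k) (hpc : p.1 • c = c) : p.2 ∈ Bor := by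
  have H : Setup Δ G k c ci := ⟨iso, hth, a0, a1, a2, a3, y_fix, hτ, hτ'⟩
  exact H.stab_iSup hk p (graph_le G k hp) hpc

end Main

/-- **(L2)** -/
theorem nonempty_mulEquiv {M : CoxeterMatrix (Fin 4)} {W : Type*} [Group W] {cs : CoxeterSystem M W}
    {C G K : Type*} [Group G] [Group K] [MulAction G C] {F : Type*} [Field F] {V : Type*}
    [AddCommGroup V] [Module F V] {D : PQDatum F V} {E : Type*} [Field E] {τ τ' : E → D.T}
    [Finite W] {Δ : Bldg cs C} (hth : Δ.Thick) (hA : Δ.StrongAct G) (hM : NormalTrans.Conn M)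
    [IsSimpleGroup K] (hτ : Function.Surjective τ) (hτ' : Function.Surjective τ')
    (g : GFF Δ G D τ τ') (k : KFF K D τ τ') : Nonempty (G ≃* K) := by
  have hk : Mem k.toFF k.Bor :=
    { x0_mem := k.x0_mem, x1_mem := k.x1_mem, x2_mem := k.x2_mem, x3_mem := k.x3_mem
      y_mem := k.y_mem, hh0_mem := k.hh0_mem, hh1_mem := k.hh1_mem, hh3_mem := k.hh3_mem
      nII_mem := k.nII_mem }
  have hsub : ∀ p ∈ (Set.range (pr g.x0 k.x0) ∪ Set.range (pr g.y0 k.y0) ∪
      Set.range (pr g.x1 k.x1) ∪ Set.range (pr g.y1 k.y1) ∪ Set.range (pr g.x2 k.x2) ∪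
      Set.range (pr g.y2 k.y2) ∪ Set.range (pr g.x3 k.x3) ∪ Set.range (pr g.y3 k.y3)),
      p ∈ graph g.toFF k.toFF := fun p hp => Subgroup.subset_closure hp
  refine NormalTrans.mulEquiv_of_graph hth hA hM (graph g.toFF k.toFF) g.c k.Bor k.Bor_ne ?_ ?_ ?_
  · rw [eq_top_iff, ← g.gen, Subgroup.closure_le]
    rintro _ (((((((⟨t, rfl⟩ | ⟨t, rfl⟩) | ⟨t, rfl⟩) | ⟨t, rfl⟩) | ⟨t, rfl⟩) | ⟨t, rfl⟩) |
      ⟨t, rfl⟩) | ⟨t, rfl⟩)
    · exact ⟨_, hsub (g.x0 t, k.x0 t) (Or.inl (Or.inl (Or.inl (Or.inl (Or.inl (Or.inl (Or.inl ⟨t, rfl⟩))))))), rfl⟩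
    · exact ⟨_, hsub (g.y0 t, k.y0 t) (Or.inl (Or.inl (Or.inl (Or.inl (Or.inl (Or.inl (Or.inr ⟨t, rfl⟩))))))), rfl⟩
    · exact ⟨_, hsub (g.x1 t, k.x1 t) (Or.inl (Or.inl (Or.inl (Or.inl (Or.inl (Or.inr ⟨t, rfl⟩)))))), rfl⟩
    · exact ⟨_, hsub (g.y1 t, k.y1 t) (Or.inl (Or.inl (Or.inl (Or.inl (Or.inr ⟨t, rfl⟩))))), rfl⟩
    · exact ⟨_, hsub (g.x2 t, k.x2 t) (Or.inl (Or.inl (Or.inl (Or.inr ⟨t, rfl⟩)))), rfl⟩
    · exact ⟨_, hsub (g.y2 t, k.y2 t) (Or.inl (Or.inl (Or.inr ⟨t, rfl⟩))), rfl⟩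
    · exact ⟨_, hsub (g.x3 t, k.x3 t) (Or.inl (Or.inr ⟨t, rfl⟩)), rfl⟩
    · exact ⟨_, hsub (g.y3 t, k.y3 t) (Or.inr ⟨t, rfl⟩), rfl⟩
  · rw [eq_top_iff, ← k.gen, Subgroup.closure_le]
    rintro _ (((((((⟨t, rfl⟩ | ⟨t, rfl⟩) | ⟨t, rfl⟩) | ⟨t, rfl⟩) | ⟨t, rfl⟩) | ⟨t, rfl⟩) |
      ⟨t, rfl⟩) | ⟨t, rfl⟩)
    · exact ⟨_, hsub (g.x0 t, k.x0 t) (Or.inl (Or.inl (Or.inl (Or.inl (Or.inl (Or.inl (Or.inl ⟨t, rfl⟩))))))), rfl⟩
    · exact ⟨_, hsub (g.y0 t, k.y0 t) (Or.inl (Or.inl (Or.inl (Or.inl (Or.inl (Or.inl (Or.inr ⟨t, rfl⟩))))))), rfl⟩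
    · exact ⟨_, hsub (g.x1 t, k.x1 t) (Or.inl (Or.inl (Or.inl (Or.inl (Or.inl (Or.inr ⟨t, rfl⟩)))))), rfl⟩
    · exact ⟨_, hsub (g.y1 t, k.y1 t) (Or.inl (Or.inl (Or.inl (Or.inl (Or.inr ⟨t, rfl⟩))))), rfl⟩
    · exact ⟨_, hsub (g.x2 t, k.x2 t) (Or.inl (Or.inl (Or.inl (Or.inr ⟨t, rfl⟩)))), rfl⟩
    · exact ⟨_, hsub (g.y2 t, k.y2 t) (Or.inl (Or.inl (Or.inr ⟨t, rfl⟩))), rfl⟩
    · exact ⟨_, hsub (g.x3 t, k.x3 t) (Or.inl (Or.inr ⟨t, rfl⟩)), rfl⟩
    · exact ⟨_, hsub (g.y3 t, k.y3 t) (Or.inr ⟨t, rfl⟩), rfl⟩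
  · intro p hp hpc
    exact stab_le hth hA.iso hτ hτ' g.toFF g.a0 g.a1 g.a2 g.a3 g.y_fix k.toFF hk hp hpc

end Cfsg.Agent.TitsThree.AssembleFF
end

-- part: TitsThree/EndFFTor
section
/-!
# `A_{c,d} ⊓ G' ≤ T` for type `F₄` (S1143)
-/

set_option autoImplicit false

namespace Cfsg.Agent.TitsThree.EndFFTor

open Cfsg.Agent.Tits.Core Cfsg.Agent.Tits.Core.Bldg Cfsg.Agent.Tits
open Cfsg.Agent.Tits.MouDefs (rt Aut)
open Cfsg.Agent.Tits.MouOut
open Cfsg.Agent.TitsThree Cfsg.Agent.TitsThree.Pack Cfsg.Agent.TitsThree.B2Pkg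
open Cfsg.Agent.TitsThree.Hua Cfsg.Agent.TitsThree.EndGen Cfsg.Agent.TitsThree.TorusAct
open Cfsg.Agent.TitsThree.EndRange Cfsg.Agent.TitsThree.EndFF

section General

variable {I : Type*} {M : CoxeterMatrix I} {W : Type*} [Group W] {cs : CoxeterSystem M W}
variable {C A : Type*} [Group A] [MulAction A C] {Δ : Bldg cs C}
variable {σ : W → C} {U : Set W → Subgroup A} (H : Sys Δ A σ U)

include H in
/-- An element of `L_j` interchanging `σ 1` and `σ s_j` acts on the apartment as `s_j`. -/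
theorem act_of_swap [Finite W] {j : I} {n : A} (hn : n ∈ Lg cs U j) (h1 : n • σ 1 = σ (cs.simple j))
    (h2 : n • σ (cs.simple j) = σ 1) (v : W) : n • σ v = σ (cs.simple j * v) := by
  obtain ⟨m, hm, hmv⟩ := H.weyl j
  have h3 : m⁻¹ * n ∈ Tor cs A σ := by
    refine mem_tor_of_Lg H (mul_mem (inv_mem hm) hn) ?_ ?_
    · rw [mul_smul, h1, inv_smul_eq_iff, hmv, mul_one]
    · rw [mul_smul, h2, inv_smul_eq_iff, hmv, cs.simple_mul_simple_self]
  have h4 := tor_fix H h3 v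
  rw [mul_smul, inv_smul_eq_iff, hmv] at h4
  exact h4

/-- `1` lies in the root attached to `s_j`, `i ≠ j`. -/
theorem one_mem_rt [Finite W] [Finite I] {i j : I} (hij : i ≠ j) :
    (1 : W) ∈ rt cs (cs.simple j) i := by
  rw [mem_rt, mul_one, cs.inv_simple, cs.length_simple]
  rcases cs.length_simple_mul (cs.simple j) i with h | h
  · rw [h, cs.length_simple]; exact Nat.lt_succ_self 1
  · rw [cs.length_simple] at h
    have h1 : cs.length (cs.simple i * cs.simple j) = 0 := by omega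
    rw [cs.length_eq_zero_iff, ← cs.inv_simple j, mul_inv_eq_one] at h1
    exact absurd (Cfsg.Agent.Tits.Ext.simple_injective h1) hij

include H in
/-- The conjugates of `U_{α_i}` under such an element are positive. -/
theorem conj_mem_Up [Finite W] [Finite I] {i j : I} (hij : i ≠ j) {n : A} (hn : n ∈ Lg cs U j)
    (h1 : n • σ 1 = σ (cs.simple j)) (h2 : n • σ (cs.simple j) = σ 1) {g : A}
    (hg : g ∈ U (rt cs 1 i)) : n * g * n⁻¹ ∈ Up cs U := by
  have h3 := H.conj (act_of_swap H hn h1 h2) hg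
  rw [mul_one] at h3
  exact H.rt_le_Up (one_mem_rt hij) h3

end General

variable {M : CoxeterMatrix (Fin 4)} {W : Type*} [Group W] {cs : CoxeterSystem M W}
variable {C A : Type*} [Group A] [MulAction A C] {Δ : Bldg cs C}
variable {σ : W → C} {U : Set W → Subgroup A}
variable {F : Type*} [Field F] {V : Type*} [AddCommGroup V] [Module F V] {D : PQDatum F V}
variable {E : Type*} [Field E] {τ τ' : E → D.T}
variable {P : FF ↥(Gg cs U) D τ τ'}

/-- the group on which `G' = Gg cs U` acts: nodes -/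
theorem nodeAct' (H : Sys Δ A σ U) {X : Type*} {i : Fin 4} {xp xm : X → ↥(Gg cs U)}
    (hr : NodeRange U i xp xm) : NodeAct Δ (σ 1) i (σ (cs.simple i)) xp xm := by
  have h := nodeAct H hr.1 hr.2
  exact ⟨h.mem, h.ne, h.fix, h.fix', h.trans, h.trans'⟩

theorem Lg_le_map {i : Fin 4} {X : Type*} {xp xm : X → ↥(Gg cs U)} (hr : NodeRange U i xp xm)
    {Q : Subgroup ↥(Gg cs U)} (h1 : ∀ t, xp t ∈ Q) (h2 : ∀ t, xm t ∈ Q) :
    Lg cs U i ≤ Q.map (Gg cs U).subtype := by
  rw [Lg]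
  refine sup_le ?_ ?_
  · intro g hg
    obtain ⟨t, rfl⟩ := hr.exists_eq hg
    exact ⟨_, h1 t, rfl⟩
  · intro g hg
    obtain ⟨t, rfl⟩ := hr.exists_eq' hg
    exact ⟨_, h2 t, rfl⟩

/-- every element of `G'` is diagonal in the graph -/
theorem diag_mem (R : RangesFF P) (g : ↥(Gg cs U)) : (g, g) ∈ AssembleFF.graph P P := by
  set Q : Subgroup ↥(Gg cs U) := (AssembleFF.graph P P).comap
    ((MonoidHom.id _).prod (MonoidHom.id _)) with hQ
  have key : Gg cs U ≤ Q.map (Gg cs U).subtype := by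
    conv_lhs => rw [Gg]
    refine iSup_le fun i => ?_
    fin_cases i
    · exact Lg_le_map R.r0 (fun t => Subgroup.subset_closure
        (Or.inl (Or.inl (Or.inl (Or.inl (Or.inl (Or.inl (Or.inl ⟨t, rfl⟩))))))))
        (fun t => Subgroup.subset_closure
        (Or.inl (Or.inl (Or.inl (Or.inl (Or.inl (Or.inl (Or.inr ⟨t, rfl⟩))))))))
    · exact Lg_le_map R.r1 (fun t => Subgroup.subset_closure
        (Or.inl (Or.inl (Or.inl (Or.inl (Or.inl (Or.inr ⟨t, rfl⟩)))))))
        (fun t => Subgroup.subset_closure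
        (Or.inl (Or.inl (Or.inl (Or.inl (Or.inr ⟨t, rfl⟩))))))
    · exact Lg_le_map R.r2 (fun t => Subgroup.subset_closure
        (Or.inl (Or.inl (Or.inl (Or.inr ⟨t, rfl⟩)))))
        (fun t => Subgroup.subset_closure
        (Or.inl (Or.inl (Or.inr ⟨t, rfl⟩))))
    · exact Lg_le_map R.r3 (fun t => Subgroup.subset_closure
        (Or.inl (Or.inr ⟨t, rfl⟩)))
        (fun t => Subgroup.subset_closure
        (Or.inr ⟨t, rfl⟩))
  obtain ⟨g', hg', e⟩ := key g.2
  have : g' = g := Subtype.ext e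
  rw [this] at hg'
  exact hg'

/-- SL₂ parametrisations of the nodes, in `A` -/
theorem sl2 (P : FF ↥(Gg cs U) D τ τ') (R : RangesFF P) :
    SL2Par (fun t => (P.x0 t : A)) (fun t => (P.y0 t : A)) ∧
    SL2Par (fun t => (P.x1 t : A)) (fun t => (P.y1 t : A)) ∧
    SL2Par (fun t => (P.x2 t : A)) (fun t => (P.y2 t : A)) ∧
    SL2Par (fun t => (P.x3 t : A)) (fun t => (P.y3 t : A)) := by
  obtain ⟨s0, s1⟩ := edge_sl2 P.e01 R.inj0
  obtain ⟨s2, s3⟩ := edge_sl2 P.e23 R.inj2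
  have hf := Subgroup.subtype_injective (Gg cs U)
  exact ⟨sl2_map hf s0, sl2_map hf s1, sl2_map hf s2, sl2_map hf s3⟩

/-- `T ≤ A_{c,d}` -/
theorem torus_le [Finite W] (H : Sys Δ A σ U) (R : RangesFF P) :
    (torusFF P).map (Gg cs U).subtype ≤ Tor cs A σ := by
  obtain ⟨s0, s1, s2, s3⟩ := sl2 P R
  rw [Subgroup.map_le_iff_le_comap, torusFF, Subgroup.closure_le]
  rintro g ((⟨t, ht, rfl⟩ | ⟨t, ht, rfl⟩) | (⟨t, ht, rfl⟩ | ⟨t, ht, rfl⟩))
  · exact EndSL.hh_mem_tor H s0 R.r0.1 R.r0.2 ht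
  · exact EndSL.hh_mem_tor H s1 R.r1.1 R.r1.2 ht
  · exact EndSL.hh_mem_tor H s2 R.r2.1 R.r2.2 ht
  · exact EndSL.hh_mem_tor H s3 R.r3.1 R.r3.2 ht

/-- `y b ∈ U_+` -/
theorem y_mem [Finite W] (H : Sys Δ A σ U) (R : RangesFF P) (hτ : Function.Surjective τ)
    (hτ' : Function.Surjective τ') (b : F) : (P.b2.y b : A) ∈ Up cs U := by
  obtain ⟨s0, s1, s2, s3⟩ := sl2 P R
  have hc := tau_c_ne P R.inj2 (one_ne_zero (α := E))
  have h1 := P.rel.nII_x (τ 1) hc ((D.ε * D.σ (τ 1).c)⁻¹ * b)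
  have h2 : D.ε * D.σ (τ 1).c ≠ 0 := mul_ne_zero D.ε_ne (by simpa using hc)
  rw [mul_inv_cancel_left₀ h2, nII_eq P hτ hτ' R.inj2 one_ne_zero, P.hx] at h1
  have h3 := congrArg (Gg cs U).subtype h1
  have h4 : (P.b2.y b : A) = nn (fun t => (P.x2 t : A)) (fun t => (P.y2 t : A)) 1 *
      (P.x1 ((D.ε * D.σ (τ 1).c)⁻¹ * b) : A) *
      (nn (fun t => (P.x2 t : A)) (fun t => (P.y2 t : A)) 1)⁻¹ := h3.symm
  rw [h4]
  obtain ⟨a1, a2⟩ := EndSL.nn_smul H s2 R.r2.1 R.r2.2 (one_ne_zero (α := E))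
  exact conj_mem_Up H (i := 1) (j := 2) (by decide)
    (EndSL.nn_mem_Lg (fun t => R.r2.mem t) (fun t => R.r2.mem' t) 1) a1 a2 (R.r1.mem _)

/-- **`A_{c,d} ⊓ G' ≤ T`** -/
theorem tor_inf_le_torusFF [Finite W] (H : Sys Δ A σ U) (R : RangesFF P)
    (hτ : Function.Surjective τ) (hτ' : Function.Surjective τ') :
    Tor cs A σ ⊓ Gg cs U ≤ (torusFF P).map (Gg cs U).subtype := by
  refine tor_inf_le H (torus_le H R) fun g hg hgc => ?_
  set T := (torusFF P).map (Gg cs U).subtype with hT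
  have hUp : Up cs U ≤ Up cs U ⊔ T := le_sup_left
  have hTle : T ≤ Up cs U ⊔ T := le_sup_right
  have rp : ∀ {i : Fin 4} {u : A}, u ∈ U (rt cs 1 i) → u ∈ Up cs U := fun hu =>
    H.rt_le_Up (self_mem_rt 1 _) hu
  have tp : ∀ {h : ↥(Gg cs U)}, h ∈ torusFF P → (h : A) ∈ T := fun hh => ⟨_, hh, rfl⟩
  have hmem : AssembleFF.Mem P ((Up cs U ⊔ T).comap (Gg cs U).subtype) :=
    { x0_mem := fun t => hUp (rp (R.r0.mem t))
      x1_mem := fun t => hUp (rp (R.r1.mem t))
      x2_mem := fun t => hUp (rp (R.r2.mem t))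
      x3_mem := fun t => hUp (rp (R.r3.mem t))
      y_mem := fun b => hUp (y_mem H R hτ hτ' b)
      hh0_mem := fun t ht => hTle (tp (hh0_mem P ht))
      hh1_mem := fun t ht => hTle (tp (hh1_mem P ht))
      hh3_mem := fun t ht => hTle (tp (hh3_mem P ht))
      nII_mem := fun p q hp hq => hTle (tp (nII_mem_torusFF P hτ hτ' R.inj2 hp hq)) }
  exact AssembleFF.stab_le (Δ := Δ) (A := ↥(Gg cs U)) (ci := fun i => σ (cs.simple i)) H.thick
    (fun a => H.iso (a : A)) hτ hτ' P (nodeAct' H R.r0) (nodeAct' H R.r1) (nodeAct' H R.r2)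
    (nodeAct' H R.r3) (fun b => H.Up_fix (y_mem H R hτ hτ' b)) P hmem (p := (⟨g, hg⟩, ⟨g, hg⟩))
    (diag_mem R ⟨g, hg⟩) hgc

/-- **END for `F₄`**, without the hypothesis on the torus. -/
theorem solved [Finite W] {C : Type*} [Finite C] {Δ : Bldg cs C} {σ : W → C}
    (H : Sys Δ (Aut Δ) σ (UU Δ σ)) {p : ℕ} [Fact p.Prime] [Finite F] [Finite E] [CharP F p]
    [CharP E p] {P : FF ↥(Gg cs (UU Δ σ)) D τ τ'} (R : RangesFF P) (hτ : Function.Surjective τ)
    (hτ' : Function.Surjective τ')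
    (hK : IsSimpleGroup ↥(Gg cs (UU Δ σ)) → Top.LieConcl ↥(Gg cs (UU Δ σ))) : Top.Solved Δ :=
  EndFF.solved H (p := p) R hτ hτ' (tor_inf_le_torusFF H R hτ hτ') hK

/-- The package of `G'` with its action on the building. -/
noncomputable def gff [Finite W] (H : Sys Δ A σ U) (P : FF ↥(Gg cs U) D τ τ') (R : RangesFF P)
    (hτ : Function.Surjective τ) (hτ' : Function.Surjective τ') : GFF Δ ↥(Gg cs U) D τ τ' :=
  { P with
    c := σ 1
    ci := fun i => σ (cs.simple i)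
    a0 := nodeAct' H R.r0
    a1 := nodeAct' H R.r1
    a2 := nodeAct' H R.r2
    a3 := nodeAct' H R.r3
    y_fix := fun b => H.Up_fix (y_mem H R hτ hτ' b)
    gen := by
      rw [eq_top_iff]
      rintro ⟨g, hg⟩ -
      set Q : Subgroup ↥(Gg cs U) := Subgroup.closure (Set.range P.x0 ∪ Set.range P.y0 ∪
        Set.range P.x1 ∪ Set.range P.y1 ∪ Set.range P.x2 ∪ Set.range P.y2 ∪ Set.range P.x3 ∪
        Set.range P.y3) with hQ
      have key : Gg cs U ≤ Q.map (Gg cs U).subtype := by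
        conv_lhs => rw [Gg]
        refine iSup_le fun i => ?_
        fin_cases i
        · exact Lg_le_map R.r0 (fun t => Subgroup.subset_closure
            (Or.inl (Or.inl (Or.inl (Or.inl (Or.inl (Or.inl (Or.inl ⟨t, rfl⟩))))))))
            (fun t => Subgroup.subset_closure
            (Or.inl (Or.inl (Or.inl (Or.inl (Or.inl (Or.inl (Or.inr ⟨t, rfl⟩))))))))
        · exact Lg_le_map R.r1 (fun t => Subgroup.subset_closure
            (Or.inl (Or.inl (Or.inl (Or.inl (Or.inl (Or.inr ⟨t, rfl⟩)))))))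
            (fun t => Subgroup.subset_closure
            (Or.inl (Or.inl (Or.inl (Or.inl (Or.inr ⟨t, rfl⟩))))))
        · exact Lg_le_map R.r2 (fun t => Subgroup.subset_closure
            (Or.inl (Or.inl (Or.inl (Or.inr ⟨t, rfl⟩)))))
            (fun t => Subgroup.subset_closure
            (Or.inl (Or.inl (Or.inr ⟨t, rfl⟩))))
        · exact Lg_le_map R.r3 (fun t => Subgroup.subset_closure
            (Or.inl (Or.inr ⟨t, rfl⟩)))
            (fun t => Subgroup.subset_closure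
            (Or.inr ⟨t, rfl⟩))
      obtain ⟨g', hg', e⟩ := key hg
      have : g' = ⟨g, hg⟩ := Subtype.ext e
      rw [this] at hg'
      exact hg' }

/-- **END and identification for `F₄`**: what remains is a simple group `K` with `LieConcl` and the
same package. -/
theorem solved_of_K [Finite W] {C : Type*} [Finite C] {Δ : Bldg cs C} {σ : W → C}
    (H : Sys Δ (Aut Δ) σ (UU Δ σ)) {p : ℕ} [Fact p.Prime] [Finite F] [Finite E] [CharP F p]
    [CharP E p] {P : FF ↥(Gg cs (UU Δ σ)) D τ τ'} (R : RangesFF P) (hτ : Function.Surjective τ)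
    (hτ' : Function.Surjective τ') (hM : NormalTrans.Conn M) {K : Type*} [Group K]
    [IsSimpleGroup K] (hK : Top.LieConcl K) (k : KFF K D τ τ') : Top.Solved Δ := by
  refine solved H (p := p) R hτ hτ' fun _ => ?_
  obtain ⟨e⟩ := AssembleFF.nonempty_mulEquiv H.thick H.Gg_strongAct hM hτ hτ' (gff H P R hτ hτ') k
  exact Top.LieConcl.of_equiv e hK

end Cfsg.Agent.TitsThree.EndFFTor
end

-- part: TitsThree/SolvedFF
section
/-!
# Type `F₄` is solved (S1143)

`lieConcl_of_out`: identification of the group `G'` of a building of type `F₄`, given a model; `allSolved_of`: from the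
two families of models (`F₄(q)`, `²E₆(q²)`) to `AllSolved cF`.
-/

set_option autoImplicit false

namespace Cfsg.Agent.TitsThree.SolvedFF

open Cfsg.Agent.Tits.Core Cfsg.Agent.Tits.Core.Bldg Cfsg.Agent.Tits Cfsg.Agent.Tits.MouOut
open Cfsg.Agent.Tits.MouDefs (rt Aut Chart)
open Cfsg.Agent.LieRecognition.BNCox Cfsg.Agent.LieRecognition.CoxClass
open Cfsg.Agent.TitsThree Cfsg.Agent.TitsThree.Pack Cfsg.Agent.TitsThree.FFData
open Cfsg.Agent.TitsThree.F4Bond Cfsg.Agent.TitsThree.EndFF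

/-- `F₄` is connected. -/
theorem conn_cF : NormalTrans.Conn cF := by
  have h01 : cF 0 1 ≠ 2 := by decide
  have h10 : cF 1 0 ≠ 2 := by decide
  have h12 : cF 1 2 ≠ 2 := by decide
  have h21 : cF 2 1 ≠ 2 := by decide
  have h23 : cF 2 3 ≠ 2 := by decide
  have h32 : cF 3 2 ≠ 2 := by decide
  intro J hJ hJ'
  by_contra hcon
  push Not at hcon
  have st : ∀ {a b : Fin 4}, cF a b ≠ 2 → a ∈ J → b ∈ J := fun {a b} h ha => by
    by_contra hb
    exact h (hcon a ha b hb)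
  apply hJ'.ne_empty
  have key : ∀ i : Fin 4, i ∈ J := by
    have k1 : (1 : Fin 4) ∈ J := by
      obtain ⟨a, ha⟩ := hJ
      fin_cases a
      · exact st h01 ha
      · exact ha
      · exact st h21 ha
      · exact st h21 (st h32 ha)
    intro i
    fin_cases i
    · exact st h10 k1
    · exact k1
    · exact st h12 k1
    · exact st h23 (st h12 k1)
  ext i
  simp [key i]

/-- A model. -/
def HasModel {F E : Type} [Field F] [Field E] [Algebra F E] (P : ConjPair F E) : Prop :=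
  ∃ (K : Type) (_ : Group K), IsSimpleGroup K ∧ Top.LieConcl K ∧ Nonempty (KFF K P.datum P.τ P.τ')

/-- A simple group with the package of `G'` is isomorphic to `G'`. -/
theorem nonempty_mulEquiv {W : Type*} [Group W] [Finite W] {C : Type*} [Finite C]
    {cs : CoxeterSystem cF W} {Δ : Bldg cs C} {σ : W → C} (hth : Δ.Thick) (hσ : Chart Δ σ)
    {F E : Type*} [Field F] [Field E] [Algebra F E] {P : ConjPair F E} (h : OutP Δ σ P)
    {K : Type*} [Group K] [IsSimpleGroup K] (k : KFF K P.datum P.τ P.τ') :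
    Nonempty (↥(Gg cs (UU Δ σ)) ≃* K) := by
  obtain ⟨Q, R⟩ := h
  have H := MouAll.sys MouAll.lab_F CombInst.diag_F hth hσ
  exact AssembleFF.nonempty_mulEquiv hth H.Gg_strongAct conn_cF P.τ_surj P.τ'_surj
    (EndFFTor.gff H Q R P.τ_surj P.τ'_surj) k

/-- `Solved Δ` from the G side and a model. -/
theorem solved_of_outP {W : Type*} [Group W] [Finite W] {C : Type*} [Finite C]
    {cs : CoxeterSystem cF W} {Δ : Bldg cs C} {σ : W → C} (hth : Δ.Thick) (hσ : Chart Δ σ)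
    {F E : Type} [Field F] [Finite F] [Field E] [Finite E] [Algebra F E] {P : ConjPair F E}
    (h : OutP Δ σ P) (hK : HasModel P) : Top.Solved Δ := by
  obtain ⟨Q, R⟩ := id h
  obtain ⟨K, i1, i2, hK1, ⟨k⟩⟩ := hK
  have H := MouAll.sys MouAll.lab_F CombInst.diag_F hth hσ
  obtain ⟨p, hp⟩ := CharP.exists F
  have : Fact p.Prime := ⟨CharP.char_is_prime F p⟩
  have : CharP E p := charP_of_injective_algebraMap (algebraMap F E).injective p
  exact EndFFTor.solved_of_K H (p := p) R P.τ_surj P.τ'_surj conn_cF hK1 k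

universe u

/-- **Type `F₄`**, from the models. -/
theorem allSolved_of (hF : ∀ (F : Type) [Field F] [Finite F], HasModel (ConjPair.triv F))
    (hE : ∀ (F E : Type) [Field F] [Finite F] [Field E] [Finite E] [Algebra F E]
      (P : ConjPair F E), (∃ t, P.conj t ≠ t) → HasModel P) : Top.AllSolved.{u} cF := by
  intro W C _ _ _ _ cs Δ hth
  obtain ⟨c⟩ := (inferInstance : Nonempty C)
  obtain ⟨d, hd⟩ := Opp.exists_opp Δ c
  obtain ⟨σ, hσ, -, -⟩ := MouDefs.exists_chart hd 1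
  refine Reindex.solved_F (fun cs Δ hth hσ h => ?_) hth hσ
  rcases h with ⟨F, i1, i2, h⟩ | ⟨F, E, i1, i2, i3, i4, i5, P, hP, h⟩
  · exact solved_of_outP hth hσ h (hF F)
  · exact solved_of_outP hth hσ h (hE F E P hP)

end Cfsg.Agent.TitsThree.SolvedFF
end

-- part: TitsThree/KExcA3
section
/-!
# From a Steinberg system of type `A₃` over `E` with a conjugation to the `B₂` package of the norm form

Let `x` be a Steinberg system of type `A₃` (index set `Fin 4`) over `E`, `P : ConjPair F E`. The elements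
`x 1 2 a` (`a ∈ F`) and `x 0 1 t * x 2 3 (conj t)` (`t ∈ E`) are root elements of a system of type `B₂` (this is the
embedding of the twisted group `²A₃` in `A₃`): `B2Rel (maps P x)`.
-/

set_option autoImplicit false
set_option linter.unusedSectionVars false

namespace Cfsg.Agent.TitsThree.KExcA3

open Cfsg.Agent.AGraded Cfsg.Agent.TitsThree Cfsg.Agent.TitsThree.B2Pkg Cfsg.Agent.TitsThree.FFData
open Cfsg.Agent.TitsThree.GlueA
open scoped commutatorElement

section Mono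

variable {ι : Type*} [Fintype ι] [DecidableEq ι] {E Y : Type*} [Field E] [Group Y] {x : ι → ι → E → Y}

theorem inj3 {i j k : ι} (hij : i ≠ j) (hjk : j ≠ k) (hik : i ≠ k) :
    Function.Injective (![i, j, k] : Fin 3 → ι) := by
  intro a b h
  fin_cases a <;> fin_cases b <;> simp_all

theorem conj_ik (h : SteinRel x) {i j k : ι} (hij : i ≠ j) (hjk : j ≠ k) (hik : i ≠ k) {t : E} (ht : t ≠ 0)
    (a : E) : nn (x i j) (x j i) t * x i k a * (nn (x i j) (x j i) t)⁻¹ = x j k (-(t⁻¹ * a)) :=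
  nn_conj_ik (Cfsg.Agent.TitsThree.SteinRel.comap h (inj3 hij hjk hik)) (i := 0) (j := 1) (k := 2) (by decide) (by decide) (by decide) ht a

theorem conj_kj (h : SteinRel x) {i j k : ι} (hij : i ≠ j) (hjk : j ≠ k) (hik : i ≠ k) {t : E} (ht : t ≠ 0)
    (a : E) : nn (x i j) (x j i) t * x k j a * (nn (x i j) (x j i) t)⁻¹ = x k i (t⁻¹ * a) :=
  nn_conj_kj (Cfsg.Agent.TitsThree.SteinRel.comap h (inj3 hij hjk hik)) (i := 0) (j := 1) (k := 2) (by decide) (by decide) (by decide) ht a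

theorem conj_jk (h : SteinRel x) {i j k : ι} (hij : i ≠ j) (hjk : j ≠ k) (hik : i ≠ k) {t : E} (ht : t ≠ 0)
    (a : E) : nn (x i j) (x j i) t * x j k a * (nn (x i j) (x j i) t)⁻¹ = x i k (t * a) :=
  nn_conj_jk (Cfsg.Agent.TitsThree.SteinRel.comap h (inj3 hij hjk hik)) (i := 0) (j := 1) (k := 2) (by decide) (by decide) (by decide) ht a

theorem conj_ki (h : SteinRel x) {i j k : ι} (hij : i ≠ j) (hjk : j ≠ k) (hik : i ≠ k) {t : E} (ht : t ≠ 0)
    (a : E) : nn (x i j) (x j i) t * x k i a * (nn (x i j) (x j i) t)⁻¹ = x k j (-(t * a)) :=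
  nn_conj_ki (Cfsg.Agent.TitsThree.SteinRel.comap h (inj3 hij hjk hik)) (i := 0) (j := 1) (k := 2) (by decide) (by decide) (by decide) ht a

theorem comm_conj {G : Type*} [Group G] (g a b : G) : g * ⁅a, b⁆ * g⁻¹ = ⁅g * a * g⁻¹, g * b * g⁻¹⁆ := by
  simp only [commutatorElement_def]; group

theorem conj_ij (h : SteinRel x) {i j k : ι} (hij : i ≠ j) (hjk : j ≠ k) (hik : i ≠ k) {t : E} (ht : t ≠ 0)
    (a : E) : nn (x i j) (x j i) t * x i j a * (nn (x i j) (x j i) t)⁻¹ = x j i (-(t⁻¹ * t⁻¹ * a)) := by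
  have e : x i j a = ⁅x i k a, x k j 1⁆ := by
    rw [h.br i k j hik hjk.symm hij, mul_one]
  rw [e, comm_conj, conj_ik h hij hjk hik ht, conj_kj h hij hjk hik ht, h.br j k i hjk hik.symm hij.symm]
  congr 1
  ring

theorem conj_ji (h : SteinRel x) {i j k : ι} (hij : i ≠ j) (hjk : j ≠ k) (hik : i ≠ k) {t : E} (ht : t ≠ 0)
    (a : E) : nn (x i j) (x j i) t * x j i a * (nn (x i j) (x j i) t)⁻¹ = x i j (-(t * t * a)) := by
  have e : x j i a = ⁅x j k a, x k i 1⁆ := by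
    rw [h.br j k i hjk hik.symm hij.symm, mul_one]
  rw [e, comm_conj, conj_jk h hij hjk hik ht, conj_ki h hij hjk hik ht, h.br i k j hik hjk.symm hij]
  congr 1
  ring

/-- `m` acts monomially on the Steinberg system `x`. -/
def Mono (x : ι → ι → E → Y) (m : Y) (π : Equiv.Perm ι) (l : ι → E) : Prop :=
  ∀ c d, c ≠ d → ∀ u, m * x c d u * m⁻¹ = x (π c) (π d) (l c * (l d)⁻¹ * u)

theorem Mono.mul {m m' : Y} {π π' : Equiv.Perm ι} {l l' : ι → E} (h : Mono x m π l) (h' : Mono x m' π' l') :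
    Mono x (m * m') (π * π') (fun c => l (π' c) * l' c) := by
  intro c d hcd u
  have e : m * m' * x c d u * (m * m')⁻¹ = m * (m' * x c d u * m'⁻¹) * m⁻¹ := by group
  rw [e, h' c d hcd u, h _ _ (fun e => hcd (π'.injective e)), Equiv.Perm.mul_apply, Equiv.Perm.mul_apply, mul_inv]
  congr 1
  ring

/-- The scalars of `n_ij(t)`. -/
def nl (i j : ι) (t : E) (c : ι) : E := if c = i then -t⁻¹ else if c = j then t else 1

theorem mono_nn (hι : ∀ i j : ι, ∃ k, k ≠ i ∧ k ≠ j) (h : SteinRel x) {i j : ι} (hij : i ≠ j) {t : E} (ht : t ≠ 0) :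
    Mono x (nn (x i j) (x j i) t) (Equiv.swap i j) (nl i j t) := by
  obtain ⟨k, hki, hkj⟩ := hι i j
  intro c d hcd u
  unfold nl
  by_cases hci : c = i
  · subst hci
    rw [Equiv.swap_apply_left, if_pos rfl]
    by_cases hdj : d = j
    · subst hdj
      rw [conj_ij h hij hkj.symm hki.symm ht, Equiv.swap_apply_right, if_neg hij.symm, if_pos rfl]
      congr 1
      ring
    · rw [conj_ik h hij (Ne.symm hdj) hcd ht, Equiv.swap_apply_of_ne_of_ne hcd.symm hdj, if_neg hcd.symm,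
        if_neg hdj]
      congr 1
      rw [inv_one]
      ring
  · by_cases hcj : c = j
    · subst hcj
      rw [Equiv.swap_apply_right, if_neg hci, if_pos rfl]
      by_cases hdi : d = i
      · subst hdi
        rw [conj_ji h hij hkj.symm hki.symm ht, Equiv.swap_apply_left, if_pos rfl]
        congr 1
        field_simp
      · rw [conj_jk h hij hcd (Ne.symm hdi) ht, Equiv.swap_apply_of_ne_of_ne hdi hcd.symm, if_neg hdi,
          if_neg hcd.symm]
        congr 1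
        rw [inv_one]
        ring
    · rw [Equiv.swap_apply_of_ne_of_ne hci hcj, if_neg hci, if_neg hcj]
      by_cases hdi : d = i
      · subst hdi
        rw [conj_ki h hij (Ne.symm hcj) (Ne.symm hci) ht, Equiv.swap_apply_left, if_pos rfl]
        congr 1
        field_simp
      · by_cases hdj : d = j
        · subst hdj
          rw [conj_kj h hij (Ne.symm hcj) (Ne.symm hci) ht, Equiv.swap_apply_right, if_neg hdi, if_pos rfl]
          congr 1
          ring
        · rw [Equiv.swap_apply_of_ne_of_ne hdi hdj, if_neg hdi, if_neg hdj]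
          have e1 : Commute (nn (x i j) (x j i) t) (x c d u) := by
            unfold nn
            have c1 : ∀ a, Commute (x i j a) (x c d u) := fun a =>
              h.comm i j c d hij hcd (Ne.symm hcj) (Ne.symm hdi) _ _
            have c2 : ∀ a, Commute (x j i a) (x c d u) := fun a =>
              h.comm j i c d hij.symm hcd (Ne.symm hci) (Ne.symm hdj) _ _
            exact ((c1 _).mul_left (c2 _)).mul_left (c1 _)
          rw [e1.eq, mul_inv_cancel_right]
          congr 1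
          rw [inv_one]
          ring

end Mono

section B2

variable {F E : Type*} [Field F] [Field E] [Algebra F E] (P : ConjPair F E) {Y : Type*} [Group Y]
  (x : Fin 4 → Fin 4 → E → Y)

/-- The root elements of the twisted group `²A₃`. -/
def maps : B2Maps P.datum Y where
  x a := x 1 2 (algebraMap F E a)
  x' a := x 2 1 (algebraMap F E a)
  y b := x 0 3 (algebraMap F E b)
  y' b := x 3 0 (-algebraMap F E b)
  z₁ p := x 0 2 (-p.w) * x 1 3 (P.conj p.w)
  z₂ p := x 0 1 p.w * x 2 3 (P.conj p.w)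
  z₁' p := x 2 0 (P.conj p.w) * x 3 1 (-p.w)
  z₂' p := x 1 0 (-P.conj p.w) * x 3 2 (-p.w)

theorem third : ∀ i j : Fin 4, ∃ k, k ≠ i ∧ k ≠ j := by decide

variable {x}

theorem conj_ne {t : E} (ht : t ≠ 0) : P.conj t ≠ 0 := fun h => ht (by rw [← P.conj_conj t, h, map_zero])

/-- The action of `n_I`. -/
theorem mono_nI (h : SteinRel x) : Mono x (maps P x).nI (Equiv.swap 1 2) (nl 1 2 1) := by
  have e : (maps P x).nI = nn (x 1 2) (x 2 1) 1 := by
    simp [B2Maps.nI, maps, nn]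
  rw [e]
  exact mono_nn third h (by decide) one_ne_zero

theorem nII_eq (h : SteinRel x) {t : E} (ht : t ≠ 0) :
    (maps P x).nII (P.τ t) = nn (x 1 0) (x 0 1) (-t⁻¹) * nn (x 3 2) (x 2 3) (-(P.conj t)⁻¹) := by
  rw [P.nII_τ _ ht]
  have c : ∀ a b c d : E, Commute (x 1 0 a) (x 3 2 c) ∧ Commute (x 1 0 a) (x 2 3 d) ∧
      Commute (x 0 1 b) (x 3 2 c) ∧ Commute (x 0 1 b) (x 2 3 d) := fun a b c d =>
    ⟨h.comm _ _ _ _ (by decide) (by decide) (by decide) (by decide) _ _,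
      h.comm _ _ _ _ (by decide) (by decide) (by decide) (by decide) _ _,
      h.comm _ _ _ _ (by decide) (by decide) (by decide) (by decide) _ _,
      h.comm _ _ _ _ (by decide) (by decide) (by decide) (by decide) _ _⟩
  simp only [maps, ConjPair.τ_w, ConjPair.τ'_w, nn, map_neg, map_inv₀, neg_neg, P.conj_conj, inv_neg, inv_inv]
  have c1 := (c (-t⁻¹) t (-(P.conj t)⁻¹) (P.conj t)).1.eq
  have c2 := (c (-t⁻¹) t (-(P.conj t)⁻¹) (P.conj t)).2.1.eq
  have c3 := (c (-t⁻¹) t (-(P.conj t)⁻¹) (P.conj t)).2.2.1.eq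
  generalize x 1 0 (-t⁻¹) = A at *
  generalize x 0 1 t = B at *
  generalize x 3 2 (-(P.conj t)⁻¹) = C at *
  generalize x 2 3 (P.conj t) = D at *
  calc A * C * (B * D) * (A * C) = A * (C * B) * (D * A) * C := by group
    _ = A * B * (C * A) * D * C := by rw [← c3, ← c2]; group
    _ = A * B * A * (C * D * C) := by rw [← c1]; group

theorem mono_nII (h : SteinRel x) {p : P.datum.T} (hp : p.c ≠ 0) :
    Mono x ((maps P x).nII p) (Equiv.swap 1 0 * Equiv.swap 3 2)
      (![-p.w⁻¹, p.w, -(P.conj p.w)⁻¹, P.conj p.w] : Fin 4 → E) := by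
  obtain ⟨t, rfl⟩ := P.τ_surj p
  have ht : t ≠ 0 := by
    rintro rfl
    apply hp
    rw [ConjPair.τ_c, P.N_zero, neg_zero]
  have hti : -t⁻¹ ≠ 0 := neg_ne_zero.2 (inv_ne_zero ht)
  have hct := conj_ne P ht
  have hcti : -(P.conj t)⁻¹ ≠ 0 := neg_ne_zero.2 (inv_ne_zero hct)
  rw [nII_eq P h ht]
  have h1 := (mono_nn third h (i := 1) (j := 0) (by decide) hti).mul (mono_nn third h (i := 3) (j := 2) (by decide) hcti)
  convert h1 using 1
  funext c
  fin_cases c <;> simp [nl, Equiv.swap_apply_def]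

theorem w_ne {p : P.datum.T} (hp : p.c ≠ 0) : p.w ≠ 0 := by
  intro h
  apply hp
  have hc : p.c = -P.N p.w := p.ok
  rw [hc, h, P.N_zero, neg_zero]

/-- The reflection is `w' ↦ -conj(w') w / conj w`. -/
theorem refl_w {p : P.datum.T} (hp : p.c ≠ 0) (q : P.datum.T) :
    (P.datum.refl p hp q).w = -(P.conj q.w * p.w * (P.conj p.w)⁻¹) := by
  have hw := w_ne P hp
  have hcw := conj_ne P hw
  have hc : p.c = -P.N p.w := p.ok
  rw [PQDatum.refl_w, P.datum_h, Algebra.smul_def, hc, map_mul, map_inv₀, map_neg, P.hN, P.hT, map_mul,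
    P.conj_conj]
  field_simp
  ring

theorem mul_conj {m a b : Y} : m * (a * b) * m⁻¹ = (m * a * m⁻¹) * (m * b * m⁻¹) := by group

theorem b2rel (h : SteinRel x) : B2Rel (maps P x) where
  x_add a b := by
    simp only [maps, map_add]; exact h.add _ _ (by decide) _ _
  x'_add a b := by
    simp only [maps, map_add]; exact h.add _ _ (by decide) _ _
  y_add a b := by
    simp only [maps, map_add]; exact h.add _ _ (by decide) _ _
  y'_add a b := by
    simp only [maps, map_add, neg_add]; exact h.add _ _ (by decide) _ _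
  z₁_mul p q := by
    have c := h.comm 1 3 0 2 (by decide) (by decide) (by decide) (by decide) (P.conj p.w) (-q.w)
    simp only [maps, PQDatum.T.mul_w, map_add, neg_add]
    rw [h.add 0 2 (by decide), h.add 1 3 (by decide), mul_assoc, mul_assoc, ← mul_assoc (x 1 3 _) (x 0 2 _), c]
    simp only [mul_assoc]
  z₂_mul p q := by
    have c := h.comm 2 3 0 1 (by decide) (by decide) (by decide) (by decide) (P.conj p.w) q.w
    simp only [maps, PQDatum.T.mul_w, map_add]
    rw [h.add 0 1 (by decide), h.add 2 3 (by decide), mul_assoc, mul_assoc, ← mul_assoc (x 2 3 _) (x 0 1 _), c]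
    simp only [mul_assoc]
  z₁'_mul p q := by
    have c := h.comm 3 1 2 0 (by decide) (by decide) (by decide) (by decide) (-p.w) (P.conj q.w)
    simp only [maps, PQDatum.T.mul_w, map_add, neg_add]
    rw [h.add 2 0 (by decide), h.add 3 1 (by decide), mul_assoc, mul_assoc, ← mul_assoc (x 3 1 _) (x 2 0 _), c]
    simp only [mul_assoc]
  z₂'_mul p q := by
    have c := h.comm 3 2 1 0 (by decide) (by decide) (by decide) (by decide) (-p.w) (-P.conj q.w)
    simp only [maps, PQDatum.T.mul_w, map_add, neg_add]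
    rw [h.add 1 0 (by decide), h.add 3 2 (by decide), mul_assoc, mul_assoc, ← mul_assoc (x 3 2 _) (x 1 0 _), c]
    simp only [mul_assoc]
  x_z₂ a p := by
    have hc : p.c = -P.N p.w := p.ok
    have e1 := h.conj_right (i := 0) (j := 1) (k := 2) (by decide) (by decide) (by decide) p.w (algebraMap F E a)
    have e2 := h.conj_left (i := 1) (j := 2) (k := 3) (by decide) (by decide) (by decide) (algebraMap F E a)
      (P.conj p.w)
    have e3 := h.conj_left (i := 0) (j := 1) (k := 3) (by decide) (by decide) (by decide) p.w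
      (algebraMap F E a * P.conj p.w)
    have c1 := h.comm 0 1 0 2 (by decide) (by decide) (by decide) (by decide) p.w (-(p.w * algebraMap F E a))
    have c2 := h.comm 0 3 1 3 (by decide) (by decide) (by decide) (by decide)
      (p.w * (algebraMap F E a * P.conj p.w)) (algebraMap F E a * P.conj p.w)
    have g1 : -(algebraMap F E a * p.w) = -(p.w * algebraMap F E a) := by ring
    have g2 : algebraMap F E (-(1 * a * p.c)) = p.w * (algebraMap F E a * P.conj p.w) := by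
      rw [hc, map_neg, map_mul, map_mul, map_neg, map_one, P.hN]; ring
    simp only [maps, PQDatum.sc_w, P.datum_σ, P.datum_ε, Algebra.smul_def, map_mul, P.conj_alg, commutatorElement_def]
    rw [g1, g2]
    calc x 1 2 (algebraMap F E a) * (x 0 1 p.w * x 2 3 (P.conj p.w)) * (x 1 2 (algebraMap F E a))⁻¹ *
          (x 0 1 p.w * x 2 3 (P.conj p.w))⁻¹
        = (x 1 2 (algebraMap F E a) * x 0 1 p.w * (x 1 2 (algebraMap F E a))⁻¹) *
          (x 1 2 (algebraMap F E a) * x 2 3 (P.conj p.w) * (x 1 2 (algebraMap F E a))⁻¹) *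
          (x 2 3 (P.conj p.w))⁻¹ * (x 0 1 p.w)⁻¹ := by group
      _ = (x 0 1 p.w * x 0 2 (-(p.w * algebraMap F E a))) *
          x 1 3 (algebraMap F E a * P.conj p.w) * (x 0 1 p.w)⁻¹ := by rw [e1, e2]; group
      _ = x 0 2 (-(p.w * algebraMap F E a)) *
          (x 0 1 p.w * x 1 3 (algebraMap F E a * P.conj p.w) * (x 0 1 p.w)⁻¹) := by rw [c1]; group
      _ = _ := by rw [e3, c2, mul_assoc]
  z₁_z₂ p q := by
    have e1 := h.conj_right (i := 0) (j := 1) (k := 3) (by decide) (by decide) (by decide) q.w (P.conj p.w)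
    have e2 := h.conj_left (i := 0) (j := 2) (k := 3) (by decide) (by decide) (by decide) (-p.w) (P.conj q.w)
    have c1 := h.comm 1 3 2 3 (by decide) (by decide) (by decide) (by decide) (P.conj p.w) (P.conj q.w)
    have c2 := h.comm 0 2 0 1 (by decide) (by decide) (by decide) (by decide) (-p.w) q.w
    have c3 := h.comm 0 2 0 3 (by decide) (by decide) (by decide) (by decide) (-p.w) (-(q.w * P.conj p.w))
    have c4 := h.comm 0 1 0 3 (by decide) (by decide) (by decide) (by decide) q.w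
      (-(q.w * P.conj p.w) + -p.w * P.conj q.w)
    have g1 : algebraMap F E (-P.datum.h q.w p.w) = -(q.w * P.conj p.w) + -p.w * P.conj q.w := by
      rw [P.datum_h, map_neg, P.hT, map_mul, P.conj_conj]; ring
    simp only [maps, commutatorElement_def]
    rw [g1]
    have a4 := h.add 0 3 (by decide) (-(q.w * P.conj p.w)) (-p.w * P.conj q.w)
    generalize x 0 3 (-(q.w * P.conj p.w) + -p.w * P.conj q.w) = Z at *
    generalize x 0 3 (-(q.w * P.conj p.w)) = Z1 at *
    generalize x 0 3 (-p.w * P.conj q.w) = Z2 at *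
    generalize x 0 2 (-p.w) = A at *
    generalize x 1 3 (P.conj p.w) = B at *
    generalize x 0 1 q.w = C at *
    generalize x 2 3 (P.conj q.w) = D at *
    calc A * B * (C * D) * (A * B)⁻¹ * (C * D)⁻¹
        = A * (B * C * B⁻¹) * (B * D) * B⁻¹ * A⁻¹ * D⁻¹ * C⁻¹ := by group
      _ = A * (C * Z1) * (D * B) * B⁻¹ * A⁻¹ * D⁻¹ * C⁻¹ := by rw [e1, c1]
      _ = (A * C) * Z1 * D * A⁻¹ * D⁻¹ * C⁻¹ := by group
      _ = C * (A * Z1) * D * A⁻¹ * D⁻¹ * C⁻¹ := by rw [c2]; group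
      _ = C * Z1 * (A * D * A⁻¹) * D⁻¹ * C⁻¹ := by rw [c3]; group
      _ = C * (Z1 * Z2) * C⁻¹ := by rw [e2]; group
      _ = C * Z * C⁻¹ := by rw [a4]
      _ = Z := by rw [c4]; group
  x_y a b := by
    have c := h.comm 1 2 0 3 (by decide) (by decide) (by decide) (by decide) (algebraMap F E a) (algebraMap F E b)
    have g : (P.datum.tr a b).w = 0 := rfl
    simp only [maps, g, map_zero, neg_zero, commutatorElement_def]
    rw [c, h.zero (by decide), h.zero (by decide)]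
    group
  x_z₁ a p := by
    have c1 : Commute (x 1 2 (algebraMap F E a)) (x 0 2 (-p.w)) :=
      h.comm 1 2 0 2 (by decide) (by decide) (by decide) (by decide) _ _
    have c2 : Commute (x 1 2 (algebraMap F E a)) (x 1 3 (P.conj p.w)) :=
      h.comm 1 2 1 3 (by decide) (by decide) (by decide) (by decide) _ _
    exact c1.mul_right c2
  y_z₁ b p := by
    have c1 : Commute (x 0 3 (algebraMap F E b)) (x 0 2 (-p.w)) :=
      h.comm 0 3 0 2 (by decide) (by decide) (by decide) (by decide) _ _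
    have c2 : Commute (x 0 3 (algebraMap F E b)) (x 1 3 (P.conj p.w)) :=
      h.comm 0 3 1 3 (by decide) (by decide) (by decide) (by decide) _ _
    exact c1.mul_right c2
  y_z₂ b p := by
    have c1 : Commute (x 0 3 (algebraMap F E b)) (x 0 1 p.w) :=
      h.comm 0 3 0 1 (by decide) (by decide) (by decide) (by decide) _ _
    have c2 : Commute (x 0 3 (algebraMap F E b)) (x 2 3 (P.conj p.w)) :=
      h.comm 0 3 2 3 (by decide) (by decide) (by decide) (by decide) _ _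
    exact c1.mul_right c2
  nI_x a := by
    have I := mono_nI P h
    show (maps P x).nI * x 1 2 _ * (maps P x).nI⁻¹ = x 2 1 _
    rw [I 1 2 (by decide)]
    simp [nl, Equiv.swap_apply_def]
  nI_x' a := by
    have I := mono_nI P h
    show (maps P x).nI * x 2 1 _ * (maps P x).nI⁻¹ = x 1 2 _
    rw [I 2 1 (by decide)]
    simp [nl, Equiv.swap_apply_def]
  nI_y b := by
    have I := mono_nI P h
    show (maps P x).nI * x 0 3 _ * (maps P x).nI⁻¹ = x 0 3 _
    rw [I 0 3 (by decide)]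
    simp [nl, Equiv.swap_apply_def]
  nI_y' b := by
    have I := mono_nI P h
    show (maps P x).nI * x 3 0 _ * (maps P x).nI⁻¹ = x 3 0 _
    rw [I 3 0 (by decide)]
    simp [nl, Equiv.swap_apply_def]
  nI_z₁ p := by
    have I := mono_nI P h
    show (maps P x).nI * (x 0 2 _ * x 1 3 _) * (maps P x).nI⁻¹ = x 0 1 _ * x 2 3 _
    rw [mul_conj, I 0 2 (by decide), I 1 3 (by decide)]
    simp [nl, Equiv.swap_apply_def]
  nI_z₂ p := by
    have I := mono_nI P h
    show (maps P x).nI * (x 0 1 _ * x 2 3 _) * (maps P x).nI⁻¹ = x 0 2 _ * x 1 3 _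
    rw [mul_conj, I 0 1 (by decide), I 2 3 (by decide)]
    simp [nl, Equiv.swap_apply_def]
  nI_z₁' p := by
    have I := mono_nI P h
    show (maps P x).nI * (x 2 0 _ * x 3 1 _) * (maps P x).nI⁻¹ = x 1 0 _ * x 3 2 _
    rw [mul_conj, I 2 0 (by decide), I 3 1 (by decide)]
    simp [nl, Equiv.swap_apply_def]
  nI_z₂' p := by
    have I := mono_nI P h
    show (maps P x).nI * (x 1 0 _ * x 3 2 _) * (maps P x).nI⁻¹ = x 2 0 _ * x 3 1 _
    rw [mul_conj, I 1 0 (by decide), I 3 2 (by decide)]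
    simp [nl, Equiv.swap_apply_def]
  nII_x p hp a := by
    have I := mono_nII P h hp
    have hc : p.c = -P.N p.w := p.ok
    show (maps P x).nII p * x 1 2 _ * ((maps P x).nII p)⁻¹ = x 0 3 _
    rw [I 1 2 (by decide)]
    have e : algebraMap F E (P.datum.ε * P.datum.σ p.c * a) = p.w * -(P.conj p.w) * algebraMap F E a := by
      rw [P.datum_ε, P.datum_σ, hc, one_mul, map_mul, map_neg, P.hN]; ring
    rw [e]
    simp [Equiv.swap_apply_def]
  nII_y p hp b := by
    have I := mono_nII P h hp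
    have hc : p.c = -P.N p.w := p.ok
    show (maps P x).nII p * x 0 3 _ * ((maps P x).nII p)⁻¹ = x 1 2 _
    rw [I 0 3 (by decide)]
    have e : algebraMap F E (p.c⁻¹ * b) = -p.w⁻¹ * (P.conj p.w)⁻¹ * algebraMap F E b := by
      rw [hc, map_mul, map_inv₀, map_neg, P.hN, inv_neg, mul_inv]; ring
    rw [e]
    simp [Equiv.swap_apply_def]
  nII_x' p hp a := by
    have I := mono_nII P h hp
    have hc : p.c = -P.N p.w := p.ok
    show (maps P x).nII p * x 2 1 _ * ((maps P x).nII p)⁻¹ = x 3 0 _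
    rw [I 2 1 (by decide)]
    have e : -algebraMap F E (-(p.c⁻¹ * P.datum.σ a)) = -(P.conj p.w)⁻¹ * p.w⁻¹ * algebraMap F E a := by
      rw [P.datum_σ, hc, map_neg, neg_neg, map_mul, map_inv₀, map_neg, P.hN, inv_neg, mul_inv]; ring
    rw [e]
    simp [Equiv.swap_apply_def]
  nII_y' p hp b := by
    have I := mono_nII P h hp
    have hc : p.c = -P.N p.w := p.ok
    show (maps P x).nII p * x 3 0 _ * ((maps P x).nII p)⁻¹ = x 2 1 _
    rw [I 3 0 (by decide)]
    have e : algebraMap F E (-(P.datum.ε⁻¹ * p.c * P.datum.σ b)) =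
        P.conj p.w * (-p.w⁻¹)⁻¹ * -algebraMap F E b := by
      rw [P.datum_σ, P.datum_ε, hc, inv_one, one_mul, map_neg, map_mul, map_neg, P.hN, inv_neg, inv_inv]; ring
    rw [e]
    simp [Equiv.swap_apply_def]
  nII_z₁ p hp q := by
    have I := mono_nII P h hp
    have hw := w_ne P hp
    have hcw := conj_ne P hw
    show (maps P x).nII p * (x 0 2 _ * x 1 3 _) * ((maps P x).nII p)⁻¹ = x 0 2 _ * x 1 3 _
    rw [mul_conj, I 0 2 (by decide), I 1 3 (by decide), refl_w]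
    have e1 : P.conj (-(P.conj q.w * p.w * (P.conj p.w)⁻¹)) = -(q.w * P.conj p.w * p.w⁻¹) := by
      rw [map_neg, map_mul, map_mul, map_inv₀, P.conj_conj, P.conj_conj]
    rw [e1]
    have c := h.comm 1 3 0 2 (by decide) (by decide) (by decide) (by decide)
      (-(q.w * P.conj p.w * p.w⁻¹)) (- -(P.conj q.w * p.w * (P.conj p.w)⁻¹))
    rw [← c]
    have e2 : -p.w⁻¹ * (-(P.conj p.w)⁻¹)⁻¹ * -q.w = -(q.w * P.conj p.w * p.w⁻¹) := by
      rw [inv_neg, inv_inv]; ring
    have e3 : p.w * (P.conj p.w)⁻¹ * P.conj q.w = - -(P.conj q.w * p.w * (P.conj p.w)⁻¹) := by ring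
    rw [← e2, ← e3]
    simp [Equiv.swap_apply_def]
  nII_z₁' p hp q := by
    have I := mono_nII P h hp
    have hw := w_ne P hp
    have hcw := conj_ne P hw
    show (maps P x).nII p * (x 2 0 _ * x 3 1 _) * ((maps P x).nII p)⁻¹ = x 2 0 _ * x 3 1 _
    rw [mul_conj, I 2 0 (by decide), I 3 1 (by decide), refl_w]
    have e1 : P.conj (-(P.conj q.w * p.w * (P.conj p.w)⁻¹)) = -(q.w * P.conj p.w * p.w⁻¹) := by
      rw [map_neg, map_mul, map_mul, map_inv₀, P.conj_conj, P.conj_conj]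
    rw [e1]
    have c := h.comm 3 1 2 0 (by decide) (by decide) (by decide) (by decide)
      (- -(P.conj q.w * p.w * (P.conj p.w)⁻¹)) (-(q.w * P.conj p.w * p.w⁻¹))
    rw [← c]
    have e2 : P.conj p.w * p.w⁻¹ * -q.w = -(q.w * P.conj p.w * p.w⁻¹) := by ring
    have e3 : -(P.conj p.w)⁻¹ * (-p.w⁻¹)⁻¹ * P.conj q.w = - -(P.conj q.w * p.w * (P.conj p.w)⁻¹) := by
      rw [inv_neg, inv_inv]; ring
    rw [← e2, ← e3]
    simp [Equiv.swap_apply_def]
  nII_z₂ p hp q := by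
    have I := mono_nII P h hp
    have hw := w_ne P hp
    have hcw := conj_ne P hw
    have hc : p.c = -P.N p.w := p.ok
    show (maps P x).nII p * (x 0 1 _ * x 2 3 _) * ((maps P x).nII p)⁻¹ = x 1 0 _ * x 3 2 _
    rw [mul_conj, I 0 1 (by decide), I 2 3 (by decide), PQDatum.sc_w, refl_w]
    have e0 : P.datum.σ (P.datum.σ p.c)⁻¹ • -(P.conj q.w * p.w * (P.conj p.w)⁻¹) =
        P.conj q.w * (P.conj p.w)⁻¹ * (P.conj p.w)⁻¹ := by
      rw [P.datum_σ, P.datum_σ, hc, Algebra.smul_def, map_inv₀, map_neg, P.hN]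
      field_simp
    rw [e0]
    have e1 : -P.conj (P.conj q.w * (P.conj p.w)⁻¹ * (P.conj p.w)⁻¹) = -p.w⁻¹ * p.w⁻¹ * q.w := by
      rw [map_mul, map_mul, map_inv₀, P.conj_conj, P.conj_conj]; ring
    have e2 : -(P.conj q.w * (P.conj p.w)⁻¹ * (P.conj p.w)⁻¹) = -(P.conj p.w)⁻¹ * (P.conj p.w)⁻¹ * P.conj q.w := by
      ring
    rw [e1, e2]
    simp [Equiv.swap_apply_def]
  nII_z₂' p hp q := by
    have I := mono_nII P h hp
    have hw := w_ne P hp
    have hcw := conj_ne P hw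
    have hc : p.c = -P.N p.w := p.ok
    show (maps P x).nII p * (x 1 0 _ * x 3 2 _) * ((maps P x).nII p)⁻¹ = x 0 1 _ * x 2 3 _
    rw [mul_conj, I 1 0 (by decide), I 3 2 (by decide), PQDatum.sc_w, refl_w]
    have e0 : P.datum.σ (P.datum.ε⁻¹ * p.c) • -(P.conj q.w * p.w * (P.conj p.w)⁻¹) =
        P.conj q.w * p.w * p.w := by
      rw [P.datum_σ, P.datum_ε, hc, inv_one, one_mul, Algebra.smul_def, map_neg, P.hN]
      field_simp
    rw [e0]
    have e1 : P.conj (P.conj q.w * p.w * p.w) = P.conj p.w * (-(P.conj p.w)⁻¹)⁻¹ * -q.w := by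
      rw [map_mul, map_mul, P.conj_conj, inv_neg, inv_inv]; ring
    have e2 : P.conj q.w * p.w * p.w = p.w * (-p.w⁻¹)⁻¹ * -P.conj q.w := by
      rw [inv_neg, inv_inv]; ring
    rw [e1, e2]
    simp [Equiv.swap_apply_def]

end B2

end Cfsg.Agent.TitsThree.KExcA3
end

-- part: TitsThree/KExcTwTab
section
/-!
# Tables for the twisted group `²E₆(q)` as a model of type `F₄` (S1143, K side)
-/

set_option autoImplicit false

namespace Cfsg.Agent.TitsThree.KExcTwTab

open Cfsg.Lie Cfsg.Agent.ChevalleyStructure.Elts Cfsg.Agent.AGraded Cfsg.Agent.TitsThree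
open Cfsg.Agent.TitsThree.KExcBase Cfsg.Agent.TitsThree.KExcRT
open scoped commutatorElement

universe u

/-! ### Tables -/

/-- The roots of type `A₃`. -/
def r4 : Fin 4 → Fin 4 → ℕ := ![![0, 42, 43, 44], ![29, 0, 39, 40], ![28, 32, 0, 37], ![27, 31, 34, 0]]
/-- The signs. -/
def s4 : Fin 4 → Fin 4 → ℤ := ![![1, 1, -1, 1], ![1, 1, 1, -1], ![-1, 1, 1, 1], ![1, -1, 1, 1]]

theorem r4a : RTa chevE6 r4 := by decide +kernel
theorem r4b : RTb chevE6 r4 s4 := by decide +kernel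
theorem r4c : RTc chevE6 r4 := by decide +kernel
theorem s4d : RTd s4 := by decide +kernel

/-- The roots of the edge `0-1`. -/
def rA : Fin 3 → Fin 3 → ℕ := ![![0, 46, 47], ![25, 0, 39], ![24, 32, 0]]

theorem rAa : RTa chevE6 rA := by decide +kernel
theorem rAb : RTb chevE6 rA sg := by decide +kernel
theorem rAc : RTc chevE6 rA := by decide +kernel

/-- The roots of the first half of the edge `2-3`. -/
def rB : Fin 3 → Fin 3 → ℕ := ![![0, 42, 57], ![29, 0, 56], ![14, 15, 0]]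

theorem rBa : RTa chevE6 rB := by decide +kernel
theorem rBb : RTb chevE6 rB (fun _ _ => 1) := by decide +kernel
theorem rBc : RTc chevE6 rB := by decide +kernel

/-- The roots of the second half of the edge `2-3`. -/
def rC : Fin 3 → Fin 3 → ℕ := ![![0, 37, 38], ![34, 0, 36], ![33, 35, 0]]

theorem rCa : RTa chevE6 rC := by decide +kernel
theorem rCb : RTb chevE6 rC sg := by decide +kernel
theorem rCc : RTc chevE6 rC := by decide +kernel

theorem rBC : ∀ i j k l : Fin 3, i ≠ j → k ≠ l → NilTab chevE6 (rB i j) (rC k l) := by decide +kernel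

theorem nils0 : ∀ r ∈ [46, 25], ∀ s ∈ [42, 37, 29, 34, 56, 36, 15, 35], NilTab chevE6 r s := by decide +kernel
theorem nils1 : ∀ r ∈ [39, 32], ∀ s ∈ [56, 36, 15, 35], NilTab chevE6 r s := by decide +kernel
theorem nils2 : ∀ r ∈ [42, 29], ∀ s ∈ [37, 34], NilTab chevE6 r s := by decide +kernel
theorem nils3 : ∀ r ∈ [56, 15], ∀ s ∈ [36, 35], NilTab chevE6 r s := by decide +kernel

theorem negs : chevE6.neg 46 = 25 ∧ chevE6.neg 39 = 32 ∧ chevE6.neg 56 = 15 ∧ chevE6.neg 36 = 35 ∧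
    chevE6.neg 29 = 42 ∧ chevE6.neg 34 = 37 := by decide +kernel

end Cfsg.Agent.TitsThree.KExcTwTab
end

-- part: TitsThree/KExcTwE6
section
/-!
# The twisted group `²E₆(q)` as a model of type `F₄` (S1143, K side)

`kff`: for a pair of finite fields `F ⊂ E`, `|E| = |F|²`, the group `²E₆(|F|)` in `E₆(E)` carries the package
`Pack.KFF` over the datum of the norm form of `E` over `F`.
-/

set_option autoImplicit false
set_option linter.unusedSectionVars false

namespace Cfsg.Agent.TitsThree.KExcTwE6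

open Cfsg.Lie Cfsg.Agent.ChevalleyStructure.Elts Cfsg.Agent.AGraded Cfsg.Agent.TitsThree
open Cfsg.Agent.TitsThree.KExcBase Cfsg.Agent.TitsThree.KExcRT Cfsg.Agent.TitsThree.FFData
open Cfsg.Agent.TitsThree.B2Pkg Cfsg.Agent.TitsThree.KExcTwTab
open Cfsg.Agent.ChevalleyStructure
open Cfsg.Agent.ChevalleyStructure.TwE6Basic (twisted_le_iff single_mem pair_mem)
open scoped commutatorElement

universe u

/-! ### Subgroups -/

section Sub

/-- An edge of type `A₂` inside a subgroup. -/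
theorem edge3_sub' {E Y : Type*} [Field E] [Group Y] {x : Fin 3 → Fin 3 → E → Y} (h : SteinRel x)
    {H : Subgroup Y} {xp xm yp ym : E → ↥H} (h01 : ∀ t, (xp t : Y) = x 0 1 t) (h10 : ∀ t, (xm t : Y) = x 1 0 t)
    (h12 : ∀ t, (yp t : Y) = x 1 2 t) (h21 : ∀ t, (ym t : Y) = x 2 1 t) : Pack.Edge3 xp xm yp ym := by
  have e := edge3_sub h (H := H) (fun t => h01 t ▸ (xp t).2) (fun t => h10 t ▸ (xm t).2)
    (fun t => h12 t ▸ (yp t).2) (fun t => h21 t ▸ (ym t).2)
  convert e using 1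
  · funext t; exact Subtype.ext (h01 t)
  · funext t; exact Subtype.ext (h10 t)
  · funext t; exact Subtype.ext (h12 t)
  · funext t; exact Subtype.ext (h21 t)

variable {F V Y : Type*} [Field F] [AddCommGroup V] [Module F V] [Group Y] {D : PQDatum F V}

/-- A package of type `B₂` inside a subgroup. -/
def subMaps (m : B2Maps D Y) (H : Subgroup Y) (h1 : ∀ a, m.x a ∈ H) (h2 : ∀ a, m.x' a ∈ H) (h3 : ∀ a, m.y a ∈ H)
    (h4 : ∀ a, m.y' a ∈ H) (h5 : ∀ p, m.z₁ p ∈ H) (h6 : ∀ p, m.z₂ p ∈ H) (h7 : ∀ p, m.z₁' p ∈ H)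
    (h8 : ∀ p, m.z₂' p ∈ H) : B2Maps D ↥H where
  x a := ⟨m.x a, h1 a⟩
  x' a := ⟨m.x' a, h2 a⟩
  y a := ⟨m.y a, h3 a⟩
  y' a := ⟨m.y' a, h4 a⟩
  z₁ p := ⟨m.z₁ p, h5 p⟩
  z₂ p := ⟨m.z₂ p, h6 p⟩
  z₁' p := ⟨m.z₁' p, h7 p⟩
  z₂' p := ⟨m.z₂' p, h8 p⟩

variable {m : B2Maps D Y} {H : Subgroup Y} {h1 : ∀ a, m.x a ∈ H} {h2 : ∀ a, m.x' a ∈ H} {h3 : ∀ a, m.y a ∈ H}
    {h4 : ∀ a, m.y' a ∈ H} {h5 : ∀ p, m.z₁ p ∈ H} {h6 : ∀ p, m.z₂ p ∈ H} {h7 : ∀ p, m.z₁' p ∈ H}
    {h8 : ∀ p, m.z₂' p ∈ H}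

theorem subRel (hm : B2Rel m) : B2Rel (subMaps m H h1 h2 h3 h4 h5 h6 h7 h8) :=
  B2Rel.of_map (f := H.subtype) Subtype.val_injective hm

theorem sub_nII (p : D.T) : (((subMaps m H h1 h2 h3 h4 h5 h6 h7 h8).nII p : ↥H) : Y) = m.nII p := rfl

end Sub

/-! ### Commuting products -/

section Nn

variable {Y : Type*} [Group Y]

theorem prod_split {A B C D : Y} (c1 : Commute A C) (c2 : Commute A D) (c3 : Commute B C) :
    A * C * (B * D) * (A * C) = A * B * A * (C * D * C) := by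
  calc A * C * (B * D) * (A * C) = A * (C * B) * (D * A) * C := by group
    _ = A * B * (C * A) * D * C := by rw [← c3.eq, ← c2.eq]; group
    _ = A * B * A * (C * D * C) := by rw [← c1.eq]; group

theorem quot_split {A B A' B' : Y} (c1 : Commute A' B) (c2 : Commute A' B') :
    A * B * (A' * B')⁻¹ = A * A'⁻¹ * (B * B'⁻¹) := by
  have h1 : Commute A'⁻¹ (B * B'⁻¹) := (c1.mul_right c2.inv_right).inv_left
  calc A * B * (A' * B')⁻¹ = A * (B * B'⁻¹ * A'⁻¹) := by group
    _ = _ := by rw [← h1.eq]; group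

end Nn

section E6

variable {E : Type u} [Field E]

theorem cm {r s : ℕ} (h : NilTab chevE6 r s) (t u : E) : Commute (xG E6_mem r t) (xG E6_mem s u) :=
  comm_nil E6_mem h.1 h.2.1 h.2.2.1 h.2.2.2.1 h.2.2.2.2 t u

theorem cm0 {r s : ℕ} (hr : r ∈ [46, 25]) (hs : s ∈ [42, 37, 29, 34, 56, 36, 15, 35]) (t u : E) :
    Commute (xG E6_mem r t) (xG E6_mem s u) := cm (nils0 r hr s hs) t u

theorem cm1 {r s : ℕ} (hr : r ∈ [39, 32]) (hs : s ∈ [56, 36, 15, 35]) (t u : E) :
    Commute (xG E6_mem r t) (xG E6_mem s u) := cm (nils1 r hr s hs) t u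

theorem cm2 {r s : ℕ} (hr : r ∈ [42, 29]) (hs : s ∈ [37, 34]) (t u : E) :
    Commute (xG E6_mem r t) (xG E6_mem s u) := cm (nils2 r hr s hs) t u

theorem cm3 {r s : ℕ} (hr : r ∈ [56, 15]) (hs : s ∈ [36, 35]) (t u : E) :
    Commute (xG E6_mem r t) (xG E6_mem s u) := cm (nils3 r hr s hs) t u

theorem nG_eq {r r' : ℕ} (h : chevE6.neg r = r') (t : E) :
    xG E6_mem r t * xG E6_mem r' (-t⁻¹) * xG E6_mem r t = nG E6_mem r t := by
  rw [nG_def, h, mul_assoc]

theorem nG_commute {r r' s s' : ℕ} (hr : chevE6.neg r = r') (hs : chevE6.neg s = s') (c1 : NilTab chevE6 r s)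
    (c2 : NilTab chevE6 r s') (c3 : NilTab chevE6 r' s) (c4 : NilTab chevE6 r' s') (a b : E) :
    Commute (nG E6_mem r a) (nG E6_mem s b) := by
  rw [← nG_eq hr, ← nG_eq hs]
  have d1 : ∀ u v : E, Commute (xG E6_mem r u) (xG E6_mem s v) := cm c1
  have d2 : ∀ u v : E, Commute (xG E6_mem r u) (xG E6_mem s' v) := cm c2
  have d3 : ∀ u v : E, Commute (xG E6_mem r' u) (xG E6_mem s v) := cm c3
  have d4 : ∀ u v : E, Commute (xG E6_mem r' u) (xG E6_mem s' v) := cm c4
  have e1 : ∀ u, Commute (xG E6_mem r u) (xG E6_mem s b * xG E6_mem s' (-b⁻¹) * xG E6_mem s b) := fun u =>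
    ((d1 u _).mul_right (d2 u _)).mul_right (d1 u _)
  have e2 : ∀ u, Commute (xG E6_mem r' u) (xG E6_mem s b * xG E6_mem s' (-b⁻¹) * xG E6_mem s b) := fun u =>
    ((d3 u _).mul_right (d4 u _)).mul_right (d3 u _)
  exact ((e1 _).mul_left (e2 _)).mul_left (e1 _)

theorem diag_le : chevE6.diagonalSubgroup E ≤ chevE6.borelSubgroup E := le_sup_right

theorem nG_quot_mem {r : ℕ} (hr : r < 72) {a b : E} (ha : a ≠ 0) (hb : b ≠ 0) :
    nG E6_mem r a * (nG E6_mem r b)⁻¹ ∈ chevE6.borelSubgroup E :=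
  diag_le (MonomialNormal.nG_mul_nG_inv_mem E6_mem hr ha hb)

theorem nG_pair_mem {r s : ℕ} (hr : r < 72) (hs : s < 72)
    (hc : ∀ a b : E, Commute (nG E6_mem r a) (nG E6_mem s b)) {a b a' b' : E} (ha : a ≠ 0) (hb : b ≠ 0)
    (ha' : a' ≠ 0) (hb' : b' ≠ 0) :
    nG E6_mem r a * nG E6_mem s b * (nG E6_mem r a' * nG E6_mem s b')⁻¹ ∈ chevE6.borelSubgroup E := by
  rw [quot_split (hc _ _) (hc _ _)]
  exact Subgroup.mul_mem _ (nG_quot_mem hr ha ha') (nG_quot_mem hs hb hb')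

theorem xG_mem_borel {r : ℕ} (hr : r < 72) (hp : 36 ≤ r) (t : E) : xG E6_mem r t ∈ chevE6.borelSubgroup E :=
  TwE6BN.U_le_B (TwE6BN.mem_U (r := ⟨r, hr⟩) hp t)

/-! ### The Steinberg systems -/

theorem stein4 : SteinRel (xr (F := E) E6_mem r4 s4) := stein E6_mem r4a r4b r4c s4d

theorem steinA : SteinRel (xr (F := E) E6_mem rA sg) := stein E6_mem rAa rAb rAc sg_mul_self

theorem steinB : SteinRel (xr (F := E) E6_mem rB fun _ _ => 1) := stein E6_mem rBa rBb rBc fun _ _ => rfl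

theorem steinC : SteinRel (xr (F := E) E6_mem rC sg) := stein E6_mem rCa rCb rCc sg_mul_self

theorem x4_01 (t : E) : xr E6_mem r4 s4 0 1 t = xG E6_mem 42 t := by simp [xr, r4, s4]
theorem x4_10 (t : E) : xr E6_mem r4 s4 1 0 t = xG E6_mem 29 t := by simp [xr, r4, s4]
theorem x4_12 (t : E) : xr E6_mem r4 s4 1 2 t = xG E6_mem 39 t := by simp [xr, r4, s4]
theorem x4_21 (t : E) : xr E6_mem r4 s4 2 1 t = xG E6_mem 32 t := by simp [xr, r4, s4]
theorem x4_23 (t : E) : xr E6_mem r4 s4 2 3 t = xG E6_mem 37 t := by simp [xr, r4, s4]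
theorem x4_32 (t : E) : xr E6_mem r4 s4 3 2 t = xG E6_mem 34 t := by simp [xr, r4, s4]
theorem x4_02 (t : E) : xr E6_mem r4 s4 0 2 t = xG E6_mem 43 (-t) := by simp [xr, r4, s4]
theorem x4_13 (t : E) : xr E6_mem r4 s4 1 3 t = xG E6_mem 40 (-t) := by simp [xr, r4, s4]
theorem x4_03 (t : E) : xr E6_mem r4 s4 0 3 t = xG E6_mem 44 t := by simp [xr, r4, s4]

theorem steinBC (σ : E →+* E) :
    SteinRel fun i j t => xr (F := E) E6_mem rB (fun _ _ => 1) i j t * xr E6_mem rC sg i j (σ t) :=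
  stein_mul_twist steinB steinC (fun i j k l hij hkl s t => cm (rBC i j k l hij hkl) _ _) σ

end E6

section Main

variable {F : Type*} {E : Type u} [Field F] [Field E] [Algebra F E] (P : ConjPair F E) (q : ℕ)

/-- The `B₂` package in `E₆(E)`. -/
noncomputable def m6 : B2Maps P.datum (GL chevE6.Idx E) := KExcA3.maps P (xr E6_mem r4 s4)

theorem rel6 : B2Rel (m6 P) := KExcA3.b2rel P stein4

theorem m6_nII {t : E} (ht : t ≠ 0) :
    (m6 P).nII (P.τ t) = nG E6_mem 29 (-t⁻¹) * nG E6_mem 34 (-(P.conj t)⁻¹) := by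
  rw [m6, KExcA3.nII_eq P stein4 ht]
  simp only [nn, x4_10, x4_01, x4_32, x4_23]
  rw [nG_eq negs.2.2.2.2.1, nG_eq negs.2.2.2.2.2]

variable {q} (hP : ∀ t, P.conj t = t ^ q)
include hP

theorem mem_single {r : ℕ} (hr : r ∈ [46, 25, 39, 32]) (a : F) :
    xG E6_mem r (algebraMap F E a) ∈ twistedE6 E q :=
  single_mem (by rw [← hP, P.conj_alg]) hr

theorem mem_pair {rs : ℕ × ℕ} (hr : rs ∈ [(56, 36), (15, 35), (42, 37), (29, 34)]) (t : E) :
    xG E6_mem rs.1 t * xG E6_mem rs.2 (P.conj t) ∈ twistedE6 E q := by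
  rw [hP]; exact pair_mem t hr

theorem mem_x (a : F) : (m6 P).x a ∈ twistedE6 E q := by
  have := mem_single P hP (r := 39) (by decide) a
  rw [← x4_12] at this
  exact this

theorem mem_x' (a : F) : (m6 P).x' a ∈ twistedE6 E q := by
  have := mem_single P hP (r := 32) (by decide) a
  rw [← x4_21] at this
  exact this

theorem mem_z₂ (p : P.datum.T) : (m6 P).z₂ p ∈ twistedE6 E q := by
  have := mem_pair P hP (rs := (42, 37)) (by decide) p.w
  rw [← x4_01, ← x4_23] at this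
  exact this

theorem mem_z₂' (p : P.datum.T) : (m6 P).z₂' p ∈ twistedE6 E q := by
  have := mem_pair P hP (rs := (29, 34)) (by decide) (-P.conj p.w)
  rw [map_neg, P.conj_conj, ← x4_10, ← x4_32] at this
  exact this

theorem mem_nI : (m6 P).nI ∈ twistedE6 E q :=
  Subgroup.mul_mem _ (Subgroup.mul_mem _ (mem_x P hP _) (mem_x' P hP _)) (mem_x P hP _)

theorem mem_nII (p : P.datum.T) : (m6 P).nII p ∈ twistedE6 E q :=
  Subgroup.mul_mem _ (Subgroup.mul_mem _ (mem_z₂' P hP _) (mem_z₂ P hP _)) (mem_z₂' P hP _)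

theorem mem_z₁ (p : P.datum.T) : (m6 P).z₁ p ∈ twistedE6 E q := by
  rw [← (rel6 P).nI_z₂ p]
  exact Subgroup.mul_mem _ (Subgroup.mul_mem _ (mem_nI P hP) (mem_z₂ P hP _)) (Subgroup.inv_mem _ (mem_nI P hP))

theorem mem_z₁' (p : P.datum.T) : (m6 P).z₁' p ∈ twistedE6 E q := by
  rw [← (rel6 P).nI_z₂' p]
  exact Subgroup.mul_mem _ (Subgroup.mul_mem _ (mem_nI P hP) (mem_z₂' P hP _)) (Subgroup.inv_mem _ (mem_nI P hP))

theorem mem_y (b : F) : (m6 P).y b ∈ twistedE6 E q := by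
  have h1 : (P.τ 1).c = -1 := by rw [P.τ_c, P.N_one]
  have h := (rel6 P).nII_x (P.τ 1) (by rw [h1]; exact neg_ne_zero.2 one_ne_zero) (-b)
  rw [h1, P.datum_σ, P.datum_ε, one_mul, neg_mul_neg, one_mul] at h
  rw [← h]
  exact Subgroup.mul_mem _ (Subgroup.mul_mem _ (mem_nII P hP _) (mem_x P hP _)) (Subgroup.inv_mem _ (mem_nII P hP _))

theorem mem_y' (b : F) : (m6 P).y' b ∈ twistedE6 E q := by
  have h1 : (P.τ 1).c = -1 := by rw [P.τ_c, P.N_one]
  have h := (rel6 P).nII_x' (P.τ 1) (by rw [h1]; exact neg_ne_zero.2 one_ne_zero) b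
  rw [h1, P.datum_σ, inv_neg, inv_one, neg_mul, neg_neg, one_mul] at h
  rw [← h]
  exact Subgroup.mul_mem _ (Subgroup.mul_mem _ (mem_nII P hP _) (mem_x' P hP _)) (Subgroup.inv_mem _ (mem_nII P hP _))

theorem gen_of (hfix : ∀ t : E, t ^ q = t → t ∈ Set.range (algebraMap F E)) {S : Set ↥(twistedE6 E q)}
    (h1 : ∀ r, ∀ hr : r ∈ [46, 25, 39, 32], ∀ a : F,
      (⟨xG E6_mem r (algebraMap F E a), mem_single P hP hr a⟩ : ↥(twistedE6 E q)) ∈ S)
    (h2 : ∀ rs : ℕ × ℕ, ∀ hr : rs ∈ [(56, 36), (15, 35), (42, 37), (29, 34)], ∀ t : E,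
      (⟨xG E6_mem rs.1 t * xG E6_mem rs.2 (P.conj t), mem_pair P hP hr t⟩ : ↥(twistedE6 E q)) ∈ S) :
    Subgroup.closure S = ⊤ := by
  have key : twistedE6 E q ≤ (Subgroup.closure S).map (twistedE6 E q).subtype := by
    rw [twisted_le_iff]
    constructor
    · intro t ht r hr
      obtain ⟨a, rfl⟩ := hfix t ht
      exact ⟨_, Subgroup.subset_closure (h1 r hr a), rfl⟩
    · intro t rs hr
      rw [← hP]
      exact ⟨_, Subgroup.subset_closure (h2 rs hr t), rfl⟩
  rw [eq_top_iff]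
  intro g _
  obtain ⟨g', hg', he⟩ := key g.2
  rwa [← Subtype.ext he]

omit hP in
theorem hh_single {r r' : ℕ} (hr : r < 72) (hneg : chevE6.neg r = r') {t : F} (ht : t ≠ 0) :
    xG E6_mem r (algebraMap F E t) * xG E6_mem r' (algebraMap F E (-t⁻¹)) * xG E6_mem r (algebraMap F E t) *
      (xG E6_mem r (algebraMap F E 1) * xG E6_mem r' (algebraMap F E (-1⁻¹)) *
        xG E6_mem r (algebraMap F E 1))⁻¹ ∈ chevE6.borelSubgroup E := by
  rw [map_neg, map_inv₀, nG_eq hneg, map_neg, map_inv₀, nG_eq hneg]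
  exact nG_quot_mem hr ((map_ne_zero _).2 ht) ((map_ne_zero _).2 one_ne_zero)

omit hP in
theorem nn_pair (t : E) :
    xG E6_mem 56 t * xG E6_mem 36 (P.conj t) * (xG E6_mem 15 (-t⁻¹) * xG E6_mem 35 (P.conj (-t⁻¹))) *
      (xG E6_mem 56 t * xG E6_mem 36 (P.conj t)) = nG E6_mem 56 t * nG E6_mem 36 (P.conj t) := by
  rw [prod_split (cm3 (by decide) (by decide) _ _) (cm3 (by decide) (by decide) _ _)
    (cm3 (by decide) (by decide) _ _), nG_eq negs.2.2.1, map_neg, map_inv₀, nG_eq negs.2.2.2.1]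

/-- `²E₆(q)` as a model of type `F₄`. -/
noncomputable def kffG (hfix : ∀ t : E, t ^ q = t → t ∈ Set.range (algebraMap F E)) :
    Pack.KFF ↥(twistedE6 E q) P.datum P.τ P.τ' where
  x0 a := ⟨xG E6_mem 46 (algebraMap F E a), mem_single P hP (by decide) a⟩
  y0 a := ⟨xG E6_mem 25 (algebraMap F E a), mem_single P hP (by decide) a⟩
  x1 a := ⟨xG E6_mem 39 (algebraMap F E a), mem_single P hP (by decide) a⟩
  y1 a := ⟨xG E6_mem 32 (algebraMap F E a), mem_single P hP (by decide) a⟩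
  x2 t := ⟨xG E6_mem 42 t * xG E6_mem 37 (P.conj t), mem_pair P hP (rs := (42, 37)) (by decide) t⟩
  y2 t := ⟨xG E6_mem 29 t * xG E6_mem 34 (P.conj t), mem_pair P hP (rs := (29, 34)) (by decide) t⟩
  x3 t := ⟨xG E6_mem 56 t * xG E6_mem 36 (P.conj t), mem_pair P hP (rs := (56, 36)) (by decide) t⟩
  y3 t := ⟨xG E6_mem 15 t * xG E6_mem 35 (P.conj t), mem_pair P hP (rs := (15, 35)) (by decide) t⟩
  b2 := subMaps (m6 P) (twistedE6 E q) (mem_x P hP) (mem_x' P hP) (mem_y P hP) (mem_y' P hP) (mem_z₁ P hP)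
    (mem_z₂ P hP) (mem_z₁' P hP) (mem_z₂' P hP)
  rel := subRel (rel6 P)
  e01 := edge3_sub' (stein_res (steinA (E := E)) (algebraMap F E)) (fun t => by simp [xr, rA, sg])
    (fun t => by simp [xr, rA, sg]) (fun t => by simp [xr, rA, sg]) (fun t => by simp [xr, rA, sg])
  e23 := edge3_sub' (steinBC (E := E) (P.conj : E →+* E)) (fun t => by simp [xr, rB, rC, sg])
    (fun t => by simp [xr, rB, rC, sg]) (fun t => by simp [xr, rB, rC, sg]) (fun t => by simp [xr, rB, rC, sg])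
  hx := by funext a; exact Subtype.ext (x4_12 _)
  hx' := by funext a; exact Subtype.ext (x4_21 _)
  hz t := Subtype.ext (by
    show xr E6_mem r4 s4 0 1 (P.τ t).w * xr E6_mem r4 s4 2 3 (P.conj (P.τ t).w) = _
    rw [x4_01, x4_23, P.τ_w])
  hz' t := Subtype.ext (by
    show xr E6_mem r4 s4 1 0 (-P.conj (P.τ' t).w) * xr E6_mem r4 s4 3 2 (-(P.τ' t).w) = _
    rw [x4_10, x4_32, P.τ'_w, map_neg, P.conj_conj, neg_neg, neg_neg])
  c02 s t := ⟨Subtype.ext ((cm0 (by decide) (by decide) _ _).mul_right (cm0 (by decide) (by decide) _ _)).eq,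
    Subtype.ext ((cm0 (by decide) (by decide) _ _).mul_right (cm0 (by decide) (by decide) _ _)).eq,
    Subtype.ext ((cm0 (by decide) (by decide) _ _).mul_right (cm0 (by decide) (by decide) _ _)).eq,
    Subtype.ext ((cm0 (by decide) (by decide) _ _).mul_right (cm0 (by decide) (by decide) _ _)).eq⟩
  c03 s t := ⟨Subtype.ext ((cm0 (by decide) (by decide) _ _).mul_right (cm0 (by decide) (by decide) _ _)).eq,
    Subtype.ext ((cm0 (by decide) (by decide) _ _).mul_right (cm0 (by decide) (by decide) _ _)).eq,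
    Subtype.ext ((cm0 (by decide) (by decide) _ _).mul_right (cm0 (by decide) (by decide) _ _)).eq,
    Subtype.ext ((cm0 (by decide) (by decide) _ _).mul_right (cm0 (by decide) (by decide) _ _)).eq⟩
  c13 s t := ⟨Subtype.ext ((cm1 (by decide) (by decide) _ _).mul_right (cm1 (by decide) (by decide) _ _)).eq,
    Subtype.ext ((cm1 (by decide) (by decide) _ _).mul_right (cm1 (by decide) (by decide) _ _)).eq,
    Subtype.ext ((cm1 (by decide) (by decide) _ _).mul_right (cm1 (by decide) (by decide) _ _)).eq,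
    Subtype.ext ((cm1 (by decide) (by decide) _ _).mul_right (cm1 (by decide) (by decide) _ _)).eq⟩
  gen := by
    refine gen_of P hP hfix ?_ ?_
    · intro r hr a
      have hr' := hr
      simp only [List.mem_cons, List.not_mem_nil, or_false] at hr'
      rcases hr' with rfl | rfl | rfl | rfl
      · exact .inl (.inl (.inl (.inl (.inl (.inl (.inl ⟨a, rfl⟩))))))
      · exact .inl (.inl (.inl (.inl (.inl (.inl (.inr ⟨a, rfl⟩))))))
      · exact .inl (.inl (.inl (.inl (.inl (.inr ⟨a, rfl⟩)))))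
      · exact .inl (.inl (.inl (.inl (.inr ⟨a, rfl⟩))))
    · intro rs hr t
      have hr' := hr
      simp only [List.mem_cons, List.not_mem_nil, or_false] at hr'
      rcases hr' with rfl | rfl | rfl | rfl
      · exact .inl (.inr ⟨t, rfl⟩)
      · exact .inr ⟨t, rfl⟩
      · exact .inl (.inl (.inl (.inr ⟨t, rfl⟩)))
      · exact .inl (.inl (.inr ⟨t, rfl⟩))
  Bor := (chevE6.borelSubgroup E).subgroupOf (twistedE6 E q)
  Bor_ne := by
    intro h
    have h1 : (⟨xG E6_mem 25 (algebraMap F E 1), mem_single P hP (by decide) 1⟩ : ↥(twistedE6 E q)) ∈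
        (chevE6.borelSubgroup E).subgroupOf (twistedE6 E q) := by rw [h]; exact Subgroup.mem_top _
    rw [Subgroup.mem_subgroupOf] at h1
    have h2 := TwE6BN.V_inf_B (TwE6BN.mem_V (r := ⟨25, by decide⟩) (by decide) (algebraMap F E 1)) h1
    rw [map_one] at h2
    exact one_ne_zero ((TwE6Basic.x_eq_one_iff (by decide) _).1 h2)
  x0_mem a := by
    rw [Subgroup.mem_subgroupOf]
    exact xG_mem_borel (by decide) (by decide) _
  x1_mem a := by
    rw [Subgroup.mem_subgroupOf]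
    exact xG_mem_borel (by decide) (by decide) _
  x2_mem t := by
    rw [Subgroup.mem_subgroupOf]
    exact Subgroup.mul_mem _ (xG_mem_borel (by decide) (by decide) _) (xG_mem_borel (by decide) (by decide) _)
  x3_mem t := by
    rw [Subgroup.mem_subgroupOf]
    exact Subgroup.mul_mem _ (xG_mem_borel (by decide) (by decide) _) (xG_mem_borel (by decide) (by decide) _)
  y_mem t := by
    rw [Subgroup.mem_subgroupOf]
    show xr E6_mem r4 s4 0 3 (algebraMap F E t) ∈ _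
    rw [x4_03]
    exact xG_mem_borel (by decide) (by decide) _
  z₁_mem p := by
    rw [Subgroup.mem_subgroupOf]
    show xr E6_mem r4 s4 0 2 (-p.w) * xr E6_mem r4 s4 1 3 (P.conj p.w) ∈ _
    rw [x4_02, x4_13]
    exact Subgroup.mul_mem _ (xG_mem_borel (by decide) (by decide) _) (xG_mem_borel (by decide) (by decide) _)
  hh0_mem t ht := by
    rw [Subgroup.mem_subgroupOf]
    exact hh_single (by decide) negs.1 ht
  hh1_mem t ht := by
    rw [Subgroup.mem_subgroupOf]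
    exact hh_single (by decide) negs.2.1 ht
  hh3_mem t ht := by
    rw [Subgroup.mem_subgroupOf]
    show xG E6_mem 56 t * xG E6_mem 36 (P.conj t) * (xG E6_mem 15 (-t⁻¹) * xG E6_mem 35 (P.conj (-t⁻¹))) *
      (xG E6_mem 56 t * xG E6_mem 36 (P.conj t)) * (xG E6_mem 56 1 * xG E6_mem 36 (P.conj 1) *
      (xG E6_mem 15 (-1⁻¹) * xG E6_mem 35 (P.conj (-1⁻¹))) * (xG E6_mem 56 1 * xG E6_mem 36 (P.conj 1)))⁻¹ ∈ _
    rw [nn_pair, nn_pair]
    exact nG_pair_mem (by decide) (by decide) (nG_commute negs.2.2.1 negs.2.2.2.1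
      (nils3 _ (by decide) _ (by decide)) (nils3 _ (by decide) _ (by decide)) (nils3 _ (by decide) _ (by decide))
      (nils3 _ (by decide) _ (by decide))) ht (KExcA3.conj_ne P ht) one_ne_zero (KExcA3.conj_ne P one_ne_zero)
  nII_mem p r hp hr := by
    rw [Subgroup.mem_subgroupOf]
    obtain ⟨t, rfl⟩ := P.τ_surj p
    obtain ⟨s, rfl⟩ := P.τ_surj r
    have ht : t ≠ 0 := by
      rintro rfl
      exact hp (by rw [P.τ_c, P.N_zero, neg_zero])
    have hs : s ≠ 0 := by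
      rintro rfl
      exact hr (by rw [P.τ_c, P.N_zero, neg_zero])
    show (m6 P).nII (P.τ t) * ((m6 P).nII (P.τ s))⁻¹ ∈ chevE6.borelSubgroup E
    rw [m6_nII P ht, m6_nII P hs]
    exact nG_pair_mem (by decide) (by decide) (nG_commute negs.2.2.2.2.1 negs.2.2.2.2.2
      (nils2 _ (by decide) _ (by decide)) (nils2 _ (by decide) _ (by decide)) (nils2 _ (by decide) _ (by decide))
      (nils2 _ (by decide) _ (by decide))) (neg_ne_zero.2 (inv_ne_zero ht))
      (neg_ne_zero.2 (inv_ne_zero (KExcA3.conj_ne P ht))) (neg_ne_zero.2 (inv_ne_zero hs))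
      (neg_ne_zero.2 (inv_ne_zero (KExcA3.conj_ne P hs)))

end Main

/-! ### Finite fields -/

section Finite

variable {F : Type*} {E : Type u} [Field F] [Field E] [Algebra F E]

open Polynomial in
/-- The elements `t` with `t ^ |F| = t` lie in `F`. -/
theorem mem_range_of_pow [Fintype F] {t : E} (ht : t ^ Fintype.card F = t) : t ∈ Set.range (algebraMap F E) := by
  classical
  by_contra hn
  have hq := Fintype.one_lt_card (α := F)
  have hne : (Polynomial.X ^ Fintype.card F - Polynomial.X : E[X]) ≠ 0 := FiniteField.X_pow_card_sub_X_ne_zero E hq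
  have hsub : insert t (Finset.univ.image (algebraMap F E)) ⊆ (Polynomial.X ^ Fintype.card F - Polynomial.X : E[X]).roots.toFinset := by
    intro s hs
    rw [Multiset.mem_toFinset, mem_roots hne, IsRoot.def, eval_sub, eval_pow, eval_X, sub_eq_zero]
    rcases Finset.mem_insert.1 hs with rfl | hs
    · exact ht
    · obtain ⟨a, _, rfl⟩ := Finset.mem_image.1 hs
      rw [← map_pow, FiniteField.pow_card]
  have h1 := Finset.card_le_card hsub
  rw [Finset.card_insert_of_notMem (by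
      intro h
      obtain ⟨a, _, rfl⟩ := Finset.mem_image.1 h
      exact hn ⟨a, rfl⟩),
    Finset.card_image_of_injective _ (algebraMap F E).injective, Finset.card_univ] at h1
  have h2 := (Multiset.toFinset_card_le _).trans (card_roots' (Polynomial.X ^ Fintype.card F - Polynomial.X : E[X]))
  rw [FiniteField.X_pow_card_sub_X_natDegree_eq E hq] at h2
  omega

/-- `²E₆(|F|)` as a model of type `F₄` over the pair `F ⊂ E`. -/
theorem kff [Fintype F] (P : ConjPair F E) (hP : ∀ t, P.conj t = t ^ Fintype.card F) :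
    Nonempty (Pack.KFF ↥(twistedE6 E (Fintype.card F)) P.datum P.τ P.τ') :=
  ⟨kffG P hP fun _ => mem_range_of_pow⟩

end Finite

end Cfsg.Agent.TitsThree.KExcTwE6
end

-- part: TitsThree/ConjFin
section
/-!
# `ConjPair` over finite fields (S1143)

If `conj ≠ id`, then `conj t = t ^ q` with `q = |F|`, `|E| = q²` and `t ^ q = t` exactly on `F`.
-/

set_option autoImplicit false

namespace Cfsg.Agent.TitsThree.FFData.ConjPair

variable {F E : Type*} [Field F] [Field E] [Algebra F E] (P : ConjPair F E)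

/-- The roots of `t ^ q = t` are the elements of `F`. -/
theorem mem_range_of_pow [Finite F] [Finite E] {t : E} (ht : t ^ Nat.card F = t) :
    ∃ a : F, algebraMap F E a = t := by
  classical
  have : Fintype F := Fintype.ofFinite F
  rw [Nat.card_eq_fintype_card] at ht
  set q := Fintype.card F with hq
  have hq1 : 1 < q := Fintype.one_lt_card
  have hne : (Polynomial.X ^ q - Polynomial.X : Polynomial E) ≠ 0 :=
    FiniteField.X_pow_card_sub_X_ne_zero E hq1
  have hsub : (Finset.univ : Finset F).image (algebraMap F E) ⊆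
      (Polynomial.X ^ q - Polynomial.X : Polynomial E).roots.toFinset := by
    intro y hy
    obtain ⟨a, -, rfl⟩ := Finset.mem_image.1 hy
    rw [Multiset.mem_toFinset, Polynomial.mem_roots hne, Polynomial.IsRoot.def, Polynomial.eval_sub,
      Polynomial.eval_pow, Polynomial.eval_X, ← map_pow, FiniteField.pow_card, sub_self]
  have hcard : (Polynomial.X ^ q - Polynomial.X : Polynomial E).roots.toFinset.card ≤
      ((Finset.univ : Finset F).image (algebraMap F E)).card := by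
    rw [Finset.card_image_of_injective _ (algebraMap F E).injective, Finset.card_univ]
    refine (Multiset.toFinset_card_le _).trans ((Polynomial.card_roots' _).trans ?_)
    rw [FiniteField.X_pow_card_sub_X_natDegree_eq E hq1]
  have heq := Finset.eq_of_subset_of_card_le hsub hcard
  have ht' : t ∈ (Finset.univ : Finset F).image (algebraMap F E) := by
    rw [heq, Multiset.mem_toFinset, Polynomial.mem_roots hne, Polynomial.IsRoot.def,
      Polynomial.eval_sub, Polynomial.eval_pow, Polynomial.eval_X, ht, sub_self]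
  obtain ⟨a, -, h⟩ := Finset.mem_image.1 ht'
  exact ⟨a, h⟩

theorem conj_eq_pow [Finite F] [Finite E] (hc : ∃ t, P.conj t ≠ t) (t : E) :
    P.conj t = t ^ Nat.card F := by
  classical
  have : Fintype F := Fintype.ofFinite F
  have : Fintype E := Fintype.ofFinite E
  rw [Nat.card_eq_fintype_card]
  set φ := FiniteField.frobeniusAlgHom F E with hφ
  have hφ' : ∀ t, φ t = t ^ Fintype.card F := fun t => rfl
  rw [← hφ']
  have key : ∀ t, φ t = t ∨ φ t = P.conj t := by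
    intro t
    have h1 : (t - t) * (t - P.conj t) = 0 := by rw [sub_self, zero_mul]
    have h2 : t * t - algebraMap F E (P.T t) * t + algebraMap F E (P.N t) = 0 := by
      rw [P.hT, P.hN]; ring
    have h3 := congrArg φ h2
    rw [map_add, map_sub, map_mul, map_mul, map_zero, AlgHom.commutes, AlgHom.commutes, P.hT,
      P.hN] at h3
    have h4 : (φ t - t) * (φ t - P.conj t) = 0 := by linear_combination h3
    rcases mul_eq_zero.1 h4 with h | h
    · exact Or.inl (sub_eq_zero.1 h)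
    · exact Or.inr (sub_eq_zero.1 h)
  have hfix : ∀ t, φ t = t → P.conj t = t := by
    intro t ht
    have ht' : t ^ Nat.card F = t := by rw [Nat.card_eq_fintype_card, ← hφ', ht]
    obtain ⟨a, rfl⟩ := mem_range_of_pow (F := F) ht'
    exact P.conj_alg a
  obtain ⟨t₀, ht₀⟩ := hc
  have h0 : φ t₀ = P.conj t₀ := by
    rcases key t₀ with h | h
    · exact absurd (hfix _ h) ht₀
    · exact h
  by_cases ht : P.conj t = t
  · have h1 : P.conj (t + t₀) ≠ t + t₀ := by
      rw [map_add, ht]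
      intro h
      exact ht₀ (add_left_cancel h)
    have h2 : φ (t + t₀) = P.conj (t + t₀) := by
      rcases key (t + t₀) with h | h
      · exact absurd (hfix _ h) h1
      · exact h
    rw [map_add, map_add, h0] at h2
    exact (add_right_cancel h2).symm
  · rcases key t with h | h
    · exact absurd (hfix _ h) ht
    · exact h.symm

theorem card_eq [Finite F] [Finite E] (hc : ∃ t, P.conj t ≠ t) : Nat.card E = Nat.card F ^ 2 := by
  classical
  have : Fintype F := Fintype.ofFinite F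
  have : Fintype E := Fintype.ofFinite E
  set φ := FiniteField.frobeniusAlgHom F E with hφ
  have hφ' : ∀ t, φ t = P.conj t := fun t => by
    rw [P.conj_eq_pow hc, Nat.card_eq_fintype_card]; rfl
  have h2 : φ ^ 2 = 1 := by
    ext t
    rw [pow_two, AlgHom.mul_apply, hφ', hφ', P.conj_conj, AlgHom.one_apply]
  have h1 : φ ≠ 1 := by
    intro h
    obtain ⟨t₀, ht₀⟩ := hc
    apply ht₀
    rw [← hφ', h, AlgHom.one_apply]
  have h3 : orderOf φ = 2 := orderOf_eq_prime h2 h1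
  rw [FiniteField.orderOf_frobeniusAlgHom] at h3
  rw [Nat.card_eq_fintype_card, Nat.card_eq_fintype_card, ← h3]
  exact Module.card_eq_pow_finrank

theorem isPrimePow_card [Finite F] : IsPrimePow (Nat.card F) := by
  have : Fintype F := Fintype.ofFinite F
  rw [Nat.card_eq_fintype_card]
  exact Fintype.nonempty_field_iff.1 ⟨inferInstance⟩

/-- The trace is not zero. -/
theorem exists_T_ne (hc : ∃ t, P.conj t ≠ t) : ∃ t, P.T t ≠ 0 := by
  by_contra h
  push Not at h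
  have h1 : ∀ t, P.conj t = -t := fun t => by
    have := P.hT t
    rw [h, map_zero] at this
    linear_combination -this
  have h2 : (1 : E) = -1 := by
    have := h1 1
    rwa [map_one] at this
  obtain ⟨t, ht⟩ := hc
  apply ht
  rw [h1]
  linear_combination (-t) * h2

end Cfsg.Agent.TitsThree.FFData.ConjPair
end

-- part: TitsThree/KExcTwTop
section
/-!
# The twisted group `²E₆(q)` as the model for a pair `F ⊂ E` with a nontrivial conjugation (S1143, K side)
-/

set_option autoImplicit false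

namespace Cfsg.Agent.TitsThree.KExcTwTop

open Cfsg.Lie Cfsg.Agent.TitsThree.FFData Cfsg.Agent.TitsThree.Top

/-- The simple group `²E₆(q)` over a pair of finite fields. -/
theorem exists_model {F : Type*} {E : Type} [Field F] [Field E] [Algebra F E] [Finite F] [Finite E]
    (P : ConjPair F E) (hc : ∃ t, P.conj t ≠ t) :
    ∃ (K : Type) (_ : Group K), IsSimpleGroup K ∧ LieConcl K ∧ Nonempty (Pack.KFF K P.datum P.τ P.τ') := by
  classical
  haveI : Fintype F := Fintype.ofFinite F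
  haveI : Fintype E := Fintype.ofFinite E
  have h1 : ∀ t, P.conj t = t ^ Fintype.card F := fun t => by
    rw [← Nat.card_eq_fintype_card]; exact P.conj_eq_pow hc t
  have h2 : Fintype.card E = Fintype.card F ^ 2 := by
    rw [← Nat.card_eq_fintype_card, ← Nat.card_eq_fintype_card]; exact P.card_eq hc
  have h3 : IsPrimePow (Fintype.card F) := by
    rw [← Nat.card_eq_fintype_card]; exact ConjPair.isPrimePow_card
  refine ⟨↥(twistedE6 E (Fintype.card F)), inferInstance, (Cfsg.Agent.S1070.result h3 h2).1, ?_,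
    KExcTwE6.kff P h1⟩
  exact Or.inr (Or.inr (Or.inr (Or.inr (Or.inr (Or.inr (Or.inr (Or.inr (Or.inr (Or.inr (Or.inr (Or.inl
    ⟨E, inferInstance, inferInstance, _, h3, h2, ⟨MulEquiv.refl _⟩⟩)))))))))))

end Cfsg.Agent.TitsThree.KExcTwTop
end
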