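import Cfsg.Agent.TitsThree.SpIdent
import Cfsg.Agent.TitsThree.SiegelGen
import Cfsg.Agent.TitsThree.LineBorel
set_option linter.all false
/-!
`PSp_{2m}(F)` (K side of type `C_m`): root elements `X`, `Z`, generation by the simple root elements,
proper Borel subgroup.
-/

set_option autoImplicit false

namespace Cfsg.Agent.TitsThree.SpGen

open Cfsg Cfsg.Agent.ClassicalGeometry.SympBasic Cfsg.Agent.TitsThree.Siegel
open Cfsg.Agent.TitsThree.SpIdent Cfsg.Agent.TitsThree.SiegelGen Cfsg.Agent.TitsThree.WittFrame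
open Cfsg.Agent.TitsThree.LineBorel Cfsg.Agent.TitsThree

variable {m : ℕ} {F : Type*} [Field F]

/-- All pairs are admissible. -/
def pq (m : ℕ) (F : Type*) [Field F] : PQ (form m F) where
  ok _ _ := True
  ex _ := ⟨0, trivial⟩
  zero := trivial
  rel {w c} _ := by simp
  add _ _ := trivial
  smul _ _ := trivial
  lam _ _ := trivial

/-- The symplectic Witt frame. -/
def wframe (m : ℕ) (F : Type*) [Field F] : WFrame (pq m F) m where
  e := e m F
  f := f m F
  V0 := ⊥
  ee := ee
  ff := ff
  ef := ef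
  fe := fe
  e_sing _ := trivial
  f_sing _ := trivial
  V0e w hw i := by
    rw [(Submodule.mem_bot F).1 hw]
    exact sympForm_zero_left _
  V0f w hw i := by
    rw [(Submodule.mem_bot F).1 hw]
    exact sympForm_zero_left _
  aniso w hw _ := (Submodule.mem_bot F).1 hw
  span v := by
    refine ⟨fun i => v (Sum.inr i), fun i => v (Sum.inl i), 0, Submodule.zero_mem _, ?_⟩
    funext j
    rcases j with i | i
    · simp only [Pi.add_apply, Finset.sum_apply, Pi.smul_apply, smul_eq_mul, Pi.zero_apply, e, f,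
        Pi.single_apply, Sum.inl.injEq, reduceCtorEq, if_false, mul_zero, Finset.sum_const_zero,
        zero_add, add_zero]
      simp
    · simp only [Pi.add_apply, Finset.sum_apply, Pi.smul_apply, smul_eq_mul, Pi.zero_apply, e, f,
        Pi.single_apply, Sum.inr.injEq, reduceCtorEq, if_false, mul_zero, Finset.sum_const_zero,
        add_zero]
      simp

/-- Type I root elements in the isometry group. -/
def Xi (x y : Fin m × Bool) (t : F) : isos (form m F) :=
  ⟨(frame m F).X x y t, (frame m F).isIso_X x y t⟩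

/-- Type II root elements in the isometry group. -/
def Zi (x : Fin m × Bool) (p : (frame m F).Adm) : isos (form m F) :=
  ⟨(frame m F).Z x p, (frame m F).isIso_Z x p⟩

/-- Type I root elements of `PSp`. -/
noncomputable def X (x y : Fin m × Bool) (t : F) : PSp m F := toPSp (Xi x y t)

/-- Type II root elements of `PSp`. -/
noncomputable def Z (x : Fin m × Bool) (p : (frame m F).Adm) : PSp m F := toPSp (Zi x p)

theorem rt_of_X {K : Subgroup ((Fin m ⊕ Fin m → F) ≃ₗ[F] (Fin m ⊕ Fin m → F))}
    {i j : Fin m} (hij : i ≠ j) (h : ∀ t : F, (frame m F).X (i, true) (j, false) t ∈ K) :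
    Rt (form m F) K (e m F i) (f m F j) := by
  intro s hx hy
  have h1 := h s
  rw [(frame m F).X_eq (x := (i, true)) (y := (j, false)) hij] at h1
  have h2 : (frame m F).sc (j, false) s = s := by
    simp [Frame.sc, Frame.η, form_ε]
  have h3 := (form m F).sie_congr (u := (frame m F).b (i, true))
    (w := (frame m F).sc (j, false) s • (frame m F).b (j, false)) (c := 0)
    ((frame m F).hb_self _) ((frame m F).h_smul_b hij _) hx hy rfl (by rw [h2]; rfl) rfl
  rwa [← h3]

theorem zt_of_Z {K : Subgroup ((Fin m ⊕ Fin m → F) ≃ₗ[F] (Fin m ⊕ Fin m → F))}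
    {x : Fin m × Bool} (h : ∀ c : F, (frame m F).Z x (adm c) ∈ K) :
    Zt (pq m F) K (⊥ : Submodule F (Fin m ⊕ Fin m → F)) ((frame m F).b x) := by
  intro w c hx hw hwA _
  have hw0 : w = 0 := (Submodule.mem_bot F).1 hwA
  subst hw0
  exact h c

/-- The simple root elements generate the isometry group. -/
theorem isos_eq_of_simple (l : Fin m) (K : Subgroup (isos (form m F)))
    (h1 : ∀ i j : Fin m, i.val + 1 = j.val → ∀ t,
      Xi (i, true) (j, false) t ∈ K ∧ Xi (j, true) (i, false) t ∈ K)
    (h2 : ∀ c, Zi (l, true) (adm c) ∈ K ∧ Zi (l, false) (adm c) ∈ K) : K = ⊤ := by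
  have hsub : ∀ g : isos (form m F), g.1 ∈ K.map (isos (form m F)).subtype ↔ g ∈ K := by
    intro g
    constructor
    · rintro ⟨g', hg', h⟩
      rwa [Subtype.ext (show g'.1 = g.1 from h)] at hg'
    · intro h
      exact ⟨g, h, rfl⟩
  have hC : (wframe m F).Contains (K.map (isos (form m F)).subtype) := by
    refine (wframe m F).contains_of_simple_C l ?_ ?_ ?_ ?_
    · intro i j hij
      have hne : i ≠ j := fun e => by rw [e] at hij; omega
      exact ⟨rt_of_X hne fun t => (hsub (Xi (i, true) (j, false) t)).2 (h1 i j hij t).1,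
        rt_of_X hne.symm fun t => (hsub (Xi (j, true) (i, false) t)).2 (h1 i j hij t).2⟩
    · exact zt_of_Z fun c => (hsub (Zi (l, true) (adm c))).2 (h2 c).1
    · exact zt_of_Z fun c => (hsub (Zi (l, false) (adm c))).2 (h2 c).2
    · exact ⟨0, 1, Submodule.zero_mem _, trivial, one_ne_zero⟩
  refine isos_eq_of_sie K fun u c => ?_
  rw [← hsub]
  exact hC.all (wframe m F) trivial (sympForm_self u) (sympForm_zero_right u) trivial

/-- The simple root elements generate `PSp`. -/
theorem eq_top_of_simple (l : Fin m) (K : Subgroup (PSp m F))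
    (h1 : ∀ i j : Fin m, i.val + 1 = j.val → ∀ t,
      X (i, true) (j, false) t ∈ K ∧ X (j, true) (i, false) t ∈ K)
    (h2 : ∀ c, Z (l, true) (adm c) ∈ K ∧ Z (l, false) (adm c) ∈ K) : K = ⊤ := by
  have h := isos_eq_of_simple l (K.comap toPSp) h1 h2
  rw [eq_top_iff]
  intro g _
  obtain ⟨g', rfl⟩ := toPSp_surjective g
  have h3 : g' ∈ K.comap toPSp := by rw [h]; exact Subgroup.mem_top _
  exact h3

theorem ker_lineStab (v : Fin m ⊕ Fin m → F) (g : isos (form m F)) (h : toPSp g = 1) :
    g.1 ∈ lineStab v := by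
  obtain ⟨a, _, ha⟩ := exists_smul_of_toPSp_eq_one h
  exact ⟨a, ha v⟩

/-- The proper subgroup. -/
noncomputable def borSp (i0 : Fin m) : Subgroup (PSp m F) := bor toPSp ((frame m F).b (i0, true))

theorem borSp_ne_top (i0 j : Fin m) (h : i0 ≠ j) : (borSp i0 : Subgroup (PSp m F)) ≠ ⊤ := by
  refine bor_ne_top toPSp (ker_lineStab _) (Xi (j, true) (i0, false) (1 : F)) ?_
  exact X_notMem_lineStab (frame m F) i0 h true (1 : F) one_ne_zero

theorem X_mem_borSp (i0 : Fin m) {x y : Fin m × Bool} (hx : x ≠ (i0, false))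
    (hy : y ≠ (i0, false)) (t : F) : X x y t ∈ borSp i0 :=
  map_mem_bor (toPSp (m := m) (F := F)) (g := Xi x y t) (X_mem_lineStab (frame m F) i0 hx hy t)

theorem Z_mem_borSp (i0 : Fin m) {x : Fin m × Bool} (hx : x ≠ (i0, false))
    (p : (frame m F).Adm) : Z x p ∈ borSp i0 :=
  map_mem_bor (toPSp (m := m) (F := F)) (g := Zi x p) (Z_mem_lineStab (frame m F) i0 hx p)

/-- Torus elements of the first node. -/
theorem hh_mem_borSp (i0 : Fin m) {j : Fin m} (hj : i0 ≠ j) (y : Bool) (t : F) (ht : t ≠ 0) :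
    hh (X (i0, true) (j, y)) (X (j, !y) (i0, false)) t ∈ borSp i0 := by
  have h1 := hh_mem_lineStab (frame m F) i0 hj y t ht
  have h2 : hh (X (i0, true) (j, y)) (X (j, !y) (i0, false)) t =
      toPSp (hh (Xi (i0, true) (j, y)) (Xi (j, !y) (i0, false)) t) := by
    simp only [hh, nn, X, map_mul, map_inv]
  rw [h2]
  exact map_mem_bor (toPSp (m := m) (F := F))
    (g := hh (Xi (i0, true) (j, y)) (Xi (j, !y) (i0, false)) t) h1

end Cfsg.Agent.TitsThree.SpGen
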