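import Cfsg.Agent.TitsThree.RankTwoZ
set_option linter.all false

/-!
# Identification of two simple groups with the same root datum of rank two (S1144, [ID])

`ident`: `G`, `K` simple, `c : RGDZ m (G × K)` a root datum in the product whose root groups project onto generating
sets of both factors, not all opposite root elements of simple roots having first component in the positive part `U`
of `G` (resp. second component in that of `K`).  Then `G ≃* K`.
-/

set_option autoImplicit false

namespace Cfsg.Agent.TitsThree.RankTwoIdent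

open Cfsg.Agent.TitsThree.RankTwoRGD Cfsg.Agent.TitsThree.RankTwoIdx Cfsg.Agent.TitsThree.RankTwoZ

universe u v w

/-- Elements of `H` normalise every homomorphic image of `U`, hence so do those of `D`. -/
theorem map_normalizer {m : ℕ} {Y : Type u} [Group Y] {Z : Type v} [Group Z] (c : Core m Y) (f : Y →* Z)
    {d : Y} (hd : d ∈ c.D) : f d ∈ Subgroup.normalizer (c.U.map f : Set Z) := by
  have h1 : ∀ h ∈ c.H, ∀ x ∈ c.U.map f, f h * x * (f h)⁻¹ ∈ c.U.map f := by
    rintro h hh _ ⟨u, hu, rfl⟩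
    exact ⟨h * u * h⁻¹, c.HU h hh u hu, by simp⟩
  have h2 : c.D ≤ (Subgroup.normalizer (c.U.map f : Set Z)).comap f := by
    apply sup_le
    · intro u hu
      exact Subgroup.le_normalizer (Subgroup.mem_map_of_mem f hu)
    · intro h hh
      rw [Subgroup.mem_comap, Subgroup.mem_normalizer_iff]
      intro x
      refine ⟨fun hx => h1 h hh x hx, fun hx => ?_⟩
      have h3 := h1 h⁻¹ (inv_mem hh) _ hx
      have e : f h⁻¹ * (f h * x * (f h)⁻¹) * (f h⁻¹)⁻¹ = x := by rw [map_inv]; group
      rwa [e] at h3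
  exact h2 hd


theorem nI_not_mem {m : ℕ} {Y : Type u} [Group Y] {Z : Type v} [Group Z] (c : Core m Y) (f : Y →* Z)
    (h : ∃ a ∈ c.AI', f a ∉ c.U.map f) : f c.nI ∉ Subgroup.normalizer (c.U.map f : Set Z) := by
  obtain ⟨a, ha, hfa⟩ := h
  intro hn
  apply hfa
  have h1 := c.sI.nA'_inv a ha
  have h2 : f (c.nI⁻¹ * a * c.nI) ∈ c.U.map f := Subgroup.mem_map_of_mem f (c.sI.A_le h1)
  have h3 := (Subgroup.mem_normalizer_iff.1 hn _).1 h2
  have e : f c.nI * f (c.nI⁻¹ * a * c.nI) * (f c.nI)⁻¹ = f a := by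
    rw [map_mul, map_mul, map_inv]; group
  rwa [e] at h3

/-- Graph argument. -/
theorem equiv_of_graph {G : Type u} {K : Type v} [Group G] [Group K] [IsSimpleGroup G] [IsSimpleGroup K]
    (Γ : Subgroup (G × K)) (hG : Γ.map (MonoidHom.fst G K) = ⊤) (hK : Γ.map (MonoidHom.snd G K) = ⊤)
    (B : Subgroup K) (hB : B ≠ ⊤) (h : ∀ k : K, ((1 : G), k) ∈ Γ → k ∈ B) : Nonempty (G ≃* K) := by
  have hG' : ∀ g : G, ∃ k : K, (g, k) ∈ Γ := by
    intro g
    have : g ∈ Γ.map (MonoidHom.fst G K) := by rw [hG]; trivial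
    obtain ⟨⟨g', k⟩, h1, h2⟩ := this
    exact ⟨k, by rw [← h2]; exact h1⟩
  have hK' : ∀ k : K, ∃ g : G, (g, k) ∈ Γ := by
    intro k
    have : k ∈ Γ.map (MonoidHom.snd G K) := by rw [hK]; trivial
    obtain ⟨⟨g, k'⟩, h1, h2⟩ := this
    exact ⟨g, by rw [← h2]; exact h1⟩
  -- the kernel on the right
  let L : Subgroup K := Γ.comap (MonoidHom.inr G K)
  have hL : L.Normal := by
    constructor
    intro k hk k'
    obtain ⟨g', h'⟩ := hK' k'
    have h1 := mul_mem (mul_mem h' hk) (inv_mem h')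
    change ((1 : G), k' * k * k'⁻¹) ∈ Γ
    convert h1 using 1
    simp [MonoidHom.inr]
  have hL1 : L = ⊥ := by
    rcases hL.eq_bot_or_eq_top with h1 | h1
    · exact h1
    · exfalso
      apply hB
      rw [eq_top_iff]
      intro k _
      have : k ∈ L := by rw [h1]; trivial
      exact h k this
  have hL2 : ∀ k : K, ((1 : G), k) ∈ Γ → k = 1 := by
    intro k hk
    have : k ∈ L := hk
    rw [hL1] at this
    exact this
  -- the kernel on the left
  let L' : Subgroup G := Γ.comap (MonoidHom.inl G K)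
  have hL' : L'.Normal := by
    constructor
    intro g hg g'
    obtain ⟨k', h'⟩ := hG' g'
    have h1 := mul_mem (mul_mem h' hg) (inv_mem h')
    change (g' * g * g'⁻¹, (1 : K)) ∈ Γ
    convert h1 using 1
    simp [MonoidHom.inl]
  have hL'1 : ∀ g : G, (g, (1 : K)) ∈ Γ → g = 1 := by
    intro g hg
    rcases hL'.eq_bot_or_eq_top with h1 | h1
    · have : g ∈ L' := hg
      rw [h1] at this
      exact this
    · exfalso
      obtain ⟨k, hk⟩ := exists_ne (1 : K)
      obtain ⟨g', h'⟩ := hK' k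
      have h2 : g' ∈ L' := by rw [h1]; trivial
      have h3 := mul_mem h' (inv_mem h2)
      apply hk
      apply hL2
      convert h3 using 1
      simp [MonoidHom.inl]
  have e1 : Function.Bijective ((MonoidHom.fst G K).comp Γ.subtype) := by
    constructor
    · rw [injective_iff_map_eq_one]
      rintro ⟨⟨g, k⟩, hγ⟩ h1
      have h2 : g = 1 := h1
      subst h2
      have h3 := hL2 k hγ
      subst h3
      rfl
    · intro g
      obtain ⟨k, hk⟩ := hG' g
      exact ⟨⟨(g, k), hk⟩, rfl⟩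
  have e2 : Function.Bijective ((MonoidHom.snd G K).comp Γ.subtype) := by
    constructor
    · rw [injective_iff_map_eq_one]
      rintro ⟨⟨g, k⟩, hγ⟩ h1
      have h2 : k = 1 := h1
      subst h2
      have h3 := hL'1 g hγ
      subst h3
      rfl
    · intro k
      obtain ⟨g, hg⟩ := hK' k
      exact ⟨⟨(g, k), hg⟩, rfl⟩
  exact ⟨(MulEquiv.ofBijective _ e1).symm.trans (MulEquiv.ofBijective _ e2)⟩

/-- **Identification** of two simple groups with the same root datum of rank two, `Core` version. -/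
theorem ident_core {G : Type u} {K : Type v} [Group G] [Group K] [IsSimpleGroup G] [IsSimpleGroup K]
    {m : ℕ} (hm : 1 ≤ m) (c : Core m (G × K))
    (hG : c.G.map (MonoidHom.fst G K) = ⊤) (hK : c.G.map (MonoidHom.snd G K) = ⊤)
    (hGI : ∃ a ∈ c.AI', a.1 ∉ c.U.map (MonoidHom.fst G K))
    (hGJ : ∃ a ∈ c.AJ', a.1 ∉ c.U.map (MonoidHom.fst G K))
    (hKI : ∃ a ∈ c.AI', a.2 ∉ c.U.map (MonoidHom.snd G K)) : Nonempty (G ≃* K) := by
  refine equiv_of_graph c.G hG hK
    (Subgroup.normalizer (c.U.map (MonoidHom.snd G K) : Set K)) ?_ ?_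
  · intro h
    have h1 := nI_not_mem c (MonoidHom.snd G K) hKI
    rw [h] at h1
    exact h1 trivial
  · intro k hk
    have h1 := nI_not_mem c (MonoidHom.fst G K) hGI
    have h2 := nI_not_mem c.symm (MonoidHom.fst G K) hGJ
    have e := c.eq_D hm
      (S := c.G ⊓ (Subgroup.normalizer (c.U.map (MonoidHom.fst G K) : Set G)).comap
        (MonoidHom.fst G K)) inf_le_left
      (fun d hd => ⟨c.D_le hd, map_normalizer c (MonoidHom.fst G K) hd⟩)
      (fun h => h1 h.2) (fun h => h2 h.2)
    have h3 : ((1 : G), k) ∈ c.G ⊓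
        (Subgroup.normalizer (c.U.map (MonoidHom.fst G K) : Set G)).comap (MonoidHom.fst G K) :=
      ⟨hk, one_mem (Subgroup.normalizer (c.U.map (MonoidHom.fst G K) : Set G))⟩
    rw [e] at h3
    exact map_normalizer c (MonoidHom.snd G K) h3

/-- **Identification** of two simple groups with the same root datum of rank two. -/
theorem ident {G : Type u} {K : Type v} [Group G] [Group K] [IsSimpleGroup G] [IsSimpleGroup K] {m : ℕ}
    (c : RGDZ m (G × K))
    (hG : (⨆ k, c.X k).map (MonoidHom.fst G K) = ⊤) (hK : (⨆ k, c.X k).map (MonoidHom.snd G K) = ⊤)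
    (hGI : ∃ a ∈ c.X (m + 1), a.1 ∉ c.U.map (MonoidHom.fst G K))
    (hGJ : ∃ a ∈ c.X 0, a.1 ∉ c.U.map (MonoidHom.fst G K))
    (hKI : ∃ a ∈ c.X (m + 1), a.2 ∉ c.U.map (MonoidHom.snd G K)) : Nonempty (G ≃* K) := by
  have hle : (⨆ k, c.X k) ≤ c.core.G := iSup_le c.X_le_G
  refine ident_core c.one_le c.core ?_ ?_ hGI hGJ hKI
  · rw [eq_top_iff, ← hG]
    exact Subgroup.map_mono hle
  · rw [eq_top_iff, ← hK]
    exact Subgroup.map_mono hle

end Cfsg.Agent.TitsThree.RankTwoIdent
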